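import Cfsg.Agent.H61.Basic
import Mathlib.GroupTheory.GroupAction.ConjAct

/-!
`p`-cores, the two coprime-action lemmas for `p`-groups (series stabilizer and `P × Q`), and
inheritance of `C(O_p) ≤ O_p`.
-/

set_option autoImplicit false

namespace Cfsg.Agent.H61

open Subgroup

variable {G : Type*} [Group G] {p : ℕ}

/-- `O_p(G)` is a `p`-group. -/
theorem isPGroup_pCore : IsPGroup p (Cfsg.pCore p G) := by
  exact Sylow.sSup_of_normal _ (fun H hH => hH.2) (fun H hH => hH.1)

theorem le_pCore {N : Subgroup G} (hn : N.Normal) (hp : IsPGroup p N) : N ≤ Cfsg.pCore p G :=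
  le_sSup ⟨hn, hp⟩

theorem map_pCore_le {H : Type*} [Group H] (f : G →* H) (hf : Function.Surjective f) :
    (Cfsg.pCore p G).map f ≤ Cfsg.pCore p H :=
  le_pCore (Subgroup.Normal.map (Cfsg.pCore_normal p G) f hf) (isPGroup_pCore.map f)

instance pCore_characteristic_h61 : (Cfsg.pCore p G).Characteristic := by
  rw [Subgroup.characteristic_iff_map_le]
  exact fun e => map_pCore_le e.toMonoidHom e.surjective

/-- `O_p(N) ≤ O_p(G)` for a normal subgroup `N`. -/
theorem pCore_map_subtype_le (N : Subgroup G) [N.Normal] :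
    (Cfsg.pCore p N).map N.subtype ≤ Cfsg.pCore p G :=
  le_pCore inferInstance (isPGroup_pCore.map N.subtype)

theorem exists_orderOf_eq_pow {H : Subgroup G} [hp : Fact p.Prime] (hH : IsPGroup p H) {x : G}
    (hx : x ∈ H) : ∃ k : ℕ, orderOf x = p ^ k := by
  obtain ⟨k, hk⟩ := IsPGroup.iff_orderOf.mp hH ⟨x, hx⟩
  exact ⟨k, by rw [← hk, ← Subgroup.orderOf_coe]⟩

theorem eq_one_of_mem_pGroup [hp : Fact p.Prime] {H : Subgroup G} (hH : IsPGroup p H) {x : G}
    (hx : x ∈ H) (hc : (orderOf x).Coprime p) : x = 1 := by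
  obtain ⟨k, hk⟩ := exists_orderOf_eq_pow hH hx
  apply orderOf_eq_one_iff.mp
  exact Nat.eq_one_of_dvd_coprimes (Nat.Coprime.pow_right k hc) dvd_rfl (dvd_of_eq hk)

/-- A subgroup without nontrivial elements of order prime to `p` is a `p`-group. -/
theorem isPGroup_of_forall_coprime [Finite G] [hp : Fact p.Prime] {K : Subgroup G}
    (h : ∀ x ∈ K, (orderOf x).Coprime p → x = 1) : IsPGroup p K := by
  intro x
  obtain ⟨k, m, hm, hkm⟩ := Nat.exists_eq_pow_mul_and_not_dvd (orderOf_pos (x : G)).ne' p hp.out.one_lt.ne'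
  refine ⟨k, Subtype.ext ?_⟩
  have ho : orderOf ((x : G) ^ p ^ k) = m := by
    rw [orderOf_pow_of_dvd (pow_ne_zero _ hp.out.ne_zero) (by rw [hkm]; exact dvd_mul_right _ _), hkm,
      Nat.mul_div_cancel_left _ (pow_pos hp.out.pos _)]
  simpa using h _ (K.pow_mem x.2 _) (by rw [ho]; exact ((hp.out.coprime_iff_not_dvd).mpr hm).symm)

/-- An element `c` of order prime to `p` with `[c, m]` a `p`-element centralized by `c` centralizes `m`. -/
theorem commute_of_comm_mem [hp : Fact p.Prime] {D : Subgroup G} (hD : IsPGroup p D) {c m : G}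
    (hc : (orderOf c).Coprime p) (hd : c * m * c⁻¹ * m⁻¹ ∈ D)
    (hcd : Commute c (c * m * c⁻¹ * m⁻¹)) : Commute c m := by
  set d := c * m * c⁻¹ * m⁻¹ with hdef
  have key : ∀ n : ℕ, c ^ n * m * (c ^ n)⁻¹ = d ^ n * m := by
    intro n
    induction n with
    | zero => simp
    | succ n ih =>
      calc c ^ (n + 1) * m * (c ^ (n + 1))⁻¹ = c * (c ^ n * m * (c ^ n)⁻¹) * c⁻¹ := by group
        _ = (c * d ^ n) * m * c⁻¹ := by rw [ih]; group
        _ = d ^ n * (c * m * c⁻¹ * m⁻¹) * m := by rw [(hcd.pow_right n).eq]; group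
        _ = d ^ (n + 1) * m := by rw [← hdef, pow_succ]
  have h1 : d ^ orderOf c = 1 := by
    have := key (orderOf c)
    rw [pow_orderOf_eq_one] at this
    simpa using this.symm
  have h2 : d = 1 := by
    apply eq_one_of_mem_pGroup hD hd
    exact Nat.Coprime.coprime_dvd_left (orderOf_dvd_of_pow_eq_one h1) hc
  rw [hdef] at h2
  calc c * m = (c * m * c⁻¹ * m⁻¹) * (m * c) := by group
    _ = m * c := by rw [h2, one_mul]

/-- Thompson's `P × Q` lemma. -/
theorem commute_of_commute_centralizer [Finite G] [hp : Fact p.Prime] {P A : Subgroup G}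
    (hP : IsPGroup p P) (hA : IsPGroup p A) (hAP : A ≤ Subgroup.normalizer (P : Set G)) {c : G}
    (hc : (orderOf c).Coprime p) (hcP : c ∈ Subgroup.normalizer (P : Set G))
    (hcA : ∀ a ∈ A, Commute c a) (hcC : ∀ x ∈ P, (∀ a ∈ A, Commute a x) → Commute c x) :
    ∀ x ∈ P, Commute c x := by
  by_contra hne
  set C := Subgroup.centralizer ({c} : Set G) with hC
  have hmem : ∀ {y : G}, y ∈ C ↔ Commute c y := by
    intro y; rw [hC, Subgroup.mem_centralizer_singleton_iff]; exact ⟨fun h => h.symm, fun h => h.symm⟩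
  set R := P ⊔ A
  have hR : IsPGroup p R := hP.to_sup_of_normal_left' hA hAP
  have hnil : Group.IsNilpotent R := hR.isNilpotent
  set R1 := C.subgroupOf R
  have hA1 : A ≤ C := fun a ha => hmem.mpr (hcA a ha)
  have hlt : R1 < ⊤ := by
    rw [lt_top_iff_ne_top]
    intro h
    apply hne
    intro x hx
    have : (⟨x, le_sup_left (b := A) hx⟩ : R) ∈ R1 := h ▸ Subgroup.mem_top _
    exact hmem.mp this
  obtain ⟨n, hn, hn'⟩ := SetLike.exists_of_lt (Group.normalizerCondition_of_isNilpotent R1 hlt)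
  -- write `n = w * a`
  have hnR : (n : G) ∈ ((P ⊔ A : Subgroup G) : Set G) := n.2
  rw [Subgroup.coe_mul_of_right_le_normalizer_left P A hAP] at hnR
  obtain ⟨w, hw, a₀, ha₀, hwa⟩ := hnR
  simp only at hwa
  let w' : R := ⟨w, le_sup_left (b := A) hw⟩
  let a' : R := ⟨a₀, le_sup_right (a := P) ha₀⟩
  have hwn : w' ∈ Subgroup.normalizer (R1 : Set R) := by
    have e : w' = n * a'⁻¹ := Subtype.ext (by simp [w', a', ← hwa])
    rw [e]
    exact Subgroup.mul_mem _ hn (Subgroup.inv_mem _ (Subgroup.le_normalizer (hA1 ha₀)))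
  have hwC : w ∉ C := by
    intro h
    exact hn' (show (n : G) ∈ C from hwa ▸ C.mul_mem h (hA1 ha₀))
  set w₂ := c * w * c⁻¹ with hw₂
  have hw₂P : w₂ ∈ P := (Subgroup.mem_normalizer_iff.mp hcP w).mp hw
  have hzP : w⁻¹ * w₂ ∈ P := P.mul_mem (P.inv_mem hw) hw₂P
  have hza : ∀ a ∈ A, Commute a (w⁻¹ * w₂) := by
    intro a ha
    have h1 : w * a * w⁻¹ ∈ C := (Subgroup.mem_normalizer_iff.mp hwn ⟨a, le_sup_right (a := P) ha⟩).mp (hA1 ha)
    have h2 : w₂ * a * w₂⁻¹ = w * a * w⁻¹ := by
      have e1 : c * (w * a * w⁻¹) * c⁻¹ = w * a * w⁻¹ := by rw [(hmem.mp h1).eq]; group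
      have e2 : c * a * c⁻¹ = a := by rw [(hcA a ha).eq]; group
      calc w₂ * a * w₂⁻¹ = w₂ * (c * a * c⁻¹) * w₂⁻¹ := by rw [e2]
        _ = c * (w * a * w⁻¹) * c⁻¹ := by rw [hw₂]; group
        _ = w * a * w⁻¹ := e1
    calc a * (w⁻¹ * w₂) = w⁻¹ * (w * a * w⁻¹) * w₂ := by group
      _ = w⁻¹ * (w₂ * a * w₂⁻¹) * w₂ := by rw [h2]
      _ = (w⁻¹ * w₂) * a := by group
  have hcz := hcC _ hzP hza
  have e : c * w⁻¹ * c⁻¹ * w⁻¹⁻¹ = (w⁻¹ * w₂)⁻¹ * 1 := by rw [hw₂]; group
  apply hwC
  apply hmem.mpr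
  have h3 : Commute c w⁻¹ := by
    refine commute_of_comm_mem hP hc ?_ ?_
    · rw [e, mul_one]; exact P.inv_mem hzP
    · rw [e, mul_one]; exact hcz.inv_right
  simpa using h3.inv_right

/-- If `G` has characteristic `p` and `O_p(G)` normalizes the image of `H`, so has `H`. -/
theorem charP_of_injective [Finite G] [hp : Fact p.Prime] {H : Type*} [Group H]
    (hG : Subgroup.centralizer (Cfsg.pCore p G : Set G) ≤ Cfsg.pCore p G) (f : H →* G)
    (hf : Function.Injective f)
    (hn : Cfsg.pCore p G ≤ Subgroup.normalizer (f.range : Set G)) :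
    Subgroup.centralizer (Cfsg.pCore p H : Set H) ≤ Cfsg.pCore p H := by
  haveI : Finite H := Finite.of_injective f hf
  have hPn : (Cfsg.pCore p G).Normal := inferInstance
  refine le_pCore inferInstance (isPGroup_of_forall_coprime fun c hc hco => ?_)
  have hPp : IsPGroup p ((Cfsg.pCore p G).comap f) := isPGroup_pCore.comap_of_injective f hf
  have hle : (Cfsg.pCore p G).comap f ≤ Cfsg.pCore p H := le_pCore inferInstance hPp
  have hco' : (orderOf (f c)).Coprime p := by rwa [orderOf_injective f hf]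
  have : f c ∈ Cfsg.pCore p G := by
    apply hG
    intro y hy
    have hd : f c * y * (f c)⁻¹ * y⁻¹ ∈ Cfsg.pCore p G :=
      Subgroup.mul_mem _ (hPn.conj_mem _ hy _) (Subgroup.inv_mem _ hy)
    have hr : f c * y * (f c)⁻¹ * y⁻¹ ∈ f.range := by
      have := (Subgroup.mem_normalizer_iff.mp (hn hy) (f c)⁻¹).mp (f.range.inv_mem ⟨c, rfl⟩)
      simpa [mul_assoc] using f.range.mul_mem ⟨c, rfl⟩ this
    obtain ⟨d, hdd⟩ := hr
    have hdH : d ∈ Cfsg.pCore p H := hle (by rw [Subgroup.mem_comap, hdd]; exact hd)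
    refine (commute_of_comm_mem isPGroup_pCore hco' hd ?_).symm.eq
    rw [← hdd]
    exact (show Commute c d from (hc d hdH).symm).map f
  have := eq_one_of_mem_pGroup isPGroup_pCore this hco'
  exact hf (by rw [this, map_one])

/-- A `p`-subgroup which is normalized by a Sylow subgroup of a group of characteristic `p` and contains
its centralizer in that Sylow subgroup contains its centralizer. -/
theorem centralizer_le_of_sylow [Finite G] [hp : Fact p.Prime]
    (hG : Subgroup.centralizer (Cfsg.pCore p G : Set G) ≤ Cfsg.pCore p G) (T : Sylow p G)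
    (Q : Subgroup G) (hQT : Q ≤ (T : Subgroup G))
    (hQn : (T : Subgroup G) ≤ Subgroup.normalizer (Q : Set G))
    (hC : (T : Subgroup G) ⊓ Subgroup.centralizer (Q : Set G) ≤ Q) :
    Subgroup.centralizer (Q : Set G) ≤ Q := by
  have hPn : (Cfsg.pCore p G).Normal := inferInstance
  have hPT : Cfsg.pCore p G ≤ T := (isPGroup_pCore (p := p) (G := G)).le_sylow_of_normal T
  have hp' : IsPGroup p (Subgroup.centralizer (Q : Set G)) := by
    refine isPGroup_of_forall_coprime fun c hc hco => ?_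
    have hN : Subgroup.normalizer ((Cfsg.pCore p G : Subgroup G) : Set G) = ⊤ :=
      Subgroup.normalizer_eq_top_iff.mpr hPn
    have : c ∈ Cfsg.pCore p G := by
      apply hG
      intro y hy
      exact (commute_of_commute_centralizer isPGroup_pCore (T.isPGroup'.to_le hQT) (by rw [hN]; exact le_top)
        hco (by rw [hN]; exact Subgroup.mem_top c) (fun a ha => (hc a ha).symm)
        (fun x hx hxa => ((hc x (hC ⟨hPT hx, fun a ha => hxa a ha⟩))).symm) y hy).symm
    exact eq_one_of_mem_pGroup isPGroup_pCore this hco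
  have hTC : (T : Subgroup G) ≤ Subgroup.normalizer (Subgroup.centralizer (Q : Set G) : Set G) := by
    intro t ht
    refine mem_normalizer_of_conj_mem fun x hx a ha => ?_
    have h1 := hx _ ((Subgroup.mem_normalizer_iff.mp (Subgroup.inv_mem _ (hQn ht)) a).mp ha)
    calc a * (t * x * t⁻¹) = t * ((t⁻¹ * a * t⁻¹⁻¹) * x) * t⁻¹ := by group
      _ = t * (x * (t⁻¹ * a * t⁻¹⁻¹)) * t⁻¹ := by rw [h1]
      _ = t * x * t⁻¹ * a := by group
  have h2 := T.3 (hp'.to_sup_of_normal_left' T.isPGroup' hTC) le_sup_right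
  intro x hx
  exact hC ⟨h2 ▸ (le_sup_left (b := (T : Subgroup G)) hx), hx⟩

/-- Every overgroup of such a subgroup has characteristic `p`. -/
theorem charP_of_overgroup [Finite G] [hp : Fact p.Prime]
    (hG : Subgroup.centralizer (Cfsg.pCore p G : Set G) ≤ Cfsg.pCore p G) (T : Sylow p G)
    (Q : Subgroup G) (hQT : Q ≤ (T : Subgroup G))
    (hQn : (T : Subgroup G) ≤ Subgroup.normalizer (Q : Set G))
    (hC : (T : Subgroup G) ⊓ Subgroup.centralizer (Q : Set G) ≤ Q) (L : Subgroup G) (hQL : Q ≤ L) :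
    Subgroup.centralizer (Cfsg.pCore p L : Set L) ≤ Cfsg.pCore p L := by
  have hQC := centralizer_le_of_sylow hG T Q hQT hQn hC
  have hPn : (Cfsg.pCore p G).Normal := inferInstance
  have hPT : Cfsg.pCore p G ≤ T := (isPGroup_pCore (p := p) (G := G)).le_sylow_of_normal T
  let S : Set G := {y | ∃ l ∈ L, ∃ q ∈ Q, y = l * q * l⁻¹}
  let M : Subgroup L := Subgroup.normalClosure (Q.subgroupOf L : Set L)
  have hMn : M.Normal := Subgroup.normalClosure_normal
  -- the image of `M` is normalized by `O_p(G)`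
  have hrange : (L.subtype.comp M.subtype).range = M.map L.subtype := by
    rw [MonoidHom.range_comp, Subgroup.range_subtype]
  have hS : Subgroup.closure S = M.map L.subtype := by
    refine le_antisymm ((Subgroup.closure_le _).mpr ?_) ?_
    · rintro _ ⟨l, hl, q, hq, rfl⟩
      exact ⟨⟨l, hl⟩ * ⟨q, hQL hq⟩ * ⟨l, hl⟩⁻¹,
        hMn.conj_mem _ (Subgroup.subset_normalClosure hq) _, rfl⟩
    · rw [show M = Subgroup.closure (Group.conjugatesOfSet (Q.subgroupOf L : Set L)) from rfl,
        MonoidHom.map_closure]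
      refine (Subgroup.closure_le _).mpr ?_
      rintro _ ⟨z, hz, rfl⟩
      obtain ⟨q, hq, hqz⟩ := Group.mem_conjugatesOfSet_iff.mp hz
      obtain ⟨l, rfl⟩ := isConj_iff.mp hqz
      exact Subgroup.subset_closure ⟨l, l.2, q, hq, by simp⟩
  have hPM : Cfsg.pCore p G ≤ Subgroup.normalizer ((L.subtype.comp M.subtype).range : Set G) := by
    intro y hy
    rw [hrange, ← hS]
    refine mem_normalizer_of_conj_mem fun x hx => ?_
    induction hx using Subgroup.closure_induction with
    | mem x hx =>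
      obtain ⟨l, hl, q, hq, rfl⟩ := hx
      refine Subgroup.subset_closure ⟨l, hl, (l⁻¹ * y * l) * q * (l⁻¹ * y * l)⁻¹, ?_, by group⟩
      have hy' : l⁻¹ * y * l ∈ Cfsg.pCore p G := by simpa using hPn.conj_mem y hy l⁻¹
      exact (Subgroup.mem_normalizer_iff.mp (hQn (hPT hy')) q).mp hq
    | one => simp
    | mul a b _ _ ha hb =>
      have : y * (a * b) * y⁻¹ = (y * a * y⁻¹) * (y * b * y⁻¹) := by group
      rw [this]; exact Subgroup.mul_mem _ ha hb
    | inv a _ ha =>
      have : y * a⁻¹ * y⁻¹ = (y * a * y⁻¹)⁻¹ := by group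
      rw [this]; exact Subgroup.inv_mem _ ha
  have hM : Subgroup.centralizer (Cfsg.pCore p M : Set M) ≤ Cfsg.pCore p M :=
    charP_of_injective hG _ (L.subtype_injective.comp M.subtype_injective) hPM
  refine le_pCore inferInstance (isPGroup_of_forall_coprime fun c hc hco => ?_)
  have hco' : (orderOf (c : G)).Coprime p := by rwa [Subgroup.orderOf_coe]
  have : (c : G) ∈ Q := by
    apply hQC
    intro q hq
    set qL : L := ⟨q, hQL hq⟩
    have hqM : qL ∈ M := Subgroup.subset_normalClosure hq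
    have hcM : c * qL * c⁻¹ * qL⁻¹ ∈ M := M.mul_mem (hMn.conj_mem _ hqM c) (M.inv_mem hqM)
    have hcC : c * qL * c⁻¹ * qL⁻¹ ∈ Subgroup.centralizer (Cfsg.pCore p L : Set L) := by
      have hn : (Subgroup.centralizer (Cfsg.pCore p L : Set L)).Normal := inferInstance
      have := hn.conj_mem _ (Subgroup.inv_mem _ hc) qL
      have := Subgroup.mul_mem _ hc this
      simpa [mul_assoc] using this
    have hd : (⟨_, hcM⟩ : M) ∈ Cfsg.pCore p M := hM fun z hz =>
      Subtype.ext (hcC z (pCore_map_subtype_le M ⟨z, hz, rfl⟩))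
    have hcomm := commute_of_comm_mem (p := p) (isPGroup_pCore (G := L)) hco
      (pCore_map_subtype_le M ⟨_, hd, rfl⟩) (hc _ (pCore_map_subtype_le M ⟨_, hd, rfl⟩)).symm
    exact (congrArg Subtype.val hcomm.eq).symm
  exact Subtype.ext (eq_one_of_mem_pGroup (T.isPGroup'.to_le hQT) this hco')

end Cfsg.Agent.H61
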