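import Cfsg.Agent.H61.Isolated
import Cfsg.Agent.H61.CharP
import Cfsg.Agent.PGroups.Basic
import Cfsg.Agent.PGroups.Commutator
import Cfsg.Agent.Fusion.PComplement
import Cfsg.Agent.H41.Basic

/-!
`p`-groups of odd order with one subgroup of order `p` are cyclic; isolated elements in groups with
cyclic Sylow subgroups.
-/

set_option autoImplicit false

namespace Cfsg.Agent.H61

open Subgroup
open scoped commutatorElement

variable {G : Type*} [Group G] {p : ℕ}

/-- A `p`-group of odd order with at most `p` elements `x` with `x ^ p = 1` is cyclic. -/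
theorem isCyclic_of_card_pow_eq_one_le [Finite G] [hp : Fact p.Prime] (hp2 : p ≠ 2)
    (hG : IsPGroup p G) (h : Nat.card {x : G // x ^ p = 1} ≤ p) : IsCyclic G := by
  suffices key : ∀ K : Subgroup G, IsCyclic K by
    have := key ⊤
    exact isCyclic_of_surjective (Subgroup.topEquiv (G := G)).toMonoidHom
      (Subgroup.topEquiv (G := G)).surjective
  intro K
  induction K using WellFoundedLT.induction with
  | _ K ih =>
  have hK : IsPGroup p K := hG.to_subgroup K
  have hKc : Nat.card {x : K // x ^ p = 1} ≤ p := by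
    refine le_trans (Nat.card_le_card_of_injective
      (fun x : {x : K // x ^ p = 1} => (⟨(x : K), by simpa using congrArg Subtype.val x.2⟩ :
        {x : G // x ^ p = 1})) ?_) h
    intro a b hab
    have := congrArg (fun t : {x : G // x ^ p = 1} => (t : G)) hab
    exact Subtype.ext (Subtype.ext this)
  by_cases hK1 : K = ⊥
  · subst hK1; infer_instance
  have : Nontrivial K := (Subgroup.nontrivial_iff_ne_bot K).mpr hK1
  -- a maximal subgroup
  obtain hbot | ⟨M, hM, -⟩ := eq_top_or_exists_le_coatom (⊥ : Subgroup K)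
  · exact absurd hbot (bot_ne_top)
  have hMn := PGroups.normal_of_isCoatom hK hM
  have hMi := PGroups.index_eq_of_isCoatom hK hM
  obtain ⟨g, hg⟩ := (SetLike.exists_of_lt hM.lt_top)
  by_cases hg1 : Subgroup.zpowers g = ⊤
  · exact ⟨⟨g, fun x => Subgroup.mem_zpowers_iff.mp (hg1.symm ▸ Subgroup.mem_top x)⟩⟩
  obtain htop | ⟨N, hN, hgN⟩ := eq_top_or_exists_le_coatom (Subgroup.zpowers g)
  · exact absurd htop hg1
  exfalso
  have hNn := PGroups.normal_of_isCoatom hK hN
  have hNi := PGroups.index_eq_of_isCoatom hK hN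
  have hgM : g ∉ M := hg.2
  have hMN : M ≠ N := fun e => hgM (e ▸ hgN (Subgroup.mem_zpowers g))
  have hcyc : ∀ L : Subgroup K, IsCoatom L → ∀ a ∈ L, ∀ b ∈ L, a * b = b * a := by
    intro L hL a ha b hb
    have hlt : L.map K.subtype < K := by
      refine lt_of_le_of_ne (Subgroup.map_subtype_le L) fun e => hL.1 ?_
      exact Subgroup.map_injective K.subtype_injective (e.trans (by rw [← MonoidHom.range_eq_map, Subgroup.range_subtype]))
    have := ih _ hlt
    obtain ⟨w, hw⟩ := IsCyclic.exists_generator (α := L.map K.subtype)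
    obtain ⟨m, hm⟩ := Subgroup.mem_zpowers_iff.mp (hw ⟨_, Subgroup.mem_map_of_mem K.subtype ha⟩)
    obtain ⟨n, hn⟩ := Subgroup.mem_zpowers_iff.mp (hw ⟨_, Subgroup.mem_map_of_mem K.subtype hb⟩)
    apply Subtype.ext
    have hm' := congrArg Subtype.val hm
    have hn' := congrArg Subtype.val hn
    simp only [Subgroup.coe_subtype, SubgroupClass.coe_zpow] at hm' hn'
    rw [Subgroup.coe_mul, Subgroup.coe_mul, ← hm', ← hn', ← zpow_add, ← zpow_add, add_comm]
  have hsup : M ⊔ N = ⊤ := hM.2 _ (lt_of_le_of_ne le_sup_left fun e => hMN (by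
    by_contra hne
    have : N ≤ M := e ▸ le_sup_right
    exact hne ((eq_or_lt_of_le this).resolve_right fun hlt => hM.1 (hN.2 _ hlt)).symm))
  have hcen : M ⊓ N ≤ Subgroup.center K := by
    intro c hc
    rw [Subgroup.mem_center_iff]
    intro x
    have : ⊤ ≤ Subgroup.centralizer ({c} : Set K) := by
      rw [← hsup]
      refine sup_le (fun m hm => ?_) (fun m hm => ?_)
      · exact Subgroup.mem_centralizer_singleton_iff.mpr (hcyc M hM m hm c hc.1)
      · exact Subgroup.mem_centralizer_singleton_iff.mpr (hcyc N hN m hm c hc.2)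
    exact Subgroup.mem_centralizer_singleton_iff.mp (this (Subgroup.mem_top x))
  have hcomm : ∀ L : Subgroup K, L.Normal → L.index = p → commutator K ≤ L := by
    intro L hL hi
    exact PGroups.commutator_le_of_index_dvd_sq (p := p) L (by rw [hi]; exact dvd_pow_self p two_ne_zero)
  have hpow : ∀ x : K, x ^ p ∈ M ⊓ N := fun x =>
    ⟨hMi ▸ Subgroup.pow_index_mem (H := M) x, hNi ▸ Subgroup.pow_index_mem (H := N) x⟩
  have hc2 : ∀ a b : K, ⁅b, a⁆ ∈ Subgroup.center K := fun a b =>
    hcen ⟨hcomm M hMn hMi (Subgroup.commutator_mem_commutator (Subgroup.mem_top b) (Subgroup.mem_top a)),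
      hcomm N hNn hNi (Subgroup.commutator_mem_commutator (Subgroup.mem_top b) (Subgroup.mem_top a))⟩
  let f : K →* (M ⊓ N : Subgroup K) := MonoidHom.mk' (fun x => ⟨x ^ p, hpow x⟩) (by
    intro a b
    apply Subtype.ext
    have hb : ⁅b, a⁆ ^ p = 1 := by
      rw [← PGroups.commutatorElement_pow_left_of_mem_center (hc2 a b)]
      rw [commutatorElement_eq_one_iff_mul_comm]
      exact ((Subgroup.mem_center_iff.mp (hcen (hpow b)) a)).symm
    obtain ⟨t, ht⟩ := PGroups.dvd_choose_two (p := p) hp.out hp2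
    simp only [Subgroup.coe_mul]
    rw [PGroups.mul_pow_of_commutator_mem_center (hc2 a b), ht, pow_mul, hb, one_pow, mul_one])
  have hker : Nat.card f.ker ≤ p := by
    refine le_trans (Nat.card_le_card_of_injective
      (fun x : f.ker => (⟨(x : K), congrArg Subtype.val (MonoidHom.mem_ker.mp x.2)⟩ :
        {x : K // x ^ p = 1})) ?_) hKc
    intro a b hab
    have := congrArg (fun t : {x : K // x ^ p = 1} => (t : K)) hab
    exact Subtype.ext this
  have hrange : Nat.card f.range ≤ Nat.card (M ⊓ N : Subgroup K) := Subgroup.card_le_card_group _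
  have hK' := Subgroup.card_eq_card_quotient_mul_card_subgroup f.ker
  rw [Nat.card_congr (QuotientGroup.quotientKerEquivRange f).toEquiv] at hK'
  have hlt : M ⊓ N < M := lt_of_le_of_ne inf_le_left fun e =>
    hMN ((eq_or_lt_of_le (inf_eq_left.mp e)).resolve_right fun hlt => hN.1 (hM.2 _ hlt))
  have h1 : Nat.card (M ⊓ N : Subgroup K) * p ≤ Nat.card M := by
    obtain ⟨a, ha⟩ := IsPGroup.iff_card.mp (hK.to_subgroup (M ⊓ N))
    obtain ⟨b, hb⟩ := IsPGroup.iff_card.mp (hK.to_subgroup M)
    have hab : Nat.card (M ⊓ N : Subgroup K) < Nat.card M := by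
      refine lt_of_le_of_ne (Subgroup.card_le_of_le inf_le_left) fun e => hlt.ne ?_
      exact Subgroup.eq_of_le_of_card_ge inf_le_left e.ge
    rw [ha, hb] at hab ⊢
    rw [← pow_succ]
    exact Nat.pow_le_pow_right hp.out.pos ((Nat.pow_lt_pow_iff_right hp.out.one_lt).mp hab)
  have h2 := Subgroup.card_mul_index M
  rw [hMi] at h2
  have h3 : Nat.card K ≤ Nat.card (M ⊓ N : Subgroup K) * p := hK' ▸ Nat.mul_le_mul hrange hker
  have h4 : 0 < Nat.card M := Nat.card_pos
  have := hp.out.two_le
  nlinarith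

/-- A group with cyclic Sylow `p`-subgroups and a nontrivial isolated `p`-element has a normal
`p`-complement. -/
theorem hasNormalPComplement_of_isolated [Finite G] [hp : Fact p.Prime] {x : G}
    (hx : ∃ k : ℕ, orderOf x = p ^ k) (hiso : Cfsg.IsIsolated x) (hx1 : x ≠ 1) (P : Sylow p G)
    (hxP : x ∈ (P : Subgroup G)) (hcyc : IsCyclic (P : Subgroup G)) :
    Cfsg.HasNormalPComplement p G := by
  apply Fusion.hasNormalPComplement_of_normalizer_le_centralizer P
  intro n hn
  have hfix : n * x = x * n :=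
    Subgroup.mem_centralizer_singleton_iff.mp
      (normalizer_le_centralizer_of_isolated hiso P.isPGroup' hxP hn)
  obtain ⟨⟨w, hwP⟩, hw⟩ := IsCyclic.exists_generator (α := (P : Subgroup G))
  have hgen : ∀ y ∈ (P : Subgroup G), ∃ i : ℤ, y = w ^ i := by
    intro y hy
    obtain ⟨i, hi⟩ := Subgroup.mem_zpowers_iff.mp (hw ⟨y, hy⟩)
    exact ⟨i, by simpa using (congrArg Subtype.val hi).symm⟩
  have hPabel : ∀ y ∈ (P : Subgroup G), ∀ y' ∈ (P : Subgroup G), Commute y y' := by
    intro y hy y' hy'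
    obtain ⟨i, rfl⟩ := hgen y hy
    obtain ⟨j, rfl⟩ := hgen y' hy'
    exact Commute.zpow_zpow_self w i j
  -- reduce to elements of order prime to `p`
  suffices key : ∀ m ∈ Subgroup.normalizer ((P : Subgroup G) : Set G), (orderOf m).Coprime p →
      Commute m x → m ∈ Subgroup.centralizer ((P : Subgroup G) : Set G) by
    -- split `n` into its `p`-part and its prime-to-`p` part
    obtain ⟨k, m, hm, hkm⟩ := Nat.exists_eq_pow_mul_and_not_dvd (orderOf_pos n).ne' p hp.out.one_lt.ne'
    have hcop : Nat.Coprime (p ^ k) m := Nat.Coprime.pow_left k ((hp.out.coprime_iff_not_dvd).mpr hm)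
    have hu : (n : G) ^ ((p ^ k : ℕ) : ℤ) ∈ Subgroup.centralizer ((P : Subgroup G) : Set G) := by
      rw [zpow_natCast]
      refine key _ (Subgroup.pow_mem _ hn _) ?_ ((show Commute n x from hfix).pow_left _)
      rw [orderOf_pow_of_dvd (pow_ne_zero _ hp.out.ne_zero) (by rw [hkm]; exact dvd_mul_right _ _), hkm,
        Nat.mul_div_cancel_left _ (pow_pos hp.out.pos _)]
      exact ((hp.out.coprime_iff_not_dvd).mpr hm).symm
    have hv : n ^ m ∈ (P : Subgroup G) := by
      have hvp : IsPGroup p (Subgroup.zpowers (n ^ m)) := by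
        refine IsPGroup.of_card_dvd_pow (n := k) ?_
        rw [Nat.card_zpowers]
        apply orderOf_dvd_of_pow_eq_one
        rw [← pow_mul, mul_comm, ← hkm, pow_orderOf_eq_one]
      have h := hvp.inf_normalizer_sylow P
      have : n ^ m ∈ Subgroup.zpowers (n ^ m) ⊓ Subgroup.normalizer ((P : Subgroup G) : Set G) :=
        ⟨Subgroup.mem_zpowers _, Subgroup.pow_mem _ hn _⟩
      exact (h ▸ this : n ^ m ∈ Subgroup.zpowers (n ^ m) ⊓ (P : Subgroup G)).2
    have hn' : n = ((n ^ ((p ^ k : ℕ) : ℤ)) ^ ((p ^ k).gcdA m)) * ((n ^ m) ^ ((p ^ k).gcdB m)) := by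
      have hb := Nat.gcd_eq_gcd_ab (p ^ k) m
      rw [hcop.gcd_eq_one] at hb
      rw [← zpow_mul, ← zpow_natCast n m, ← zpow_mul, ← zpow_add, ← hb, Nat.cast_one, zpow_one]
    rw [hn']
    refine Subgroup.mul_mem _ (Subgroup.zpow_mem _ hu _) (Subgroup.zpow_mem _ ?_ _)
    exact fun y hy => (hPabel y hy _ hv).eq
  intro m hm hmo hmx
  -- `m` fixes the generator
  suffices hmw : Commute m w by
    intro y hy
    obtain ⟨i, rfl⟩ := hgen y hy
    exact ((hmw.zpow_right i).eq).symm
  have hxc : ∀ z ∈ (P : Subgroup G), z ^ p = 1 → Commute m z := by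
    intro z hz hzp
    -- `z` is a power of `x`
    have hzx : z ∈ Subgroup.zpowers x := by
      obtain ⟨k, hk⟩ := hx
      have hk1 : k ≠ 0 := by
        rintro rfl
        exact hx1 (orderOf_eq_one_iff.mp (by rw [hk, pow_zero]))
      obtain ⟨k, rfl⟩ := Nat.exists_eq_succ_of_ne_zero hk1
      set u := x ^ p ^ k with hu
      have huo : orderOf u = p := by
        rw [hu, orderOf_pow_of_dvd (pow_ne_zero _ hp.out.ne_zero) (by rw [hk]; exact pow_dvd_pow _ (Nat.le_succ k)), hk,
          pow_succ, Nat.mul_div_cancel_left _ (pow_pos hp.out.pos _)]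
      have huP : u ∈ (P : Subgroup G) := Subgroup.pow_mem _ hxP _
      by_cases hz1 : z = 1
      · subst hz1; exact Subgroup.one_mem _
      have hzo : orderOf z = p := orderOf_eq_prime hzp hz1
      have he : Subgroup.zpowers z = Subgroup.zpowers u :=
        H41.eq_of_card_eq_of_le_cyclic hcyc (Subgroup.zpowers_le.mpr hz) (Subgroup.zpowers_le.mpr huP)
          (by rw [Nat.card_zpowers, Nat.card_zpowers, hzo, huo])
      obtain ⟨i, hi'⟩ := Subgroup.mem_zpowers_iff.mp (he ▸ Subgroup.mem_zpowers z)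
      rw [← hi']
      exact Subgroup.zpow_mem _ (Subgroup.pow_mem _ (Subgroup.mem_zpowers x) _) i
    obtain ⟨i, rfl⟩ := Subgroup.mem_zpowers_iff.mp hzx
    exact hmx.zpow_right i
  -- descend from `w` along its powers
  have hdesc : ∀ j : ℕ, ∀ y ∈ (P : Subgroup G), y ^ p ^ j = 1 → Commute m y := by
    intro j
    induction j with
    | zero => intro y _ hy; rw [pow_zero, pow_one] at hy; rw [hy]; exact Commute.one_right m
    | succ j ih =>
      intro y hy hyp
      have h1 : Commute m (y ^ p) := ih _ (Subgroup.pow_mem _ hy _) (by rw [← pow_mul, ← pow_succ', hyp])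
      have hd : m * y * m⁻¹ * y⁻¹ ∈ (P : Subgroup G) :=
        Subgroup.mul_mem _ ((Subgroup.mem_normalizer_iff.mp hm y).mp hy) (Subgroup.inv_mem _ hy)
      refine commute_of_comm_mem P.isPGroup' hmo hd ?_
      refine hxc _ hd ?_
      rw [(hPabel _ ((Subgroup.mem_normalizer_iff.mp hm y).mp hy) _ (Subgroup.inv_mem _ hy)).mul_pow,
        conj_pow, h1.eq, inv_pow]
      group
  obtain ⟨j, hj⟩ := exists_orderOf_eq_pow P.isPGroup' hwP
  exact hdesc j w hwP (by rw [← hj]; exact pow_orderOf_eq_one w)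

end Cfsg.Agent.H61
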