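import Cfsg.Agent.H61.ZStarCor2
import Cfsg.Agent.H61.CharP
import Mathlib.GroupTheory.SpecificGroups.Quaternion

/-!
The Z*-theorem (as a hypothesis) for groups of 2-rank one: Brauer–Suzuki.
-/

set_option autoImplicit false

namespace Cfsg.Agent.H61

universe u

/-- A group with exactly one involution in a Sylow 2-subgroup. -/
theorem zStar_cor_unique_involution (hZS : ZStarTheorem.{u}) {G : Type u} [Group G] [Finite G]
    (S : Sylow 2 G) (t : G) (ht : orderOf t = 2) (htS : t ∈ (S : Subgroup G))
    (huniq : ∀ y ∈ (S : Subgroup G), orderOf y = 2 → y = t) :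
    ∃ N : Subgroup G, N.Normal ∧ Odd (Nat.card N) ∧ ∀ g : G, t * g * t⁻¹ * g⁻¹ ∈ N :=
  hZS S t ht htS fun g hg => huniq _ hg (by
    rw [show g * t * g⁻¹ = MulAut.conj g t from rfl, MulEquiv.orderOf_eq, ht])

theorem zStar_cor_rank_one (hZS : ZStarTheorem.{u}) {G : Type u} [Group G] [Finite G]
    (heven : Even (Nat.card G)) (hrank : ∀ E : Subgroup G, ¬ IsKleinFour E) :
    ∃ z : G, orderOf z = 2 ∧
      ∃ N : Subgroup G, N.Normal ∧ Odd (Nat.card N) ∧ ∀ g : G, z * g * z⁻¹ * g⁻¹ ∈ N := by
  haveI : Fact (Nat.Prime 2) := ⟨Nat.prime_two⟩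
  obtain ⟨S⟩ := (Sylow.nonempty : Nonempty (Sylow 2 G))
  have hne : (S : Subgroup G) ≠ ⊥ := S.ne_bot_of_dvd_card (even_iff_two_dvd.mp heven)
  haveI : Nontrivial (S : Subgroup G) := (Subgroup.nontrivial_iff_ne_bot _).mpr hne
  have hZ : 2 ∣ Nat.card (Subgroup.center (S : Subgroup G)) :=
    ((S.isPGroup'.to_subgroup (Subgroup.center (S : Subgroup G))).card_eq_or_dvd).resolve_left (fun h1 =>
      not_subsingleton_iff_nontrivial.mpr S.isPGroup'.center_nontrivial (Nat.card_eq_one_iff_unique.mp h1).1)
  obtain ⟨z, hz⟩ := exists_prime_orderOf_dvd_card' 2 hZ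
  set t : G := ((z : (S : Subgroup G)) : G) with ht
  have hto : orderOf t = 2 := by rw [ht, Subgroup.orderOf_coe, Subgroup.orderOf_coe, hz]
  refine ⟨t, hto, zStar_cor_unique_involution hZS S t hto (z : (S : Subgroup G)).2 fun y hy hyo => ?_⟩
  by_contra hne'
  have hty : y * t = t * y := congrArg Subtype.val (Subgroup.mem_center_iff.mp z.2 ⟨y, hy⟩)
  have hy2 : y * y = 1 := by rw [← pow_two, ← hyo, pow_orderOf_eq_one]
  have ht2 : t * t = 1 := by rw [← pow_two, ← hto, pow_orderOf_eq_one]
  have hy1 : y ≠ 1 := fun h => by rw [h, orderOf_one] at hyo; omega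
  have ht1 : t ≠ 1 := fun h => by rw [h, orderOf_one] at hto; omega
  have hyt1 : y * t ≠ 1 := fun h => hne' ((eq_inv_of_mul_eq_one_left h).trans (inv_eq_of_mul_eq_one_right ht2))
  have hyty : y * t * y = t := by rw [hty, mul_assoc, hy2, mul_one]
  let E : Subgroup G :=
    { carrier := {1, y, t, y * t}
      one_mem' := Or.inl rfl
      mul_mem' := by
        intro a b ha hb
        simp only [Set.mem_insert_iff, Set.mem_singleton_iff] at ha hb ⊢
        rcases ha with rfl | rfl | rfl | rfl <;> rcases hb with rfl | rfl | rfl | rfl <;>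
          simp [← mul_assoc, hy2, ht2, ← hty, hyty] <;> simp [mul_assoc, hy2, ht2]
      inv_mem' := by
        intro a ha
        simp only [Set.mem_insert_iff, Set.mem_singleton_iff] at ha ⊢
        rcases ha with rfl | rfl | rfl | rfl
        · simp
        · exact Or.inr (Or.inl (inv_eq_of_mul_eq_one_right hy2))
        · exact Or.inr (Or.inr (Or.inl (inv_eq_of_mul_eq_one_right ht2)))
        · refine Or.inr (Or.inr (Or.inr (inv_eq_of_mul_eq_one_right ?_)))
          rw [← mul_assoc, hyty, ht2] }
  refine hrank E ⟨?_, ?_⟩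
  · show Nat.card ↥({1, y, t, y * t} : Set G) = 4
    rw [Nat.card_coe_set_eq, Set.ncard_insert_of_notMem ?_, Set.ncard_insert_of_notMem ?_, Set.ncard_pair ?_]
    · exact fun h => hy1 (by simpa using h.symm)
    · simp [hne', ht1]
    · simp [hy1.symm, ht1.symm, hyt1.symm]
  · refine (Nat.dvd_prime Nat.prime_two).mp (Monoid.exponent_dvd_of_forall_pow_eq_one fun a => ?_)
      |>.resolve_left fun h1 => hy1 ?_
    · refine Subtype.ext ?_
      show (a : G) ^ 2 = 1
      rcases a.2 with h | h | h | h <;> rw [h, pow_two]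
      · simp
      · exact hy2
      · exact ht2
      · rw [← mul_assoc, hyty, ht2]
    · have := Monoid.exp_eq_one_iff.mp h1
      exact congrArg Subtype.val (this.elim (⟨y, Or.inr (Or.inl rfl)⟩ : E) 1)

theorem quaternion_center_subset {m : ℕ} [NeZero m] (hm : 2 ≤ m) (q : QuaternionGroup m)
    (hq : (∀ r, q * r = r * q) ∨ orderOf q = 2) :
    q = 1 ∨ q = QuaternionGroup.a (m : ZMod (2 * m)) := by
  haveI : NeZero (2 * m) := ⟨mul_ne_zero two_ne_zero (NeZero.ne m)⟩
  have h2 : (2 : ZMod (2 * m)) ≠ 0 := by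
    intro h
    have := (ZMod.natCast_eq_zero_iff 2 (2 * m)).mp (by exact_mod_cast h)
    have := Nat.le_of_dvd two_pos this
    omega
  have hhalf : ∀ i : ZMod (2 * m), i + i = 0 → i = 0 ∨ i = (m : ZMod (2 * m)) := by
    intro i h
    have hi : 2 * m ∣ i.val + i.val := by
      rw [← ZMod.natCast_eq_zero_iff]
      push_cast
      rw [ZMod.natCast_zmod_val, h]
    have hlt := i.val_lt
    obtain ⟨k, hk⟩ := hi
    have hk2 : k < 2 := by
      by_contra hk2
      push Not at hk2
      nlinarith
    interval_cases k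
    · left
      have : i.val = 0 := by omega
      exact (ZMod.val_eq_zero i).mp this
    · right
      have : i.val = m := by omega
      conv_lhs => rw [← ZMod.natCast_zmod_val i, this]
  rcases q with i | i
  · have hi : i + i = 0 := by
      rcases hq with hq | hq
      · have h := hq (QuaternionGroup.xa 0)
        rw [QuaternionGroup.a_mul_xa, QuaternionGroup.xa_mul_a] at h
        simpa [neg_eq_iff_add_eq_zero] using h
      · have h := pow_orderOf_eq_one (QuaternionGroup.a i)
        rw [hq, pow_two, QuaternionGroup.a_mul_a, QuaternionGroup.one_def] at h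
        injection h
    rcases hhalf i hi with rfl | rfl
    · exact Or.inl rfl
    · exact Or.inr rfl
  · exfalso
    rcases hq with hq | hq
    · have h := hq (QuaternionGroup.a 1)
      rw [QuaternionGroup.xa_mul_a, QuaternionGroup.a_mul_xa] at h
      injection h with h
      apply h2
      linear_combination h
    · rw [QuaternionGroup.orderOf_xa] at hq
      omega

theorem zStar_cor_brauer_suzuki (hZS : ZStarTheorem.{u}) {G : Type u} [Group G] [Finite G] (S : Sylow 2 G)
    (n : ℕ) (e : (S : Subgroup G) ≃* QuaternionGroup (2 ^ (n + 1)))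
    (hO : ∀ N : Subgroup G, N.Normal → Odd (Nat.card N) → N = ⊥) :
    Nat.card (Subgroup.center G) = 2 := by
  haveI : Fact (Nat.Prime 2) := ⟨Nat.prime_two⟩
  have h2m : 2 ≤ 2 ^ (n + 1) := by
    calc 2 = 2 ^ 1 := rfl
      _ ≤ 2 ^ (n + 1) := Nat.pow_le_pow_right two_pos (by omega)
  set tq : QuaternionGroup (2 ^ (n + 1)) := QuaternionGroup.a ((2 ^ (n + 1) : ℕ) : ZMod (2 * 2 ^ (n + 1))) with htq
  have htq1 : tq ≠ 1 := by
    intro h
    rw [htq, QuaternionGroup.one_def] at h
    injection h with h
    have := Nat.le_of_dvd (by omega) ((ZMod.natCast_eq_zero_iff _ _).mp h)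
    omega
  have htq2 : orderOf tq = 2 := by
    refine (orderOf_eq_prime_iff).mpr ⟨?_, htq1⟩
    rw [htq, pow_two, QuaternionGroup.a_mul_a, QuaternionGroup.one_def]
    congr 1
    rw [← two_mul]
    exact_mod_cast ZMod.natCast_self (2 * 2 ^ (n + 1))
  set t : G := ((e.symm tq : (S : Subgroup G)) : G) with ht
  have hto : orderOf t = 2 := by rw [ht, Subgroup.orderOf_coe, MulEquiv.orderOf_eq, htq2]
  have huniq : ∀ y ∈ (S : Subgroup G), orderOf y = 2 → y = t := by
    intro y hy hyo
    have hyo' : orderOf (e ⟨y, hy⟩) = 2 := by rw [MulEquiv.orderOf_eq, Subgroup.orderOf_mk, hyo]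
    rcases quaternion_center_subset h2m (e ⟨y, hy⟩) (Or.inr hyo') with h | h
    · rw [h, orderOf_one] at hyo'; omega
    · rw [ht, htq, ← h, MulEquiv.symm_apply_apply]
  obtain ⟨N, hN, hNo, hc⟩ := zStar_cor_unique_involution hZS S t hto (e.symm tq).2 huniq
  have htc : t ∈ Subgroup.center G := by
    rw [Subgroup.mem_center_iff]
    intro g
    have h := hc g
    rw [hO N hN hNo, Subgroup.mem_bot, mul_inv_eq_one, mul_inv_eq_iff_eq_mul] at h
    exact h.symm
  have hcS : ∀ z ∈ Subgroup.center G, z ∈ (S : Subgroup G) := by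
    have hp : IsPGroup 2 (Subgroup.center G) := by
      refine isPGroup_of_forall_coprime fun z hz hco => ?_
      refine Subgroup.zpowers_eq_bot.mp (hO _ ⟨fun a ha g => ?_⟩ ?_)
      · obtain ⟨i, rfl⟩ := Subgroup.mem_zpowers_iff.mp ha
        rw [Subgroup.mem_center_iff.mp (Subgroup.zpow_mem _ hz i) g, mul_inv_cancel_right]
        exact ha
      · rw [Nat.card_zpowers]; exact Nat.coprime_two_right.mp hco
    exact hp.le_sylow_of_normal S
  have hset : (Subgroup.center G : Set G) = {1, t} := by
    ext z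
    simp only [SetLike.mem_coe, Set.mem_insert_iff, Set.mem_singleton_iff]
    refine ⟨fun hz => ?_, fun hz => ?_⟩
    · rcases quaternion_center_subset h2m (e ⟨z, hcS z hz⟩) (Or.inl fun r => by
        rw [← e.apply_symm_apply r, ← map_mul, ← map_mul]
        exact congrArg e (Subtype.ext (Subgroup.mem_center_iff.mp hz _).symm)) with h | h
      · left
        have := congrArg (fun s => ((e.symm s : (S : Subgroup G)) : G)) h
        simpa using this
      · right
        rw [ht, htq, ← h, MulEquiv.symm_apply_apply]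
    · rcases hz with rfl | rfl
      · exact one_mem _
      · exact htc
  rw [← SetLike.coe_sort_coe, Nat.card_coe_set_eq, hset, Set.ncard_pair (fun h => by rw [← h, orderOf_one] at hto; omega)]

end Cfsg.Agent.H61
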