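import Cfsg.Agent.H61.ZStarCor
import Cfsg.Agent.S0215

/-! The hypothesis `ZStarTheorem` of the H61 corollary files holds. -/

set_option autoImplicit false

namespace Cfsg.Agent.H61

universe u

theorem zStarTheorem : ZStarTheorem.{u} :=
  fun {G} _ _ P x => Cfsg.Agent.S0215.result P x

end Cfsg.Agent.H61
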