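import Cfsg.Agent.H61.Basic
import Cfsg.Agent.S3183
import Cfsg.Agent.Cores.PCore
import Cfsg.Agent.Coprime.Action

/-!
Consequences of Glauberman's Z*-theorem (statement S0215), which is taken as a hypothesis here.
-/

set_option autoImplicit false

namespace Cfsg.Agent.H61

universe u

/-- The statement of Glauberman's Z*-theorem. -/
def ZStarTheorem : Prop :=
  ∀ {G : Type u} [Group G] [Finite G] (P : Sylow 2 G) (u : G), orderOf u = 2 → u ∈ P →
    (∀ g : G, g * u * g⁻¹ ∈ P → g * u * g⁻¹ = u) →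
    ∃ N : Subgroup G, N.Normal ∧ Odd (Nat.card N) ∧ ∀ g : G, (u * g * u⁻¹ * g⁻¹) ∈ N

theorem zStar_cor_ci {G : Type u} (hZS : ZStarTheorem.{u}) [Group G] [Finite G]
    (hCI : ∀ S T : Sylow 2 G, S ≠ T → ∃ U : Sylow 2 G,
      (S : Subgroup G) ⊓ (T : Subgroup G) ≤ (Subgroup.center ↥(U : Subgroup G)).map (U : Subgroup G).subtype)
    (S : Sylow 2 G) (C : Subgroup ↥(S : Subgroup G)) (hC : C ≠ ⊥) (hCc : IsCyclic ↥C) (hCh : C.Characteristic)
    (c : ↥(S : Subgroup G)) (hc : c ∈ C) (hc2 : orderOf c = 2) :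
    ∀ g : G, (QuotientGroup.mk (s := Cfsg.oddCore G) (g * (c : G) * g⁻¹)) =
      QuotientGroup.mk (s := Cfsg.oddCore G) (c : G) := by
  classical
  set c' : G := (c : G)
  have hc'2 : orderOf c' = 2 := by rw [← hc2]; exact Subgroup.orderOf_coe c
  -- `c` is fixed by every automorphism of `S`
  have hfix : ∀ φ : (S : Subgroup G) ≃* (S : Subgroup G), φ c = c := by
    intro φ
    have hm : φ c ∈ C := by
      have := hCh.fixed φ
      rw [← this] at hc
      exact hc
    have h1 : (⟨φ c, hm⟩ : C) = ⟨c, hc⟩ := by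
      haveI := hCc
      have ho : ∀ z : C, orderOf z = 2 → z ∈ ({z : C | orderOf z = 2} : Set C) := fun z hz => hz
      letI := Fintype.ofFinite C
      have hdvd : 2 ∣ Fintype.card C := by
        have h := orderOf_dvd_card (G := C) (x := ⟨c, hc⟩)
        rwa [Subgroup.orderOf_mk, hc2] at h
      have hcard := IsCyclic.card_orderOf_eq_totient (α := C) hdvd
      rw [Nat.totient_two] at hcard
      obtain ⟨w, hw⟩ := Finset.card_eq_one.mp hcard
      have ha : (⟨φ c, hm⟩ : C) ∈ ({w} : Finset C) := hw ▸ Finset.mem_filter.mpr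
        ⟨Finset.mem_univ _, by rw [Subgroup.orderOf_mk, MulEquiv.orderOf_eq, hc2]⟩
      have hb : (⟨c, hc⟩ : C) ∈ ({w} : Finset C) := hw ▸ Finset.mem_filter.mpr
        ⟨Finset.mem_univ _, by rw [Subgroup.orderOf_mk, hc2]⟩
      rw [Finset.mem_singleton] at ha hb
      rw [ha, hb]
    exact congrArg (Subtype.val) h1
  have hcen : c' ∈ (Subgroup.center ↥(S : Subgroup G)).map (S : Subgroup G).subtype := by
    refine ⟨c, Subgroup.mem_center_iff.mpr fun s => ?_, rfl⟩
    have := hfix (MulAut.conj s)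
    rw [MulAut.conj_apply, mul_inv_eq_iff_eq_mul] at this
    exact this
  have hiso : ∀ g : G, g * c' * g⁻¹ ∈ (S : Subgroup G) → g * c' * g⁻¹ = c' := by
    intro g hg
    set y := g * c' * g⁻¹ with hy
    have hyU : y ∈ (Subgroup.center ↥((g • S : Sylow 2 G) : Subgroup G)).map ((g • S : Sylow 2 G) : Subgroup G).subtype := by
      obtain ⟨z, hz, hzc⟩ := hcen
      have hyg : y ∈ ((g • S : Sylow 2 G) : Subgroup G) := ⟨c', c.2, rfl⟩
      refine ⟨⟨y, hyg⟩, Subgroup.mem_center_iff.mpr fun s => Subtype.ext ?_, rfl⟩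
      obtain ⟨w, hw, hws⟩ := s.2
      have h1 : w * c' = c' * w := by
        rw [← hzc]; exact congrArg Subtype.val (Subgroup.mem_center_iff.mp hz ⟨w, hw⟩)
      have hs : (s : G) = g * w * g⁻¹ := hws.symm
      show (s : G) * y = y * s
      rw [hs, hy]
      calc g * w * g⁻¹ * (g * c' * g⁻¹) = g * (w * c') * g⁻¹ := by group
        _ = g * c' * g⁻¹ * (g * w * g⁻¹) := by rw [h1]; group
    have hS1 := Cfsg.Agent.S3183.central_of_central hCI S (g • S) hg hyU
    have hS2 := Cfsg.Agent.S3183.central_of_central hCI (g • S) (g • S)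
      (show y ∈ ((g • S : Sylow 2 G) : Subgroup G) from ⟨c', c.2, rfl⟩) hyU
    obtain ⟨h, hh⟩ := MulAction.exists_smul_eq (Subgroup.centralizer ({y} : Set G))
      ((g • S).subtype hS2) (S.subtype hS1)
    rw [Sylow.smul_subtype hS2] at hh
    have hN : (h : G) * g ∈ Subgroup.normalizer ((S : Subgroup G) : Set G) := by
      apply Sylow.smul_eq_iff_mem_normalizer.mp
      rw [mul_smul]
      exact Sylow.subtype_injective hh
    have hhy : (h : G) * y * (h : G)⁻¹ = y := by
      rw [Subgroup.mem_centralizer_singleton_iff.mp h.2, mul_inv_cancel_right]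
    have h2 : ((h : G) * g) * c' * ((h : G) * g)⁻¹ = c' := by
      let φ : (S : Subgroup G) ≃* (S : Subgroup G) :=
        { toFun := fun s => ⟨((h : G) * g) * s * ((h : G) * g)⁻¹, (Subgroup.mem_normalizer_iff.mp hN s).mp s.2⟩
          invFun := fun s => ⟨((h : G) * g)⁻¹ * s * ((h : G) * g), by
            have := (Subgroup.mem_normalizer_iff.mp (Subgroup.inv_mem _ hN) (s : G)).mp s.2
            simpa using this⟩
          left_inv := fun s => Subtype.ext (by group)
          right_inv := fun s => Subtype.ext (by group)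
          map_mul' := fun s t => Subtype.ext (by simp [mul_assoc]) }
      exact congrArg Subtype.val (hfix φ)
    calc y = (h : G) * y * (h : G)⁻¹ := hhy.symm
      _ = ((h : G) * g) * c' * ((h : G) * g)⁻¹ := by simp only [y, mul_inv_rev, mul_assoc]
      _ = c' := h2
  obtain ⟨N, hNn, hNo, hN⟩ := hZS S c' hc'2 c.2 hiso
  intro g
  haveI := hNn
  have hle : N ≤ Cfsg.oddCore G := Cfsg.Agent.Cores.le_oddCore hNo
  rw [QuotientGroup.eq]
  have hinv : c'⁻¹ = c' := by
    rw [inv_eq_iff_mul_eq_one, ← pow_two, ← hc'2, pow_orderOf_eq_one]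
  have h3 := hle (N.inv_mem (hN g))
  have e : (g * c' * g⁻¹)⁻¹ * c' = (c' * g * c'⁻¹ * g⁻¹)⁻¹ := by
    have : (g * c' * g⁻¹)⁻¹ = g * c' * g⁻¹ := by
      simp only [mul_inv_rev, inv_inv, hinv, mul_assoc]
    rw [this]
    simp only [mul_inv_rev, inv_inv, hinv, mul_assoc]
  rw [e]; exact h3

theorem zStar_cor_pPower {G : Type u} (hZS : ZStarTheorem.{u}) [Group G] [Finite G] {p : ℕ} (hp : p.Prime) (hp2 : p ≠ 2)
    (d : G) (hd : orderOf d = 2)
    (hprod : ∀ a ∈ conjugatesOf d, ∀ b ∈ conjugatesOf d, ∃ k : ℕ, orderOf (a * b) = p ^ k) :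
    ∀ a ∈ conjugatesOf d, ∀ b ∈ conjugatesOf d, a * b ∈ Cfsg.pCore p G := by
  classical
  haveI : Fact p.Prime := ⟨hp⟩
  haveI : Fact (Nat.Prime 2) := ⟨Nat.prime_two⟩
  have hd1 : d * d = 1 := by rw [← pow_two, ← hd, pow_orderOf_eq_one]
  have hdi : d⁻¹ = d := inv_eq_of_mul_eq_one_right hd1
  have hconj : ∀ g : G, g * d * g⁻¹ ∈ conjugatesOf d := fun g => isConj_iff.mpr ⟨g, rfl⟩
  obtain ⟨P, hP⟩ := (IsPGroup.of_card (p := 2) (n := 1) (by rw [Nat.card_zpowers, hd, pow_one]) :
    IsPGroup 2 (Subgroup.zpowers d)).exists_le_sylow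
  have hdP : d ∈ P := hP (Subgroup.mem_zpowers d)
  have hiso : ∀ g : G, g * d * g⁻¹ ∈ P → g * d * g⁻¹ = d := by
    intro g hg
    obtain ⟨k, hk⟩ := hprod _ (hconj g) d (mem_conjugatesOf_self (a := d))
    obtain ⟨m, hm⟩ := IsPGroup.iff_orderOf.mp P.isPGroup' ⟨_, P.mul_mem hg hdP⟩
    rw [Subgroup.orderOf_mk] at hm
    have h1 : orderOf (g * d * g⁻¹ * d) = 1 :=
      Nat.eq_one_of_dvd_coprimes (((Nat.coprime_primes Nat.prime_two hp).mpr (Ne.symm hp2)).pow m k)
        (dvd_of_eq hm) (dvd_of_eq hk)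
    rw [orderOf_eq_one_iff] at h1
    exact (eq_inv_of_mul_eq_one_left h1).trans hdi
  obtain ⟨N, hNn, hNo, hN⟩ := hZS P d hd hdP hiso
  haveI := hNn
  -- `J = [N, d]`
  set J := Subgroup.closure {u : N | ∃ r : N, (u : G) = (r : G) * d * (r : G)⁻¹ * d⁻¹} with hJ
  have hAK : Subgroup.zpowers d ≤ Subgroup.normalizer (N : Set G) := by
    rw [Subgroup.normalizer_eq_top_iff.mpr hNn]; exact le_top
  have hcop : (Nat.card (Subgroup.zpowers d)).Coprime (Nat.card N) := by
    rw [Nat.card_zpowers, hd]; exact Nat.coprime_two_left.mpr hNo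
  have hsolv : Group.IsSolvable (Subgroup.zpowers d) ∨ Group.IsSolvable N :=
    Or.inl (Group.isSolvable_of_comm fun a b => Subtype.ext (setLike_mul_comm a.2 b.2))
  -- invariant Sylow subgroups contain the commutators with `d` of their elements
  have hmemN : ∀ x : N, (x : G) * d * (x : G)⁻¹ * d⁻¹ ∈ N := fun x => by
    have := N.mul_mem x.2 (hNn.conj_mem _ (N.inv_mem x.2) d)
    simpa [mul_assoc] using this
  have hinv : ∀ (q : ℕ) [Fact q.Prime], ∃ Q : Sylow q N, ∀ x ∈ Q,
      (⟨_, hmemN x⟩ : N) ∈ Q := by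
    intro q _
    obtain ⟨Q, hQ⟩ := Cfsg.Agent.Coprime.exists_invariant_sylow hAK hcop hsolv q
    refine ⟨Q, fun x hx => ?_⟩
    obtain ⟨y, hy, hyx⟩ := (Subgroup.mem_normalizer_iff.mp (hQ (Subgroup.mem_zpowers d)) _).mp
      (⟨x⁻¹, Q.inv_mem hx, rfl⟩ : ((x⁻¹ : N) : G) ∈ (Q : Subgroup N).map N.subtype)
    have hm := Q.mul_mem hx hy
    suffices e : (⟨_, hmemN x⟩ : N) = x * y by rw [e]; exact hm
    refine Subtype.ext ?_
    show (x : G) * d * (x : G)⁻¹ * d⁻¹ = x * y
    rw [show (y : G) = d * ((x⁻¹ : N) : G) * d⁻¹ from hyx]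
    simp [mul_assoc]
  set H := (Subgroup.centralizer ({d} : Set G)).subgroupOf N with hH
  have hqH : ∀ q : ℕ, q.Prime → q ∣ H.index → q = p := by
    intro q hq hdvd
    by_contra hqp
    haveI : Fact q.Prime := ⟨hq⟩
    obtain ⟨Q, hQ⟩ := hinv q
    have hQH : (Q : Subgroup N) ≤ H := by
      intro x hx
      have hu := hQ x hx
      obtain ⟨k, hk⟩ := hprod _ (hconj (x : G)) d (mem_conjugatesOf_self (a := d))
      obtain ⟨m, hm⟩ := IsPGroup.iff_orderOf.mp Q.isPGroup' ⟨_, hu⟩
      rw [Subgroup.orderOf_mk, ← Subgroup.orderOf_coe] at hm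
      have h1 : orderOf ((x : G) * d * (x : G)⁻¹ * d⁻¹) = 1 := by
        refine Nat.eq_one_of_dvd_coprimes (((Nat.coprime_primes hq hp).mpr hqp).pow m k)
          (dvd_of_eq hm) ?_
        rw [hdi]; exact dvd_of_eq hk
      rw [orderOf_eq_one_iff, mul_inv_eq_one, mul_inv_eq_iff_eq_mul] at h1
      rw [Subgroup.mem_subgroupOf, Subgroup.mem_centralizer_singleton_iff]
      exact h1
    exact Q.not_dvd_index (hdvd.trans (Subgroup.index_dvd_of_le hQH))
  have hindex : H.index = p ^ H.index.primeFactorsList.length :=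
    Nat.eq_prime_pow_of_unique_prime_dvd Subgroup.index_ne_zero_of_finite fun {q} hq hdvd => hqH q hq hdvd
  obtain ⟨P', hP'⟩ := hinv p
  have hsurj : ∀ r : N, ∃ x ∈ P', x⁻¹ * r ∈ H := by
    let f : ↥(P' : Subgroup N) ⧸ H.subgroupOf (P' : Subgroup N) → N ⧸ H :=

        Quotient.map' (fun x : ↥(P' : Subgroup N) => (x : N)) fun a b h => by
          rw [QuotientGroup.leftRel_apply] at h ⊢
          exact h
    have hfi : Function.Injective f := by
      intro a b h
      induction a using Quotient.inductionOn'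
      induction b using Quotient.inductionOn'
      refine Quotient.sound' ?_
      have := Quotient.exact' h
      rw [QuotientGroup.leftRel_apply] at this ⊢
      exact this
    have hge : H.index ≤ (H.subgroupOf (P' : Subgroup N)).index := by
      set k := H.index.primeFactorsList.length
      have h1 : IsPGroup p ↥((H.subgroupOf (P' : Subgroup N))) := P'.isPGroup'.to_subgroup _
      obtain ⟨m, hm⟩ := IsPGroup.iff_card.mp h1
      have h2 : p ^ m ∣ Nat.card H := by
        rw [← hm, ← Subgroup.card_map_of_injective (P' : Subgroup N).subtype_injective]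
        exact Subgroup.card_dvd_of_le (by rw [Subgroup.subgroupOf_map_subtype]; exact inf_le_left)
      have h3 : p ^ (m + k) ∣ Nat.card N := by
        rw [pow_add, ← hindex, ← Subgroup.card_mul_index H]
        exact Nat.mul_dvd_mul_right h2 _
      have h4 : p ^ (m + k) ∣ Nat.card (P' : Subgroup N) := by
        rw [P'.card_eq_multiplicity]
        exact pow_dvd_pow p ((hp.pow_dvd_iff_le_factorization Nat.card_pos.ne').mp h3)
      rw [← Subgroup.card_mul_index (H.subgroupOf (P' : Subgroup N)), hm, pow_add, ← hindex] at h4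
      exact Nat.le_of_dvd (Nat.pos_of_ne_zero Subgroup.index_ne_zero_of_finite)
        ((Nat.mul_dvd_mul_iff_left (pow_pos hp.pos m)).mp h4)
    have hfs : Function.Surjective f :=
      (hfi.bijective_of_nat_card_le hge).2
    intro r
    obtain ⟨a, ha⟩ := hfs (QuotientGroup.mk r)
    induction a using Quotient.inductionOn' with
    | h x =>
      refine ⟨x, x.2, ?_⟩
      have := Quotient.exact' ha
      rwa [QuotientGroup.leftRel_apply] at this
  have hJP : J ≤ (P' : Subgroup N) := by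
    rw [hJ, Subgroup.closure_le]
    rintro u ⟨r, hr⟩
    obtain ⟨x, hx, hxr⟩ := hsurj r
    rw [Subgroup.mem_subgroupOf, Subgroup.mem_centralizer_singleton_iff] at hxr
    have e : u = ⟨_, hmemN x⟩ := by
      refine Subtype.ext (hr.trans ?_)
      show (r : G) * d * (r : G)⁻¹ * d⁻¹ = (x : G) * d * (x : G)⁻¹ * d⁻¹
      congr 1
      simp only [Subgroup.coe_mul, Subgroup.coe_inv] at hxr
      calc (r : G) * d * (r : G)⁻¹ = (x : G) * ((x : G)⁻¹ * r * d) * (r : G)⁻¹ := by group
        _ = (x : G) * d * (x : G)⁻¹ := by rw [hxr]; group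
    rw [SetLike.mem_coe, e]
    exact hP' x hx
  have hJn : J.Normal := by
    refine Subgroup.normalizer_eq_top_iff.mp (top_le_iff.mp fun s _ => mem_normalizer_of_conj_mem ?_)
    intro u hu
    have : J ≤ J.comap (MulAut.conj s).toMonoidHom := (Subgroup.closure_le _).mpr fun v hv => by
      obtain ⟨r, hr⟩ := hv
      show s * v * s⁻¹ ∈ J
      have e : s * v * s⁻¹ = (⟨_, hmemN (s * r)⟩ : N) * (⟨_, hmemN s⟩ : N)⁻¹ := Subtype.ext (by
        simp [hr, mul_assoc])
      rw [e]
      exact J.mul_mem (Subgroup.subset_closure ⟨s * r, rfl⟩) (J.inv_mem (Subgroup.subset_closure ⟨s, rfl⟩))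
    exact this hu
  have hJO : J.map N.subtype ≤ Cfsg.pCore p G :=
    (Subgroup.map_mono (Cfsg.Agent.Cores.le_pCore (P'.isPGroup'.to_le hJP))).trans
      (Cfsg.Agent.Cores.map_pCore_le_of_normal N)
  have key : ∀ k : G, k * d * k⁻¹ * d⁻¹ ∈ Cfsg.pCore p G := by
    intro k
    set u := k * d * k⁻¹ * d⁻¹ with hu
    have huN : u ∈ N := by
      have := N.inv_mem (hN k)
      simp only [mul_inv_rev, inv_inv, hdi, mul_assoc] at this
      rw [hu, hdi]
      simpa [mul_assoc] using this
    have hd2 : ∀ z, d * (d * z) = z := fun z => by rw [← mul_assoc, hd1, one_mul]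
    have hdu : d * u * d⁻¹ = u⁻¹ := by
      simp only [hu, mul_inv_rev, inv_inv, hdi, mul_assoc, hd1, mul_one]
    obtain ⟨m, hm⟩ : Odd (orderOf u) := hNo.of_dvd_nat (by
      rw [← Subgroup.orderOf_mk u huN]; exact orderOf_dvd_natCard _)
    set w := u ^ (m + 1) with hw
    have hw2 : w * w = u := by
      rw [hw, ← pow_add, show m + 1 + (m + 1) = orderOf u + 1 by omega, pow_succ, pow_orderOf_eq_one, one_mul]
    have hdw : d * w * d⁻¹ = w⁻¹ := by
      rw [hw, ← conj_pow, hdu, inv_pow]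
    have hwN : w ∈ N := N.pow_mem huN _
    refine hJO ⟨⟨u, huN⟩, Subgroup.subset_closure ⟨⟨w, hwN⟩, ?_⟩, rfl⟩
    show u = w * d * w⁻¹ * d⁻¹
    calc u = w * (d * w * d⁻¹)⁻¹ := by rw [hdw, inv_inv, hw2]
      _ = w * d * w⁻¹ * d⁻¹ := by group
  intro a ha b hb
  obtain ⟨g, rfl⟩ := isConj_iff.mp ha
  obtain ⟨h, rfl⟩ := isConj_iff.mp hb
  have h1 := (Cfsg.pCore_normal p G).conj_mem _ (Subgroup.inv_mem _ (key (g⁻¹ * h))) g
  simpa [mul_assoc, hdi] using h1

theorem zStar_cor_abelianSylow {G : Type u} (hZS : ZStarTheorem.{u}) [Group G] [Finite G] (hZ : Subgroup.center G = ⊥) (hcore : Cfsg.pPrimeCore 2 G = ⊥) (P : Sylow 2 G) (hab : IsMulCommutative (P : Subgroup G))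
    (α : MulAut G) (h2 : ∃ j : ℕ, orderOf α = 2 ^ j) (hfix : ∀ x ∈ (P : Subgroup G), α x = x) :
    ∃ g : G, ∀ x : G, α x = g * x * g⁻¹ := by
  classical
  haveI : Fact (Nat.Prime 2) := ⟨Nat.prime_two⟩
  by_contra hout
  obtain ⟨j, hj⟩ := h2
  set X : Subgroup (MulAut G) := (MulAut.conj : G →* MulAut G).range ⊔ Subgroup.zpowers α with hX
  have hαc : ∀ (β : MulAut G) (g : G), β * MulAut.conj g * β⁻¹ = MulAut.conj (β g) := by
    intro β g
    ext x
    simp [MulAut.mul_apply]
  let c : G →* X :=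
    { toFun := fun g => ⟨MulAut.conj g, le_sup_left (b := Subgroup.zpowers α) ⟨g, rfl⟩⟩
      map_one' := Subtype.ext (map_one _)
      map_mul' := fun g h => Subtype.ext (map_mul _ g h) }
  have hci : Function.Injective c := by
    intro g h e
    have e' : MulAut.conj g = MulAut.conj h := congrArg Subtype.val e
    have hz : h⁻¹ * g ∈ Subgroup.center G := Subgroup.mem_center_iff.mpr fun x => by
      have hx : g * x * g⁻¹ = h * x * h⁻¹ := by
        rw [← MulAut.conj_apply, ← MulAut.conj_apply, e']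
      calc x * (h⁻¹ * g) = h⁻¹ * (h * x * h⁻¹) * g := by group
        _ = h⁻¹ * (g * x * g⁻¹) * g := by rw [hx]
        _ = h⁻¹ * g * x := by group
    rw [hZ, Subgroup.mem_bot, inv_mul_eq_one] at hz
    exact hz.symm
  let a : X := ⟨α, le_sup_right (a := (MulAut.conj : G →* MulAut G).range) (Subgroup.mem_zpowers α)⟩
  have hcg : ∀ (z : X) (g : G), z * c g * z⁻¹ = c ((z : MulAut G) g) := fun z g =>
    Subtype.ext (hαc _ g)
  haveI hIn : c.range.Normal := ⟨by rintro _ ⟨g, rfl⟩ z; exact ⟨_, (hcg z g).symm⟩⟩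
  have hdecomp : ∀ z : X, ∃ (g : G) (i : ℤ), z = c g * a ^ i := by
    have hmain : ∀ β, β ∈ X → ∃ (g : G) (i : ℤ), β = MulAut.conj g * α ^ i := by
      intro β hβ
      rw [hX, ← SetLike.mem_coe, Subgroup.coe_mul_of_right_le_normalizer_left _ _ (fun z _ =>
        mem_normalizer_of_conj_mem (by rintro _ ⟨g, rfl⟩; exact ⟨z g, (hαc z g).symm⟩))] at hβ
      obtain ⟨_, ⟨g, rfl⟩, b, hb, rfl⟩ := hβ
      obtain ⟨i, rfl⟩ := Subgroup.mem_zpowers_iff.mp hb
      exact ⟨g, i, rfl⟩
    intro z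
    obtain ⟨g, i, h⟩ := hmain z z.2
    exact ⟨g, i, Subtype.ext (by simpa [c, a] using h)⟩
  have ha2 : a ^ 2 ^ j = 1 := Subtype.ext (by simp [a, ← hj, pow_orderOf_eq_one])
  have haP : ∀ x ∈ (P : Subgroup G), a * c x = c x * a := by
    intro x hx
    have := hcg a x
    rw [show (a : MulAut G) x = x from hfix x hx, mul_inv_eq_iff_eq_mul] at this
    exact this
  -- an abelian Sylow 2-subgroup of `X`
  set S0 := (P : Subgroup G).map c ⊔ Subgroup.zpowers a with hS0
  have hS0p : IsPGroup 2 S0 := by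
    refine (P.isPGroup'.map c).to_sup_of_normal_left' (IsPGroup.of_card (n := ?_) ?_) ?_
    · exact j
    · rw [Nat.card_zpowers, ← Subgroup.orderOf_coe, ← hj]
    · rw [Subgroup.zpowers_le]
      refine mem_normalizer_of_conj_mem ?_
      rintro _ ⟨x, hx, rfl⟩
      rw [haP x hx, mul_inv_cancel_right]
      exact ⟨x, hx, rfl⟩
  obtain ⟨S, hS⟩ := hS0p.exists_le_sylow
  have haS : a ∈ (S : Subgroup X) := hS (le_sup_right (a := (P : Subgroup G).map c) (Subgroup.mem_zpowers a))
  have hSc : ∀ g, c g ∈ (S : Subgroup X) → g ∈ (P : Subgroup G) := by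
    intro g hg
    have h1 : ((S : Subgroup X).comap c) = (P : Subgroup G) := P.3 (S.isPGroup'.comap_of_injective c hci)
      (fun x hx => hS (le_sup_left (b := Subgroup.zpowers a) ⟨x, hx, rfl⟩))
    exact h1 ▸ hg
  have hSdec : ∀ s ∈ (S : Subgroup X), ∃ x ∈ (P : Subgroup G), ∃ i : ℤ, s = c x * a ^ i := by
    intro s hs
    obtain ⟨g, i, rfl⟩ := hdecomp s
    refine ⟨g, hSc g ?_, i, rfl⟩
    have := (S : Subgroup X).mul_mem hs ((S : Subgroup X).inv_mem ((S : Subgroup X).zpow_mem haS i))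
    simpa using this
  have hScomm : ∀ s ∈ (S : Subgroup X), ∀ t ∈ (S : Subgroup X), Commute s t := by
    intro s hs t ht
    obtain ⟨x, hx, i, rfl⟩ := hSdec s hs
    obtain ⟨y, hy, k, rfl⟩ := hSdec t ht
    have hxy : Commute (c x) (c y) :=
      ((show Commute x y from congrArg Subtype.val (hab.is_comm.comm ⟨x, hx⟩ ⟨y, hy⟩))).map c
    have h1 : Commute (a ^ i) (c y) := (show Commute a (c y) from haP y hy).zpow_left i
    have h2 : Commute (c x) (a ^ k) := (show Commute a (c x) from haP x hx).symm.zpow_right k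
    exact (hxy.mul_right h2).mul_left (h1.mul_right ((Commute.refl a).zpow_zpow i k))
  haveI : IsMulCommutative (S : Subgroup X) := ⟨⟨fun s t => Subtype.ext (hScomm s s.2 t t.2).eq⟩⟩
  letI : CommGroup (S : Subgroup X) :=
    { (inferInstance : Group (S : Subgroup X)) with mul_comm := fun s t => IsMulCommutative.is_comm.comm s t }
  -- averaging `a` over `N(S)`
  set M := Subgroup.normalizer ((S : Subgroup X) : Set X) with hM
  set S' := (S : Subgroup X).subgroupOf M with hS'
  have hoddidx : ¬ 2 ∣ S'.index := (S.subtype Subgroup.le_normalizer).not_dvd_index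
  let F : M ⧸ S' → (S : Subgroup X) := Quotient.lift
    (fun n : M => (⟨(n : X) * a * (n : X)⁻¹, (Subgroup.mem_normalizer_iff.mp n.2 a).mp haS⟩ : (S : Subgroup X)))
    (by
      intro n m h
      have h'' : n⁻¹ * m ∈ S' := QuotientGroup.leftRel_apply.mp h
      have h' : ((n⁻¹ * m : M) : X) ∈ (S : Subgroup X) := Subgroup.mem_subgroupOf.mp h''
      refine Subtype.ext ?_
      have hc := (hScomm _ haS _ h').eq
      simp only [Subgroup.coe_mul, Subgroup.coe_inv] at hc
      show (n : X) * a * (n : X)⁻¹ = (m : X) * a * (m : X)⁻¹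
      calc (n : X) * a * (n : X)⁻¹ = (n : X) * (a * ((n : X)⁻¹ * m)) * (m : X)⁻¹ := by group
        _ = (m : X) * a * (m : X)⁻¹ := by rw [hc]; group)
  letI := Fintype.ofFinite (M ⧸ S')
  set u : (S : Subgroup X) := ∏ q : M ⧸ S', F q with hu
  have hufix : ∀ n ∈ M, n * (u : X) * n⁻¹ = u := by
    intro n hn
    let φ : (S : Subgroup X) →* (S : Subgroup X) :=
      { toFun := fun s => ⟨n * s * n⁻¹, (Subgroup.mem_normalizer_iff.mp hn (s : X)).mp s.2⟩
        map_one' := Subtype.ext (by simp)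
        map_mul' := fun s t => Subtype.ext (by simp [mul_assoc]) }
    have e : φ u = u := by
      rw [hu, map_prod]
      refine Fintype.prod_equiv (MulAction.toPerm (⟨n, hn⟩ : M)) _ _ fun q => ?_
      induction q using QuotientGroup.induction_on with
      | H m =>
        refine Subtype.ext ?_
        show n * ((m : X) * a * (m : X)⁻¹) * n⁻¹ = ((⟨n, hn⟩ * m : M) : X) * a * ((⟨n, hn⟩ * m : M) : X)⁻¹
        simp [mul_assoc]
    exact congrArg Subtype.val e
  have hub : (u : X) ∉ c.range := by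
    intro hur
    have h1 : QuotientGroup.mk' c.range (u : X) = QuotientGroup.mk' c.range a ^ S'.index := by
      have hq : ∀ q, QuotientGroup.mk' c.range ((F q : X)) = QuotientGroup.mk' c.range a := by
        intro q
        induction q using QuotientGroup.induction_on with
        | H m =>
          show QuotientGroup.mk' c.range ((m : X) * a * (m : X)⁻¹) = _
          obtain ⟨g, i, hgi⟩ := hdecomp (m : X)
          rw [hgi]
          simp only [map_mul, map_inv, map_zpow,
            show QuotientGroup.mk' c.range (c g) = 1 from (QuotientGroup.eq_one_iff _).mpr ⟨g, rfl⟩]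
          group
      let ψ := (QuotientGroup.mk' c.range).comp (S : Subgroup X).subtype
      have hgen : ∀ s : Finset (M ⧸ S'), ψ (∏ q ∈ s, F q) = QuotientGroup.mk' c.range a ^ s.card := by
        intro s
        induction s using Finset.induction_on with
        | empty => simp
        | insert q s hqs ih =>
          rw [Finset.prod_insert hqs, map_mul, ih, Finset.card_insert_of_notMem hqs, pow_succ']
          congr 1
          exact hq q
      have := hgen Finset.univ
      rwa [Finset.card_univ, Fintype.card_eq_nat_card, ← Subgroup.index_eq_card] at this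
    rw [show QuotientGroup.mk' c.range (u : X) = 1 from (QuotientGroup.eq_one_iff _).mpr hur] at h1
    have h2 : QuotientGroup.mk' c.range a ^ 2 ^ j = 1 := by rw [← map_pow, ha2, map_one]
    have h3 : orderOf (QuotientGroup.mk' c.range a) = 1 :=
      Nat.eq_one_of_dvd_coprimes ((Nat.prime_two.coprime_iff_not_dvd.mpr hoddidx).pow_left j)
        (orderOf_dvd_of_pow_eq_one h2) (orderOf_dvd_of_pow_eq_one h1.symm)
    rw [orderOf_eq_one_iff] at h3
    obtain ⟨g, hg⟩ := (QuotientGroup.eq_one_iff _).mp h3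
    have hgα : MulAut.conj g = α := congrArg Subtype.val hg
    exact hout ⟨g, fun x => by rw [← hgα, MulAut.conj_apply]⟩
  -- the involution in `⟨u⟩`
  have hu1 : (u : X) ≠ 1 := fun h => hub (h ▸ one_mem _)
  obtain ⟨k, hk⟩ := IsPGroup.iff_orderOf.mp S.isPGroup' u
  rw [← Subgroup.orderOf_coe] at hk
  obtain ⟨k, rfl⟩ : ∃ k', k = k' + 1 := ⟨k - 1, by
    rcases k with _ | k
    · exact absurd (orderOf_eq_one_iff.mp (by simpa using hk)) hu1
    · omega⟩
  set w := (u : X) ^ 2 ^ k with hw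
  have hwo : orderOf w = 2 := by
    rw [hw, orderOf_pow_of_dvd (pow_ne_zero _ two_ne_zero) (by rw [hk]; exact pow_dvd_pow 2 (by omega)),
      hk, pow_succ, Nat.mul_div_cancel_left _ (pow_pos two_pos k)]
  have hwS : w ∈ (S : Subgroup X) := (S : Subgroup X).pow_mem u.2 _
  have hwfix : ∀ n ∈ M, n * w * n⁻¹ = w := fun n hn => by rw [hw, ← conj_pow, hufix n hn]
  have hiso : ∀ g : X, g * w * g⁻¹ ∈ (S : Subgroup X) → g * w * g⁻¹ = w := by
    intro g hg
    set y := g * w * g⁻¹ with hy
    have hS1 : (S : Subgroup X) ≤ Subgroup.centralizer ({y} : Set X) := fun s hs =>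
      Subgroup.mem_centralizer_singleton_iff.mpr (hScomm s hs y hg).eq
    have hS2 : ((g • S : Sylow 2 X) : Subgroup X) ≤ Subgroup.centralizer ({y} : Set X) := by
      rintro _ ⟨s, hs, rfl⟩
      refine Subgroup.mem_centralizer_singleton_iff.mpr ?_
      show g * s * g⁻¹ * y = y * (g * s * g⁻¹)
      rw [hy]
      calc g * s * g⁻¹ * (g * w * g⁻¹) = g * (s * w) * g⁻¹ := by group
        _ = g * w * g⁻¹ * (g * s * g⁻¹) := by rw [(hScomm s hs w hwS).eq]; group
    obtain ⟨h, hh⟩ := MulAction.exists_smul_eq (Subgroup.centralizer ({y} : Set X))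
      ((g • S).subtype hS2) (S.subtype hS1)
    rw [Sylow.smul_subtype hS2] at hh
    have hN : (h : X) * g ∈ M := by
      apply Sylow.smul_eq_iff_mem_normalizer.mp
      rw [mul_smul]
      exact Sylow.subtype_injective hh
    calc y = (h : X) * y * (h : X)⁻¹ := by
          rw [Subgroup.mem_centralizer_singleton_iff.mp h.2, mul_inv_cancel_right]
      _ = ((h : X) * g) * w * ((h : X) * g)⁻¹ := by simp only [y, mul_inv_rev, mul_assoc]
      _ = w := hwfix _ hN
  obtain ⟨R, hRn, hRo, hR⟩ := hZS S w hwo hwS hiso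
  haveI := hRn
  have hR1 : R = ⊥ := by
    have hc0 : R.comap c = ⊥ := by
      rw [← le_bot_iff, ← hcore]
      refine Cfsg.Agent.Cores.le_oddCore (hRo.of_dvd_nat ?_)
      rw [← Subgroup.card_map_of_injective hci]
      exact Subgroup.card_dvd_of_le (Subgroup.map_comap_le c R)
    rw [eq_bot_iff]
    intro r hr
    obtain ⟨g, i, hgi⟩ := hdecomp r
    have h1 : QuotientGroup.mk' c.range (r ^ 2 ^ j) = 1 := by
      rw [map_pow, hgi, map_mul, show QuotientGroup.mk' c.range (c g) = 1 from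
        (QuotientGroup.eq_one_iff _).mpr ⟨g, rfl⟩, one_mul, ← map_pow, ← zpow_natCast, zpow_comm,
        zpow_natCast, ha2, one_zpow, map_one]
    obtain ⟨g', hg'⟩ := (QuotientGroup.eq_one_iff _).mp h1
    have : g' ∈ R.comap c := by
      show c g' ∈ R
      rw [hg']; exact R.pow_mem hr _
    rw [hc0, Subgroup.mem_bot] at this
    rw [this, map_one] at hg'
    have hodd : Odd (orderOf r) := hRo.of_dvd_nat (by
      rw [← Subgroup.orderOf_mk r hr]; exact orderOf_dvd_natCard _)
    rw [Subgroup.mem_bot]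
    exact orderOf_eq_one_iff.mp (Nat.eq_one_of_dvd_coprimes ((Nat.coprime_two_left.mpr hodd).pow_left j)
      (orderOf_dvd_of_pow_eq_one hg'.symm) dvd_rfl)
  have hw1 : w = 1 := by
    refine Subtype.ext (MulEquiv.ext fun g => ?_)
    have h1 := hR (c g)
    rw [hR1, Subgroup.mem_bot, mul_inv_eq_one, hcg] at h1
    exact hci h1
  rw [hw1, orderOf_one] at hwo
  exact one_ne_zero (by omega : (1 : ℕ) = 0)

end Cfsg.Agent.H61
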