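import Cfsg.Agent.H61.ZStarCor2
import Cfsg.Agent.H77.Subnormal
import Cfsg.Prelude.Def_Transfer

/-!
Goldschmidt's lemma on strongly closed 2-subgroups and weakly closed central subgroups, from the
Z*-theorem for 2-elements (the Z*-theorem is a hypothesis).
-/

set_option autoImplicit false

namespace Cfsg.Agent.H61

universe u

theorem zStar_cor_stronglyClosed (hZS : ZStarTheorem.{u}) {G : Type u} [Group G] [Finite G]
    (S : Sylow 2 G) (A : Subgroup G) (hA : Cfsg.IsStronglyClosed A (S : Subgroup G)) (H : Subgroup G)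
    (hAH : A ≤ Subgroup.normalizer (H : Set G)) (hO : Cfsg.oddCore ↥H = ⊥) (hdisj : A ⊓ H = ⊥) :
    A ≤ Subgroup.centralizer (H : Set G) := by
  haveI : Fact (Nat.Prime 2) := ⟨Nat.prime_two⟩
  have hA2 : IsPGroup 2 A := S.isPGroup'.to_le hA.1
  set X := H ⊔ A with hX
  obtain ⟨R, hR⟩ := (hA2.comap_subtype (K := X)).exists_le_sylow
  obtain ⟨P, hP⟩ := ((R.isPGroup').map X.subtype).exists_le_sylow
  obtain ⟨c, rfl⟩ := MulAction.exists_smul_eq G S P
  have hAR : ∀ a (ha : a ∈ A), (⟨a, le_sup_right (a := H) ha⟩ : X) ∈ (R : Subgroup X) := fun a ha => hR ha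
  have hRS : ∀ r : X, r ∈ (R : Subgroup X) → c⁻¹ * (r : G) * c ∈ (S : Subgroup G) := by
    intro r hr
    obtain ⟨s, hs, hsr⟩ := hP ⟨r, hr, rfl⟩
    have e : c * s * c⁻¹ = (r : G) := hsr
    have e2 : c⁻¹ * (r : G) * c = s := by rw [← e]; group
    rw [e2]; exact hs
  have hmap : A.map (MulAut.conj c⁻¹).toMonoidHom = A := by
    refine Subgroup.eq_of_le_of_card_ge ?_ (Subgroup.card_map_of_injective (MulAut.conj c⁻¹).injective).ge
    rintro _ ⟨a, ha, rfl⟩
    have h := hA.2 a ha c⁻¹ (by simpa using hRS _ (hAR a ha))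
    simpa using h
  have hprod : ∀ k : X, ∃ h ∈ H, ∃ b ∈ A, (k : G) = h * b := by
    intro k
    have hk : (k : G) ∈ ((H ⊔ A : Subgroup G) : Set G) := k.2
    rw [Subgroup.coe_mul_of_right_le_normalizer_left H A hAH] at hk
    obtain ⟨h, hh, b, hb, e⟩ := hk
    exact ⟨h, hh, b, hb, e.symm⟩
  -- an `H`-conjugate of an element of `A` lying in `R` equals it
  have hfix : ∀ a ∈ A, ∀ h ∈ H, ∀ y : X, (y : G) = h * a * h⁻¹ → y ∈ (R : Subgroup X) →
      (y : G) = a := by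
    intro a ha h hh y hy hyR
    have h1 : c⁻¹ * (y : G) * c ∈ A := by
      have h2 := hA.2 a ha (c⁻¹ * h) (by
        have := hRS y hyR
        rw [hy] at this
        simpa [mul_assoc] using this)
      rw [hy]; simpa [mul_assoc] using h2
    have hyA : (y : G) ∈ A := by
      rw [← hmap] at h1
      obtain ⟨b, hb, hby⟩ := h1
      have e : c⁻¹ * b * c = c⁻¹ * (y : G) * c := by rw [← hby]; simp
      rwa [mul_left_cancel (mul_right_cancel e)] at hb
    have h3 : (y : G) * a⁻¹ ∈ A ⊓ H := by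
      refine ⟨A.mul_mem hyA (A.inv_mem ha), ?_⟩
      rw [hy]
      have := H.mul_mem hh ((Subgroup.mem_normalizer_iff.mp (hAH ha) h⁻¹).mp (H.inv_mem hh))
      simpa [mul_assoc] using this
    rw [hdisj, Subgroup.mem_bot, mul_inv_eq_one] at h3
    exact h3
  intro a ha
  set Xa := H ⊔ Subgroup.zpowers a with hXa
  have hXaX : Xa ≤ X := sup_le le_sup_left ((Subgroup.zpowers_le.mpr ha).trans le_sup_right)
  have haXa : a ∈ Xa := Subgroup.mem_sup_right (Subgroup.mem_zpowers a)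
  have hiso : Cfsg.IsIsolated (⟨a, haXa⟩ : Xa) := by
    intro g hg
    have hgm : (g : G) ∈ ((H ⊔ Subgroup.zpowers a : Subgroup G) : Set G) := g.2
    rw [Subgroup.coe_mul_of_right_le_normalizer_left H _
      ((Subgroup.zpowers_le.mpr ha).trans hAH)] at hgm
    obtain ⟨h, hh, z, hz, e⟩ := hgm
    obtain ⟨i, rfl⟩ := Subgroup.mem_zpowers_iff.mp hz
    have hy : (g : G) * a * (g : G)⁻¹ = h * a * h⁻¹ := by rw [← e]; group
    have hyX : h * a * h⁻¹ ∈ X :=
      X.mul_mem (X.mul_mem (le_sup_left (b := A) hh) (hXaX haXa)) (X.inv_mem (le_sup_left (b := A) hh))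
    set a' : X := ⟨a, hXaX haXa⟩
    set y : X := ⟨h * a * h⁻¹, hyX⟩
    have hay : Commute a' y := by
      refine Subtype.ext ?_
      have := congrArg Subtype.val hg.eq
      simp only [Subgroup.coe_mul, Subgroup.coe_inv] at this
      show a * (h * a * h⁻¹) = (h * a * h⁻¹) * a
      rw [← hy]; exact this
    have hpa : ∀ b : X, b ∈ ({a', y} : Set X) → ∃ k, orderOf b = 2 ^ k := by
      obtain ⟨k, hk⟩ := IsPGroup.iff_orderOf.mp hA2 ⟨a, ha⟩
      rw [Subgroup.orderOf_mk] at hk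
      intro b hb
      refine ⟨k, ?_⟩
      rcases hb with rfl | rfl
      · rw [Subgroup.orderOf_mk, hk]
      · rw [Subgroup.orderOf_mk, show h * a * h⁻¹ = MulAut.conj h a from rfl, MulEquiv.orderOf_eq, hk]
    have hp : IsPGroup 2 (Subgroup.zpowers a' ⊔ Subgroup.zpowers y : Subgroup X) := by
      refine (isPGroup_zpowers (hpa a' (Or.inl rfl))).to_sup_of_normal_left'
        (isPGroup_zpowers (hpa y (Or.inr rfl))) ?_
      rw [Subgroup.zpowers_le]
      refine Subgroup.centralizer_le_normalizer _ fun b hb => ?_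
      obtain ⟨j, rfl⟩ := Subgroup.mem_zpowers_iff.mp hb
      exact (hay.zpow_left j).eq
    obtain ⟨T, hT⟩ := hp.exists_le_sylow
    obtain ⟨k, rfl⟩ := MulAction.exists_smul_eq X R T
    obtain ⟨h', hh', b, hb, hk⟩ := hprod k
    have hkR : ∀ r : X, r ∈ ((k • R : Sylow 2 X) : Subgroup X) →
        ∃ r' ∈ (R : Subgroup X), (r : G) = h' * (r' : G) * h'⁻¹ := by
      rintro r ⟨s, hs, hsr⟩
      refine ⟨⟨b, le_sup_right (a := H) hb⟩ * s * ⟨b, le_sup_right (a := H) hb⟩⁻¹,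
        (R : Subgroup X).mul_mem ((R : Subgroup X).mul_mem (hAR b hb) hs) ((R : Subgroup X).inv_mem (hAR b hb)), ?_⟩
      have e' : k * s * k⁻¹ = r := hsr
      rw [← e']
      simp [hk, mul_assoc]
    obtain ⟨r₁, hr₁, e₁⟩ := hkR a' (hT (Subgroup.mem_sup_left (Subgroup.mem_zpowers a')))
    obtain ⟨r₂, hr₂, e₂⟩ := hkR y (hT (Subgroup.mem_sup_right (Subgroup.mem_zpowers y)))
    have f₁ := hfix a ha h'⁻¹ (H.inv_mem hh') r₁ (by
      rw [show a = h' * (r₁ : G) * h'⁻¹ from e₁]; group) hr₁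
    have f₂ := hfix a ha (h'⁻¹ * h) (H.mul_mem (H.inv_mem hh') hh) r₂ (by
      calc (r₂ : G) = h'⁻¹ * (h' * (r₂ : G) * h'⁻¹) * h' := by group
        _ = h'⁻¹ * (h * a * h⁻¹) * h' := by rw [← e₂]
        _ = _ := by group) hr₂
    refine Subtype.ext ?_
    show (g : G) * a * (g : G)⁻¹ = a
    rw [hy]
    calc h * a * h⁻¹ = h' * (r₂ : G) * h'⁻¹ := e₂
      _ = h' * (r₁ : G) * h'⁻¹ := by rw [f₁, f₂]
      _ = a := e₁.symm
  have hord : ∃ k, orderOf (⟨a, haXa⟩ : Xa) = 2 ^ k := by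
    obtain ⟨k, hk⟩ := IsPGroup.iff_orderOf.mp hA2 ⟨a, ha⟩
    rw [Subgroup.orderOf_mk] at hk
    exact ⟨k, by rw [Subgroup.orderOf_mk, hk]⟩
  have hZ := inZStar_two_element hZS hord hiso
  intro h hh
  set hX' : Xa := ⟨h, Subgroup.mem_sup_left hh⟩
  have h1 := hZ hX'
  haveI : (H.subgroupOf Xa).Normal := (Subgroup.normal_subgroupOf_iff_le_normalizer le_sup_left).mpr
    (sup_le Subgroup.le_normalizer ((Subgroup.zpowers_le.mpr ha).trans hAH))
  have h2 : hX' * ⟨a, haXa⟩ * hX'⁻¹ * (⟨a, haXa⟩ : Xa)⁻¹ ∈ H.subgroupOf Xa := by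
    have := (H.subgroupOf Xa).mul_mem (show hX' ∈ H.subgroupOf Xa from hh)
      ((inferInstance : (H.subgroupOf Xa).Normal).conj_mem _
        ((H.subgroupOf Xa).inv_mem (show hX' ∈ H.subgroupOf Xa from hh)) ⟨a, haXa⟩)
    simpa [mul_assoc] using this
  have h3 : hX' * ⟨a, haXa⟩ * hX'⁻¹ * (⟨a, haXa⟩ : Xa)⁻¹ ∈
      (Cfsg.pPrimeCore 2 (H.subgroupOf Xa)).map (H.subgroupOf Xa).subtype := by
    rw [Cfsg.Agent.Cores.map_pPrimeCore_of_normal]
    exact ⟨h1, h2⟩
  have h4 : Cfsg.pPrimeCore 2 (H.subgroupOf Xa) = ⊥ := by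
    have e := Cfsg.Agent.Cores.pPrimeCore_map_mulEquiv (p := 2) (Subgroup.subgroupOfEquivOfLe (le_sup_left : H ≤ Xa))
    rw [show Cfsg.pPrimeCore 2 H = ⊥ from hO, Subgroup.map_eq_bot_iff_of_injective] at e
    exact e
    exact (Subgroup.subgroupOfEquivOfLe (le_sup_left : H ≤ Xa)).injective
  rw [h4, Subgroup.map_bot, Subgroup.mem_bot, mul_inv_eq_one, mul_inv_eq_iff_eq_mul] at h3
  exact congrArg Subtype.val h3

theorem zStar_cor_weaklyClosed_center (hZS : ZStarTheorem.{u}) {H : Type u} [Group H] [Finite H]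
    (S : Sylow 2 H)
    (hQ : ∀ Z₀ : Subgroup H, Z₀ ≤ ((Subgroup.center (S : Subgroup H)).map (S : Subgroup H).subtype) →
      Cfsg.IsWeaklyClosed Z₀ (S : Subgroup H)) (h : H) :
    ∃ o ∈ Cfsg.oddCore H, ∃ c ∈ Subgroup.centralizer
      (((Subgroup.center (S : Subgroup H)).map (S : Subgroup H).subtype : Subgroup H) : Set H), h = o * c := by
  haveI : Fact (Nat.Prime 2) := ⟨Nat.prime_two⟩
  set Z := (Subgroup.center (S : Subgroup H)).map (S : Subgroup H).subtype
  have hZS' : Z ≤ (S : Subgroup H) := Subgroup.map_subtype_le _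
  have hiso : ∀ z ∈ Z, ∀ g : H, g * z * g⁻¹ ∈ (S : Subgroup H) → g * z * g⁻¹ = z := by
    intro z hz g hg
    obtain ⟨-, hw⟩ := hQ (Subgroup.zpowers z) (Subgroup.zpowers_le.mpr hz)
    have e := hw g (by
      rintro _ ⟨w, hw', rfl⟩
      obtain ⟨i, rfl⟩ := Subgroup.mem_zpowers_iff.mp hw'
      show g * z ^ i * g⁻¹ ∈ (S : Subgroup H)
      rw [← conj_zpow]
      exact (S : Subgroup H).zpow_mem hg i)
    set N := Subgroup.normalizer ((Subgroup.zpowers z : Subgroup H) : Set H) with hN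
    have hgN : g ∈ N := mem_normalizer_of_conj_mem fun w hw' => e ▸ ⟨w, hw', rfl⟩
    obtain ⟨n, hn⟩ := IsPGroup.iff_orderOf.mp S.isPGroup' ⟨z, hZS' hz⟩
    rw [Subgroup.orderOf_mk] at hn
    have hmem : g * z * g⁻¹ ∈ Subgroup.zpowers z :=
      (Subgroup.mem_normalizer_iff.mp hgN z).mp (Subgroup.mem_zpowers z)
    obtain ⟨k, hk⟩ := mem_powers_iff_mem_zpowers.mpr hmem
    replace hk : z ^ k = g * z * g⁻¹ := hk
    have hpow : ∀ i : ℕ, g ^ i * z * (g ^ i)⁻¹ = z ^ k ^ i := by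
      intro i
      induction i with
      | zero => simp
      | succ i ih =>
        calc g ^ (i + 1) * z * (g ^ (i + 1))⁻¹ = g * (g ^ i * z * (g ^ i)⁻¹) * g⁻¹ := by group
          _ = z ^ k ^ (i + 1) := by rw [ih, ← conj_pow, ← hk, ← pow_mul, pow_succ']
    set C := Subgroup.centralizer ({z} : Set H) with hC
    have hSC : (S : Subgroup H) ≤ C := fun s hs => by
      obtain ⟨z', hz', e'⟩ := hz
      rw [Subgroup.mem_centralizer_singleton_iff, ← e']
      exact congrArg Subtype.val (Subgroup.mem_center_iff.mp hz' ⟨s, hs⟩)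
    haveI : (C.subgroupOf N).Normal := ⟨fun a ha b => by
      rw [Subgroup.mem_subgroupOf, Subgroup.mem_centralizer_singleton_iff] at ha ⊢
      obtain ⟨j, hj⟩ := Subgroup.mem_zpowers_iff.mp
        ((Subgroup.mem_normalizer_iff.mp (N.inv_mem b.2) z).mp (Subgroup.mem_zpowers z))
      have h1 : Commute (a : H) (z ^ j) := (show Commute (a : H) z from ha).zpow_right j
      have h2 := h1.map (MulAut.conj (b : H)).toMonoidHom
      rw [hj] at h2
      simpa [mul_assoc] using h2.eq⟩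
    have hidx : ¬ 2 ∣ (C.subgroupOf N).index := fun hd => by
      refine (S.subtype (hSC.trans ?_)).not_dvd_index (hd.trans (Subgroup.index_dvd_of_le ?_))
      · intro a ha
        refine mem_normalizer_of_conj_mem fun b hb => ?_
        obtain ⟨j, rfl⟩ := Subgroup.mem_zpowers_iff.mp hb
        rw [((show Commute a z from Subgroup.mem_centralizer_singleton_iff.mp ha).zpow_right j).eq,
          mul_inv_cancel_right]
        exact hb
      · exact fun x hx => hSC hx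
    have h1 : g ^ (C.subgroupOf N).index ∈ C :=
      Subgroup.pow_index_mem (C.subgroupOf N) (⟨g, hgN⟩ : N)
    have h2 : g ^ 2 ^ n ∈ C := by
      rw [Subgroup.mem_centralizer_singleton_iff]
      have hkodd : Nat.Coprime k (2 ^ n) := by
        rcases Nat.eq_zero_or_pos n with rfl | hn0
        · simp
        refine Nat.Coprime.pow_right n (Nat.coprime_two_right.mpr ?_)
        by_contra hev
        rw [Nat.not_odd_iff_even, even_iff_two_dvd] at hev
        have ho : orderOf (g * z * g⁻¹) = 2 ^ n := by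
          rw [show g * z * g⁻¹ = MulAut.conj g z from rfl, MulEquiv.orderOf_eq, hn]
        obtain ⟨m, rfl⟩ := hev
        have h5 : (g * z * g⁻¹) ^ 2 ^ (n - 1) = 1 := by
          rw [← hk, ← pow_mul, show 2 * m * 2 ^ (n - 1) = 2 ^ n * m by
            conv_rhs => rw [show n = n - 1 + 1 by omega, pow_succ]
            ring, pow_mul, ← hn, pow_orderOf_eq_one, one_pow]
        have h6 := Nat.le_of_dvd (pow_pos two_pos _) (orderOf_dvd_of_pow_eq_one h5)
        rw [ho] at h6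
        have := (Nat.pow_le_pow_iff_right (le_refl 2)).mp h6
        omega
      have hmod : k ^ 2 ^ n ≡ 1 [MOD 2 ^ n] := by
        rcases Nat.eq_zero_or_pos n with rfl | hn0
        · simp [Nat.ModEq, Nat.mod_one]
        have h7 := Nat.ModEq.pow_totient hkodd
        rw [Nat.totient_prime_pow Nat.prime_two hn0, show (2 : ℕ) - 1 = 1 from rfl, mul_one] at h7
        have h8 : k ^ 2 ^ n = (k ^ 2 ^ (n - 1)) ^ 2 := by
          rw [← pow_mul, ← pow_succ, show n - 1 + 1 = n by omega]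
        rw [h8]
        simpa using h7.pow 2
      have h9 := hpow (2 ^ n)
      rw [pow_eq_pow_iff_modEq.mpr (hn ▸ hmod) |>.trans (pow_one z)] at h9
      exact mul_inv_eq_iff_eq_mul.mp h9
    have hgC : g ∈ C := by
      have hcop : Nat.Coprime (C.subgroupOf N).index (2 ^ n) :=
        (Nat.coprime_comm.mp ((Nat.prime_two.coprime_iff_not_dvd).mpr hidx)).pow_right n
      have h10 := C.mul_mem (C.zpow_mem h1 (Nat.gcdA (C.subgroupOf N).index (2 ^ n)))
        (C.zpow_mem h2 (Nat.gcdB (C.subgroupOf N).index (2 ^ n)))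
      rwa [← zpow_natCast, ← zpow_mul, ← zpow_natCast g (2 ^ n), ← zpow_mul, ← zpow_add, ← Nat.gcd_eq_gcd_ab,
        hcop.gcd_eq_one, Nat.cast_one, zpow_one] at h10
    rw [Subgroup.mem_centralizer_singleton_iff] at hgC
    rw [hgC, mul_inv_cancel_right]
  have hO : ∀ z ∈ Z, ∀ g : H, g * z * g⁻¹ * z⁻¹ ∈ Cfsg.oddCore H := fun z hz g => by
    obtain ⟨k, hk⟩ := IsPGroup.iff_orderOf.mp S.isPGroup' ⟨z, hZS' hz⟩
    rw [Subgroup.orderOf_mk] at hk
    exact inZStar_two_element hZS ⟨k, hk⟩ (isIsolated_of_sylow S (hZS' hz) (hiso z hz)) g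
  set O := Cfsg.oddCore H with hOdef
  set K := O ⊔ Z with hK
  haveI : O.Normal := Cfsg.pPrimeCore_normal 2 H
  have hZp : IsPGroup 2 Z := S.isPGroup'.to_le hZS'
  set Z' := Z.map (MulAut.conj h).toMonoidHom
  have hZ'K : Z' ≤ K := by
    rintro _ ⟨z, hz, rfl⟩
    have := K.mul_mem (Subgroup.mem_sup_left (hO z hz h)) (Subgroup.mem_sup_right hz)
    simpa [hK] using this
  have hmax : ∀ W : Subgroup H, W ≤ K → Nat.card W = Nat.card Z → ¬ 2 ∣ (W.subgroupOf K).index := by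
    intro W hWK hW hdvd
    have h1 := Subgroup.relIndex_mul_relIndex ⊥ W K bot_le hWK
    rw [Subgroup.relIndex_bot_left, Subgroup.relIndex_bot_left, hW] at h1
    have h2 : W.relIndex K ∣ Nat.card O := by
      have := Cfsg.Agent.Cores.card_sup_dvd Z O
      rw [sup_comm, ← hK, ← h1] at this
      exact (Nat.mul_dvd_mul_iff_left Nat.card_pos).mp this
    exact Cfsg.Agent.Cores.not_dvd_card_pPrimeCore (p := 2) (G := H) (hdvd.trans h2)
  let T1 : Sylow 2 K := (hZp.comap_subtype (K := K)).toSylow (hmax Z le_sup_right rfl)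
  let T2 : Sylow 2 K := ((hZp.map (MulAut.conj h).toMonoidHom).comap_subtype (K := K)).toSylow
    (hmax Z' hZ'K (Subgroup.card_map_of_injective (MulAut.conj h).injective))
  obtain ⟨m, hm⟩ := MulAction.exists_smul_eq K T2 T1
  obtain ⟨o, ho, z₀, hz₀, hmo⟩ := Subgroup.mem_sup_of_normal_left.mp m.2
  have hzcomm : ∀ z ∈ Z, z₀ * z = z * z₀ := fun z hz => by
    obtain ⟨z', hz', e'⟩ := hz
    rw [← e']
    exact congrArg Subtype.val (Subgroup.mem_center_iff.mp hz' ⟨z₀, hZS' hz₀⟩)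
  have hc : ∀ z ∈ Z, Commute z (z₀⁻¹ * (m : H) * h) := by
    intro z hz
    have h5 : (⟨h * z * h⁻¹, hZ'K ⟨z, hz, rfl⟩⟩ : K) ∈ (T2 : Subgroup K) := ⟨z, hz, rfl⟩
    have h6 : m * ⟨h * z * h⁻¹, hZ'K ⟨z, hz, rfl⟩⟩ * m⁻¹ ∈ (T1 : Subgroup K) := by
      rw [← hm, Sylow.coe_subgroup_smul]
      exact ⟨_, h5, rfl⟩
    set w := z₀⁻¹ * ((m : H) * (h * z * h⁻¹) * (m : H)⁻¹) * z₀ with hw
    have hwZ : w ∈ Z := Z.mul_mem (Z.mul_mem (Z.inv_mem hz₀) h6) hz₀
    have hwO : w * z⁻¹ ∈ O := by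
      have := hO z hz (z₀⁻¹ * (m : H) * h)
      rw [hw]
      simpa [mul_assoc] using this
    have h7 : w * z⁻¹ ∈ (S : Subgroup H) ⊓ O :=
      ⟨(S : Subgroup H).mul_mem (hZS' hwZ) ((S : Subgroup H).inv_mem (hZS' hz)), hwO⟩
    rw [hOdef, Cfsg.oddCore, Cfsg.Agent.Cores.disjoint_of_isPGroup_of_coprime S.isPGroup'
      Cfsg.Agent.Cores.coprime_card_pPrimeCore, Subgroup.mem_bot, mul_inv_eq_one, hw] at h7
    have h8 : (z₀⁻¹ * (m : H) * h) * z * (z₀⁻¹ * (m : H) * h)⁻¹ = z := by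
      refine Eq.trans ?_ h7; group
    exact (mul_inv_eq_iff_eq_mul.mp h8).symm
  refine ⟨(z₀⁻¹ * o * z₀)⁻¹, O.inv_mem ?_, z₀⁻¹ * (m : H) * h, fun z hz => (hc z hz).eq, ?_⟩
  · simpa using (inferInstance : O.Normal).conj_mem o ho z₀⁻¹
  · rw [← hmo]; group

end Cfsg.Agent.H61
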