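import Cfsg.Agent.H61.CharP
import Cfsg.Agent.Components.Basic
import Cfsg.Agent.Cores.PCore
import Cfsg.Agent.H77.Subnormal

/-!
The cores of the centralizers of the involutions of an elementary abelian group of order at least 8,
one of whose centralizers has characteristic 2 and none of which has a component, generate an
abelian group of odd order.
-/

set_option autoImplicit false

namespace Cfsg.Agent.H61

open Subgroup

variable {X : Type*} [Group X]

/-- `O(C(b))` as a subgroup of the ambient group. -/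
abbrev coreAt (b : X) : Subgroup X :=
  (Cfsg.oddCore ↥(Subgroup.centralizer ({b} : Set X))).map
    (Subgroup.centralizer ({b} : Set X)).subtype

theorem coreAt_le (b : X) : coreAt b ≤ Subgroup.centralizer ({b} : Set X) :=
  Subgroup.map_subtype_le _

theorem coreAt_odd [Finite X] (b : X) : Odd (Nat.card (coreAt b)) := by
  rw [coreAt, Subgroup.card_map_of_injective (Subgroup.subtype_injective _)]
  exact Cores.odd_card_oddCore

theorem coreAt_conj {b x d : X} (hx : x ∈ Subgroup.centralizer ({b} : Set X)) (hd : d ∈ coreAt b) :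
    x * d * x⁻¹ ∈ coreAt b := by
  obtain ⟨d', hd', rfl⟩ := hd
  exact ⟨⟨x, hx⟩ * d' * ⟨x, hx⟩⁻¹,
    (inferInstance : (Cfsg.oddCore ↥(Subgroup.centralizer ({b} : Set X))).Normal).conj_mem _ hd' _,
    by simp⟩

theorem le_coreAt {b : X} {E : Subgroup X} (hE : E ≤ Subgroup.centralizer ({b} : Set X))
    (hn : ∀ x ∈ Subgroup.centralizer ({b} : Set X), ∀ e ∈ E, x * e * x⁻¹ ∈ E)
    (ho : Odd (Nat.card E)) : E ≤ coreAt b := by
  have hN : (E.subgroupOf (Subgroup.centralizer ({b} : Set X))).Normal :=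
    ⟨fun e he x => hn x x.2 e he⟩
  have := Cores.le_oddCore (N := E.subgroupOf (Subgroup.centralizer ({b} : Set X)))
    (by rwa [Nat.card_congr (Subgroup.subgroupOfEquivOfLe hE).toEquiv])
  exact fun e he => ⟨⟨e, hE he⟩, this he, rfl⟩

/-- If `d` and all its commutators with the fixed points of `a` on a 2-group `Q` lie in an odd order
group `E` centralized by `a`, and `a` and `d` normalize `Q`, then `d` centralizes `Q`. -/
theorem commute_two_group [Finite X] {Q E : Subgroup X} (hQ : IsPGroup 2 Q) (hE : Odd (Nat.card E))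
    {a d : X} (ha : a ^ 2 = 1) (haQ : ∀ x ∈ Q, a * x * a⁻¹ ∈ Q) (hdQ : ∀ x ∈ Q, d * x * d⁻¹ ∈ Q)
    (hd : d ∈ E) (hda : Commute d a) (hn : ∀ x ∈ Q, Commute a x → x * d * x⁻¹ ∈ E) :
    ∀ x ∈ Q, Commute d x := by
  have hfact : Fact (Nat.Prime 2) := ⟨Nat.prime_two⟩
  have hod : (orderOf d).Coprime 2 := by
    apply Nat.Coprime.coprime_dvd_left (Subgroup.orderOf_dvd_natCard E hd)
    exact Nat.coprime_two_right.mpr hE
  refine commute_of_commute_centralizer (A := Subgroup.zpowers a) hQ ?_ ?_ hod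
    (mem_normalizer_of_conj_mem hdQ) ?_ ?_
  · intro x
    refine ⟨1, Subtype.ext ?_⟩
    obtain ⟨n, hn⟩ := Subgroup.mem_zpowers_iff.mp x.2
    rw [pow_one, SubmonoidClass.coe_pow, ← hn, ← zpow_natCast, ← zpow_mul, mul_comm, zpow_mul,
      zpow_natCast, ha, one_zpow, Subgroup.coe_one]
  · exact Subgroup.zpowers_le.mpr (mem_normalizer_of_conj_mem haQ)
  · intro x hx
    obtain ⟨n, rfl⟩ := Subgroup.mem_zpowers_iff.mp hx
    exact hda.zpow_right n
  · intro x hx hxa
    have h1 : d * x * d⁻¹ * x⁻¹ ∈ Q := Q.mul_mem (hdQ x hx) (Q.inv_mem hx)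
    have h2 : d * x * d⁻¹ * x⁻¹ ∈ E := by
      have := E.mul_mem hd (E.inv_mem (hn x hx (hxa a (Subgroup.mem_zpowers a))))
      simpa [mul_assoc] using this
    have h3 : d * x * d⁻¹ * x⁻¹ = 1 := eq_one_of_mem_pGroup hQ h1
      (Nat.Coprime.coprime_dvd_left (Subgroup.orderOf_dvd_natCard E h2) (Nat.coprime_two_right.mpr hE))
    calc d * x = (d * x * d⁻¹ * x⁻¹) * (x * d) := by group
      _ = x * d := by rw [h3, one_mul]

/-- An involution acting fixed-point-freely on a finite subgroup inverts it. -/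
theorem inverts_of_fpf [Finite X] {P : Subgroup X} {z : X} (hz2 : z ^ 2 = 1)
    (hPz : ∀ d ∈ P, z * d * z⁻¹ ∈ P) (hfix : ∀ d ∈ P, Commute z d → d = 1) :
    ∀ d ∈ P, z * d * z⁻¹ = d⁻¹ := by
  let f : P → P := fun d => ⟨(d : X)⁻¹ * (z * d * z⁻¹), P.mul_mem (P.inv_mem d.2) (hPz d d.2)⟩
  have hinj : Function.Injective f := by
    intro a b hab
    have h : (a : X)⁻¹ * (z * a * z⁻¹) = (b : X)⁻¹ * (z * b * z⁻¹) := congrArg Subtype.val hab
    have h1 : z * ((a : X) * (b : X)⁻¹) * z⁻¹ = (a : X) * (b : X)⁻¹ := by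
      calc z * ((a : X) * (b : X)⁻¹) * z⁻¹
          = a * ((a : X)⁻¹ * (z * a * z⁻¹)) * ((b : X)⁻¹ * (z * b * z⁻¹))⁻¹ * (b : X)⁻¹ := by group
        _ = (a : X) * (b : X)⁻¹ := by rw [h]; group
    have h2 := hfix _ (P.mul_mem a.2 (P.inv_mem b.2)) (mul_inv_eq_iff_eq_mul.mp h1)
    exact Subtype.ext (mul_inv_eq_one.mp h2)
  intro d hd
  obtain ⟨e, he⟩ := (Finite.injective_iff_surjective.mp hinj) ⟨d, hd⟩
  have he' : (e : X)⁻¹ * (z * e * z⁻¹) = d := congrArg Subtype.val he
  have hzz : z * z = 1 := by rwa [pow_two] at hz2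
  rw [← he']
  calc z * ((e : X)⁻¹ * (z * e * z⁻¹)) * z⁻¹
      = (z * (e : X)⁻¹ * z⁻¹) * ((z * z) * e * (z * z)⁻¹) := by group
    _ = ((e : X)⁻¹ * (z * e * z⁻¹))⁻¹ := by rw [hzz]; group

variable [Finite X] {Y : Subgroup X}

/-- A subgroup of odd order normalized by a centralizer meets the centralizer of `z` trivially. -/
theorem inf_centralizer_z_eq (hcomm : ∀ a ∈ Y, ∀ b ∈ Y, Commute a b)
    (hsq : ∀ a ∈ Y, a ^ 2 = 1) {z : X} (hzY : z ∈ Y)
    (hchar : Cfsg.generalizedFittingSubgroup ↥(Subgroup.centralizer ({z} : Set X)) =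
      Cfsg.pCore 2 ↥(Subgroup.centralizer ({z} : Set X)))
    {a : X} (ha : a ∈ Y) {P : Subgroup X} (hPa : P ≤ Subgroup.centralizer ({a} : Set X))
    (hP : ∀ x ∈ Subgroup.centralizer ({a} : Set X), ∀ e ∈ P, x * e * x⁻¹ ∈ P)
    (hPo : Odd (Nat.card P)) : ∀ d ∈ P, Commute z d → d = 1 := by
  have hfact : Fact (Nat.Prime 2) := ⟨Nat.prime_two⟩
  intro d hd hzd
  set H := Subgroup.centralizer ({z} : Set X) with hH
  have hdH : d ∈ H := Subgroup.mem_centralizer_singleton_iff.mpr hzd.symm.eq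
  have haH : a ∈ H := Subgroup.mem_centralizer_singleton_iff.mpr (hcomm a ha z hzY).eq
  set Q := (Cfsg.pCore 2 H).map H.subtype with hQ
  have hQn : ∀ h ∈ H, ∀ x ∈ Q, h * x * h⁻¹ ∈ Q := by
    rintro h hh _ ⟨x, hx, rfl⟩
    exact ⟨⟨h, hh⟩ * x * ⟨h, hh⟩⁻¹, (Cfsg.pCore_normal 2 H).conj_mem x hx _, by simp⟩
  have hc : ∀ x ∈ Q, Commute d x := by
    refine commute_two_group ((isPGroup_pCore (p := 2) (G := H)).map H.subtype) hPo (hsq a ha)
      (hQn a haH) (hQn d hdH) hd ?_ ?_
    · exact Subgroup.mem_centralizer_singleton_iff.mp (hPa hd)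
    · intro x _ hxa
      exact hP x (Subgroup.mem_centralizer_singleton_iff.mpr hxa.symm.eq) d hd
  have hmem : (⟨d, hdH⟩ : H) ∈ Subgroup.centralizer (Cfsg.pCore 2 H : Set H) := by
    intro x hx
    exact Subtype.ext (hc x ⟨x, hx, rfl⟩).symm.eq
  have h1 := Components.centralizer_genFitting_le (G := H) (by rwa [hchar])
  rw [hchar] at h1
  exact eq_one_of_mem_pGroup ((isPGroup_pCore (p := 2) (G := H)).map H.subtype)
    (⟨_, h1, rfl⟩ : d ∈ Q)
    (Nat.Coprime.coprime_dvd_left (Subgroup.orderOf_dvd_natCard P hd) (Nat.coprime_two_right.mpr hPo))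

/-- Balance. -/
theorem coreAt_balance (hcomm : ∀ a ∈ Y, ∀ b ∈ Y, Commute a b)
    (hsq : ∀ a ∈ Y, a ^ 2 = 1) {z : X} (hzY : z ∈ Y)
    (hchar : Cfsg.generalizedFittingSubgroup ↥(Subgroup.centralizer ({z} : Set X)) =
      Cfsg.pCore 2 ↥(Subgroup.centralizer ({z} : Set X)))
    {a b : X} (ha : a ∈ Y) (hb : b ∈ Y)
    (hE : Cfsg.layer ↥(Subgroup.centralizer ({b} : Set X)) = ⊥)
    {d : X} (hd : d ∈ coreAt a) (hdb : Commute d b) : d ∈ coreAt b := by
  set H := Subgroup.centralizer ({b} : Set X) with hH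
  have hdH : d ∈ H := Subgroup.mem_centralizer_singleton_iff.mpr hdb.eq
  have haH : a ∈ H := Subgroup.mem_centralizer_singleton_iff.mpr (hcomm a ha b hb).eq
  have hzH : z ∈ H := Subgroup.mem_centralizer_singleton_iff.mpr (hcomm z hzY b hb).eq
  have hinv : z * d * z⁻¹ = d⁻¹ :=
    inverts_of_fpf (hsq z hzY)
      (fun e he => coreAt_conj (Subgroup.mem_centralizer_singleton_iff.mpr (hcomm z hzY a ha).eq) he)
      (inf_centralizer_z_eq hcomm hsq hzY hchar ha (coreAt_le a) (fun x hx e he => coreAt_conj hx he)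
        (coreAt_odd a)) d hd
  have hod : Odd (orderOf d) := (coreAt_odd a).of_dvd_nat (Subgroup.orderOf_dvd_natCard _ hd)
  have hQn : ∀ (N : Subgroup H) (_ : N.Normal), ∀ h ∈ H, ∀ x ∈ N.map H.subtype,
      h * x * h⁻¹ ∈ N.map H.subtype := by
    rintro N hN h hh _ ⟨x, hx, rfl⟩
    exact ⟨⟨h, hh⟩ * x * ⟨h, hh⟩⁻¹, hN.conj_mem x hx _, by simp⟩
  have hcent : ∀ p : (Nat.card H).primeFactors,
      Cfsg.pCore (p : ℕ) H ≤ Subgroup.centralizer ({(⟨d, hdH⟩ : H)} : Set H) := by
    intro p x hx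
    have hfp : Fact (p : ℕ).Prime := ⟨Nat.prime_of_mem_primeFactors p.2⟩
    rw [Subgroup.mem_centralizer_singleton_iff]
    apply Subtype.ext
    change (x : X) * d = d * (x : X)
    set P := (Cfsg.pCore (p : ℕ) H).map H.subtype with hP
    have hxP : (x : X) ∈ P := ⟨x, hx, rfl⟩
    have hPp : IsPGroup (p : ℕ) P := isPGroup_pCore.map H.subtype
    have hPH : P ≤ H := Subgroup.map_subtype_le _
    by_cases hp2 : (p : ℕ) = 2
    · rw [hp2] at hP hPp
      have hE' : Odd (Nat.card (coreAt a ⊓ H : Subgroup X)) :=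
        (coreAt_odd a).of_dvd_nat (Subgroup.card_dvd_of_le inf_le_left)
      refine (commute_two_group hPp hE' (hsq a ha) ?_ ?_ ⟨hd, hdH⟩ ?_ ?_ x hxP).symm.eq
      · exact hQn _ inferInstance a haH
      · exact hQn _ inferInstance d hdH
      · exact Subgroup.mem_centralizer_singleton_iff.mp (coreAt_le a hd)
      · intro y hy hya
        exact ⟨coreAt_conj (Subgroup.mem_centralizer_singleton_iff.mpr hya.symm.eq) hd,
          H.mul_mem (H.mul_mem (hPH hy) hdH) (H.inv_mem (hPH hy))⟩
    · have hPo : Odd (Nat.card P) := by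
        obtain ⟨k, hk⟩ := IsPGroup.iff_card.mp hPp
        rw [hk]
        exact (hfp.out.odd_of_ne_two hp2).pow
      have hinvP := inverts_of_fpf (hsq z hzY) (hQn _ inferInstance z hzH)
        (inf_centralizer_z_eq hcomm hsq hzY hchar hb hPH (hQn _ inferInstance) hPo)
      have hy : d * x * d⁻¹ ∈ P := hQn _ inferInstance d hdH x hxP
      have h1 := hinvP _ hy
      have h2 := hinvP _ hxP
      have h3 : d⁻¹ * (x : X)⁻¹ * d = d * (x : X)⁻¹ * d⁻¹ := by
        calc d⁻¹ * (x : X)⁻¹ * d = (z * d * z⁻¹) * (z * x * z⁻¹) * (z * d * z⁻¹)⁻¹ := by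
              rw [hinv, h2]; group
          _ = z * (d * x * d⁻¹) * z⁻¹ := by group
          _ = d * (x : X)⁻¹ * d⁻¹ := by rw [h1]; group
      have h4 : Commute (d ^ 2) (x : X) := by
        have h5 : d⁻¹ * (x : X) * d = d * (x : X) * d⁻¹ := by
          have := congrArg (·⁻¹) h3
          simpa [mul_assoc] using this
        calc d ^ 2 * x = d * (d * x * d⁻¹) * d := by rw [pow_two]; group
          _ = d * (d⁻¹ * x * d) * d := by rw [h5]
          _ = x * d ^ 2 := by rw [pow_two]; group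
      obtain ⟨k, hk⟩ := hod
      have h6 : (d ^ 2) ^ (k + 1) = d := by
        rw [← pow_mul, show 2 * (k + 1) = orderOf d + 1 by omega, pow_succ, pow_orderOf_eq_one, one_mul]
      have h7 := h4.pow_left (k + 1)
      rw [h6] at h7
      exact h7.symm.eq
  have hF : Cfsg.generalizedFittingSubgroup H = Cfsg.fittingSubgroup H := by
    rw [Cfsg.generalizedFittingSubgroup, hE, bot_sup_eq]
  have hle : Cfsg.fittingSubgroup H ≤ Subgroup.centralizer ({(⟨d, hdH⟩ : H)} : Set H) := by
    rw [Components.fitting_eq_iSup_pCore]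
    exact iSup_le hcent
  have hdF : (⟨d, hdH⟩ : H) ∈ Cfsg.fittingSubgroup H := by
    rw [← hF]
    apply Components.centralizer_genFitting_le
    rw [hF]
    intro x hx
    exact Subgroup.mem_centralizer_singleton_iff.mp (hle hx)
  have hsn : (Subgroup.zpowers (⟨d, hdH⟩ : H)).IsSubnormal := by
    refine Subgroup.IsSubnormal.trans (Subgroup.zpowers_le.mpr hdF) ?_
      (Subgroup.Normal.isSubnormal inferInstance)
    exact H77.isSubnormal_of_isNilpotent inferInstance _
  have := Cores.le_pPrimeCore_of_isSubnormal (p := 2) hsn (by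
    rw [Nat.card_zpowers, ← Subgroup.orderOf_coe]
    exact Nat.coprime_two_right.mpr hod)
  exact ⟨_, this (Subgroup.mem_zpowers _), rfl⟩

/-- `z` makes each core abelian. -/
theorem coreAt_commute (hcomm : ∀ a ∈ Y, ∀ b ∈ Y, Commute a b)
    (hsq : ∀ a ∈ Y, a ^ 2 = 1) {z : X} (hzY : z ∈ Y)
    (hchar : Cfsg.generalizedFittingSubgroup ↥(Subgroup.centralizer ({z} : Set X)) =
      Cfsg.pCore 2 ↥(Subgroup.centralizer ({z} : Set X)))
    {a d e : X} (ha : a ∈ Y) (hd : d ∈ coreAt a) (he : e ∈ coreAt a) : Commute d e := by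
  have hinv := inverts_of_fpf (P := coreAt a) (hsq z hzY)
      (fun e he => coreAt_conj (Subgroup.mem_centralizer_singleton_iff.mpr (hcomm z hzY a ha).eq) he)
      (inf_centralizer_z_eq hcomm hsq hzY hchar ha (coreAt_le a) (fun x hx e he => coreAt_conj hx he)
        (coreAt_odd a))
  have h1 := hinv _ ((coreAt a).mul_mem hd he)
  have h2 : z * (d * e) * z⁻¹ = d⁻¹ * e⁻¹ := by
    calc z * (d * e) * z⁻¹ = (z * d * z⁻¹) * (z * e * z⁻¹) := by group
      _ = d⁻¹ * e⁻¹ := by rw [hinv d hd, hinv e he]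
  have h3 := h1.symm.trans h2
  have h4 := congrArg (·⁻¹) h3
  simpa [Commute, SemiconjBy] using h4

/-- The cores generate a subgroup of odd order normalized by `N(Y)`. -/
theorem cores_generate_odd (hcomm : ∀ a ∈ Y, ∀ b ∈ Y, Commute a b)
    (hsq : ∀ a ∈ Y, a ^ 2 = 1) (h8 : 8 ≤ Nat.card Y) {z : X} (hzY : z ∈ Y)
    (hchar : Cfsg.generalizedFittingSubgroup ↥(Subgroup.centralizer ({z} : Set X)) =
      Cfsg.pCore 2 ↥(Subgroup.centralizer ({z} : Set X)))
    (hE : ∀ x ∈ Y, x ≠ 1 → Cfsg.layer ↥(Subgroup.centralizer ({x} : Set X)) = ⊥) :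
    Odd (Nat.card ↥(⨆ y : {y : X // y ∈ Y ∧ y ≠ 1}, coreAt (y : X))) ∧
      Subgroup.normalizer (Y : Set X) ≤
        Subgroup.normalizer ((⨆ y : {y : X // y ∈ Y ∧ y ≠ 1}, coreAt (y : X) : Subgroup X) : Set X) := by
  classical
  set W := ⨆ y : {y : X // y ∈ Y ∧ y ≠ 1}, coreAt (y : X) with hW
  constructor
  · -- elements on which every member of `Y` acts as `±1`
    let Sg : Set X := {e | (∃ b ∈ Y, b ≠ 1 ∧ e ∈ coreAt b) ∧
      ∀ y ∈ Y, y * e * y⁻¹ = e ∨ y * e * y⁻¹ = e⁻¹}
    have hSc : ∀ e ∈ Sg, ∀ f ∈ Sg, Commute e f := by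
      rintro e ⟨⟨b, hb, -, heb⟩, he⟩ f ⟨⟨b', hb', -, hfb'⟩, hf⟩
      -- some nontrivial member of `Y` fixes both
      have hex : ∃ c ∈ Y, c ≠ 1 ∧ Commute c e ∧ Commute c f := by
        by_contra hno
        push Not at hno
        let sig : Y → Bool × Bool := fun y =>
          (decide ((y : X) * e * (y : X)⁻¹ = e), decide ((y : X) * f * (y : X)⁻¹ = f))
        have hinj : Function.Injective sig := by
          intro y₁ y₂ h
          simp only [sig, Prod.mk.injEq, decide_eq_decide] at h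
          by_contra hne
          set c := (y₁ : X) * (y₂ : X)⁻¹ with hc
          have hc1 : c ≠ 1 := fun h0 => hne (Subtype.ext (mul_inv_eq_one.mp h0))
          have key : ∀ g : X, (∀ y ∈ Y, y * g * y⁻¹ = g ∨ y * g * y⁻¹ = g⁻¹) →
              ((y₁ : X) * g * (y₁ : X)⁻¹ = g ↔ (y₂ : X) * g * (y₂ : X)⁻¹ = g) → Commute c g := by
            intro g hg hiff
            apply mul_inv_eq_iff_eq_mul.mp
            have h12 : (y₁ : X) * g * (y₁ : X)⁻¹ = (y₂ : X) * g * (y₂ : X)⁻¹ := by
              by_cases h1 : (y₁ : X) * g * (y₁ : X)⁻¹ = g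
              · rw [h1, hiff.mp h1]
              · rw [(hg _ y₁.2).resolve_left h1,
                  (hg _ y₂.2).resolve_left (fun h2 => h1 (hiff.mpr h2))]
            have hy2 : (y₂ : X)⁻¹ = y₂ := by
              have := hsq _ y₂.2
              rw [pow_two] at this
              exact inv_eq_of_mul_eq_one_right this
            calc c * g * c⁻¹ = (y₁ : X) * ((y₂ : X)⁻¹ * g * (y₂ : X)⁻¹⁻¹) * (y₁ : X)⁻¹ := by
                  rw [hc]; group
              _ = (y₁ : X) * ((y₂ : X) * g * (y₂ : X)⁻¹) * (y₁ : X)⁻¹ := by simp only [hy2]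
              _ = (y₁ : X) * ((y₁ : X) * g * (y₁ : X)⁻¹) * (y₁ : X)⁻¹ := by rw [h12]
              _ = ((y₁ : X) * (y₁ : X)) * g * ((y₁ : X) * (y₁ : X))⁻¹ := by group
              _ = g := by rw [← pow_two, hsq _ y₁.2]; group
          exact hno c (Y.mul_mem y₁.2 (Y.inv_mem y₂.2)) hc1 (key e he h.1) (key f hf h.2)
        have := Nat.card_le_card_of_injective sig hinj
        simp only [Nat.card_eq_fintype_card, Fintype.card_prod, Fintype.card_bool] at this
        omega
      obtain ⟨c, hc, hc1, hce, hcf⟩ := hex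
      exact coreAt_commute hcomm hsq hzY hchar hc
        (coreAt_balance hcomm hsq hzY hchar hb hc (hE c hc hc1) heb hce.symm)
        (coreAt_balance hcomm hsq hzY hchar hb' hc (hE c hc hc1) hfb' hcf.symm)
    have hWle : W ≤ Subgroup.closure Sg := by
      refine iSup_le fun b => ?_
      obtain ⟨b, hbY, hb1⟩ := b
      have : Fintype Y := Fintype.ofFinite _
      suffices key : ∀ s : Finset Y, coreAt b ≤
          Subgroup.closure {e | e ∈ coreAt b ∧ ∀ y ∈ s, (y : X) * e * (y : X)⁻¹ = e ∨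
            (y : X) * e * (y : X)⁻¹ = e⁻¹} by
        refine (key Finset.univ).trans (Subgroup.closure_mono ?_)
        rintro e ⟨he, hs⟩
        exact ⟨⟨b, hbY, hb1, he⟩, fun y hy => hs ⟨y, hy⟩ (Finset.mem_univ _)⟩
      intro s
      induction s using Finset.induction_on with
      | empty => exact fun e he => Subgroup.subset_closure ⟨he, by simp⟩
      | insert y s _ ih =>
        refine ih.trans ((Subgroup.closure_le _).mpr ?_)
        rintro e ⟨he, hes⟩
        obtain ⟨e', he'⟩ : ∃ e', e' = (y : X) * e * (y : X)⁻¹ := ⟨_, rfl⟩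
        have hyC : (y : X) ∈ Subgroup.centralizer ({b} : Set X) :=
          Subgroup.mem_centralizer_singleton_iff.mpr (hcomm _ y.2 _ hbY).eq
        have he'b : e' ∈ coreAt b := he' ▸ coreAt_conj hyC he
        have hab : ∀ {u v : X}, u ∈ coreAt b → v ∈ coreAt b → Commute u v :=
          fun hu hv => coreAt_commute hcomm hsq hzY hchar hbY hu hv
        have hyy : (y : X) * (y : X) = 1 := by rw [← pow_two]; exact hsq _ y.2
        have hconje' : (y : X) * e' * (y : X)⁻¹ = e := by
          calc (y : X) * e' * (y : X)⁻¹ = ((y : X) * y) * e * ((y : X) * y)⁻¹ := by rw [he']; group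
            _ = e := by rw [hyy]; group
        have hgen : ∀ u ∈ ({e * e', e * e'⁻¹} : Set X), u ∈ Subgroup.closure
            {e | e ∈ coreAt b ∧ ∀ w ∈ insert y s, (w : X) * e * (w : X)⁻¹ = e ∨
              (w : X) * e * (w : X)⁻¹ = e⁻¹} := by
          intro u hu
          refine Subgroup.subset_closure ⟨?_, fun w hw => ?_⟩
          · rcases hu with rfl | rfl
            · exact Subgroup.mul_mem _ he he'b
            · exact Subgroup.mul_mem _ he (Subgroup.inv_mem _ he'b)
          rcases Finset.mem_insert.mp hw with rfl | hw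
          · rcases hu with rfl | rfl
            · left
              calc (w : X) * (e * e') * (w : X)⁻¹ = e' * ((w : X) * e' * (w : X)⁻¹) := by rw [he']; group
                _ = e * e' := by rw [hconje', (hab he'b he).eq]
            · right
              calc (w : X) * (e * e'⁻¹) * (w : X)⁻¹ = e' * ((w : X) * e' * (w : X)⁻¹)⁻¹ := by rw [he']; group
                _ = (e * e'⁻¹)⁻¹ := by rw [hconje']; group
          · have hwy := hcomm _ w.2 _ y.2
            have hce' : (w : X) * e' * (w : X)⁻¹ = (y : X) * ((w : X) * e * (w : X)⁻¹) * (y : X)⁻¹ := by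
              calc (w : X) * e' * (w : X)⁻¹
                  = ((w : X) * y) * e * ((w : X) * y)⁻¹ := by rw [he']; group
                _ = ((y : X) * w) * e * ((y : X) * w)⁻¹ := by rw [hwy.eq]
                _ = _ := by group
            rcases hes w hw with h0 | h0
            · left
              have h1 : (w : X) * e' * (w : X)⁻¹ = e' := by rw [hce', h0, he']
              rcases hu with rfl | rfl
              · calc (w : X) * (e * e') * (w : X)⁻¹
                    = ((w : X) * e * (w : X)⁻¹) * ((w : X) * e' * (w : X)⁻¹) := by group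
                  _ = e * e' := by rw [h0, h1]
              · calc (w : X) * (e * e'⁻¹) * (w : X)⁻¹
                    = ((w : X) * e * (w : X)⁻¹) * ((w : X) * e' * (w : X)⁻¹)⁻¹ := by group
                  _ = e * e'⁻¹ := by rw [h0, h1]
            · right
              have h1 : (w : X) * e' * (w : X)⁻¹ = e'⁻¹ := by rw [hce', h0, he']; group
              rcases hu with rfl | rfl
              · calc (w : X) * (e * e') * (w : X)⁻¹
                    = ((w : X) * e * (w : X)⁻¹) * ((w : X) * e' * (w : X)⁻¹) := by group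
                  _ = (e * e')⁻¹ := by rw [h0, h1, mul_inv_rev, (hab (Subgroup.inv_mem _ he) (Subgroup.inv_mem _ he'b)).eq]
              · calc (w : X) * (e * e'⁻¹) * (w : X)⁻¹
                    = ((w : X) * e * (w : X)⁻¹) * ((w : X) * e' * (w : X)⁻¹)⁻¹ := by group
                  _ = (e * e'⁻¹)⁻¹ := by rw [h0, h1, mul_inv_rev, inv_inv, (hab (Subgroup.inv_mem _ he) he'b).eq]
        have he2 := Subgroup.mul_mem _ (hgen (e * e') (Or.inl rfl)) (hgen (e * e'⁻¹) (Or.inr rfl))
        have hsq' : (e * e') * (e * e'⁻¹) = e ^ 2 := by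
          calc (e * e') * (e * e'⁻¹) = e * (e' * e) * e'⁻¹ := by group
            _ = e * (e * e') * e'⁻¹ := by rw [(hab he'b he).eq]
            _ = e ^ 2 := by rw [pow_two]; group
        rw [hsq'] at he2
        obtain ⟨k, hk⟩ := (coreAt_odd b).of_dvd_nat (Subgroup.orderOf_dvd_natCard _ he)
        have := Subgroup.pow_mem _ he2 (k + 1)
        rwa [← pow_mul, show 2 * (k + 1) = orderOf e + 1 by omega, pow_succ, pow_orderOf_eq_one,
          one_mul] at this
    have hodd : ∀ x ∈ Subgroup.closure Sg, Odd (orderOf x) := by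
      have hcl : ∀ x ∈ Subgroup.closure Sg, ∀ y ∈ Subgroup.closure Sg, Commute x y :=
        fun x hx y hy => Subgroup.closure_induction₂ (p := fun x y _ _ => Commute x y)
          (fun x y hx hy => hSc x hx y hy)
          (fun x _ => Commute.one_left x) (fun x _ => Commute.one_right x)
          (fun x y z _ _ _ h1 h2 => h1.mul_left h2) (fun y z x _ _ _ h1 h2 => h1.mul_right h2)
          (fun x y _ _ h => h.inv_left) (fun x y _ _ h => h.inv_right) hx hy
      intro x hx
      induction hx using Subgroup.closure_induction with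
      | mem x hx =>
        obtain ⟨⟨b, -, -, hxb⟩, -⟩ := hx
        exact (coreAt_odd b).of_dvd_nat (Subgroup.orderOf_dvd_natCard _ hxb)
      | one => simp
      | mul x y hx hy h1 h2 =>
        exact (h1.mul h2).of_dvd_nat (hcl x hx y hy).orderOf_mul_dvd_mul_orderOf
      | inv x hx h => rwa [orderOf_inv]
    rw [Nat.odd_iff, ← Nat.two_dvd_ne_zero]
    intro h2
    obtain ⟨w, hw⟩ := @exists_prime_orderOf_dvd_card' _ _ _ 2 ⟨Nat.prime_two⟩ h2
    have := hodd (w : X) (hWle w.2)
    rw [Subgroup.orderOf_coe, hw] at this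
    exact absurd this (by decide)
  · intro g hg
    refine mem_normalizer_of_conj_mem fun x hx => ?_
    have hmap : W.map (MulAut.conj g).toMonoidHom ≤ W := by
      rw [hW, Subgroup.map_iSup]
      refine iSup_le fun b => ?_
      obtain ⟨b, hbY, hb1⟩ := b
      have hb' : g * b * g⁻¹ ∈ Y ∧ g * b * g⁻¹ ≠ 1 :=
        ⟨(Subgroup.mem_normalizer_iff.mp hg b).mp hbY, fun h => hb1 (by simpa [mul_assoc] using congrArg (fun t => g⁻¹ * t * g) h)⟩
      refine le_trans ?_ (le_iSup (fun y : {y : X // y ∈ Y ∧ y ≠ 1} => coreAt (y : X)) ⟨_, hb'⟩)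
      refine le_coreAt ?_ ?_ ?_
      · rintro _ ⟨e, he, rfl⟩
        rw [Subgroup.mem_centralizer_singleton_iff]
        have h := Subgroup.mem_centralizer_singleton_iff.mp (coreAt_le b he)
        simp only [MulEquiv.toMonoidHom_eq_coe, MonoidHom.coe_coe, MulAut.conj_apply]
        calc g * e * g⁻¹ * (g * b * g⁻¹) = g * (e * b) * g⁻¹ := by group
          _ = g * (b * e) * g⁻¹ := by rw [h]
          _ = _ := by group
      · rintro w hw _ ⟨e, he, rfl⟩
        have hw' : g⁻¹ * w * g ∈ Subgroup.centralizer ({b} : Set X) := by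
          rw [Subgroup.mem_centralizer_singleton_iff] at hw ⊢
          calc g⁻¹ * w * g * b = g⁻¹ * (w * (g * b * g⁻¹)) * g := by group
            _ = g⁻¹ * ((g * b * g⁻¹) * w) * g := by rw [hw]
            _ = b * (g⁻¹ * w * g) := by group
        refine ⟨_, coreAt_conj hw' he, ?_⟩
        simp [mul_assoc]
      · rw [Subgroup.card_map_of_injective (MulAut.conj g).injective]
        exact coreAt_odd b
    exact hmap ⟨x, hx, rfl⟩

end Cfsg.Agent.H61
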