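import Mathlib
import Cfsg.Agent.H76.ClassProportion
import Cfsg.Agent.H75.Cover

/-!
Class sizes of a finite nonsolvable group: two primes dividing class sizes are at distance at most two.

Call a prime `p` good when `N(P) ≤ C(P)` for its Sylow subgroups. Two bad primes, or a bad prime and
any other, are adjacent unless averaging fails; a good prime is adjacent to a prime of the perfect
residual, which is bad; two good primes are joined through the indices of `C(u)`, `u` in `P` or `Q`.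
-/

set_option autoImplicit false
set_option linter.style.haveILetI false

namespace Cfsg.Agent.H61.ClassDiam

open Subgroup

universe u

variable {G : Type u} [Group G] [Finite G]

/-- The size of the class of `x`. -/
noncomputable def cl (x : G) : ℕ := (centralizer ({x} : Set G)).index

theorem cl_dvd {u x : G} (h : centralizer ({x} : Set G) ≤ centralizer ({u} : Set G)) : cl u ∣ cl x :=
  index_dvd_of_le h

theorem cl_conj (g x : G) : cl (g * x * g⁻¹) = cl x := by
  have h : centralizer ({g * x * g⁻¹} : Set G) =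
      (centralizer ({x} : Set G)).map (MulAut.conj g).toMonoidHom := by
    ext y
    rw [mem_centralizer_singleton_iff, mem_map]
    constructor
    · intro hy
      refine ⟨g⁻¹ * y * g, mem_centralizer_singleton_iff.2 ?_, by simp [mul_assoc]⟩
      calc g⁻¹ * y * g * x = g⁻¹ * (y * (g * x * g⁻¹)) * g := by group
        _ = x * (g⁻¹ * y * g) := by rw [hy]; group
    · rintro ⟨w, hw, rfl⟩
      show g * w * g⁻¹ * (g * x * g⁻¹) = g * x * g⁻¹ * (g * w * g⁻¹)
      calc g * w * g⁻¹ * (g * x * g⁻¹) = g * (w * x) * g⁻¹ := by group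
        _ = _ := by rw [mem_centralizer_singleton_iff.1 hw]; group
  rw [cl, cl, h, index_map_of_bijective (f := (MulAut.conj g).toMonoidHom) (MulAut.conj g).bijective]

theorem not_dvd_of_sylow_le {p : ℕ} [Fact p.Prime] (P : Sylow p G) {H : Subgroup G}
    (h : (P : Subgroup G) ≤ H) : ¬ p ∣ H.index := fun hd =>
  P.not_dvd_index (hd.trans (index_dvd_of_le h))

theorem exists_sylow_le {p : ℕ} [Fact p.Prime] {H : Subgroup G} (hd : ¬ p ∣ H.index) :
    ∃ Q : Sylow p G, (Q : Subgroup G) ≤ H := by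
  obtain ⟨S⟩ : Nonempty (Sylow p H) := inferInstance
  obtain ⟨Q, hQ⟩ := (S.2.map H.subtype).exists_le_sylow
  refine ⟨Q, ?_⟩
  have h1 : (S : Subgroup H).map H.subtype = (Q : Subgroup G) := by
    refine eq_of_le_of_card_ge hQ ?_
    rw [card_map_of_injective H.subtype_injective, Sylow.card_eq_multiplicity, Sylow.card_eq_multiplicity,
      ← H.card_mul_index, Nat.factorization_mul Nat.card_pos.ne' index_ne_zero_of_finite]
    simp [Nat.factorization_eq_zero_of_not_dvd hd]
  rw [← h1]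
  exact map_subtype_le _

theorem exists_sylow_of_not_dvd {p : ℕ} [Fact p.Prime] {x : G} (h : ¬ p ∣ cl x) :
    ∃ Q : Sylow p G, (Q : Subgroup G) ≤ centralizer ({x} : Set G) := exists_sylow_le h

theorem exists_eq_conj {p : ℕ} [Fact p.Prime] (P Q : Sylow p G) :
    ∃ g : G, ∀ w, w ∈ (P : Subgroup G) ↔ g * w * g⁻¹ ∈ (Q : Subgroup G) := by
  obtain ⟨g, hg⟩ := MulAction.exists_smul_eq G P Q
  refine ⟨g, fun w => ⟨fun hw => ?_, fun hw => ?_⟩⟩
  · rw [← hg]; exact ⟨w, hw, rfl⟩
  · rw [← hg] at hw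
    obtain ⟨v, hv, hvw⟩ := hw
    exact (mul_left_cancel (mul_right_cancel (show g * v * g⁻¹ = g * w * g⁻¹ from hvw))) ▸ hv

/-- After conjugating, an element of class size prime to `p` centralizes a given Sylow subgroup. -/
theorem exists_conj_mem_centralizer {p : ℕ} [Fact p.Prime] (P : Sylow p G) {x : G} (h : ¬ p ∣ cl x) :
    ∃ g : G, g * x * g⁻¹ ∈ centralizer ((P : Subgroup G) : Set G) := by
  obtain ⟨Q, hQ⟩ := exists_sylow_of_not_dvd h
  obtain ⟨g, hg⟩ := exists_eq_conj Q P
  refine ⟨g, mem_centralizer_iff.2 fun w hw => ?_⟩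
  have h1 : g⁻¹ * w * g ∈ (Q : Subgroup G) := (hg _).2 (by rw [show g * (g⁻¹ * w * g) * g⁻¹ = w by group]; exact hw)
  have h2 := mem_centralizer_singleton_iff.1 (hQ h1)
  calc w * (g * x * g⁻¹) = g * (g⁻¹ * w * g * x) * g⁻¹ := by group
    _ = g * x * g⁻¹ * w := by rw [h2]; group

theorem not_dvd_of_mem_centralizer {p : ℕ} [Fact p.Prime] (P : Sylow p G) {x : G}
    (h : x ∈ centralizer ((P : Subgroup G) : Set G)) : ¬ p ∣ cl x :=
  not_dvd_of_sylow_le P fun w hw => mem_centralizer_singleton_iff.2 (mem_centralizer_iff.1 h w hw)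

/-- `A B = G` when `|B : A ∩ B| ≥ |G : A|`. -/
theorem exists_inv_mul_mem {A B : Subgroup G} (h : A.index ≤ A.relIndex B) (g : G) :
    ∃ b ∈ B, b⁻¹ * g ∈ A := by
  let f : B ⧸ A.subgroupOf B → G ⧸ A := Quotient.map' (fun b : B => (b : G)) fun a b hab => by
    rw [QuotientGroup.leftRel_apply] at hab ⊢
    simpa [mem_subgroupOf] using hab
  have hinj : Function.Injective f := by
    intro a b
    refine Quotient.inductionOn₂' a b fun a b hab => Quotient.sound' ?_
    rw [QuotientGroup.leftRel_apply, mem_subgroupOf]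
    have := Quotient.exact' hab
    rw [QuotientGroup.leftRel_apply] at this
    simpa using this
  have hcard : Nat.card (B ⧸ A.subgroupOf B) = Nat.card (G ⧸ A) :=
    le_antisymm (Nat.card_le_card_of_injective f hinj) h
  obtain ⟨c, hc⟩ := ((Nat.bijective_iff_injective_and_card f).2 ⟨hinj, hcard⟩).2 (g : G ⧸ A)
  induction c using Quotient.inductionOn' with
  | h b => exact ⟨b, b.2, QuotientGroup.eq.1 hc⟩

/-- Averaging: a prime with `N(P) ≰ C(P)` misses at most half of the elements. -/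
theorem two_mul_le {p : ℕ} [Fact p.Prime] (P : Sylow p G)
    (hne : ¬ normalizer ((P : Subgroup G) : Set G) ≤ centralizer ((P : Subgroup G) : Set G)) :
    2 * Nat.card {x : G | ¬ p ∣ cl x} ≤ Nat.card G := by
  classical
  set N := normalizer ((P : Subgroup G) : Set G) with hN
  set C := centralizer ((P : Subgroup G) : Set G) with hC
  have hCN : C ≤ N := centralizer_le_normalizer _
  have hrel : 2 * Nat.card C ≤ Nat.card N := by
    obtain ⟨k, hk⟩ := card_dvd_of_le hCN
    have h2k : 2 ≤ k := by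
      by_contra hcon
      refine hne (eq_of_le_of_card_ge hCN ?_).ge
      interval_cases k <;> simp_all
    rw [hk, mul_comm 2]
    exact Nat.mul_le_mul_left _ h2k
  let F : (G ⧸ N) × C → G := fun qc => qc.1.out * (qc.2 : G) * qc.1.out⁻¹
  have hsub : {x : G | ¬ p ∣ cl x} ⊆ Set.range F := by
    intro x hx
    obtain ⟨g, hg⟩ := exists_conj_mem_centralizer P hx
    set o := (QuotientGroup.mk g⁻¹ : G ⧸ N).out with ho
    have hn : g * o ∈ N := by
      have := QuotientGroup.eq.1 (QuotientGroup.out_eq' (QuotientGroup.mk g⁻¹ : G ⧸ N)).symm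
      simpa using this
    have hox : o⁻¹ * x * o ∈ C := by
      rw [hC, mem_centralizer_iff]
      intro w hw
      have h1 := (mem_normalizer_iff.1 hn w).1 hw
      have h2 := mem_centralizer_iff.1 hg _ h1
      calc w * (o⁻¹ * x * o) = (g * o)⁻¹ * ((g * o * w * (g * o)⁻¹) * (g * x * g⁻¹)) * (g * o) := by group
        _ = o⁻¹ * x * o * w := by rw [h2]; group
    exact ⟨⟨QuotientGroup.mk g⁻¹, ⟨_, hox⟩⟩, by simp only [F, ← ho]; group⟩
  calc 2 * Nat.card {x : G | ¬ p ∣ cl x}
      ≤ 2 * Nat.card (Set.range F) := Nat.mul_le_mul_left 2 (Nat.card_mono (Set.toFinite _) hsub)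
    _ ≤ 2 * Nat.card ((G ⧸ N) × C) := Nat.mul_le_mul_left 2 (Finite.card_range_le F)
    _ = N.index * (2 * Nat.card C) := by rw [Nat.card_prod, Subgroup.index]; ring
    _ ≤ N.index * Nat.card N := Nat.mul_le_mul_left _ hrel
    _ = Nat.card G := by rw [mul_comm]; exact N.card_mul_index

theorem dvd_or_dvd {p q : ℕ} (hp : p.Prime) (hq : q.Prime) (hpq : p ≠ q)
    (hn : ∀ x : G, ¬ p * q ∣ cl x) (x : G) : ¬ p ∣ cl x ∨ ¬ q ∣ cl x := by
  by_contra h
  push Not at h
  exact hn x (Nat.Coprime.mul_dvd_of_dvd_of_dvd ((Nat.coprime_primes hp hq).2 hpq) h.1 h.2)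

theorem average {p q : ℕ} [hp : Fact p.Prime] [hq : Fact q.Prime] (hpq : p ≠ q) (P : Sylow p G)
    (Q : Sylow q G) (hn : ∀ x : G, ¬ p * q ∣ cl x)
    (hP : ¬ normalizer ((P : Subgroup G) : Set G) ≤ centralizer ((P : Subgroup G) : Set G)) :
    normalizer ((Q : Subgroup G) : Set G) ≤ centralizer ((Q : Subgroup G) : Set G) := by
  by_contra hQ
  have h1 := two_mul_le P hP
  have h2 := two_mul_le Q hQ
  rw [Nat.card_coe_set_eq] at h1 h2
  have hun : ({x : G | ¬ p ∣ cl x} ∪ {x : G | ¬ q ∣ cl x}) = Set.univ :=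
    Set.eq_univ_iff_forall.2 fun x => dvd_or_dvd hp.out hq.out hpq hn x
  have h3 := Set.ncard_union_add_ncard_inter {x : G | ¬ p ∣ cl x} {x : G | ¬ q ∣ cl x}
  rw [hun, Set.ncard_univ] at h3
  have h4 : 0 < ({x : G | ¬ p ∣ cl x} ∩ {x : G | ¬ q ∣ cl x}).ncard := by
    refine (Set.ncard_pos (Set.toFinite _)).2 ⟨1, ?_, ?_⟩
    · exact not_dvd_of_mem_centralizer P (one_mem _)
    · exact not_dvd_of_mem_centralizer Q (one_mem _)
  omega

/-- For a good prime there is a normal complement with commutative quotient. -/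
theorem exists_complement {q : ℕ} [hq : Fact q.Prime] (Q : Sylow q G)
    (hQ : normalizer ((Q : Subgroup G) : Set G) ≤ centralizer ((Q : Subgroup G) : Set G)) :
    ∃ L : Subgroup G, L.Normal ∧ commutator G ≤ L ∧ L.index = Nat.card Q ∧ ¬ q ∣ Nat.card L := by
  have hc := MonoidHom.ker_transferSylow_isComplement' Q hQ
  refine ⟨(MonoidHom.transferSylow Q hQ).ker, inferInstance, ?_,
    Subgroup.IsComplement'.index_eq_card hc.symm, ?_⟩
  · rw [_root_.commutator_def, Subgroup.commutator_le]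
    intro a _ b _
    rw [MonoidHom.mem_ker, map_commutatorElement, commutatorElement_eq_one_iff_mul_comm]
    exact Subtype.ext (mem_centralizer_iff.1 (hQ (le_normalizer (MonoidHom.transferSylow Q hQ b).2)) _
      (MonoidHom.transferSylow Q hQ a).2)
  · intro hd
    have h1 := Subgroup.IsComplement'.card_mul_card hc
    have h2 : ¬ q ∣ (Q : Subgroup G).index := Q.not_dvd_index
    have h3 : Nat.card (MonoidHom.transferSylow Q hQ).ker = (Q : Subgroup G).index := by
      rw [← (Q : Subgroup G).card_mul_index, mul_comm (Nat.card (Q : Subgroup G))] at h1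
      exact Nat.eq_of_mul_eq_mul_right Nat.card_pos h1
    exact h2 (h3 ▸ hd)

/-- Frattini: for good `p`, `q` and `P ≤ H`, `q` does not divide `|H : C_H(P)|`. -/
theorem not_dvd_relIndex {p q : ℕ} [hp : Fact p.Prime] [hq : Fact q.Prime] (hpq : p ≠ q) (P : Sylow p G)
    (Q : Sylow q G) (hP : normalizer ((P : Subgroup G) : Set G) ≤ centralizer ((P : Subgroup G) : Set G))
    (hQ : normalizer ((Q : Subgroup G) : Set G) ≤ centralizer ((Q : Subgroup G) : Set G))
    {H : Subgroup G} (hPH : (P : Subgroup G) ≤ H) :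
    ¬ q ∣ (centralizer ((P : Subgroup G) : Set G)).relIndex H := by
  obtain ⟨L, hLn, -, hLi, hLc⟩ := exists_complement Q hQ
  have hPL : (P : Subgroup G) ≤ L := by
    intro x hx
    obtain ⟨k, hk⟩ := P.isPGroup'.exists_orderOf_eq_pow ⟨x, hx⟩
    obtain ⟨m, hm⟩ := IsPGroup.iff_card.1 Q.isPGroup'
    rw [← QuotientGroup.eq_one_iff x, ← orderOf_eq_one_iff]
    refine Nat.eq_one_of_dvd_coprimes ((Nat.coprime_primes hp.out hq.out).2 hpq |>.pow k m) ?_ ?_
    · rw [← hk, ← Subgroup.orderOf_coe]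
      exact orderOf_map_dvd (QuotientGroup.mk' L) x
    · rw [← hm, ← hLi, Subgroup.index]
      exact orderOf_dvd_natCard _
  have hN : normalizer ((P : Subgroup G) : Set G) = centralizer ((P : Subgroup G) : Set G) :=
    le_antisymm hP (centralizer_le_normalizer _)
  set C := centralizer ((P : Subgroup G) : Set G) with hC
  set N0 := L.subgroupOf H with hN0
  haveI : N0.Normal := hLn.comap _
  have hS : (normalizer (((P.subtype hPH : Sylow p H) : Subgroup H) : Set H)) ⊔ N0 = ⊤ :=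
    Sylow.normalizer_sup_eq_top' (P.subtype hPH) fun x hx => hPL hx
  have hle : normalizer (((P.subtype hPH : Sylow p H) : Subgroup H) : Set H) ≤ C.subgroupOf H := by
    intro y hy
    rw [mem_subgroupOf, ← hN, mem_normalizer_iff]
    intro w
    constructor
    · intro hw
      exact (mem_normalizer_iff.1 hy ⟨w, hPH hw⟩).1 hw
    · intro hw
      have hwH : w ∈ H := by
        simpa [mul_assoc] using H.mul_mem (H.mul_mem (H.inv_mem y.2) (hPH hw)) y.2
      exact (mem_normalizer_iff.1 hy ⟨w, hwH⟩).2 hw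
  have htop : C.subgroupOf H ⊔ N0 = ⊤ := top_le_iff.1 (hS ▸ sup_le_sup_right hle _)
  intro hd
  have h1 : (C.subgroupOf H).index ∣ Nat.card N0 := by
    rw [← relIndex_top_right, ← htop]
    have h2 : (C.subgroupOf H).relIndex (C.subgroupOf H ⊔ N0) * Nat.card ↥(C.subgroupOf H) =
        Nat.card N0 * (N0.relIndex (C.subgroupOf H ⊔ N0)) := by
      rw [← relIndex_bot_left N0, relIndex_mul_relIndex ⊥ N0 _ bot_le le_sup_right,
        mul_comm, ← relIndex_bot_left (C.subgroupOf H),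
        relIndex_mul_relIndex ⊥ _ _ bot_le le_sup_left]
    rw [relIndex_sup_right] at h2
    obtain ⟨k, hk⟩ : N0.relIndex (C.subgroupOf H) ∣ Nat.card ↥(C.subgroupOf H) :=
      relIndex_dvd_card _ _
    rw [hk] at h2
    have hpos : 0 < N0.relIndex (C.subgroupOf H) :=
      Nat.pos_of_ne_zero (Subgroup.index_ne_zero_of_finite (H := N0.subgroupOf (C.subgroupOf H)))
    refine Dvd.intro k (Nat.eq_of_mul_eq_mul_right hpos ?_)
    rw [← h2]; ring
  refine hLc (hd.trans (h1.trans ?_))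
  rw [hN0]
  exact card_comap_dvd_of_injective L H.subtype H.subtype_injective

theorem exists_adj_residual {p : ℕ} [hp : Fact p.Prime] (hv : ∃ x : G, p ∣ cl x) {W : Subgroup G}
    [W.Normal] (hW : ¬ IsMulCommutative W) :
    ∃ t : ℕ, t.Prime ∧ t ∣ Nat.card W ∧ (t = p ∨ ∃ x : G, p * t ∣ cl x) := by
  by_contra hcon
  push Not at hcon
  obtain ⟨P⟩ : Nonempty (Sylow p G) := inferInstance
  set C := centralizer (W : Set G) with hC
  set D := centralizer ((P : Subgroup G) : Set G) with hD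
  have hy : ∀ y : G, y ∉ C → ¬ p ∣ cl y := by
    intro y hy hpy
    apply hy
    have hWy : W ≤ centralizer ({y} : Set G) := by
      set K := centralizer ({y} : Set G) with hK
      rw [← relIndex_eq_one]
      by_contra hne
      obtain ⟨t, ht, htd⟩ := Nat.exists_prime_and_dvd hne
      obtain ⟨htp, hadj⟩ := hcon t ht (htd.trans (relIndex_dvd_card _ _))
      refine hadj y (Nat.Coprime.mul_dvd_of_dvd_of_dvd
        ((Nat.coprime_primes hp.out ht).2 (Ne.symm htp)) hpy (htd.trans ?_))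
      show K.relIndex W ∣ K.index
      refine Dvd.intro ((K ⊔ W).index) ?_
      have e1 : Nat.card ↥(K ⊓ W) * K.relIndex W = Nat.card W := by
        rw [← inf_relIndex_right, ← relIndex_bot_left, relIndex_mul_relIndex ⊥ _ W bot_le inf_le_right,
          relIndex_bot_left]
      have e2 : Nat.card ↥(K ⊓ W) * W.relIndex K = Nat.card K := by
        rw [inf_comm, ← inf_relIndex_right, ← relIndex_bot_left,
          relIndex_mul_relIndex ⊥ _ K bot_le inf_le_right, relIndex_bot_left]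
      have e3 : Nat.card W * W.relIndex K = Nat.card ↥(K ⊔ W) := by
        rw [← relIndex_sup_right (H := K) (K := W), ← relIndex_bot_left W,
          relIndex_mul_relIndex ⊥ W _ bot_le le_sup_right, relIndex_bot_left]
      have e4 := K.card_mul_index
      rw [← (K ⊔ W).card_mul_index, ← e3, ← e1, ← e2] at e4
      refine Nat.eq_of_mul_eq_mul_left (show 0 < Nat.card ↥(K ⊓ W) * W.relIndex K by
        rw [e2]; exact Nat.card_pos) ?_
      rw [e4]; ring
    exact mem_centralizer_iff.2 fun w hw => mem_centralizer_singleton_iff.1 (hWy hw)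
  have hkey : D.index ≤ D.relIndex C := by
    classical
    let F : (G ⧸ D) × {d : D // (d : G) ∉ C} → G := fun qd => qd.1.out * (qd.2 : G) * qd.1.out⁻¹
    have hsub : {x : G | x ∉ C} ⊆ Set.range F := by
      intro x hx
      obtain ⟨g, hg⟩ := exists_conj_mem_centralizer P (hy x hx)
      set o := (QuotientGroup.mk g⁻¹ : G ⧸ D).out with ho
      have hn : g * o ∈ D := by
        have := QuotientGroup.eq.1 (QuotientGroup.out_eq' (QuotientGroup.mk g⁻¹ : G ⧸ D)).symm
        simpa using this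
      have hox : o⁻¹ * x * o ∈ D := by
        have := D.mul_mem (D.mul_mem (D.inv_mem hn) hg) hn
        simpa [mul_assoc] using this
      have hoC : o⁻¹ * x * o ∉ C := fun h => hx (by
        simpa [mul_assoc] using (inferInstance : C.Normal).conj_mem _ h o)
      exact ⟨⟨QuotientGroup.mk g⁻¹, ⟨⟨_, hox⟩, hoC⟩⟩, by simp only [F, ← ho]; group⟩
    have h1 : Nat.card {x : G | x ∉ C} ≤ D.index * Nat.card {d : D // (d : G) ∉ C} := by
      refine (Nat.card_mono (Set.toFinite _) hsub).trans ((Finite.card_range_le F).trans ?_)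
      rw [Nat.card_prod, Subgroup.index]
    have h2 : Nat.card {d : D // (d : G) ∉ C} + Nat.card ↥(C.subgroupOf D) = Nat.card D := by
      haveI := Fintype.ofFinite D
      rw [show Nat.card ↥(C.subgroupOf D) = Nat.card {d : D // (d : G) ∈ C} from rfl,
        Nat.card_eq_fintype_card, Nat.card_eq_fintype_card, Nat.card_eq_fintype_card,
        Fintype.card_subtype_compl]
      exact Nat.sub_add_cancel (Fintype.card_subtype_le _)
    have h3 : Nat.card {x : G | x ∉ C} + Nat.card C = Nat.card G := by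
      haveI := Fintype.ofFinite G
      rw [show Nat.card C = Nat.card {x : G // x ∈ C} from rfl,
        Nat.card_eq_fintype_card, Nat.card_eq_fintype_card, Nat.card_eq_fintype_card]
      simp only [Set.coe_ofPred, Fintype.card_subtype_compl]
      exact Nat.sub_add_cancel (Fintype.card_subtype_le _)
    have h4 : D.index * Nat.card ↥(C.subgroupOf D) ≤ Nat.card C := by
      have e := D.card_mul_index
      rw [← h2, ← h3, add_mul, mul_comm _ D.index, mul_comm _ D.index] at e
      omega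
    have h5 : Nat.card ↥(C.subgroupOf D) * D.relIndex C = Nat.card C := by
      have e0 : (D ⊓ C).subgroupOf D = C.subgroupOf D := by
        ext z; simp [mem_subgroupOf]
      rw [← e0, Nat.card_congr (subgroupOfEquivOfLe inf_le_left).toEquiv, ← inf_relIndex_right,
        ← relIndex_bot_left, relIndex_mul_relIndex ⊥ _ C bot_le inf_le_right, relIndex_bot_left]
    rw [← h5, mul_comm] at h4
    exact Nat.le_of_mul_le_mul_left h4 Nat.card_pos
  obtain ⟨r, hrW, hrC⟩ : ∃ r ∈ W, r ∉ C := by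
    by_contra h
    push Not at h
    exact hW ⟨⟨fun a b => Subtype.ext (mem_centralizer_iff.1 (h b b.2) a a.2)⟩⟩
  have hWD : ∀ w ∈ W, w ∈ D := by
    have h1 : ∀ w ∈ W, w ∉ C → w ∈ D := by
      intro w hw hwC
      obtain ⟨g, hg⟩ := exists_conj_mem_centralizer P (hy w hwC)
      obtain ⟨c, hc, hcg⟩ := exists_inv_mul_mem hkey g⁻¹
      -- `g⁻¹ = c d`
      have hd := D.mul_mem (D.mul_mem hcg hg) (D.inv_mem hcg)
      rw [show c⁻¹ * g⁻¹ * (g * w * g⁻¹) * (c⁻¹ * g⁻¹)⁻¹ = c⁻¹ * (w * c) by group,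
        mem_centralizer_iff.1 hc w hw, inv_mul_cancel_left] at hd
      exact hd
    intro w hw
    by_cases hwC : w ∈ C
    · have hrw : r * w ∉ C := fun h => hrC (by simpa using C.mul_mem h (C.inv_mem hwC))
      simpa using D.mul_mem (D.inv_mem (h1 r hrW hrC)) (h1 _ (W.mul_mem hrW hw) hrw)
    · exact h1 w hw hwC
  obtain ⟨x, hx⟩ := hv
  by_cases hxC : x ∈ C
  · have hrx : r * x ∉ C := fun h => hrC (by simpa using C.mul_mem h (C.inv_mem hxC))
    obtain ⟨g, hg⟩ := exists_conj_mem_centralizer P (hy _ hrx)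
    have hr : g * r * g⁻¹ ∈ D := hWD _ ((inferInstance : W.Normal).conj_mem r hrW g)
    have := D.mul_mem (D.inv_mem hr) hg
    rw [show (g * r * g⁻¹)⁻¹ * (g * (r * x) * g⁻¹) = g * x * g⁻¹ by group] at this
    exact not_dvd_of_mem_centralizer P this (by rwa [cl_conj])
  · exact hy x hxC hx

theorem pow_recover {a b : G} (hab : a * b = b * a) (hco : (orderOf b).Coprime (orderOf a)) :
    centralizer ({a * b} : Set G) ≤ centralizer ({a} : Set G) := by
  obtain ⟨m, hm⟩ := exists_pow_eq_self_of_coprime hco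
  intro z hz
  have h1 : (a * b) ^ orderOf b = a ^ orderOf b := by
    rw [(show Commute a b from hab).mul_pow, pow_orderOf_eq_one, mul_one]
  have hc : Commute z (a * b) := mem_centralizer_singleton_iff.1 hz
  have h2 := (hc.pow_right (orderOf b)).pow_right m
  rw [h1, hm] at h2
  exact mem_centralizer_singleton_iff.2 h2.eq

theorem orderOf_split {q : ℕ} [hq : Fact q.Prime] (x : G) :
    ∃ a b : G, x = a * b ∧ a * b = b * a ∧ (∃ k, orderOf a = q ^ k) ∧ ¬ q ∣ orderOf b ∧
      a ∈ zpowers x ∧ b ∈ zpowers x := by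
  obtain ⟨k, m, hm, hx⟩ := Nat.exists_eq_pow_mul_and_not_dvd (orderOf_pos x).ne' q hq.out.ne_one
  have hco : (q ^ k).Coprime m := (Nat.Coprime.pow_left k ((Nat.Prime.coprime_iff_not_dvd hq.out).2 hm))
  obtain ⟨c, d, hcd⟩ : ∃ c d : ℤ, (c * (q ^ k : ℕ) + d * (m : ℕ) : ℤ) = 1 :=
    Int.isCoprime_iff_gcd_eq_one.2 (by rwa [Int.gcd_natCast_natCast]) 
  refine ⟨x ^ (d * (m : ℕ) : ℤ), x ^ (c * (q ^ k : ℕ) : ℤ), ?_, ((Commute.refl x).zpow_zpow _ _).eq,
    ?_, ?_, ⟨_, rfl⟩, ⟨_, rfl⟩⟩
  · rw [← zpow_add, add_comm, hcd, zpow_one]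
  · have h : (x ^ (d * (m : ℕ) : ℤ)) ^ (q ^ k) = 1 := by
      rw [← zpow_natCast, ← zpow_mul, show d * (m : ℕ) * ((q ^ k : ℕ) : ℤ) = ((orderOf x : ℕ) : ℤ) * d by
        rw [hx]; push_cast; ring, zpow_mul, zpow_natCast, pow_orderOf_eq_one, one_zpow]
    obtain ⟨j, -, hj⟩ := (Nat.dvd_prime_pow hq.out).1 (orderOf_dvd_of_pow_eq_one h)
    exact ⟨j, hj⟩
  · intro hd
    have h : (x ^ (c * (q ^ k : ℕ) : ℤ)) ^ m = 1 := by
      rw [← zpow_natCast, ← zpow_mul, show c * ((q ^ k : ℕ) : ℤ) * (m : ℤ) = ((orderOf x : ℕ) : ℤ) * c by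
        rw [hx]; push_cast; ring, zpow_mul, zpow_natCast, pow_orderOf_eq_one, one_zpow]
    exact hm (hd.trans (orderOf_dvd_of_pow_eq_one h))

/-- A good prime `q` with a class it divides: every prime of `|G : C(u)|`, `u ∈ P`, is adjacent to it. -/
theorem adj_of_good {p q : ℕ} [hp : Fact p.Prime] [hq : Fact q.Prime] (hpq : p ≠ q) (P : Sylow p G)
    (Q : Sylow q G) (hP : normalizer ((P : Subgroup G) : Set G) ≤ centralizer ((P : Subgroup G) : Set G))
    (hQ : normalizer ((Q : Subgroup G) : Set G) ≤ centralizer ((Q : Subgroup G) : Set G))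
    (hn : ∀ x : G, ¬ p * q ∣ cl x) (hv : ∃ x : G, q ∣ cl x) {u : G} (hu : u ∈ (P : Subgroup G))
    {r : ℕ} (hr : r.Prime) (hru : r ∣ cl u) : r ≠ p ∧ r ≠ q ∧ ∃ x : G, r * q ∣ cl x := by
  have hPC : (P : Subgroup G) ≤ centralizer ((P : Subgroup G) : Set G) := le_normalizer.trans hP
  have hCu : centralizer ((P : Subgroup G) : Set G) ≤ centralizer ({u} : Set G) :=
    centralizer_le (Set.singleton_subset_iff.2 hu)
  have hrp : r ≠ p := by
    rintro rfl
    exact not_dvd_of_sylow_le P (hPC.trans hCu) hru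
  have hrq : r ≠ q := by
    rintro rfl
    refine not_dvd_relIndex hpq P Q hP hQ (le_top (a := (P : Subgroup G))) ?_
    rw [relIndex_top_right]
    exact hru.trans (index_dvd_of_le hCu)
  refine ⟨hrp, hrq, ?_⟩
  obtain ⟨x0, hx0⟩ := hv
  obtain ⟨g, hg⟩ := exists_conj_mem_centralizer P
    ((dvd_or_dvd hp.out hq.out hpq hn x0).resolve_right (not_not_intro hx0))
  set x := g * x0 * g⁻¹ with hx
  have hxq : q ∣ cl x := by rw [hx, cl_conj]; exact hx0
  obtain ⟨a, b, hxab, hab, ⟨k, hak⟩, hb, ⟨i, hai⟩, ⟨j, hbj⟩⟩ := orderOf_split (q := p) x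
  have haC : a ∈ centralizer ((P : Subgroup G) : Set G) := hai ▸ zpow_mem hg i
  have hbC : b ∈ centralizer ((P : Subgroup G) : Set G) := hbj ▸ zpow_mem hg j
  have haP : a ∈ (P : Subgroup G) := by
    have h1 := IsPGroup.inf_normalizer_sylow (P := zpowers a)
      (IsPGroup.of_card (n := k) (by rw [Nat.card_zpowers, hak])) P
    exact (h1 ▸ (⟨mem_zpowers a, centralizer_le_normalizer _ haC⟩ :
      a ∈ zpowers a ⊓ normalizer ((P : Subgroup G) : Set G)) : a ∈ zpowers a ⊓ (P : Subgroup G)).2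
  have hPb : (P : Subgroup G) ≤ centralizer ({b} : Set G) := fun w hw =>
    mem_centralizer_singleton_iff.2 (mem_centralizer_iff.1 hbC w hw)
  have hqb : q ∣ cl b := by
    by_contra hqb
    have h2 : ¬ q ∣ (centralizer ({b} : Set G) ⊓ centralizer ((P : Subgroup G) : Set G)).index := by
      rw [← relIndex_mul_index (inf_le_left : centralizer ({b} : Set G) ⊓ _ ≤ centralizer ({b} : Set G)),
        inf_relIndex_left]
      exact fun h => (hq.out.dvd_mul.1 h).elim (not_dvd_relIndex hpq P Q hP hQ hPb) hqb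
    refine h2 (hxq.trans (index_dvd_of_le fun z hz => mem_centralizer_singleton_iff.2 ?_))
    rw [hxab]
    exact ((show Commute z a from (mem_centralizer_iff.1 hz.2 a haP).symm).mul_right
      (mem_centralizer_singleton_iff.1 hz.1)).eq
  have hub : u * b = b * u := mem_centralizer_iff.1 hbC u hu
  obtain ⟨e, he⟩ := P.isPGroup'.exists_orderOf_eq_pow ⟨u, hu⟩
  have hco : (orderOf b).Coprime (orderOf u) := by
    rw [← Subgroup.orderOf_mk u hu, he]
    exact Nat.Coprime.pow_right e ((Nat.Prime.coprime_iff_not_dvd hp.out).2 hb).symm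
  refine ⟨u * b, Nat.Coprime.mul_dvd_of_dvd_of_dvd ((Nat.coprime_primes hr hq.out).2 hrq)
    (hru.trans (cl_dvd (pow_recover hub hco))) (hqb.trans (cl_dvd ?_))⟩
  rw [hub]
  exact pow_recover hub.symm hco.symm

/-- An element of the normal closure of `P` with class size divisible by `p`. -/
theorem exists_dvd_mem_normalClosure {p : ℕ} [hp : Fact p.Prime] (P : Sylow p G)
    (hP : normalizer ((P : Subgroup G) : Set G) ≤ centralizer ((P : Subgroup G) : Set G))
    (hv : ∃ x : G, p ∣ cl x) :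
    ∃ a ∈ normalClosure ((P : Subgroup G) : Set G), p ∣ cl a := by
  by_contra hcon
  push Not at hcon
  set N := normalClosure ((P : Subgroup G) : Set G) with hN
  have hPN : (P : Subgroup G) ≤ N := le_normalClosure
  set C := centralizer ((P : Subgroup G) : Set G) with hC
  have hsylN : ∀ g : G, ∃ n ∈ N, ∀ w, w ∈ (P : Subgroup G) → n⁻¹ * (g * w * g⁻¹) * n ∈ (P : Subgroup G) := by
    intro g
    obtain ⟨n, hn, hne⟩ : ∃ n ∈ N, n⁻¹ * g ∈ normalizer ((P : Subgroup G) : Set G) := by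
      have h : normalizer ((P : Subgroup G) : Set G) ⊔ N = ⊤ := Sylow.normalizer_sup_eq_top' P hPN
      have hg : g ∈ normalizer ((P : Subgroup G) : Set G) ⊔ N := by rw [h]; exact mem_top g
      obtain ⟨m, hm, y, hy, hmy⟩ := Subgroup.mem_sup_of_normal_right.1 hg
      refine ⟨m * y * m⁻¹, (inferInstance : N.Normal).conj_mem y hy m, ?_⟩
      rw [← hmy]; simpa [mul_assoc] using hm
    refine ⟨n, hn, fun w hw => ?_⟩
    have := (mem_normalizer_iff.1 hne w).1 hw
    simpa [mul_assoc] using this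
  have htop : C.subgroupOf N = ⊤ := by
    refine Cfsg.Agent.H75.eq_top_of_conj_cover _ fun a => ?_
    obtain ⟨g, hg⟩ := exists_conj_mem_centralizer P (hcon a a.2)
    obtain ⟨n, hn, hnw⟩ := hsylN g⁻¹
    refine ⟨⟨n⁻¹, N.inv_mem hn⟩, ?_⟩
    rw [mem_subgroupOf]
    show n⁻¹ * a * n⁻¹⁻¹ ∈ C
    have hm : g * n ∈ normalizer ((P : Subgroup G) : Set G) := by
      refine inv_mem_iff.1 (mem_normalizer_iff.2 fun w => ?_)
      have hmap : ∀ w ∈ (P : Subgroup G), (g * n)⁻¹ * w * (g * n)⁻¹⁻¹ ∈ (P : Subgroup G) := fun w hw => by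
        simpa [mul_assoc] using hnw w hw
      refine ⟨hmap w, fun hw => ?_⟩
      obtain ⟨v, hv', hvw⟩ := Set.surj_on_of_inj_on_of_ncard_le
        (s := ((P : Subgroup G) : Set G)) (t := ((P : Subgroup G) : Set G))
        (fun w _ => (g * n)⁻¹ * w * (g * n)⁻¹⁻¹) (fun w hw => hmap w hw)
        (fun _ _ _ _ h => mul_left_cancel (mul_right_cancel h)) le_rfl (Set.toFinite _) _ hw
      exact (mul_left_cancel (mul_right_cancel hvw)) ▸ hv'
    have := C.mul_mem (C.mul_mem (C.inv_mem (hP hm)) hg) (hP hm)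
    simpa [mul_assoc] using this
  rw [subgroupOf_eq_top] at htop
  have hPn : (P : Subgroup G).Normal := ⟨fun w hw g => by
    obtain ⟨n, hn, hnw⟩ := hsylN g
    have h := hnw w hw
    have h2 := mem_centralizer_iff.1 (htop hn) _ h
    rw [show g * w * g⁻¹ = n * (n⁻¹ * (g * w * g⁻¹) * n) * n⁻¹ by group, ← h2, mul_inv_cancel_right]
    exact h⟩
  obtain ⟨x, hx⟩ := hv
  exact not_dvd_of_mem_centralizer P (hP (by
    rw [normalizer_eq_top_iff.2 hPn]; exact mem_top x)) hx

theorem good_good_bad {p q : ℕ} [hp : Fact p.Prime] [hq : Fact q.Prime] (hpq : p ≠ q) (P : Sylow p G)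
    (Q : Sylow q G) (hP : normalizer ((P : Subgroup G) : Set G) ≤ centralizer ((P : Subgroup G) : Set G))
    (hQ : normalizer ((Q : Subgroup G) : Set G) ≤ centralizer ((Q : Subgroup G) : Set G))
    (hn : ∀ x : G, ¬ p * q ∣ cl x) (hvp : ∃ x : G, p ∣ cl x) (hvq : ∃ x : G, q ∣ cl x) :
    ∃ r : ℕ, r.Prime ∧ r ≠ p ∧ r ≠ q ∧
      (∀ R : Sylow r G,
        ¬ normalizer ((R : Subgroup G) : Set G) ≤ centralizer ((R : Subgroup G) : Set G)) ∧
      (∃ x : G, p * r ∣ cl x) ∧ (∃ y : G, r * q ∣ cl y) := by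
  by_contra hcon
  push Not at hcon
  -- replace `Q` by a Sylow subgroup centralizing `P`
  obtain ⟨Q0, hQ0⟩ := exists_sylow_le (p := q) (H := centralizer ((P : Subgroup G) : Set G)) (by
    have := not_dvd_relIndex hpq P Q hP hQ (le_top (a := (P : Subgroup G)))
    rwa [relIndex_top_right] at this)
  have hQ0g : normalizer ((Q0 : Subgroup G) : Set G) ≤ centralizer ((Q0 : Subgroup G) : Set G) := by
    intro z hz
    obtain ⟨g, hg⟩ := exists_eq_conj Q0 Q
    have hz' : g * z * g⁻¹ ∈ normalizer ((Q : Subgroup G) : Set G) := by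
      refine mem_normalizer_iff.2 fun w => ?_
      have e1 := hg (g⁻¹ * w * g)
      have e2 := mem_normalizer_iff.1 hz (g⁻¹ * w * g)
      have e3 := hg (z * (g⁻¹ * w * g) * z⁻¹)
      rw [show g * (g⁻¹ * w * g) * g⁻¹ = w by group] at e1
      rw [show g * (z * (g⁻¹ * w * g) * z⁻¹) * g⁻¹ = g * z * g⁻¹ * w * (g * z * g⁻¹)⁻¹ by group] at e3
      rw [← e1, e2, e3]
    refine mem_centralizer_iff.2 fun w hw => ?_
    have h1 := mem_centralizer_iff.1 (hQ hz') (g * w * g⁻¹) ((hg w).1 hw)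
    refine mul_left_cancel (a := g) (mul_right_cancel (b := g⁻¹) ?_)
    calc g * (w * z) * g⁻¹ = (g * w * g⁻¹) * (g * z * g⁻¹) := by group
      _ = g * (z * w) * g⁻¹ := by rw [h1]; group
  have hcomm : ∀ u ∈ (P : Subgroup G), ∀ v ∈ (Q0 : Subgroup G), ∀ g : G,
      g * u * g⁻¹ * v = v * (g * u * g⁻¹) := by
    intro u hu v hv g
    set A := centralizer ({u} : Set G) with hA
    set B := centralizer ({v} : Set G) with hB
    have hco : A.index.Coprime B.index := by
      refine Nat.coprime_of_dvd fun r hr hra hrb => ?_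
      obtain ⟨hrp, hrq, x, hx⟩ := adj_of_good hpq P Q0 hP hQ0g hn hvq hu hr hra
      obtain ⟨-, -, y, hy⟩ := adj_of_good hpq.symm Q0 P hQ0g hP
        (fun z => by rw [mul_comm]; exact hn z) hvp hv hr hrb
      refine hcon r hr hrp hrq (fun R hR => ?_) ⟨y, by rwa [mul_comm]⟩ x hx
      haveI : Fact r.Prime := ⟨hr⟩
      refine not_dvd_relIndex hrp.symm P R hP hR (le_top (a := (P : Subgroup G))) ?_
      rw [relIndex_top_right]
      exact hra.trans (index_dvd_of_le (centralizer_le (Set.singleton_subset_iff.2 hu)))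
    have hge : A.index ≤ A.relIndex B := by
      have h1 : A.index * B.index ∣ (A ⊓ B).index :=
        hco.mul_dvd_of_dvd_of_dvd (index_dvd_of_le inf_le_left) (index_dvd_of_le inf_le_right)
      rw [← relIndex_mul_index (inf_le_right : A ⊓ B ≤ B), inf_relIndex_right] at h1
      exact Nat.le_of_dvd (Nat.pos_of_ne_zero Subgroup.index_ne_zero_of_finite)
        (Nat.dvd_of_mul_dvd_mul_right (Nat.pos_of_ne_zero index_ne_zero_of_finite) h1)
    obtain ⟨b, hb, hbg⟩ := exists_inv_mul_mem hge g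
    obtain ⟨a, rfl⟩ : ∃ a, g = b * a := ⟨b⁻¹ * g, by group⟩
    rw [inv_mul_cancel_left] at hbg
    have h1 : a * u * a⁻¹ = u := by rw [mem_centralizer_singleton_iff.1 hbg, mul_inv_cancel_right]
    have h2 : u * v = v * u := (mem_centralizer_iff.1 (hQ0 hv) u hu)
    have h3 : b * v = v * b := mem_centralizer_singleton_iff.1 hb
    have h4 : b⁻¹ * v = v * b⁻¹ := (Commute.inv_left h3).eq
    rw [show b * a * u * (b * a)⁻¹ = b * (a * u * a⁻¹) * b⁻¹ by group, h1]
    calc b * u * b⁻¹ * v = b * u * (b⁻¹ * v) := by group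
      _ = b * (u * v) * b⁻¹ := by rw [h4]; group
      _ = (b * v) * u * b⁻¹ := by rw [h2]; group
      _ = v * (b * u * b⁻¹) := by rw [h3]; group
  have hPQ : normalClosure ((P : Subgroup G) : Set G) ≤
      centralizer (normalClosure ((Q0 : Subgroup G) : Set G) : Set G) := by
    refine (closure_le _).2 fun y hy => ?_
    rw [SetLike.mem_coe, normalClosure, centralizer_closure, mem_centralizer_iff]
    intro w hw
    rw [Group.mem_conjugatesOfSet_iff] at hy hw
    obtain ⟨u, hu, huy⟩ := hy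
    obtain ⟨v, hv, hvw⟩ := hw
    obtain ⟨g, rfl⟩ := isConj_iff.1 huy
    obtain ⟨h, rfl⟩ := isConj_iff.1 hvw
    have := hcomm u hu v hv (h⁻¹ * g)
    calc h * v * h⁻¹ * (g * u * g⁻¹) = h * (v * (h⁻¹ * g * u * (h⁻¹ * g)⁻¹)) * h⁻¹ := by group
      _ = g * u * g⁻¹ * (h * v * h⁻¹) := by rw [← this]; group
  obtain ⟨a, ha, hpa⟩ := exists_dvd_mem_normalClosure P hP hvp
  obtain ⟨b, hb, hqb⟩ := exists_dvd_mem_normalClosure Q0 hQ0g hvq
  have hin : ∀ {r : ℕ} [Fact r.Prime] (R R' : Sylow r G), (R' : Subgroup G) ≤ normalClosure ((R : Subgroup G) : Set G) := by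
    intro r _ R R' w hw
    obtain ⟨g, hg⟩ := exists_eq_conj R R'
    have h1 : g⁻¹ * w * g ∈ (R : Subgroup G) := (hg _).2 (by rw [show g * (g⁻¹ * w * g) * g⁻¹ = w by group]; exact hw)
    have := normalClosure_normal.conj_mem _ (le_normalClosure h1) g
    simpa [mul_assoc] using this
  refine hn (a * b) (Nat.Coprime.mul_dvd_of_dvd_of_dvd ((Nat.coprime_primes hp.out hq.out).2 hpq) ?_ ?_)
  · by_contra hd
    obtain ⟨P1, hP1⟩ := exists_sylow_of_not_dvd hd
    refine not_dvd_of_mem_centralizer P1 (mem_centralizer_iff.2 fun w hw => ?_) hpa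
    have hwb : Commute w b := (mem_centralizer_iff.1 (hPQ (hin P P1 hw)) b hb).symm
    have hwab : Commute w (a * b) := mem_centralizer_singleton_iff.1 (hP1 hw)
    have := hwab.mul_right hwb.inv_right
    rw [mul_inv_cancel_right] at this
    exact this.eq
  · by_contra hd
    obtain ⟨Q1, hQ1⟩ := exists_sylow_of_not_dvd hd
    refine not_dvd_of_mem_centralizer Q1 (mem_centralizer_iff.2 fun w hw => ?_) hqb
    have hwa : Commute w a := mem_centralizer_iff.1 (hPQ ha) w (hin Q0 Q1 hw)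
    have hwab : Commute w (a * b) := mem_centralizer_singleton_iff.1 (hQ1 hw)
    have := hwa.inv_right.mul_right hwab
    rw [inv_mul_cancel_left] at this
    exact this.eq

theorem good_good {p q : ℕ} [hp : Fact p.Prime] [hq : Fact q.Prime] (hpq : p ≠ q) (P : Sylow p G)
    (Q : Sylow q G) (hP : normalizer ((P : Subgroup G) : Set G) ≤ centralizer ((P : Subgroup G) : Set G))
    (hQ : normalizer ((Q : Subgroup G) : Set G) ≤ centralizer ((Q : Subgroup G) : Set G))
    (hn : ∀ x : G, ¬ p * q ∣ cl x) (hvp : ∃ x : G, p ∣ cl x) (hvq : ∃ x : G, q ∣ cl x) :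
    ∃ r : ℕ, r.Prime ∧ r ≠ p ∧ r ≠ q ∧ (∃ x : G, p * r ∣ cl x) ∧ (∃ y : G, r * q ∣ cl y) := by
  obtain ⟨r, hr, h1, h2, -, h3, h4⟩ := good_good_bad hpq P Q hP hQ hn hvp hvq
  exact ⟨r, hr, h1, h2, h3, h4⟩

theorem exists_perfect_normal (hG : ¬ Group.IsSolvable G) :
    ∃ W : Subgroup G, W.Normal ∧ W ≠ ⊥ ∧ ⁅W, W⁆ = W := by
  obtain ⟨W, ⟨n, rfl⟩, hmin⟩ := Set.exists_min_image (Set.range (derivedSeries G))
    (fun K => Nat.card K) (Set.toFinite _) ⟨_, 0, rfl⟩
  refine ⟨derivedSeries G n, derivedSeries_normal G n, fun h => hG ⟨⟨n, h⟩⟩, ?_⟩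
  refine eq_of_le_of_card_ge (commutator_le_right _ _) ?_
  have := hmin _ ⟨n + 1, rfl⟩
  rwa [derivedSeries_succ] at this

theorem bad_good {p q : ℕ} [hp : Fact p.Prime] [hq : Fact q.Prime] (hpq : p ≠ q) (P : Sylow p G)
    (Q : Sylow q G) (hG : ¬ Group.IsSolvable G)
    (hP : normalizer ((P : Subgroup G) : Set G) ≤ centralizer ((P : Subgroup G) : Set G))
    (hQ : ¬ normalizer ((Q : Subgroup G) : Set G) ≤ centralizer ((Q : Subgroup G) : Set G))
    (hn : ∀ x : G, ¬ p * q ∣ cl x) (hvp : ∃ x : G, p ∣ cl x) :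
    ∃ r : ℕ, r.Prime ∧ r ≠ p ∧ r ≠ q ∧ (∃ x : G, p * r ∣ cl x) ∧ (∃ y : G, r * q ∣ cl y) := by
  obtain ⟨W, hWn, hW1, hWW⟩ := exists_perfect_normal hG
  haveI := hWn
  have hWc : ¬ IsMulCommutative W := fun h => hW1 (hWW ▸ (commutator_eq_bot_iff_le_centralizer.2
    fun w hw => mem_centralizer_iff.2 fun v hv => congrArg Subtype.val (h.is_comm.comm ⟨v, hv⟩ ⟨w, hw⟩)))
  obtain ⟨t, ht, htW, htadj⟩ := exists_adj_residual hvp hWc
  haveI : Fact t.Prime := ⟨ht⟩
  have hgood : ∀ {s : ℕ} [Fact s.Prime] (S : Sylow s G),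
      normalizer ((S : Subgroup G) : Set G) ≤ centralizer ((S : Subgroup G) : Set G) → ¬ s ∣ Nat.card W := by
    intro s _ S hS hd
    obtain ⟨L, -, hL, -, hLc⟩ := exists_complement S hS
    exact hLc (hd.trans (card_dvd_of_le (hWW.ge.trans ((commutator_mono le_top le_top).trans
      ((commutator_def G).ge.trans hL)))))
  have htp : t ≠ p := by
    rintro rfl
    exact hgood P hP htW
  obtain ⟨x, hx⟩ := htadj.resolve_left htp
  have htq : t ≠ q := by
    rintro rfl
    exact hn x hx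
  refine ⟨t, ht, htp, htq, ⟨x, hx⟩, ?_⟩
  by_contra hcon
  push Not at hcon
  obtain ⟨T⟩ : Nonempty (Sylow t G) := inferInstance
  exact hQ (average htq T Q hcon fun h => hgood T h htW)

theorem main (hG : ¬ Group.IsSolvable G) (p q : ℕ) (hp : p.Prime) (hq : q.Prime) (hpq : p ≠ q)
    (hp' : ∃ x : G, p ∣ cl x) (hq' : ∃ x : G, q ∣ cl x) :
    (∃ x : G, p * q ∣ cl x) ∨ ∃ r : ℕ, r.Prime ∧ r ≠ p ∧ r ≠ q ∧
      (∃ x : G, p * r ∣ cl x) ∧ (∃ y : G, r * q ∣ cl y) := by
  by_cases hn : ∀ x : G, ¬ p * q ∣ cl x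
  swap
  · push Not at hn; exact Or.inl hn
  refine Or.inr ?_
  haveI : Fact p.Prime := ⟨hp⟩
  haveI : Fact q.Prime := ⟨hq⟩
  obtain ⟨P⟩ : Nonempty (Sylow p G) := inferInstance
  obtain ⟨Q⟩ : Nonempty (Sylow q G) := inferInstance
  have hn' : ∀ x : G, ¬ q * p ∣ cl x := fun x => by rw [mul_comm]; exact hn x
  by_cases hP : normalizer ((P : Subgroup G) : Set G) ≤ centralizer ((P : Subgroup G) : Set G)
  · by_cases hQ : normalizer ((Q : Subgroup G) : Set G) ≤ centralizer ((Q : Subgroup G) : Set G)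
    · exact good_good hpq P Q hP hQ hn hp' hq'
    · exact bad_good hpq P Q hG hP hQ hn hp'
  · obtain ⟨r, hr, h1, h2, ⟨x, hx⟩, ⟨y, hy⟩⟩ :=
      bad_good hpq.symm Q P hG (average hpq P Q hn hP) hP hn' hq'
    exact ⟨r, hr, h2, h1, ⟨y, by rwa [mul_comm]⟩, ⟨x, by rwa [mul_comm]⟩⟩

end Cfsg.Agent.H61.ClassDiam
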