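import Cfsg.Agent.H61.Basic
import Cfsg.Prelude.Def_IsolatedElements

/-!
Elementary facts about isolated `p`-elements.
-/

set_option autoImplicit false

namespace Cfsg.Agent.H61

open Subgroup

variable {G : Type*} [Group G] {p : ℕ}

theorem isIsolated_conj {x : G} (hiso : Cfsg.IsIsolated x) (a : G) :
    Cfsg.IsIsolated (a * x * a⁻¹) := by
  intro g hg
  have h1 : Commute x ((a⁻¹ * g * a) * x * (a⁻¹ * g * a)⁻¹) := by
    have := hg.map (MulAut.conj a⁻¹).toMonoidHom
    simpa [mul_assoc] using this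
  have h2 := hiso _ h1
  calc g * (a * x * a⁻¹) * g⁻¹
      = a * ((a⁻¹ * g * a) * x * (a⁻¹ * g * a)⁻¹) * a⁻¹ := by group
    _ = a * x * a⁻¹ := by rw [h2]

theorem isPGroup_zpowers {x : G} (hx : ∃ k : ℕ, orderOf x = p ^ k) :
    IsPGroup p (Subgroup.zpowers x) := by
  obtain ⟨k, hk⟩ := hx
  exact IsPGroup.of_card (n := k) (by rw [Nat.card_zpowers, hk])

theorem exists_orderOf_conj {x : G} (hx : ∃ k : ℕ, orderOf x = p ^ k) (a : G) :
    ∃ k : ℕ, orderOf (a * x * a⁻¹) = p ^ k := by
  obtain ⟨k, hk⟩ := hx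
  exact ⟨k, by rw [show a * x * a⁻¹ = MulAut.conj a x from rfl, MulEquiv.orderOf_eq, hk]⟩

/-- Normalizers of `p`-subgroups containing an isolated `p`-element centralize it. -/
theorem normalizer_le_centralizer_of_isolated [Finite G] [Fact p.Prime] {x : G}
    (hiso : Cfsg.IsIsolated x) {R : Subgroup G} (hR : IsPGroup p R) (hxR : x ∈ R) :
    Subgroup.normalizer (R : Set G) ≤ Subgroup.centralizer ({x} : Set G) := by
  have key : ∀ y ∈ R, ∀ r ∈ R, Cfsg.IsIsolated y → r * y = y * r := by
    intro y hy r hr hy'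
    -- the centralizer of `y` in the nilpotent group `R` is its own normalizer
    let C : Subgroup R := (Subgroup.centralizer ({y} : Set G)).subgroupOf R
    have hC : Subgroup.normalizer (C : Set R) = C := by
      refine le_antisymm (fun n hn => ?_) Subgroup.le_normalizer
      have h1 : (n * ⟨y, hy⟩ * n⁻¹ : R) ∈ C :=
        (Subgroup.mem_normalizer_iff.mp hn _).mp
          (Subgroup.mem_subgroupOf.mpr (Subgroup.mem_centralizer_singleton_iff.mpr rfl))
      rw [Subgroup.mem_subgroupOf, Subgroup.mem_centralizer_singleton_iff] at h1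
      simp only [Subgroup.coe_mul, Subgroup.coe_inv] at h1
      have h2 := hy' (n : G) h1.symm
      rw [Subgroup.mem_subgroupOf, Subgroup.mem_centralizer_singleton_iff]
      calc (n : G) * y = ((n : G) * y * (n : G)⁻¹) * n := by group
        _ = y * n := by rw [h2]
    have hnil : Group.IsNilpotent R := hR.isNilpotent
    have htop : C = ⊤ := normalizerCondition_iff_only_full_group_self_normalizing.mp
      Group.normalizerCondition_of_isNilpotent C hC
    have h3 : (⟨r, hr⟩ : R) ∈ C := htop ▸ Subgroup.mem_top _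
    simpa [C, Subgroup.mem_subgroupOf, Subgroup.mem_centralizer_singleton_iff] using h3
  intro n hn
  rw [Subgroup.mem_centralizer_singleton_iff]
  have h1 : n * x * n⁻¹ ∈ R := (Subgroup.mem_normalizer_iff.mp hn x).mp hxR
  have h2 := hiso n (key x hxR _ h1 hiso).symm
  calc n * x = (n * x * n⁻¹) * n := by group
    _ = x * n := by rw [h2]

/-- An isolated `p`-element lies in every Sylow `p`-subgroup in exactly one way. -/
theorem eq_of_conj_mem [Finite G] [Fact p.Prime] {x : G}
    (hiso : Cfsg.IsIsolated x) {R : Subgroup G} (hR : IsPGroup p R) (hxR : x ∈ R) {g : G}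
    (hg : g * x * g⁻¹ ∈ R) : g * x * g⁻¹ = x := by
  refine hiso g ?_
  have := normalizer_le_centralizer_of_isolated hiso hR hxR (Subgroup.le_normalizer hg)
  exact (Subgroup.mem_centralizer_singleton_iff.mp this).symm

/-- A conjugate of an isolated `p`-element lying in a subgroup containing it is conjugate to it
inside that subgroup. -/
theorem exists_mem_conj [Finite G] [Fact p.Prime] {x : G} (hx : ∃ k : ℕ, orderOf x = p ^ k)
    (hiso : Cfsg.IsIsolated x) {H : Subgroup G} (hxH : x ∈ H) {g : G} (hg : g * x * g⁻¹ ∈ H) :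
    ∃ h ∈ H, h * g ∈ Subgroup.centralizer ({x} : Set G) := by
  have h1 : IsPGroup p (Subgroup.zpowers (⟨x, hxH⟩ : H)) := by
    apply isPGroup_zpowers
    simpa [← Subgroup.orderOf_coe] using hx
  have h2 : IsPGroup p (Subgroup.zpowers (⟨g * x * g⁻¹, hg⟩ : H)) := by
    apply isPGroup_zpowers
    simpa only [← Subgroup.orderOf_coe] using exists_orderOf_conj hx g
  obtain ⟨P, hP⟩ := h1.exists_le_sylow
  obtain ⟨P', hP'⟩ := h2.exists_le_sylow
  obtain ⟨h, rfl⟩ := MulAction.exists_smul_eq H P' P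
  refine ⟨h, h.2, ?_⟩
  have hxP : x ∈ ((h • P' : Sylow p H) : Subgroup H).map H.subtype :=
    ⟨⟨x, hxH⟩, hP (Subgroup.mem_zpowers _), rfl⟩
  have hyP : ((h : G) * g) * x * ((h : G) * g)⁻¹ ∈ ((h • P' : Sylow p H) : Subgroup H).map H.subtype := by
    refine ⟨h * ⟨g * x * g⁻¹, hg⟩ * h⁻¹, ?_, by simp [mul_assoc]⟩
    rw [Sylow.coe_subgroup_smul]
    exact ⟨⟨g * x * g⁻¹, hg⟩, hP' (Subgroup.mem_zpowers _), rfl⟩
  have h3 := eq_of_conj_mem hiso (((h • P').isPGroup').map H.subtype) hxP hyP
  rw [Subgroup.mem_centralizer_singleton_iff]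
  calc (h : G) * g * x = (((h : G) * g) * x * ((h : G) * g)⁻¹) * ((h : G) * g) := by group
    _ = x * ((h : G) * g) := by rw [h3]

/-- Isolation passes to quotients. -/
theorem isIsolated_quotient [Finite G] [Fact p.Prime] {x : G} (hx : ∃ k : ℕ, orderOf x = p ^ k)
    (hiso : Cfsg.IsIsolated x) (N : Subgroup G) [N.Normal] :
    Cfsg.IsIsolated (QuotientGroup.mk x : G ⧸ N) := by
  intro a ha
  obtain ⟨g, rfl⟩ := QuotientGroup.mk_surjective a
  set q := QuotientGroup.mk' N with hq
  let K : Subgroup G := (Subgroup.closure ({q x, q (g * x * g⁻¹)} : Set (G ⧸ N))).comap q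
  have hxK : x ∈ K := Subgroup.subset_closure (Or.inl rfl)
  have hyK : g * x * g⁻¹ ∈ K := Subgroup.subset_closure (Or.inr rfl)
  obtain ⟨h, hhK, hh⟩ := exists_mem_conj hx hiso hxK hyK
  have hab : Commute (q h) (q (g * x * g⁻¹)) := by
    have hc : ∀ z ∈ Subgroup.closure ({q x, q (g * x * g⁻¹)} : Set (G ⧸ N)),
        Commute z (q (g * x * g⁻¹)) := by
      intro z hz
      refine Subgroup.closure_induction ?_ (Commute.one_left _) (fun _ _ _ _ h₁ h₂ => h₁.mul_left h₂)
        (fun _ _ h₁ => h₁.inv_left) hz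
      rintro w (rfl | rfl)
      · simpa [hq] using ha
      · exact Commute.refl _
    exact hc _ hhK
  rw [Subgroup.mem_centralizer_singleton_iff] at hh
  have e : q h * q (g * x * g⁻¹) * (q h)⁻¹ = q x := by
    rw [← map_inv, ← map_mul, ← map_mul]
    congr 1
    calc h * (g * x * g⁻¹) * h⁻¹ = (h * g * x) * (h * g)⁻¹ := by group
      _ = x := by rw [hh]; group
  rw [hab.eq, mul_assoc, mul_inv_cancel, mul_one] at e
  simpa [hq] using e

end Cfsg.Agent.H61
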