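import Cfsg.Agent.H61.ZStarCor
import Cfsg.Agent.H61.Isolated
import Cfsg.Agent.Cores.PSolvable
import Cfsg.Agent.H89.Join
import Cfsg.Prelude.Def_FischerSpaces
import Cfsg.Prelude.Def_TwoFusion

/-!
More consequences of Glauberman's Z*-theorem (taken as a hypothesis): its extension to 2-elements,
the centre of a 2-fusion system, classes of involutions with `p`-power products.
-/

set_option autoImplicit false

namespace Cfsg.Agent.H61

universe u

/-- The generator of an isolated cyclic 2-group has every power isolated. -/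
theorem eq_of_conj_pow_mem {G : Type*} [Group G] [Finite G] {p : ℕ} [Fact p.Prime] {x : G}
    (hx : ∃ k, orderOf x = p ^ k) (hiso : Cfsg.IsIsolated x) {S : Subgroup G} (hS : IsPGroup p S)
    (hxS : x ∈ S) (m : ℕ) {g : G} (hg : g * x ^ m * g⁻¹ ∈ S) : g * x ^ m * g⁻¹ = x ^ m := by
  set y := g * x ^ m * g⁻¹ with hy
  have hxy : x ∈ Subgroup.centralizer ({y} : Set G) := by
    rw [Subgroup.mem_centralizer_singleton_iff]
    exact (Subgroup.mem_centralizer_singleton_iff.mp
      (normalizer_le_centralizer_of_isolated hiso hS hxS (Subgroup.le_normalizer hg))).symm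
  have hgy : g * x * g⁻¹ ∈ Subgroup.centralizer ({y} : Set G) := by
    rw [Subgroup.mem_centralizer_singleton_iff, hy, ← conj_pow]
    exact (Commute.self_pow _ m).eq
  obtain ⟨h, hhC, hh⟩ := exists_mem_conj hx hiso hxy hgy
  rw [Subgroup.mem_centralizer_singleton_iff] at hhC hh
  have hc : Commute (h * g) (x ^ m) := (show Commute (h * g) x from hh).pow_right m
  calc y = h * y * h⁻¹ := by rw [hhC, mul_inv_cancel_right]
    _ = (h * g) * x ^ m * (h * g)⁻¹ := by rw [hy]; group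
    _ = x ^ m := by rw [hc.eq, mul_inv_cancel_right]

/-- The Z*-theorem for 2-elements. -/
theorem inZStar_two_element (hZS : ZStarTheorem.{u}) {G : Type u} [Group G] [Finite G] {x : G}
    (hx : ∃ k, orderOf x = 2 ^ k) (hiso : Cfsg.IsIsolated x) : Cfsg.InZStar 2 x := by
  haveI : Fact (Nat.Prime 2) := ⟨Nat.prime_two⟩
  revert x
  induction hn : Nat.card G using Nat.strong_induction_on generalizing G with
  | _ n ih =>
  subst hn
  intro x hx hiso
  obtain ⟨k, hk⟩ := hx
  have hquot : ∀ (N : Subgroup G) [N.Normal], 1 < Nat.card N → ∀ g : G,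
      g * x * g⁻¹ * x⁻¹ ∈ (Cfsg.pPrimeCore 2 (G ⧸ N)).comap (QuotientGroup.mk' N) := by
    intro N _ hN g
    have hlt : Nat.card (G ⧸ N) < Nat.card G := by
      rw [Subgroup.card_eq_card_quotient_mul_card_subgroup N]
      exact lt_mul_of_one_lt_right Nat.card_pos hN
    obtain ⟨i, -, hi⟩ := (Nat.dvd_prime_pow Nat.prime_two).mp
      (hk ▸ orderOf_map_dvd (QuotientGroup.mk' N) x)
    have h := ih _ hlt rfl ⟨i, hi⟩ (isIsolated_quotient ⟨k, hk⟩ hiso N) (QuotientGroup.mk' N g)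
    simpa using h
  rcases Nat.eq_zero_or_pos k with rfl | hk0
  · intro g
    rw [pow_zero, orderOf_eq_one_iff] at hk
    simp [hk]
  by_cases hO : Cfsg.oddCore G = ⊥
  swap
  · intro g
    rw [← Cfsg.Agent.Cores.comap_pPrimeCore_quotient (p := 2) (Cfsg.pPrimeCore 2 G)
      Cfsg.Agent.Cores.coprime_card_pPrimeCore]
    exact hquot _ ((Subgroup.one_lt_card_iff_ne_bot _).mpr hO) g
  obtain ⟨S, hS⟩ := (isPGroup_zpowers (p := 2) ⟨k, hk⟩).exists_le_sylow
  have hxS : x ∈ (S : Subgroup G) := hS (Subgroup.mem_zpowers x)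
  set w := x ^ 2 ^ (k - 1) with hw
  have hwo : orderOf w = 2 := by
    rw [hw, orderOf_pow_of_dvd (pow_ne_zero _ two_ne_zero) (by rw [hk]; exact pow_dvd_pow 2 (by omega)),
      hk, Nat.pow_div (by omega) two_pos, show k - (k - 1) = 1 by omega, pow_one]
  obtain ⟨R, hRn, hRo, hR⟩ := hZS S w hwo ((S : Subgroup G).pow_mem hxS _)
    (fun g hg => eq_of_conj_pow_mem ⟨k, hk⟩ hiso S.isPGroup' hxS _ hg)
  haveI := hRn
  have hwc : ∀ g : G, w * g = g * w := by
    intro g
    have h1 : R ≤ Cfsg.oddCore G := Cfsg.Agent.Cores.le_oddCore hRo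
    have h := h1 (hR g)
    rwa [hO, Subgroup.mem_bot, mul_inv_eq_one, mul_inv_eq_iff_eq_mul] at h
  set W := Subgroup.zpowers w with hW
  haveI hWn : W.Normal := ⟨fun a ha g => by
    obtain ⟨i, rfl⟩ := Subgroup.mem_zpowers_iff.mp ha
    rw [((show Commute w g from hwc g).zpow_left i).symm.eq, mul_inv_cancel_right]
    exact Subgroup.zpow_mem _ (Subgroup.mem_zpowers w) i⟩
  set K := (Cfsg.pPrimeCore 2 (G ⧸ W)).comap (QuotientGroup.mk' W) with hK
  have hWK : W ≤ K := by
    intro a ha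
    rw [hK, Subgroup.mem_comap, show QuotientGroup.mk' W a = 1 from (QuotientGroup.eq_one_iff a).mpr ha]
    exact one_mem _
  have hWcard : Nat.card (W.subgroupOf K) = 2 := by
    rw [Nat.card_congr (Subgroup.subgroupOfEquivOfLe hWK).toEquiv, hW, Nat.card_zpowers, hwo]
  have hidx : (W.subgroupOf K).index.Coprime 2 := by
    change (W.relIndex K).Coprime 2
    rw [← Cfsg.Agent.Cores.card_map_mk', hK,
      Subgroup.map_comap_eq_self_of_surjective (QuotientGroup.mk'_surjective W)]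
    exact Cfsg.Agent.Cores.coprime_card_pPrimeCore
  obtain ⟨L, hL⟩ := Subgroup.exists_right_complement'_of_coprime (N := W.subgroupOf K)
    (by rw [hWcard]; exact hidx.symm)
  have hLn : L.Normal := by
    refine Subgroup.normalizer_eq_top_iff.mp (top_le_iff.mp ?_)
    rw [← hL.sup_eq_top]
    refine sup_le (fun z hz => mem_normalizer_of_conj_mem fun l hl => ?_) Subgroup.le_normalizer
    obtain ⟨i, hi⟩ := Subgroup.mem_zpowers_iff.mp (Subgroup.mem_subgroupOf.mp hz)
    have : z * l * z⁻¹ = l := by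
      rw [mul_inv_eq_iff_eq_mul]
      refine Subtype.ext ?_
      show (z : G) * (l : G) = (l : G) * (z : G)
      rw [← hi]
      exact ((show Commute w (l : G) from hwc l).zpow_left i).eq
    rw [this]; exact hl
  have hLc : (Nat.card L).Coprime 2 := by rwa [← hL.symm.index_eq_card]
  have hLb : L.map K.subtype ≤ Cfsg.pPrimeCore 2 G :=
    (Subgroup.map_mono (Cfsg.Agent.Cores.le_pPrimeCore hLc)).trans
      (Cfsg.Agent.Cores.map_pPrimeCore_le_of_normal K)
  rw [show Cfsg.pPrimeCore 2 G = ⊥ from hO, le_bot_iff,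
    Subgroup.map_eq_bot_iff_of_injective _ K.subtype_injective] at hLb
  have hKW : K ≤ W := by
    rw [← Subgroup.subgroupOf_eq_top, ← hL.sup_eq_top, hLb, sup_bot_eq]
  intro g
  have hmem := hKW (hquot W (by rw [hW, Nat.card_zpowers, hwo]; exact one_lt_two) g)
  obtain ⟨i, hi⟩ := Subgroup.mem_zpowers_iff.mp hmem
  have hgx : g * x * g⁻¹ ∈ (S : Subgroup G) := by
    have := (S : Subgroup G).mul_mem ((S : Subgroup G).zpow_mem ((S : Subgroup G).pow_mem hxS (2 ^ (k - 1))) i) hxS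
    rw [← hw, hi] at this
    simpa using this
  rw [eq_of_conj_mem hiso S.isPGroup' hxS hgx, mul_inv_cancel]
  exact one_mem _

theorem isIsolated_of_sylow {G : Type*} [Group G] [Finite G] {p : ℕ} [Fact p.Prime] (S : Sylow p G)
    {z : G} (hzS : z ∈ (S : Subgroup G))
    (h : ∀ g : G, g * z * g⁻¹ ∈ (S : Subgroup G) → g * z * g⁻¹ = z) : Cfsg.IsIsolated z := by
  intro g hg
  obtain ⟨k, hk⟩ := IsPGroup.iff_orderOf.mp S.isPGroup' ⟨z, hzS⟩
  rw [Subgroup.orderOf_mk] at hk
  have hp : IsPGroup p (Subgroup.zpowers z ⊔ Subgroup.zpowers (g * z * g⁻¹) : Subgroup G) := by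
    refine (isPGroup_zpowers ⟨k, hk⟩).to_sup_of_normal_left' (isPGroup_zpowers (exists_orderOf_conj ⟨k, hk⟩ g)) ?_
    rw [Subgroup.zpowers_le]
    refine Subgroup.centralizer_le_normalizer _ fun a ha => ?_
    obtain ⟨i, rfl⟩ := Subgroup.mem_zpowers_iff.mp ha
    exact (hg.zpow_left i).eq
  obtain ⟨T, hT⟩ := hp.exists_le_sylow
  obtain ⟨c, rfl⟩ := MulAction.exists_smul_eq G S T
  obtain ⟨a, ha, hac⟩ := hT (Subgroup.mem_sup_left (Subgroup.mem_zpowers z))
  obtain ⟨b, hb, hbc⟩ := hT (Subgroup.mem_sup_right (Subgroup.mem_zpowers (g * z * g⁻¹)))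
  have hac' : c * a * c⁻¹ = z := hac
  have hbc' : c * b * c⁻¹ = g * z * g⁻¹ := hbc
  have ea : a = z := by
    have e : a = c⁻¹ * z * c⁻¹⁻¹ := by rw [← hac']; group
    rw [e]; exact h _ (e ▸ ha)
  have eb : b = z := by
    have e : b = (c⁻¹ * g) * z * (c⁻¹ * g)⁻¹ := by
      calc b = c⁻¹ * (c * b * c⁻¹) * c := by group
        _ = (c⁻¹ * g) * z * (c⁻¹ * g)⁻¹ := by rw [hbc']; group
    rw [e]; exact h _ (e ▸ hb)
  rw [← hbc', eb]
  rw [ea] at hac'
  exact hac'

theorem zStar_cor_fusion_center (hZS : ZStarTheorem.{u}) {G : Type u} [Group G] [Finite G]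
    (S : Sylow 2 G) :
    (Cfsg.groupFusionSystem (S : Subgroup G)).center = (S : Subgroup G) ⊓
      (Subgroup.center (G ⧸ Cfsg.oddCore G)).comap (QuotientGroup.mk' (Cfsg.oddCore G)) := by
  haveI : Fact (Nat.Prime 2) := ⟨Nat.prime_two⟩
  set F := Cfsg.groupFusionSystem (S : Subgroup G)
  have hpow : ∀ z ∈ (S : Subgroup G), ∃ k, orderOf z = 2 ^ k := fun z hz => by
    obtain ⟨k, hk⟩ := IsPGroup.iff_orderOf.mp S.isPGroup' ⟨z, hz⟩
    exact ⟨k, by rw [← hk, Subgroup.orderOf_mk]⟩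
  refine le_antisymm (fun z hz => ?_) ?_
  · obtain ⟨hQS, hQ⟩ := H89.isCentral_center F
    have hiso : ∀ g : G, g * z * g⁻¹ ∈ (S : Subgroup G) → g * z * g⁻¹ = z := by
      intro g hg
      let φ : Subgroup.zpowers z →* G := (MulAut.conj g).toMonoidHom.comp (Subgroup.zpowers z).subtype
      have hφ : φ ∈ F.Hom (Subgroup.zpowers z) := by
        refine ⟨Subgroup.zpowers_le.mpr (hQS hz), fun a => ?_, g, fun a => rfl⟩
        obtain ⟨i, hi⟩ := Subgroup.mem_zpowers_iff.mp a.2
        show g * (a : G) * g⁻¹ ∈ (S : Subgroup G)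
        rw [← hi, ← conj_zpow]
        exact (S : Subgroup G).zpow_mem hg i
      obtain ⟨ψ, -, h1, h2⟩ := hQ _ φ hφ
      exact (h1 ⟨z, Subgroup.mem_zpowers z⟩).symm.trans (h2 ⟨z, hz⟩)
    refine ⟨hQS hz, Subgroup.mem_center_iff.mpr fun q => ?_⟩
    obtain ⟨g, rfl⟩ := QuotientGroup.mk'_surjective _ q
    have h := inZStar_two_element hZS (hpow z (hQS hz)) (isIsolated_of_sylow S (hQS hz) hiso) g
    have h2 : QuotientGroup.mk' (Cfsg.oddCore G) (g * z * g⁻¹ * z⁻¹) = 1 :=
      (QuotientGroup.eq_one_iff _).mpr h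
    simp only [map_mul, map_inv, mul_inv_eq_iff_eq_mul, one_mul] at h2
    exact h2
  · rintro z ⟨hzS, hzc⟩
    have hiso : ∀ g : G, g * z * g⁻¹ ∈ (S : Subgroup G) → g * z * g⁻¹ = z := by
      intro g hg
      have h1 := (S : Subgroup G).mul_mem hg ((S : Subgroup G).inv_mem hzS)
      have h2 : g * z * g⁻¹ * z⁻¹ ∈ Cfsg.oddCore G := by
        rw [← QuotientGroup.eq_one_iff]
        have := Subgroup.mem_center_iff.mp (Subgroup.mem_comap.mp hzc) (QuotientGroup.mk' _ g)
        simp only [QuotientGroup.mk'_apply] at this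
        simp only [QuotientGroup.mk_mul, QuotientGroup.mk_inv, this, mul_inv_cancel_right, mul_inv_cancel]
      have h3 : g * z * g⁻¹ * z⁻¹ ∈ (S : Subgroup G) ⊓ Cfsg.oddCore G := ⟨h1, h2⟩
      rw [Cfsg.oddCore, Cfsg.Agent.Cores.disjoint_of_isPGroup_of_coprime S.isPGroup'
        Cfsg.Agent.Cores.coprime_card_pPrimeCore, Subgroup.mem_bot, mul_inv_eq_one] at h3
      exact h3
    have hI := isIsolated_of_sylow S hzS hiso
    refine H89.le_center F (Q := Subgroup.zpowers z) ⟨Subgroup.zpowers_le.mpr hzS, ?_⟩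
      (Subgroup.mem_zpowers z)
    rintro P φ ⟨hP, hφS, g, hg⟩
    let H := Subgroup.centralizer ({y : G | ∃ a : P, y = φ a} : Set G)
    have hzH : z ∈ H := by
      rintro _ ⟨a, rfl⟩
      exact (Subgroup.mem_centralizer_singleton_iff.mp
        (normalizer_le_centralizer_of_isolated hI S.isPGroup' hzS (Subgroup.le_normalizer (hφS a))))
    have hgzH : g * z * g⁻¹ ∈ H := by
      rintro _ ⟨a, rfl⟩
      have h1 : (a : G) * z = z * a := Subgroup.mem_centralizer_singleton_iff.mp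
        (normalizer_le_centralizer_of_isolated hI S.isPGroup' hzS (Subgroup.le_normalizer (hP a.2)))
      rw [hg a]
      calc g * (a : G) * g⁻¹ * (g * z * g⁻¹) = g * ((a : G) * z) * g⁻¹ := by group
        _ = g * z * g⁻¹ * (g * (a : G) * g⁻¹) := by rw [h1]; group
    obtain ⟨h, hhH, hh⟩ := exists_mem_conj (hpow z hzS) hI hzH hgzH
    rw [Subgroup.mem_centralizer_singleton_iff] at hh
    have hfix : (h * g) * z * (h * g)⁻¹ = z := by rw [hh, mul_inv_cancel_right]
    have hag : ∀ a : P, (h * g) * (a : G) * (h * g)⁻¹ = φ a := fun a => by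
      calc (h * g) * (a : G) * (h * g)⁻¹ = h * (g * (a : G) * g⁻¹) * h⁻¹ := by group
        _ = h * φ a * h⁻¹ := by rw [hg a]
        _ = φ a := by rw [← hhH (φ a) ⟨a, rfl⟩, mul_inv_cancel_right]
    refine ⟨(MulAut.conj (h * g)).toMonoidHom.comp (P ⊔ Subgroup.zpowers z).subtype, ⟨?_, ?_, h * g,
      fun a => rfl⟩, fun a => hag a, fun a => ?_⟩
    · exact sup_le hP (Subgroup.zpowers_le.mpr hzS)
    · have hle : P ⊔ Subgroup.zpowers z ≤ (S : Subgroup G).comap (MulAut.conj (h * g)).toMonoidHom :=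
        sup_le (fun a ha => show (h * g) * a * (h * g)⁻¹ ∈ (S : Subgroup G) from
            (hag ⟨a, ha⟩).symm ▸ hφS ⟨a, ha⟩)
          (Subgroup.zpowers_le.mpr (show (h * g) * z * (h * g)⁻¹ ∈ (S : Subgroup G) from
            hfix.symm ▸ hzS))
      exact fun a => hle a.2
    · obtain ⟨i, hi⟩ := Subgroup.mem_zpowers_iff.mp a.2
      show (h * g) * (a : G) * (h * g)⁻¹ = a
      rw [← hi, ← conj_zpow, hfix]

theorem zStar_cor_soluble (hZS : ZStarTheorem.{u}) {G : Type u} [Group G] [Finite G] (z : G)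
    (hz : Cfsg.IsIsolatedInvolution z) : ∀ g : G, z * g * z⁻¹ * g⁻¹ ∈ Cfsg.oddCore G := by
  intro g
  have h := inZStar_two_element hZS (x := z) ⟨1, by rw [hz.1, pow_one]⟩ hz.2 g
  have := (Cfsg.oddCore G).inv_mem h
  simpa [mul_assoc] using this

theorem zStar_cor_class_le (hZS : ZStarTheorem.{u}) {G : Type u} [Group G] [Finite G] {p : ℕ}
    (hp : p.Prime) (hp2 : p ≠ 2) {D : Set G} {d : G} (hd : orderOf d = 2) (hD : D = conjugatesOf d)
    (hgen : Subgroup.closure D = ⊤)
    (hprod : ∀ a ∈ D, ∀ b ∈ D, ∃ k : ℕ, orderOf (a * b) = p ^ k) :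
    Subgroup.zpowers d ⊔ Cfsg.pCore p G = ⊤ := by
  subst hD
  rw [← top_le_iff, ← hgen, Subgroup.closure_le]
  intro a ha
  have h := zStar_cor_pPower hZS hp hp2 d hd hprod a ha d (mem_conjugatesOf_self (a := d))
  have hd' : d⁻¹ ∈ Subgroup.zpowers d := Subgroup.inv_mem _ (Subgroup.mem_zpowers d)
  have := (Subgroup.zpowers d ⊔ Cfsg.pCore p G).mul_mem (Subgroup.mem_sup_right h) (Subgroup.mem_sup_left hd')
  simpa using this

theorem zStar_cor_nilpotent_commutator (hZS : ZStarTheorem.{u}) {G : Type u} [Group G] [Finite G]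
    (p : ℕ) (hp : p.Prime) (hodd : p ≠ 2) {D : Set G} (hinv : ∀ d ∈ D, orderOf d = 2)
    (hconj : ∃ d ∈ D, D = conjugatesOf d) (hgen : Subgroup.closure D = ⊤)
    (hprod : ∀ x ∈ D, ∀ y ∈ D, x ≠ y → ∃ k : ℕ, orderOf (x * y) = p ^ k) :
    Group.IsNilpotent ↥(commutator G) := by
  haveI : Fact p.Prime := ⟨hp⟩
  obtain ⟨d, hdD, hD⟩ := hconj
  have htop := zStar_cor_class_le hZS hp hodd (hinv d hdD) hD hgen fun a ha b hb => by
    rcases eq_or_ne a b with rfl | hab
    · exact ⟨0, by rw [← pow_two, ← hinv a ha, pow_orderOf_eq_one, orderOf_one, pow_zero]⟩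
    · exact hprod a ha b hb hab
  have hle : commutator G ≤ Cfsg.pCore p G := by
    rw [← Subgroup.Normal.quotient_commutative_iff_commutator_le]
    refine ⟨⟨fun a b => ?_⟩⟩
    obtain ⟨a, rfl⟩ := QuotientGroup.mk'_surjective _ a
    obtain ⟨b, rfl⟩ := QuotientGroup.mk'_surjective _ b
    have hrep : ∀ c : G, ∃ i : ℤ,
        QuotientGroup.mk' (Cfsg.pCore p G) c = QuotientGroup.mk' (Cfsg.pCore p G) d ^ i := by
      intro c
      obtain ⟨u, hu, v, hv, rfl⟩ := Subgroup.mem_sup_of_normal_right.mp (htop ▸ Subgroup.mem_top c)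
      obtain ⟨i, rfl⟩ := Subgroup.mem_zpowers_iff.mp hu
      exact ⟨i, by rw [map_mul, show QuotientGroup.mk' _ v = 1 from (QuotientGroup.eq_one_iff v).mpr hv,
        mul_one, map_zpow]⟩
    obtain ⟨i, hi⟩ := hrep a
    obtain ⟨j, hj⟩ := hrep b
    rw [hi, hj, ← zpow_add, ← zpow_add, add_comm]
  exact (Cfsg.Agent.Cores.pCore_isPGroup.to_le hle).isNilpotent

theorem zStar_cor_width_one (hZS : ZStarTheorem.{u}) {G : Type u} [Group G] [Finite G] {D : Set G}
    (hD : Cfsg.IsThreeTranspositionGroup D) {d : G} (hd : d ∈ D) :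
    Cfsg.commutingWidth D = 1 ↔ Subgroup.zpowers d ⊔ Cfsg.pCore 3 G = ⊤ := by
  obtain ⟨⟨hord, h3⟩, hDc, hgen⟩ := hD
  set A : Set ℕ :=
    {n : ℕ | ∃ E : Set G, E ⊆ D ∧ E.Finite ∧ (∀ a ∈ E, ∀ b ∈ E, Commute a b) ∧ E.ncard = n} with hA
  have hbdd : BddAbove A := ⟨Nat.card G, by
    rintro n ⟨E, -, -, -, rfl⟩
    exact E.ncard_le_card⟩
  have h1A : 1 ∈ A := ⟨{d}, Set.singleton_subset_iff.mpr hd, Set.finite_singleton d,
    fun a ha b hb => by simp only [Set.mem_singleton_iff] at ha hb; rw [ha, hb],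
    Set.ncard_singleton d⟩
  have hinv : ∀ a ∈ D, a⁻¹ = a := fun a ha =>
    inv_eq_of_mul_eq_one_right (by rw [← pow_two, ← hord a ha, pow_orderOf_eq_one])
  constructor
  · intro hw
    have hcomm : ∀ a ∈ D, ∀ b ∈ D, Commute a b → a = b := by
      intro a ha b hb hab
      by_contra hne
      have h2 : 2 ∈ A := ⟨{a, b}, by simp [Set.insert_subset_iff, ha, hb], Set.toFinite _, by
        rintro x (rfl | rfl) y (rfl | rfl) <;> first | exact Commute.refl _ | exact hab | exact hab.symm,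
        Set.ncard_pair hne⟩
      have := le_csSup hbdd h2
      rw [show sSup A = 1 from hw] at this
      omega
    have h33 : ∀ a ∈ D, ∀ b ∈ D, (a * b) ^ 3 = 1 := by
      intro a ha b hb
      rcases h3 a ha b hb with h | h
      · have hab : a = b := hcomm a ha b hb (by
          have : a * b = (a * b)⁻¹ := eq_inv_of_mul_eq_one_left (by rw [← pow_two, h])
          rw [mul_inv_rev, hinv a ha, hinv b hb] at this
          exact this)
        subst hab
        rw [← pow_two a, ← hord a ha, pow_orderOf_eq_one, one_pow]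
      · exact h
    refine zStar_cor_class_le hZS Nat.prime_three (by norm_num) (hord d hd) ?_ hgen fun a ha b hb => ?_
    · ext e
      refine ⟨fun he => isConj_iff.mpr ⟨d * e, ?_⟩, fun he => ?_⟩
      · have h := h33 d hd e he
        rw [pow_succ, pow_succ, pow_one] at h
        have h5 : d * e * d * e * d = e⁻¹ := eq_inv_of_mul_eq_one_left (by rw [← h]; group)
        calc d * e * d * (d * e)⁻¹ = d * e * d * e⁻¹ * d⁻¹ := by group
          _ = e := by rw [hinv d hd, hinv e he, h5, hinv e he]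
      · obtain ⟨g, rfl⟩ := isConj_iff.mp he
        exact hDc g d hd
    · obtain ⟨k, -, hk⟩ := (Nat.dvd_prime_pow Nat.prime_three).mp
        (show orderOf (a * b) ∣ 3 ^ 1 from orderOf_dvd_of_pow_eq_one (h33 a ha b hb))
      exact ⟨k, hk⟩
  · intro htop
    haveI : Fact (Nat.Prime 3) := ⟨Nat.prime_three⟩
    refine le_antisymm (csSup_le ⟨1, h1A⟩ ?_) (le_csSup hbdd h1A)
    rintro n ⟨E, hED, hEf, hEc, rfl⟩
    rw [Set.ncard_le_one hEf]
    have hmem : ∀ e ∈ D, e * d ∈ Cfsg.pCore 3 G := by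
      intro e he
      obtain ⟨u, hu, v, hv, huv⟩ := Subgroup.mem_sup_of_normal_right.mp (htop ▸ Subgroup.mem_top e)
      obtain ⟨i, rfl⟩ := Subgroup.mem_zpowers_iff.mp hu
      rcases Int.even_or_odd' i with ⟨j, rfl | rfl⟩
      · exfalso
        rw [zpow_mul, zpow_two, ← pow_two, ← hord d hd, pow_orderOf_eq_one, one_zpow, one_mul] at huv
        obtain ⟨k, hk⟩ := IsPGroup.iff_orderOf.mp Cfsg.Agent.Cores.pCore_isPGroup ⟨v, hv⟩
        rw [Subgroup.orderOf_mk, huv, hord e he] at hk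
        have := Nat.prime_eq_prime_of_dvd_pow Nat.prime_two Nat.prime_three (dvd_of_eq hk)
        omega
      · rw [zpow_add, zpow_mul, zpow_two, ← pow_two, ← hord d hd, pow_orderOf_eq_one, one_zpow, one_mul,
          zpow_one] at huv
        rw [← huv]
        have := (Cfsg.pCore_normal 3 G).conj_mem v hv d
        rwa [hinv d hd] at this
    intro a ha b hb
    have hab2 : (a * b) ^ 2 = 1 := by
      rw [(hEc a ha b hb).mul_pow, show a ^ 2 = 1 by rw [← hord a (hED ha), pow_orderOf_eq_one],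
        show b ^ 2 = 1 by rw [← hord b (hED hb), pow_orderOf_eq_one], one_mul]
    have hab : a * b ∈ Cfsg.pCore 3 G := by
      have := (Cfsg.pCore 3 G).mul_mem (hmem a (hED ha)) ((Cfsg.pCore 3 G).inv_mem (hmem b (hED hb)))
      rwa [mul_inv_rev, hinv b (hED hb), mul_assoc, mul_inv_cancel_left] at this
    obtain ⟨k, hk⟩ := IsPGroup.iff_orderOf.mp Cfsg.Agent.Cores.pCore_isPGroup ⟨_, hab⟩
    rw [Subgroup.orderOf_mk] at hk
    have h1 : orderOf (a * b) = 1 := Nat.eq_one_of_dvd_coprimes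
      (Nat.Coprime.pow_right k (show Nat.Coprime 2 3 by norm_num))
      (orderOf_dvd_of_pow_eq_one hab2) (dvd_of_eq hk)
    rw [orderOf_eq_one_iff] at h1
    exact (eq_inv_of_mul_eq_one_left h1).trans (hinv b (hED hb))

end Cfsg.Agent.H61
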