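import Cfsg.Agent.H61.Basic
import Cfsg.Prelude.Def_SylowControl
import Cfsg.Prelude.Def_SylowChains
import Mathlib.Logic.Relation

/-!
Chains of Sylow subgroups linked by a family: translation of `ControlsSylowIntersections` and
`IsFunctorRegular` into reachability relations on subgroups of the ambient group.
-/

set_option autoImplicit false

namespace Cfsg.Agent.H61

open Subgroup

variable {G : Type*} [Group G] {p : ℕ}

/-- `g H g⁻¹`. -/
abbrev cj (g : G) (H : Subgroup G) : Subgroup G := H.map (MulAut.conj g).toMonoidHom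

theorem mem_cj {g y : G} {H : Subgroup G} : y ∈ cj g H ↔ g⁻¹ * y * g ∈ H := by
  constructor
  · rintro ⟨h, hh, rfl⟩; simpa [mul_assoc] using hh
  · intro h; exact ⟨_, h, by simp [mul_assoc]⟩

theorem cj_mul (a b : G) (H : Subgroup G) : cj a (cj b H) = cj (a * b) H := by
  ext y; simp [mem_cj, mul_assoc]

theorem cj_one (H : Subgroup G) : cj 1 H = H := by ext y; simp [mem_cj]

theorem cj_inv_cj (g : G) (H : Subgroup G) : cj g⁻¹ (cj g H) = H := by
  rw [cj_mul, inv_mul_cancel, cj_one]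

theorem cj_cj_inv (g : G) (H : Subgroup G) : cj g (cj g⁻¹ H) = H := by
  rw [cj_mul, mul_inv_cancel, cj_one]

theorem cj_inf (g : G) (A B : Subgroup G) : cj g (A ⊓ B) = cj g A ⊓ cj g B :=
  Subgroup.map_inf _ _ _ (MulAut.conj g).injective

theorem cj_eq_self_of_mem {g : G} {X : Subgroup G} (hg : g ∈ X) : cj g X = X := by
  ext y
  rw [mem_cj, Subgroup.mul_mem_cancel_right X hg, Subgroup.mul_mem_cancel_left X (X.inv_mem hg)]

theorem coe_smul_sylow (g : G) (S : Sylow p G) :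
    ((g • S : Sylow p G) : Subgroup G) = cj g (S : Subgroup G) := rfl

theorem cj_normalizer (g : G) (F : Subgroup G) :
    cj g (Subgroup.normalizer (F : Set G)) = Subgroup.normalizer ((cj g F : Subgroup G) : Set G) :=
  Subgroup.map_equiv_normalizer_eq F (MulAut.conj g)

/-- `P` is a Sylow `p`-subgroup of `M`, both subgroups of `G`. -/
def IsSylIn (p : ℕ) (P M : Subgroup G) : Prop :=
  P ≤ M ∧ IsPGroup p P ∧ ∀ Q : Subgroup G, Q ≤ M → IsPGroup p Q → P ≤ Q → Q = P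

theorem isSylIn_iff {P M : Subgroup G} :
    IsSylIn p P M ↔ ∃ R : Sylow p M, (R : Subgroup M).map M.subtype = P := by
  constructor
  · rintro ⟨h1, h2, h3⟩
    refine ⟨⟨P.subgroupOf M, h2.comap_subtype, fun {Q} hQ hle => ?_⟩, Subgroup.map_subgroupOf_eq_of_le h1⟩
    have := h3 (Q.map M.subtype) (Subgroup.map_subtype_le Q) (hQ.map _)
      (by rw [← Subgroup.map_subgroupOf_eq_of_le h1]; exact Subgroup.map_mono hle)
    rw [← this, Subgroup.subgroupOf, Subgroup.comap_map_eq_self_of_injective M.subtype_injective]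
  · rintro ⟨R, rfl⟩
    refine ⟨Subgroup.map_subtype_le _, R.isPGroup'.map _, fun Q hQ hQp hle => ?_⟩
    have := R.3 (hQp.comap_subtype (K := M)) (fun r hr => hle ⟨r, hr, rfl⟩)
    rw [← this]
    exact (Subgroup.map_subgroupOf_eq_of_le hQ).symm

theorem sylowMembers_iff {𝓕 : Set (Subgroup G)} {S X : Subgroup G} :
    X ∈ Cfsg.sylowMembers p 𝓕 S ↔ X ∈ 𝓕 ∧ IsSylIn p (S ⊓ X) X := by
  rw [isSylIn_iff]; rfl

theorem IsSylIn.map {H : Type*} [Group H] {P M : Subgroup G} (h : IsSylIn p P M) (φ : G →* H)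
    (hφ : Function.Injective φ) : IsSylIn p (P.map φ) (M.map φ) := by
  refine ⟨Subgroup.map_mono h.1, h.2.1.map φ, fun Q hQ hQp hle => ?_⟩
  have hQr : Q ≤ φ.range := hQ.trans (Subgroup.map_le_range φ M)
  have := h.2.2 (Q.comap φ) (by
      rw [← Subgroup.comap_map_eq_self_of_injective hφ M]; exact Subgroup.comap_mono hQ)
    (hQp.comap_of_injective φ hφ)
    (by rw [← Subgroup.comap_map_eq_self_of_injective hφ P]; exact Subgroup.comap_mono hle)
  rw [← this, Subgroup.map_comap_eq_self hQr]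

theorem IsSylIn.comap {H : Type*} [Group H] {P M : Subgroup H} (φ : G →* H) (hφ : Function.Injective φ)
    (hM : M ≤ φ.range) (h : IsSylIn p P M) : IsSylIn p (P.comap φ) (M.comap φ) := by
  refine ⟨Subgroup.comap_mono h.1, h.2.1.comap_of_injective φ hφ, fun Q hQ hQp hle => ?_⟩
  have := h.2.2 (Q.map φ) ((Subgroup.map_mono hQ).trans (Subgroup.map_comap_le _ _)) (hQp.map φ)
    (by rw [← Subgroup.map_comap_eq_self (h.1.trans hM)]; exact Subgroup.map_mono hle)
  rw [← this, Subgroup.comap_map_eq_self_of_injective hφ]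

theorem IsSylIn.cj {P M : Subgroup G} (h : IsSylIn p P M) (g : G) :
    IsSylIn p (H61.cj g P) (H61.cj g M) :=
  h.map _ (MulAut.conj g).injective

theorem isSylIn_top (S : Sylow p G) : IsSylIn p (S : Subgroup G) ⊤ :=
  ⟨le_top, S.isPGroup', fun _ _ hQp hle => S.3 hQp hle⟩

theorem isSylIn_of_le (S : Sylow p G) {M : Subgroup G} (h : (S : Subgroup G) ≤ M) :
    IsSylIn p (S : Subgroup G) M :=
  ⟨h, S.isPGroup', fun _ _ hQp hle => S.3 hQp hle⟩

theorem isSylIn_inf_of_le (S : Sylow p G) {M : Subgroup G} (h : (S : Subgroup G) ≤ M) :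
    IsSylIn p ((S : Subgroup G) ⊓ M) M := by
  rw [inf_eq_left.mpr h]; exact isSylIn_of_le S h

theorem exists_isSylIn_ge {Q M : Subgroup G} (hQ : IsPGroup p Q) (hle : Q ≤ M) :
    ∃ P, Q ≤ P ∧ IsSylIn p P M := by
  obtain ⟨R, hR⟩ := (hQ.comap_subtype (K := M)).exists_le_sylow
  exact ⟨(R : Subgroup M).map M.subtype, fun q hq => ⟨⟨q, hle hq⟩, hR hq, rfl⟩, isSylIn_iff.mpr ⟨R, rfl⟩⟩

section Finite

variable [Finite G] [Fact p.Prime]

theorem IsSylIn.conj {P Q M : Subgroup G} (hP : IsSylIn p P M) (hQ : IsSylIn p Q M) :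
    ∃ x ∈ M, H61.cj x P = Q := by
  obtain ⟨R, rfl⟩ := isSylIn_iff.mp hP
  obtain ⟨R', rfl⟩ := isSylIn_iff.mp hQ
  obtain ⟨x, rfl⟩ := MulAction.exists_smul_eq M R R'
  refine ⟨x, x.2, ?_⟩
  ext y
  constructor
  · rintro ⟨_, ⟨r, hr, rfl⟩, rfl⟩
    exact ⟨x * r * x⁻¹, ⟨r, hr, rfl⟩, by simp⟩
  · rintro ⟨_, ⟨r, hr, rfl⟩, rfl⟩
    exact ⟨r, ⟨r, hr, rfl⟩, by simp⟩

theorem IsSylIn.card_eq {P Q M : Subgroup G} (hP : IsSylIn p P M) (hQ : IsSylIn p Q M) :
    Nat.card P = Nat.card Q := by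
  obtain ⟨x, -, rfl⟩ := hP.conj hQ
  exact (Subgroup.card_map_of_injective (MulAut.conj x).injective).symm

theorem IsSylIn.card_le {P Q M : Subgroup G} (hP : IsSylIn p P M) (hQ : IsPGroup p Q) (hle : Q ≤ M) :
    Nat.card Q ≤ Nat.card P := by
  obtain ⟨Q', hQQ', hQ'⟩ := exists_isSylIn_ge hQ hle
  rw [hP.card_eq hQ']
  exact Subgroup.card_le_of_le hQQ'

/-- If `A ⊓ X` is Sylow in `X` and `X` contains a Sylow subgroup of `G`, then `A ≤ X`. -/
theorem le_of_inf_isSylIn {A P M X : Subgroup G} (hA : IsSylIn p A M) (hP : IsSylIn p P M)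
    (hPX : P ≤ X) (h : IsSylIn p (A ⊓ X) X) : A ≤ X := by
  have h1 : Nat.card A ≤ Nat.card (A ⊓ X : Subgroup G) := by
    rw [hA.card_eq hP]; exact h.card_le hP.2.1 hPX
  have := Subgroup.eq_of_le_of_card_ge (inf_le_left : A ⊓ X ≤ A) h1
  exact inf_eq_left.mp this

theorem exists_normalizer_gt {D A : Subgroup G} (hA : IsPGroup p A) (hlt : D < A) :
    D < A ⊓ Subgroup.normalizer (D : Set G) := by
  have hnil : Group.IsNilpotent A := hA.isNilpotent
  have h : D.subgroupOf A < ⊤ :=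
    lt_top_iff_ne_top.mpr fun h => hlt.not_ge (Subgroup.subgroupOf_eq_top.mp h)
  obtain ⟨u, hu, hu'⟩ := SetLike.exists_of_lt (Group.normalizerCondition_of_isNilpotent _ h)
  refine lt_of_le_of_ne (le_inf hlt.le Subgroup.le_normalizer) fun e => hu' ?_
  have hn : (u : G) ∈ A ⊓ Subgroup.normalizer (D : Set G) :=
    ⟨u.2, mem_normalizer_of_conj_mem fun y hy =>
      (Subgroup.mem_normalizer_iff.mp hu ⟨y, hlt.le hy⟩).mp hy⟩
  rw [← e] at hn
  exact hn

end Finite

/-! ### Chains indexed by `Fin` and reachability -/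

theorem reflTransGen_iff_exists_fin {α : Type*} {r : α → α → Prop} {a b : α} :
    Relation.ReflTransGen r a b ↔ ∃ (n : ℕ) (c : Fin (n + 1) → α),
      c 0 = a ∧ c (Fin.last n) = b ∧ ∀ i : Fin n, r (c i.castSucc) (c i.succ) := by
  constructor
  · intro h
    induction h with
    | refl => exact ⟨0, fun _ => a, rfl, rfl, fun i => i.elim0⟩
    | @tail b' c' _ hbc ih =>
      obtain ⟨n, c, h0, hn, hs⟩ := ih
      refine ⟨n + 1, Fin.snoc c c', ?_, Fin.snoc_last _ _, fun i => ?_⟩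
      · rw [show (0 : Fin (n + 1 + 1)) = Fin.castSucc (0 : Fin (n + 1)) from rfl, Fin.snoc_castSucc]
        exact h0
      · induction i using Fin.lastCases with
        | last => rw [Fin.snoc_castSucc, Fin.succ_last, Fin.snoc_last, hn]; exact hbc
        | cast j =>
          rw [Fin.snoc_castSucc, ← Fin.castSucc_succ, Fin.snoc_castSucc]
          exact hs j
  · rintro ⟨n, c, rfl, rfl, hs⟩
    suffices ∀ i : Fin (n + 1), Relation.ReflTransGen r (c 0) (c i) from this _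
    intro i
    induction i using Fin.induction with
    | zero => exact .refl
    | succ i ih => exact ih.tail (hs i)

/-! ### Steps -/

/-- One link of a chain for `D`: `A` and `B` are conjugate inside a member `X` of `𝓕` meeting both
in Sylow subgroups, with `D ≤ B ⊓ X`. -/
def Step (p : ℕ) (𝓕 : Set (Subgroup G)) (D : Subgroup G) (A B : Sylow p G) : Prop :=
  ∃ X ∈ 𝓕, ∃ x ∈ X, cj x⁻¹ (B : Subgroup G) = A ∧ IsSylIn p ((A : Subgroup G) ⊓ X) X ∧
    IsSylIn p ((B : Subgroup G) ⊓ X) X ∧ D ≤ (B : Subgroup G) ⊓ X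

/-- Reachability by steps. -/
def Reach (p : ℕ) (𝓕 : Set (Subgroup G)) (D : Subgroup G) : Sylow p G → Sylow p G → Prop :=
  Relation.ReflTransGen (Step p 𝓕 D)

theorem controls_iff {𝓕 : Set (Subgroup G)} :
    Cfsg.ControlsSylowIntersections p 𝓕 ↔ ∀ S T : Sylow p G,
      (S : Subgroup G) ⊓ (T : Subgroup G) ≠ ⊥ →
      Reach p 𝓕 ((S : Subgroup G) ⊓ (T : Subgroup G)) S T := by
  constructor
  · intro h S T hne
    by_cases hST : S = T
    · subst hST; exact .refl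
    obtain ⟨n, c, X, x, h0, hn, hs⟩ := h S T hST hne
    refine reflTransGen_iff_exists_fin.mpr ⟨n, c, h0, hn, fun i => ?_⟩
    obtain ⟨h1, h2, h3, h4, h5⟩ := hs i
    rw [sylowMembers_iff] at h1 h2
    exact ⟨X i, h1.1, x i, h3, h4, h1.2, h2.2, h5⟩
  · intro h S T _ hne
    obtain ⟨n, c, h0, hn, hs⟩ := reflTransGen_iff_exists_fin.mp (h S T hne)
    choose X hX x hx h1 h2 h3 h4 using hs
    exact ⟨n, c, X, x, h0, hn, fun i => ⟨sylowMembers_iff.mpr ⟨hX i, h2 i⟩,
      sylowMembers_iff.mpr ⟨hX i, h3 i⟩, hx i, h1 i, h4 i⟩⟩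

theorem Reach.mono {𝓕 : Set (Subgroup G)} {D D' : Subgroup G} {A B : Sylow p G} (h : Reach p 𝓕 D' A B)
    (hle : D ≤ D') : Reach p 𝓕 D A B := by
  refine Relation.ReflTransGen.mono ?_ A B h
  rintro a b ⟨X, hX, x, hx, h1, h2, h3, h4⟩
  exact ⟨X, hX, x, hx, h1, h2, h3, hle.trans h4⟩

theorem Reach.le_right {𝓕 : Set (Subgroup G)} {D : Subgroup G} {A B : Sylow p G} (h : Reach p 𝓕 D A B)
    (hA : D ≤ A) : D ≤ (B : Subgroup G) := by
  induction h with
  | refl => exact hA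
  | tail _ hs _ =>
    obtain ⟨X, -, x, -, -, -, -, h4⟩ := hs
    exact h4.trans inf_le_left

theorem Reach.symm {𝓕 : Set (Subgroup G)} {D : Subgroup G} {A B : Sylow p G} (h : Reach p 𝓕 D A B)
    (hA : D ≤ A) : Reach p 𝓕 D B A := by
  induction h with
  | refl => exact .refl
  | @tail b c hab hbc ih =>
    have hb : D ≤ (b : Subgroup G) := Reach.le_right hab hA
    obtain ⟨X, hX, x, hx, h1, h2, h3, h4⟩ := hbc
    refine Relation.ReflTransGen.head ⟨X, hX, x⁻¹, X.inv_mem hx, ?_, h3, h2, le_inf hb (h4.trans inf_le_right)⟩ ih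
    rw [inv_inv, ← h1, cj_cj_inv]

theorem Reach.conj {𝓕 : Set (Subgroup G)} (h𝓕 : ∀ g : G, ∀ X ∈ 𝓕, cj g X ∈ 𝓕) {D : Subgroup G}
    {A B : Sylow p G} (h : Reach p 𝓕 D A B) (g : G) :
    Reach p 𝓕 (cj g D) (g • A) (g • B) := by
  induction h with
  | refl => exact .refl
  | @tail b c _ hbc ih =>
    obtain ⟨X, hX, x, hx, h1, h2, h3, h4⟩ := hbc
    refine ih.tail ⟨cj g X, h𝓕 g X hX, g * x * g⁻¹, ⟨x, hx, rfl⟩, ?_, ?_, ?_, ?_⟩
    · rw [coe_smul_sylow, coe_smul_sylow, cj_mul, ← h1, cj_mul]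
      congr 1; group
    · rw [coe_smul_sylow, ← cj_inf]; exact h2.cj g
    · rw [coe_smul_sylow, ← cj_inf]; exact h3.cj g
    · rw [coe_smul_sylow, ← cj_inf]; exact Subgroup.map_mono h4

/-! ### Regular subgroups -/

theorem mem_functorFamily {f : Subgroup G → Set (Subgroup G)} {M X : Subgroup G} :
    X ∈ Cfsg.functorFamily p f M ↔
      ∃ P, IsSylIn p P M ∧ ∃ F ∈ f P, X = M ⊓ Subgroup.normalizer (F : Set G) := by
  constructor
  · rintro ⟨P, F, hF, rfl⟩
    exact ⟨_, isSylIn_iff.mpr ⟨P, rfl⟩, F, hF, rfl⟩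
  · rintro ⟨P, hP, F, hF, rfl⟩
    obtain ⟨R, rfl⟩ := isSylIn_iff.mp hP
    exact ⟨R, F, hF, rfl⟩

/-- One link inside `M`. -/
def StepIn (p : ℕ) (f : Subgroup G → Set (Subgroup G)) (M D A B : Subgroup G) : Prop :=
  IsSylIn p B M ∧ ∃ X ∈ Cfsg.functorFamily p f M, ∃ x ∈ X, cj x⁻¹ B = A ∧
    IsSylIn p (A ⊓ X) X ∧ IsSylIn p (B ⊓ X) X ∧ D ≤ B ⊓ X

theorem subtype_map_cj {M : Subgroup G} (x : M) (A : Subgroup M) :
    (cj x A).map M.subtype = cj (x : G) (A.map M.subtype) := by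
  simp only [cj, Subgroup.map_map]
  rfl

theorem reach_of_regular {f : Subgroup G → Set (Subgroup G)} {M : Subgroup G}
    (h : Cfsg.IsFunctorRegular p f M) {P Q : Subgroup G} (hP : IsSylIn p P M) (hQ : IsSylIn p Q M)
    (hne : P ⊓ Q ≠ ⊥) : Relation.ReflTransGen (StepIn p f M (P ⊓ Q)) P Q := by
  obtain ⟨R, rfl⟩ := isSylIn_iff.mp hP
  obtain ⟨R', rfl⟩ := isSylIn_iff.mp hQ
  rw [← Subgroup.map_inf _ _ _ M.subtype_injective] at hne ⊢
  have := controls_iff.mp h R R' fun h0 => hne (by rw [h0, Subgroup.map_bot])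
  refine Relation.ReflTransGen.lift (fun A : Sylow p M => (A : Subgroup M).map M.subtype) ?_ _ _ this
  rintro A B ⟨_, ⟨X, hX, rfl⟩, x, hx, h1, h2, h3, h4⟩
  have hXM : X ≤ M := by
    obtain ⟨P', F, -, rfl⟩ := hX
    exact inf_le_left
  have hmap : ∀ C : Subgroup M, (C ⊓ X.subgroupOf M).map M.subtype = C.map M.subtype ⊓ X := fun C => by
    rw [Subgroup.map_inf _ _ _ M.subtype_injective, Subgroup.map_subgroupOf_eq_of_le hXM]
  have hs : ∀ C : Subgroup M, IsSylIn p (C ⊓ X.subgroupOf M) (X.subgroupOf M) →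
      IsSylIn p (C.map M.subtype ⊓ X) X := fun C hC => by
    have := hC.map M.subtype M.subtype_injective
    rwa [hmap, Subgroup.map_subgroupOf_eq_of_le hXM] at this
  refine ⟨isSylIn_iff.mpr ⟨B, rfl⟩, X, hX, x, hx, ?_, hs _ h2, hs _ h3, ?_⟩
  · simp only []
    rw [← h1, subtype_map_cj]; rfl
  · rw [← hmap]; exact Subgroup.map_mono h4

theorem regular_top_of_reach {f : Subgroup G → Set (Subgroup G)}
    (h : ∀ S T : Sylow p G, (S : Subgroup G) ⊓ (T : Subgroup G) ≠ ⊥ →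
      Reach p (Cfsg.functorFamily p f ⊤) ((S : Subgroup G) ⊓ (T : Subgroup G)) S T) :
    Cfsg.IsFunctorRegular p f ⊤ := by
  set e : (⊤ : Subgroup G) →* G := (⊤ : Subgroup G).subtype
  have he : Function.Injective e := Subgroup.subtype_injective _
  have hr : ∀ H : Subgroup G, H ≤ e.range := fun H => by
    rw [Subgroup.range_subtype]; exact le_top
  refine controls_iff.mpr fun R R' hne => ?_
  have hback : ∀ S : Sylow p G, ∃ R₁ : Sylow p (⊤ : Subgroup G), (R₁ : Subgroup (⊤ : Subgroup G)) = (S : Subgroup G).comap e :=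
    fun S => ⟨S.subtype le_top, rfl⟩
  choose back hback using hback
  have hfwd : ∀ R₁ : Sylow p (⊤ : Subgroup G), ∃ S : Sylow p G, (S : Subgroup G) = (R₁ : Subgroup (⊤ : Subgroup G)).map e :=
    fun R₁ => by
      have := isSylIn_iff.mpr ⟨R₁, rfl⟩
      exact ⟨⟨_, this.2.1, fun hQ hle => this.2.2 _ le_top hQ hle⟩, rfl⟩
  choose fwd hfwd using hfwd
  have hbf : ∀ R₁, back (fwd R₁) = R₁ := fun R₁ => Sylow.ext (by
    rw [hback, hfwd, Subgroup.comap_map_eq_self_of_injective he])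
  have hD : (fwd R : Subgroup G) ⊓ (fwd R' : Subgroup G) =
      ((R : Subgroup (⊤ : Subgroup G)) ⊓ (R' : Subgroup (⊤ : Subgroup G))).map e := by
    rw [hfwd, hfwd, Subgroup.map_inf _ _ _ he]
  have h1 := h (fwd R) (fwd R') fun h0 => hne ((Subgroup.map_eq_bot_iff_of_injective _ he).mp (hD ▸ h0))
  rw [← hbf R, ← hbf R']
  have h2 := Relation.ReflTransGen.lift (r := Step p (Cfsg.functorFamily p f ⊤) _) (p := Step p
    ((fun X : Subgroup G => X.subgroupOf (⊤ : Subgroup G)) '' Cfsg.functorFamily p f ⊤)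
    ((R : Subgroup (⊤ : Subgroup G)) ⊓ (R' : Subgroup (⊤ : Subgroup G)))) back ?_ _ _ h1
  · simp only [Function.onFun] at h2
    rwa [hbf, hbf] at h2 ⊢
  rintro A B ⟨X, hX, x, hx, h1, h2, h3, h4⟩
  have hs : ∀ C : Sylow p G, IsSylIn p ((C : Subgroup G) ⊓ X) X →
      IsSylIn p (((back C) : Subgroup (⊤ : Subgroup G)) ⊓ X.subgroupOf ⊤) (X.subgroupOf ⊤) := fun C hC => by
    rw [hback]; exact hC.comap e he (hr X)
  refine ⟨_, ⟨X, hX, rfl⟩, ⟨x, trivial⟩, hx, ?_, hs A h2, hs B h3, ?_⟩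
  · apply Subgroup.map_injective he
    rw [subtype_map_cj, hback, hback, Subgroup.map_comap_eq_self (hr _), Subgroup.map_comap_eq_self (hr _)]
    exact h1
  · rw [hback, ← Subgroup.comap_map_eq_self_of_injective he (_ ⊓ _), ← hD]
    exact Subgroup.comap_mono h4

theorem mem_functorFamily_top {f : Subgroup G → Set (Subgroup G)} {X : Subgroup G} :
    X ∈ Cfsg.functorFamily p f ⊤ ↔
      ∃ S : Sylow p G, ∃ F ∈ f (S : Subgroup G), X = Subgroup.normalizer (F : Set G) := by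
  rw [mem_functorFamily]
  constructor
  · rintro ⟨P, hP, F, hF, rfl⟩
    exact ⟨⟨P, hP.2.1, fun hQ hle => hP.2.2 _ le_top hQ hle⟩, F, hF, top_inf_eq _⟩
  · rintro ⟨S, F, hF, rfl⟩
    exact ⟨_, isSylIn_top S, F, hF, (top_inf_eq _).symm⟩

/-- In a regular subgroup containing Sylow subgroups of `G`, reachability for the global family. -/
theorem reach_of_regular_of_le [Finite G] [Fact p.Prime] {f : Subgroup G → Set (Subgroup G)}
    (hf : Cfsg.IsNormalizerFunctor p f) {M : Subgroup G} (h : Cfsg.IsFunctorRegular p f M)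
    {S T : Sylow p G} (hS : (S : Subgroup G) ≤ M) (hT : (T : Subgroup G) ≤ M)
    (hne : (S : Subgroup G) ⊓ (T : Subgroup G) ≠ ⊥) :
    Reach p (Cfsg.functorFamily p f ⊤) ((S : Subgroup G) ⊓ (T : Subgroup G)) S T := by
  have h0 := reach_of_regular h (isSylIn_of_le S hS) (isSylIn_of_le T hT) hne
  have hsyl : ∀ B : Subgroup G, IsSylIn p B M → ∃ U : Sylow p G, (U : Subgroup G) = B := fun B hB => by
    obtain ⟨U, hU⟩ := hB.2.1.exists_le_sylow
    refine ⟨U, (Subgroup.eq_of_le_of_card_ge hU ?_).symm⟩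
    rw [hB.card_eq (isSylIn_of_le S hS), (isSylIn_top U).card_eq (isSylIn_top S)]
  suffices ∀ B : Subgroup G,
      Relation.ReflTransGen (StepIn p f M ((S : Subgroup G) ⊓ (T : Subgroup G))) S B →
      IsSylIn p B M ∧ ∀ U : Sylow p G, (U : Subgroup G) = B →
        Reach p (Cfsg.functorFamily p f ⊤) ((S : Subgroup G) ⊓ (T : Subgroup G)) S U from
    (this _ h0).2 T rfl
  intro B hB
  induction hB with
  | refl =>
    exact ⟨isSylIn_of_le S hS, fun U hU => Sylow.ext hU ▸ .refl⟩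
  | @tail A B' _ hstep ih =>
    obtain ⟨hBM, X, hX, x, hx, h1, h2, h3, h4⟩ := hstep
    refine ⟨hBM, fun U hU => ?_⟩
    obtain ⟨UA, hUA⟩ := hsyl A ih.1
    obtain ⟨P, hP, F, hF, rfl⟩ := mem_functorFamily.mp hX
    obtain ⟨V, hV⟩ := hsyl P hP
    have hPF : P ≤ M ⊓ Subgroup.normalizer (F : Set G) :=
      le_inf hP.1 (Subgroup.le_normalizer.trans ((hf P hP.2.1).1 F hF).2)
    have hA' := le_of_inf_isSylIn ih.1 hP hPF h2
    have hB' := le_of_inf_isSylIn hBM hP hPF h3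
    refine (ih.2 UA hUA).tail ⟨Subgroup.normalizer (F : Set G), mem_functorFamily_top.mpr ⟨V, F, hV ▸ hF, rfl⟩, x, hx.2, ?_, ?_, ?_, ?_⟩
    · rw [hUA, hU]; exact h1
    · exact isSylIn_inf_of_le UA (hUA ▸ hA'.trans inf_le_right)
    · exact isSylIn_inf_of_le U (hU ▸ hB'.trans inf_le_right)
    · rw [hU]; exact h4.trans (inf_le_inf le_rfl inf_le_right)

theorem functorFamily_top_conj {f : Subgroup G → Set (Subgroup G)}
    (hf : Cfsg.IsNormalizerFunctor p f) :
    ∀ g : G, ∀ X ∈ Cfsg.functorFamily p f ⊤, cj g X ∈ Cfsg.functorFamily p f ⊤ := by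
  intro g X hX
  obtain ⟨S, F, hF, rfl⟩ := mem_functorFamily_top.mp hX
  refine mem_functorFamily_top.mpr ⟨g • S, cj g F, ?_, cj_normalizer g F⟩
  rw [coe_smul_sylow, cj, (hf _ S.isPGroup').2 g]
  exact ⟨F, hF, rfl⟩

end Cfsg.Agent.H61
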