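import Cfsg.Agent.FusionSys.Normal
import Cfsg.Agent.FusionSys.Group
import Cfsg.Agent.H89.Join
import Cfsg.Agent.H39.WreathKlein
import Cfsg.Agent.H39.SemiDihedralSubgroups
import Cfsg.Agent.H61.ZStarInst
import Cfsg.Agent.H61.ZStarCor2

/-!
If a Sylow 2-subgroup `S` has 2-rank at most two and contains an involution central modulo the odd core,
then `Z(S)` is central in the fusion system on `S`.
-/

set_option autoImplicit false

namespace Cfsg.Agent.H61

/-- All elementary abelian 2-subgroups have order at most four. -/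
def TwoRankLeTwo (S : Type*) [Group S] : Prop :=
  ∀ E : Subgroup S, (∀ a ∈ E, a * a = 1) → Nat.card E ≤ 4

theorem comm_of_sq_one {S : Type*} [Group S] {E : Subgroup S} (hE : ∀ a ∈ E, a * a = 1) {a b : S}
    (ha : a ∈ E) (hb : b ∈ E) : a * b = b * a := by
  have h1 := hE _ (E.mul_mem ha hb)
  have h2 : a⁻¹ = a := inv_eq_of_mul_eq_one_right (hE a ha)
  have h3 : b⁻¹ = b := inv_eq_of_mul_eq_one_right (hE b hb)
  calc a * b = (a * b)⁻¹ := (inv_eq_of_mul_eq_one_right h1).symm
    _ = b * a := by rw [mul_inv_rev, h2, h3]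

theorem card_le_four_of_subset {S : Type*} [Group S] [Finite S] (E : Subgroup S) (a b c : S)
    (h : ∀ g ∈ E, g = 1 ∨ g = a ∨ g = b ∨ g = c) : Nat.card E ≤ 4 := by
  classical
  have hsub : (E : Set S) ⊆ ({1, a, b, c} : Set S) := fun g hg => by
    simpa using h g hg
  calc Nat.card E = (E : Set S).ncard := (Nat.card_coe_set_eq _)
    _ ≤ ({1, a, b, c} : Set S).ncard := Set.ncard_le_ncard hsub (Set.toFinite _)
    _ ≤ 4 := by
      refine (Set.ncard_insert_le _ _).trans ?_
      have h1 := Set.ncard_insert_le a ({b, c} : Set S)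
      have h2 := Set.ncard_insert_le b ({c} : Set S)
      rw [Set.ncard_singleton] at h2
      omega

theorem twoRankLeTwo_of_isQuasiDihedral {S : Type*} [Group S] [Finite S]
    (hS : Cfsg.IsQuasiDihedral S) : TwoRankLeTwo S := by
  classical
  obtain ⟨m, x, y, h⟩ := H39.exists_sdGen hS
  intro E hE
  by_cases he : ∀ g ∈ E, g = 1
  · exact card_le_four_of_subset E 1 1 1 fun g hg => Or.inl (he g hg)
  push Not at he
  obtain ⟨a, ha, ha1⟩ := he
  by_cases he : ∀ g ∈ E, g = 1 ∨ g = a
  · exact card_le_four_of_subset E a a a fun g hg => (he g hg).imp id Or.inl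
  push Not at he
  obtain ⟨b, hb, hb1, hba⟩ := he
  have ho : ∀ g ∈ E, g ≠ 1 → orderOf g = 2 := fun g hg hg1 =>
    orderOf_eq_prime (by rw [pow_two]; exact hE g hg) hg1
  obtain ⟨T, hT, hTm⟩ := H39.klein_mk (ho a ha ha1) (ho b hb hb1) (Ne.symm hba)
    (comm_of_sq_one hE ha hb)
  have hET : E ≤ T := by
    rw [← h.klein_centralizer hT]
    intro g hg
    rw [Subgroup.mem_centralizer_iff]
    intro t ht
    have htE : t ∈ E := by
      rcases (hTm t).1 ht with e | e | e | e <;> subst e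
      · exact E.one_mem
      · exact ha
      · exact hb
      · exact E.mul_mem ha hb
    exact comm_of_sq_one hE htE hg
  exact (Subgroup.card_le_of_le hET).trans hT.card_four.le

theorem twoRankLeTwo_of_isWreathed {S : Type*} [Group S] [Finite S]
    (hS : Cfsg.IsWreathed S) : TwoRankLeTwo S := by
  classical
  obtain ⟨m, x, y, z, h⟩ := H39.exists_wGen hS
  intro E hE
  set t : ℤ := 2 * 2 ^ m with ht
  have hhalf : ∀ a : ℤ, (4 * 2 ^ m : ℤ) ∣ 2 * a →
      (4 * 2 ^ m : ℤ) ∣ a ∨ (4 * 2 ^ m : ℤ) ∣ a - t := by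
    rintro a ⟨k, hk⟩
    rcases Int.even_or_odd' k with ⟨l, rfl | rfl⟩
    · exact Or.inl ⟨l, by linarith⟩
    · exact Or.inr ⟨l, by rw [ht]; linarith⟩
  have hinB : ∀ g ∈ E, g ∈ h.base → ∃ a b : ℤ, g = x ^ a * y ^ b ∧
      (4 * 2 ^ m : ℤ) ∣ 2 * a ∧ (4 * 2 ^ m : ℤ) ∣ 2 * b := by
    rintro g hg ⟨a, b, rfl⟩
    refine ⟨a, b, rfl, ?_⟩
    have := hE _ hg
    rw [h.mul_in, h.pq_eq_one, ← two_mul, ← two_mul] at this
    exact this
  have hval : ∀ a : ℤ, (4 * 2 ^ m : ℤ) ∣ 2 * a →
      (x ^ a = 1 ∧ y ^ a = 1) ∨ (x ^ a = x ^ t ∧ y ^ a = y ^ t) := by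
    intro a ha
    rcases hhalf a ha with hd | hd
    · exact Or.inl ⟨h.zpow_eq_one_x.2 hd, h.zpow_eq_one_y.2 hd⟩
    · refine Or.inr ⟨?_, ?_⟩
      · rw [← sub_add_cancel a t, zpow_add, h.zpow_eq_one_x.2 hd, one_mul]
      · rw [← sub_add_cancel a t, zpow_add, h.zpow_eq_one_y.2 hd, one_mul]
  by_cases hEB : E ≤ h.base
  · refine card_le_four_of_subset E (y ^ t) (x ^ t) (x ^ t * y ^ t) fun g hg => ?_
    obtain ⟨a, b, rfl, ha, hb⟩ := hinB g hg (hEB hg)
    rcases hval a ha with ⟨e1, -⟩ | ⟨e1, -⟩ <;> rcases hval b hb with ⟨-, e2⟩ | ⟨-, e2⟩ <;>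
      simp [e1, e2]
  · rw [H39.card_eq_two_mul_inf h.index_base hEB]
    obtain ⟨e, he, heB⟩ := SetLike.not_le_iff_exists.1 hEB
    have hsub : ((E ⊓ h.base : Subgroup S) : Set S) ⊆ ({1, x ^ t * y ^ t} : Set S) := by
      rintro g ⟨hg, hgB⟩
      obtain ⟨c, d, rfl, hc, -⟩ := hinB g hg hgB
      rcases h.cases_elem e with ⟨a, b, rfl⟩ | ⟨a, b, rfl⟩
      · exact absurd (h.in_mem_base a b) heB
      · have hd := (h.commute_out_in).1 (comm_of_sq_one hE hg he)
        have e' : y ^ d = y ^ c := by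
          rw [← sub_add_cancel c d, zpow_add, h.zpow_eq_one_y.2 hd, one_mul]
        rcases hval c hc with ⟨e1, e2⟩ | ⟨e1, e2⟩ <;> simp [e1, e2, e']
    have h2 : Nat.card (E ⊓ h.base : Subgroup S) ≤ 2 := by
      calc Nat.card (E ⊓ h.base : Subgroup S) = ((E ⊓ h.base : Subgroup S) : Set S).ncard :=
            Nat.card_coe_set_eq _
        _ ≤ ({1, x ^ t * y ^ t} : Set S).ncard := Set.ncard_le_ncard hsub (Set.toFinite _)
        _ ≤ 2 := by
          refine (Set.ncard_insert_le _ _).trans ?_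
          rw [Set.ncard_singleton]
    omega

section Action

variable {G : Type*} [Group G]

/-- An element of odd order fixing an involution `z` and normalising an abelian 2-group `A` of rank at most two
containing `z` centralises `A`. -/
theorem odd_fixes_rank_two {A E : Subgroup G} [Finite E] {z g : G}
    (hAc : ∀ a ∈ A, ∀ b ∈ A, a * b = b * a) (hE : ∀ a : G, a ∈ E ↔ a ∈ A ∧ a * a = 1)
    (hcard : Nat.card E ≤ 4) (hzA : z ∈ A) (hz : orderOf z = 2)
    (hgA : ∀ a ∈ A, g * a * g⁻¹ ∈ A) (hgz : g * z * g⁻¹ = z) (hg : Odd (orderOf g)) :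
    ∀ (k : ℕ), ∀ a ∈ A, a ^ (2 ^ k) = 1 → g * a * g⁻¹ = a := by
  classical
  obtain ⟨r, hr⟩ := hg
  have hzE : z ∈ E := (hE z).2 ⟨hzA, by rw [← pow_two, ← hz, pow_orderOf_eq_one]⟩
  have hgE : ∀ a ∈ E, g * a * g⁻¹ ∈ E := fun a ha => (hE _).2
    ⟨hgA a ((hE a).1 ha).1, by
      rw [show g * a * g⁻¹ * (g * a * g⁻¹) = g * (a * a) * g⁻¹ by group, ((hE a).1 ha).2, mul_one,
        mul_inv_cancel]⟩
  have hcyc : ∀ a : G, g * g * a = a * (g * g) → g * a = a * g := by
    intro a ha
    have hc : Commute (g * g) a := ha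
    have h1 := hc.pow_left (r + 1)
    have h2 : (g * g) ^ (r + 1) = g := by
      rw [← pow_two, ← pow_mul, show 2 * (r + 1) = orderOf g + 1 by omega, pow_succ,
        pow_orderOf_eq_one, one_mul]
    rw [h2] at h1
    exact h1
  have hfixE : ∀ a ∈ E, g * a * g⁻¹ = a := by
    intro a ha
    by_contra hne
    have ha1 : a ≠ 1 := fun e => hne (by simp [e])
    have haz : a ≠ z := fun e => hne (by simp [e, hgz])
    set b := g * a * g⁻¹ with hb
    have hbE : b ∈ E := hgE a ha
    have hb1 : b ≠ 1 := fun e => ha1 (by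
      have : a = g⁻¹ * b * g := by rw [hb]; group
      rw [this, e]; group)
    have hbz : b ≠ z := fun e => haz (by
      have h1 : g * a * g⁻¹ = g * z * g⁻¹ := e.trans hgz.symm
      exact mul_left_cancel (mul_right_cancel h1))
    have hcE : g * b * g⁻¹ ∈ E := hgE b hbE
    set c := g * b * g⁻¹ with hc
    have hc1 : c ≠ 1 := fun e => hb1 (by
      have : b = g⁻¹ * c * g := by rw [hc]; group
      rw [this, e]; group)
    have hcz : c ≠ z := fun e => hbz (by
      have h1 : g * b * g⁻¹ = g * z * g⁻¹ := e.trans hgz.symm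
      exact mul_left_cancel (mul_right_cancel h1))
    have hcb : c ≠ b := fun e => hne (by
      have h1 : g * b * g⁻¹ = g * a * g⁻¹ := e
      exact mul_left_cancel (mul_right_cancel h1))
    by_cases hca : c = a
    · refine hne ?_
      have h1 : g * g * a = a * (g * g) := by
        have : g * g * a * (g * g)⁻¹ = a := by
          calc g * g * a * (g * g)⁻¹ = g * (g * a * g⁻¹) * g⁻¹ := by group
            _ = a := hca
        exact mul_inv_eq_iff_eq_mul.1 this
      exact mul_inv_eq_iff_eq_mul.2 (hcyc a h1)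
    · have hsub : (({1, z, a, b, c} : Finset G) : Set G) ⊆ (E : Set G) := by
        simp only [Finset.coe_insert, Finset.coe_singleton, Set.insert_subset_iff,
          Set.singleton_subset_iff, SetLike.mem_coe]
        exact ⟨E.one_mem, hzE, ha, hbE, hcE⟩
      have hz1 : z ≠ 1 := fun e => by simp [e] at hz
      have h5 : ({1, z, a, b, c} : Finset G).card = 5 := by
        rw [Finset.card_insert_of_notMem (by simp [Ne.symm hz1, Ne.symm ha1, Ne.symm hb1, Ne.symm hc1]),
          Finset.card_insert_of_notMem (by simp [Ne.symm haz, Ne.symm hbz, Ne.symm hcz]),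
          Finset.card_insert_of_notMem (by simp [Ne.symm hne, Ne.symm hca]),
          Finset.card_insert_of_notMem (by simp [Ne.symm hcb]), Finset.card_singleton]
      have := Set.ncard_le_ncard hsub (Set.toFinite (E : Set G))
      rw [Set.ncard_coe_finset, h5, ← Nat.card_coe_set_eq] at this
      exact absurd (this.trans hcard) (by norm_num)
  intro k
  induction k with
  | zero =>
    intro a _ ha
    rw [pow_zero, pow_one] at ha
    simp [ha]
  | succ k ih =>
    intro a ha hak
    have h2 : g * (a * a) * g⁻¹ = a * a := by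
      refine ih _ (A.mul_mem ha ha) ?_
      rw [← pow_two, ← pow_mul, ← pow_succ']
      exact hak
    set w := g * a * g⁻¹ * a⁻¹ with hw
    have hbA := hgA a ha
    have hwE : w ∈ E := by
      refine (hE w).2 ⟨A.mul_mem hbA (A.inv_mem ha), ?_⟩
      have hcomm := hAc _ (A.inv_mem ha) _ hbA
      rw [hw]
      calc g * a * g⁻¹ * a⁻¹ * (g * a * g⁻¹ * a⁻¹)
          = g * a * g⁻¹ * (a⁻¹ * (g * a * g⁻¹)) * a⁻¹ := by group
        _ = g * (a * a) * g⁻¹ * (a * a)⁻¹ := by rw [hcomm]; group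
        _ = 1 := by rw [h2]; group
    have hwf := hfixE w hwE
    have hiter : ∀ n : ℕ, g ^ n * a * (g ^ n)⁻¹ = w ^ n * a := by
      intro n
      induction n with
      | zero => simp
      | succ n ihn =>
        have hwn : g * w ^ n * g⁻¹ = w ^ n := by
          rw [← conj_pow, hwf]
        calc g ^ (n + 1) * a * (g ^ (n + 1))⁻¹ = g * (g ^ n * a * (g ^ n)⁻¹) * g⁻¹ := by
              rw [pow_succ']; group
          _ = g * w ^ n * g⁻¹ * (g * a * g⁻¹) := by rw [ihn]; group
          _ = w ^ n * (w * a) := by rw [hwn, show w * a = g * a * g⁻¹ from by rw [hw, inv_mul_cancel_right]]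
          _ = w ^ (n + 1) * a := by rw [pow_succ]; exact (mul_assoc _ _ _).symm
    have h1 := hiter (orderOf g)
    rw [pow_orderOf_eq_one, one_mul, inv_one, mul_one] at h1
    have hw2 : w * w = 1 := ((hE w).1 hwE).2
    rw [hr, pow_succ, pow_mul, pow_two, hw2, one_pow, one_mul] at h1
    have hw1 : w = 1 := mul_eq_right.1 h1.symm
    rw [hw] at hw1
    exact mul_inv_eq_one.1 hw1

end Action

universe u

open Cfsg.Agent.FusionSys in
/-- In rank at most two, an involution central modulo the odd core makes `Z(S)` central in the fusion system. -/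
theorem center_le_fusion_center {G : Type u} [Group G] [Finite G] (S : Sylow 2 G)
    (hr : TwoRankLeTwo (S : Subgroup G)) (z : G) (hzS : z ∈ S) (hz2 : orderOf z = 2)
    (hz : ∀ g : G, z * g * z⁻¹ * g⁻¹ ∈ Cfsg.oddCore G) :
    (Subgroup.center (S : Subgroup G)).map (S : Subgroup G).subtype ≤
      (Cfsg.groupFusionSystem (S : Subgroup G)).center := by
  classical
  haveI : Fact (Nat.Prime 2) := ⟨Nat.prime_two⟩
  set Z : Subgroup G := (Subgroup.center (S : Subgroup G)).map (S : Subgroup G).subtype with hZdef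
  have hZS : Z ≤ (S : Subgroup G) := Subgroup.map_subtype_le _
  have hZc : ∀ c : G, c ∈ Z ↔ c ∈ (S : Subgroup G) ∧ ∀ s ∈ (S : Subgroup G), s * c = c * s := by
    intro c
    constructor
    · rintro ⟨c', hc', rfl⟩
      exact ⟨c'.2, fun s hs => congrArg Subtype.val (Subgroup.mem_center_iff.mp hc' ⟨s, hs⟩)⟩
    · rintro ⟨hc, h⟩
      exact ⟨⟨c, hc⟩, Subgroup.mem_center_iff.mpr fun s => Subtype.ext (h s s.2), rfl⟩
  have hdisj : ∀ x : G, x ∈ (S : Subgroup G) → x ∈ Cfsg.oddCore G → x = 1 := by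
    intro x hx hxO
    obtain ⟨k, hk⟩ := IsPGroup.iff_orderOf.mp S.isPGroup' ⟨x, hx⟩
    rw [Subgroup.orderOf_mk] at hk
    have h1 : orderOf x ∣ Nat.card (Cfsg.oddCore G) := Subgroup.orderOf_dvd_natCard _ hxO
    rcases k with _ | k
    · exact orderOf_eq_one_iff.1 (by rw [hk, pow_zero])
    · exfalso
      have h2 : 2 ∣ Nat.card (Cfsg.oddCore G) := (dvd_pow_self 2 (Nat.succ_ne_zero k)).trans (hk ▸ h1)
      exact (Nat.not_even_iff_odd.2 ((Cfsg.Agent.Cores.odd_card_oddCore (G := G)))) (even_iff_two_dvd.2 h2)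
  -- elements normalising a 2-subgroup which contains `z` fix `z`
  have hfixz : ∀ (P : Subgroup G) (g : G), P ≤ (S : Subgroup G) → z ∈ P →
      g ∈ Subgroup.normalizer (P : Set G) → g * z * g⁻¹ = z := by
    intro P g hP hzP hg
    have h1 : g * z * g⁻¹ * z⁻¹ ∈ Cfsg.oddCore G := by
      have := (Cfsg.oddCore G).inv_mem (hz g)
      simpa [mul_assoc] using this
    have h2 := hdisj _ ((S : Subgroup G).mul_mem (hP ((Subgroup.mem_normalizer_iff.mp hg z).mp hzP))
      ((S : Subgroup G).inv_mem hzS)) h1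
    exact mul_inv_eq_one.1 h2
  have hzZ : z ∈ Z := (hZc z).2 ⟨hzS, fun s hs => mul_inv_eq_iff_eq_mul.1
    (hfixz _ s le_rfl hzS (Subgroup.le_normalizer hs))⟩
  set F := Cfsg.groupFusionSystem (S : Subgroup G) with hF
  have hSat : F.IsSaturated 2 := isSaturated_group S
  have haut : ∀ P, F.IsFullyNormalized P → F.IsCentric P →
      ∀ g ∈ Subgroup.normalizer (P : Set G), ∀ c ∈ Z, g * c * g⁻¹ = c := by
    intro P hfn hcent
    have hPS : P ≤ (S : Subgroup G) := hcent.1
    have hZP : Z ≤ P := fun c hc => by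
      refine centralizerIn_le_of_isCentric hcent ⟨hZS hc, Subgroup.mem_centralizer_iff.mpr ?_⟩
      exact fun s hs => ((hZc c).1 hc).2 s (hPS hs)
    set A : Subgroup G := P ⊓ Subgroup.centralizer (P : Set G) with hA
    have hZA : Z ≤ A := fun c hc => ⟨hZP hc, Subgroup.mem_centralizer_iff.mpr
      fun s hs => ((hZc c).1 hc).2 s (hPS hs)⟩
    have hAc : ∀ a ∈ A, ∀ b ∈ A, a * b = b * a := fun a ha b hb =>
      (Subgroup.mem_centralizer_iff.1 hb.2) a ha.1
    let E : Subgroup G :=
      { carrier := {a | a ∈ A ∧ a * a = 1}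
        mul_mem' := fun {a b} ha hb => ⟨A.mul_mem ha.1 hb.1, by
          calc a * b * (a * b) = a * (b * a) * b := by group
            _ = a * (a * b) * b := by rw [hAc b hb.1 a ha.1]
            _ = (a * a) * (b * b) := by group
            _ = 1 := by rw [ha.2, hb.2, one_mul]⟩
        one_mem' := ⟨A.one_mem, one_mul 1⟩
        inv_mem' := fun {a} ha => ⟨A.inv_mem ha.1, by rw [← mul_inv_rev, ha.2, inv_one]⟩ }
    have hcardE : Nat.card E ≤ 4 := by
      have hES : E ≤ (S : Subgroup G) := fun a ha => hPS ha.1.1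
      rw [← Nat.card_congr (Subgroup.subgroupOfEquivOfLe hES).toEquiv]
      exact hr _ fun a ha => Subtype.ext ha.2
    intro g hg c hc
    set C : Subgroup G := Subgroup.normalizer (P : Set G) ⊓ Subgroup.centralizer ({c} : Set G) with hC
    have hodd : ∀ u ∈ Subgroup.normalizer (P : Set G), Odd (orderOf u) → u ∈ C := by
      intro u hu huo
      refine ⟨hu, Subgroup.mem_centralizer_singleton_iff.mpr ?_⟩
      have hgA : ∀ a ∈ A, u * a * u⁻¹ ∈ A := fun a ha => ⟨(Subgroup.mem_normalizer_iff.mp hu a).mp ha.1, Subgroup.mem_centralizer_iff.mpr <| by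
        intro s hs
        have hs' : u⁻¹ * s * u ∈ P := by
          simpa using (Subgroup.mem_normalizer_iff.1 (inv_mem hu) s).1 hs
        have := (Subgroup.mem_centralizer_iff.1 ha.2) _ hs'
        calc s * (u * a * u⁻¹) = u * (u⁻¹ * s * u * a) * u⁻¹ := by group
          _ = u * a * u⁻¹ * s := by rw [this]; group⟩
      obtain ⟨k, hk⟩ := IsPGroup.iff_orderOf.mp S.isPGroup' ⟨c, hZS hc⟩
      rw [Subgroup.orderOf_mk] at hk
      have := odd_fixes_rank_two (E := E) hAc (fun a => Iff.rfl) hcardE (hZA hzZ) hz2 hgA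
        (hfixz P u hPS (hZP hzZ) hu) huo k c (hZA hc) (by rw [← hk, pow_orderOf_eq_one])
      exact mul_inv_eq_iff_eq_mul.1 this
    have hNS : Cfsg.FusionSystem.normalizerIn (S : Subgroup G) P ≤ C := fun s hs => ⟨hs.2,
      Subgroup.mem_centralizer_singleton_iff.mpr (((hZc c).1 hc).2 s hs.1)⟩
    have hrel : C.relIndex (Subgroup.normalizer (P : Set G)) = 1 := by
      by_contra h1
      obtain ⟨q, hq, hqd⟩ := Nat.exists_prime_and_dvd h1
      haveI : Fact q.Prime := ⟨hq⟩
      rcases hq.eq_two_or_odd' with rfl | hqo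
      · exact (isFullyNormalized_group_iff S hPS).1 hfn
          (hqd.trans (Subgroup.relIndex_dvd_of_le_left _ hNS))
      · obtain ⟨Q⟩ := (inferInstance : Nonempty (Sylow q ↥(Subgroup.normalizer (P : Set G))))
        have hQC : (Q : Subgroup ↥(Subgroup.normalizer (P : Set G))) ≤
            C.subgroupOf (Subgroup.normalizer (P : Set G)) := by
          intro u hu
          refine hodd u u.2 ?_
          obtain ⟨k, hk⟩ := IsPGroup.iff_orderOf.mp Q.isPGroup' ⟨u, hu⟩
          rw [Subgroup.orderOf_mk] at hk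
          rw [Subgroup.orderOf_coe, hk]
          exact hqo.pow
        exact Q.not_dvd_index (hqd.trans (Subgroup.index_dvd_of_le hQC))
    have hgC := (Subgroup.relIndex_eq_one.1 hrel) hg
    exact mul_inv_eq_iff_eq_mul.2 (Subgroup.mem_centralizer_singleton_iff.1 hgC.2)
  let Φ : Subgroup G → (G → G) → Prop := fun P f => ∀ x ∈ P, (x ∈ Z ∨ f x ∈ Z) → f x = x
  let E : Cfsg.FusionSystem (S : Subgroup G) := subSys F Φ
    (fun P f g h he x hx hxz => by
      rw [he x hx] at hxz ⊢
      exact h x hx hxz)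
    (fun P a hP ha x hx hxz => by
      rcases hxz with h | h
      · show a * x * a⁻¹ = x
        exact mul_inv_eq_iff_eq_mul.2 (((hZc x).1 h).2 a ha)
      · show a * x * a⁻¹ = x
        have h' : a * x * a⁻¹ ∈ Z := h
        have h2 := ((hZc _).1 h').2 a ha
        have h3 : a * (a * x * a⁻¹) * a⁻¹ = a * x * a⁻¹ := mul_inv_eq_iff_eq_mul.2 h2
        exact mul_left_cancel (mul_right_cancel h3))
    (fun P Q f g _ _ hm h1 h2 x hx hxz => by
      show g (f x) = x
      rcases hxz with h | h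
      · have e1 := h1 x hx (Or.inl h)
        rw [h2 (f x) (hm x hx) (Or.inl (e1.symm ▸ h)), e1]
      · have e2 := h2 (f x) (hm x hx) (Or.inr h)
        have h' : f x ∈ Z := e2 ▸ h
        rw [e2, h1 x hx (Or.inr h')])
    (fun P Q f g hf _ hinv h1 y hy hyz => by
      obtain ⟨x, hx, rfl⟩ := hf.exists_preimage hy
      rw [hinv x hx] at hyz ⊢
      exact (h1 x hx hyz.symm).symm)
  have hle : F ≤ E := le_of_autGroup_centricRadical (p := 2) S.isPGroup' hSat fun P hfn hcent _ α hα => by
    have hPS : P ≤ (S : Subgroup G) := hcent.1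
    have hm := (mem_autGroup_iff hPS).1 hα
    rw [hF, autGroup_group hPS] at hα
    obtain ⟨a, -, han, rfl⟩ := mem_autInducedBy.1 hα
    apply mem_autGroup_of_isMap
    obtain ⟨φ, hφ, he⟩ := hm
    refine ⟨φ, ⟨hφ, fun x hx hxz => ?_⟩, he⟩
    rw [homFun_mem φ hx] at hxz ⊢
    rw [he, autMap_conjAut han hx] at hxz ⊢
    show a * x * a⁻¹ = x
    rcases hxz with h | h
    · exact haut P hfn hcent a han x h
    · have h' : a * x * a⁻¹ ∈ Z := h
      have h3 := haut P hfn hcent a han _ h'
      exact mul_left_cancel (mul_right_cancel h3)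
  refine H89.le_center F (isCentral_of_singleton (p := 2) S.isPGroup' hSat hZS ?_)
  intro P f hf x hx hxZ
  obtain ⟨φ, hφ, he⟩ := le_iff_isMap.1 hle P f hf
  have := hφ.2 x hx (Or.inl hxZ)
  rwa [homFun_mem φ hx, he] at this

end Cfsg.Agent.H61
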