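import Cfsg.Agent.S3246
import Cfsg.Agent.H40.BalanceConstrained
import Cfsg.Agent.H40.Generation
import Cfsg.Agent.H48.SylowIn
import Cfsg.Agent.H61.ZStarInst
import Cfsg.Agent.H61.ZStarCor2

/-!
Groups of characteristic 2 type in the early sense: every 2-local subgroup has characteristic 2, and a
non-abelian simple one has a maximal 2-local `M` with `Z(O₂(M))` non-cyclic.
-/

set_option autoImplicit false
set_option linter.unusedSectionVars false

namespace Cfsg.Agent.H61.EarlyCharTwo

open Subgroup Cfsg.Agent.H65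
open Cfsg (centralizerPPrimeCore)

universe u

variable {G : Type u} [Group G] [Finite G]

theorem isPElem_invol {a : G} (ha : orderOf a = 2) : H40.IsPElem 2 a :=
  ⟨1, by rw [pow_one, ← ha, pow_orderOf_eq_one]⟩

theorem odd_orderOf_theta {a x : G} (hx : x ∈ centralizerPPrimeCore 2 a) : Odd (orderOf x) := by
  refine Nat.Coprime.odd_of_left (Nat.Coprime.coprime_dvd_right (orderOf_dvd_natCard _ hx) ?_)
  rw [centralizerPPrimeCore, card_map_of_injective (subtype_injective _)]
  exact Cores.coprime_card_pPrimeCore.symm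

theorem theta_odd_card (a : G) : ¬ 2 ∣ Nat.card (centralizerPPrimeCore 2 a) := by
  rw [centralizerPPrimeCore, card_map_of_injective (subtype_injective _)]
  exact (Nat.Prime.coprime_iff_not_dvd Nat.prime_two).1 Cores.coprime_card_pPrimeCore.symm

theorem theta_le_normalizer (a : G) :
    centralizer ({a} : Set G) ≤ normalizer (centralizerPPrimeCore 2 a : Set G) :=
  Components.le_normalizer_map_subtype _

theorem conj_mem_theta {a x : G} (g : G) (hx : x ∈ centralizerPPrimeCore 2 a) :
    g * x * g⁻¹ ∈ centralizerPPrimeCore 2 (g * a * g⁻¹) := by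
  set C := centralizer ({g * a * g⁻¹} : Set G) with hC
  set X : Subgroup G := H48.cj g (centralizerPPrimeCore 2 a) with hX
  have hcj : H48.cj g (centralizer ({a} : Set G)) = C := by
    ext y
    rw [H48.mem_cj, hC, mem_centralizer_singleton_iff, mem_centralizer_singleton_iff]
    constructor
    · intro h
      calc y * (g * a * g⁻¹) = g * (g⁻¹ * y * g * a) * g⁻¹ := by group
        _ = g * a * g⁻¹ * y := by rw [h]; group
    · intro h
      calc g⁻¹ * y * g * a = g⁻¹ * (y * (g * a * g⁻¹)) * g := by group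
        _ = a * (g⁻¹ * y * g) := by rw [h]; group
  have hXC : X ≤ C := hcj ▸ H48.cj_mono (map_subtype_le _)
  have hXn : C ≤ normalizer (X : Set G) := by
    rw [← hcj, hX, ← H48.cj_normalizer]
    exact H48.cj_mono (theta_le_normalizer a)
  haveI : (X.subgroupOf C).Normal := (normal_subgroupOf_iff_le_normalizer hXC).2 hXn
  have hXo : (Nat.card (X.subgroupOf C)).Coprime 2 := by
    rw [Nat.card_congr (subgroupOfEquivOfLe hXC).toEquiv, hX, H48.card_cj]
    exact ((Nat.Prime.coprime_iff_not_dvd Nat.prime_two).2 (theta_odd_card a)).symm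
  exact ⟨⟨_, hXC (H48.conj_mem_cj hx)⟩, Cores.le_pPrimeCore hXo (H48.conj_mem_cj hx), rfl⟩

variable (S : Sylow 2 G) (A : Subgroup G)
  (hA : Cfsg.IsSCN (S : Subgroup G) A) (hA3 : ¬ Cfsg.PRankLE 2 2 ↥A)
  (hinv : ∀ X : Subgroup G, Odd (Nat.card ↥X) → (S : Subgroup G) ≤ Subgroup.normalizer (X : Set G) → X = ⊥)
  (hcon : ∀ T : Subgroup G, IsPGroup 2 ↥T → T ≠ ⊥ → Cfsg.IsPConstrained 2 ↥(Subgroup.normalizer (T : Set G)))
include hA hA3 hinv hcon

theorem constrained_centralizer {t : G} (ht : orderOf t = 2) :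
    Cfsg.IsPConstrained 2 ↥(centralizer ({t} : Set G)) := by
  haveI : Fact (Nat.Prime 2) := ⟨Nat.prime_two⟩
  have h := hcon (zpowers t) (IsPGroup.of_card (n := 1) (by rw [Nat.card_zpowers, ht, pow_one]))
    (fun h => ne_one_of_orderOf ht (zpowers_eq_bot.1 h))
  rwa [S3246.normalizer_zpowers_invol ht] at h

theorem balance {a b : G} (ha : orderOf a = 2) (hb : orderOf b = 2) (hab : a * b = b * a) :
    centralizerPPrimeCore 2 a ⊓ centralizer ({b} : Set G) ≤ centralizerPPrimeCore 2 b :=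
  haveI : Fact (Nat.Prime 2) := ⟨Nat.prime_two⟩
  H40.balance_of_constrained (isPElem_invol ha) hab (constrained_centralizer S A hA hA3 hinv hcon hb)

theorem theta_central_eq_bot {z : G} (hzc : ∀ s ∈ (S : Subgroup G), s * z = z * s) :
    centralizerPPrimeCore 2 z = ⊥ := by
  refine hinv _ (Nat.not_even_iff_odd.1 fun he => theta_odd_card z he.two_dvd) ?_
  exact le_trans (fun s hs => mem_centralizer_singleton_iff.2 (hzc s hs)) (theta_le_normalizer z)

theorem theta_eq_bot {t : G} (ht : orderOf t = 2) : centralizerPPrimeCore 2 t = ⊥ := by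
  haveI : Fact (Nat.Prime 2) := ⟨Nat.prime_two⟩
  have hAab : ∀ a ∈ A, ∀ b ∈ A, a * b = b * a := fun a ha b hb =>
    (show b ∈ (S : Subgroup G) ⊓ centralizer (A : Set G) from hA.2.2.symm ▸ hb).2 a ha
  let E : Subgroup G :=
    { carrier := {a | a ∈ A ∧ a ^ 2 = 1}
      one_mem' := ⟨A.one_mem, one_pow 2⟩
      mul_mem' := fun {a b} ha hb => ⟨A.mul_mem ha.1 hb.1, by
        rw [(show Commute a b from hAab _ ha.1 _ hb.1).mul_pow, ha.2, hb.2, one_mul]⟩
      inv_mem' := fun {a} ha => ⟨A.inv_mem ha.1, by rw [inv_pow, ha.2, inv_one]⟩ }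
  have hEA : E ≤ A := fun a ha => ha.1
  have hES : E ≤ (S : Subgroup G) := hEA.trans hA.1
  have hEel : Cfsg.IsElementaryAbelian 2 E := by
    refine ⟨⟨⟨fun x y => Subtype.ext (hAab _ (hEA x.2) _ (hEA y.2))⟩⟩, fun x hx => ?_⟩
    exact hx.2
  have hEord : ∀ a ∈ E, a ≠ 1 → orderOf a = 2 := fun a ha h1 => orderOf_eq_prime ha.2 h1
  have hE8 : 4 < Nat.card E := by
    by_contra hlt
    apply hA3
    intro B _ hB
    refine le_trans ?_ (show 2 ^ 2 ≥ Nat.card ↥E by omega)
    refine Nat.card_le_card_of_injective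
      (fun b => ⟨((b : ↥A) : G), (b : ↥A).2, congrArg Subtype.val (hB _ b.2)⟩) ?_
    intro b b' hbb
    exact Subtype.ext (Subtype.ext (congrArg (fun w : ↥E => (w : G)) hbb))
  have hSE : (S : Subgroup G) ≤ normalizer (E : Set G) := by
    intro s hs
    refine mem_normalizer_iff.2 fun a => ?_
    show a ∈ A ∧ a ^ 2 = 1 ↔ s * a * s⁻¹ ∈ A ∧ (s * a * s⁻¹) ^ 2 = 1
    rw [conj_pow, mul_inv_eq_one, mul_eq_left, (mem_normalizer_iff.1 (hA.2.1 hs) a)]
  -- a central involution in `E`
  obtain ⟨z, hzE, hzc, hz2⟩ : ∃ z ∈ E, (∀ s ∈ (S : Subgroup G), s * z = z * s) ∧ orderOf z = 2 := by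
    haveI : (E.subgroupOf (S : Subgroup G)).Normal := (normal_subgroupOf_iff_le_normalizer hES).2 hSE
    have hne : E.subgroupOf (S : Subgroup G) ≠ ⊥ := fun h => by
      have := congrArg (fun K : Subgroup (S : Subgroup G) => Nat.card K) h
      simp only [Nat.card_congr (subgroupOfEquivOfLe hES).toEquiv, card_bot] at this
      omega
    obtain ⟨z, hzE, hzc, hz⟩ := PGroups.exists_mem_center_orderOf_eq S.isPGroup' (E.subgroupOf _) hne
    exact ⟨z, hzE, fun s hs => congrArg Subtype.val (mem_center_iff.1 hzc ⟨s, hs⟩),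
      (orderOf_coe z).trans hz⟩
  have hEC : ∀ a ∈ E, E ≤ centralizer ({a} : Set G) := fun a ha b hb =>
    mem_centralizer_singleton_iff.2 (hAab _ (hEA hb) _ (hEA ha))
  -- `z` inverts, so each value is abelian
  have habel : ∀ a ∈ E, a ≠ 1 → ∀ x ∈ centralizerPPrimeCore 2 a, ∀ y ∈ centralizerPPrimeCore 2 a,
      x * y = y * x := by
    intro a ha ha1 x hx y hy
    have hzn : ∀ w ∈ centralizerPPrimeCore 2 a, z * w * z⁻¹ ∈ centralizerPPrimeCore 2 a := fun w hw =>
      (mem_normalizer_iff.1 (theta_le_normalizer a (hEC a ha hzE)) w).1 hw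
    have hi := S3246.inverted hz2 hzn (fun w hw hwz => mem_bot.1
      (theta_central_eq_bot S A hA hA3 hinv hcon hzc ▸
        balance S A hA hA3 hinv hcon (hEord a ha ha1) hz2 (hAab _ (hEA ha) _ (hEA hzE))
          ⟨hw, mem_centralizer_singleton_iff.2 hwz.eq⟩))
    have h1 := hi _ (mul_mem hx hy)
    rw [show z * (x * y) * z⁻¹ = (z * x * z⁻¹) * (z * y * z⁻¹) by group, hi x hx, hi y hy, mul_inv_rev] at h1
    calc x * y = (y⁻¹ * x⁻¹)⁻¹ := by group
      _ = y * x := by rw [← h1]; group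
  -- values centralise each other
  have hgen : ∀ a ∈ E, a ≠ 1 → ∀ (M : Subgroup G), (∀ B ≤ E, B.relIndex E ≤ 2 →
      centralizerPPrimeCore 2 a ⊓ centralizer (B : Set G) ≤ M) → centralizerPPrimeCore 2 a ≤ M :=
    fun a ha _ M h => H40.le_of_hyperplanes hEel (theta_odd_card a)
      ((hEC a ha).trans (theta_le_normalizer a)) h
  have hcardB : ∀ B ≤ E, B.relIndex E ≤ 2 → 2 < Nat.card B := by
    intro B hB hi
    have h1 := relIndex_mul_relIndex (⊥ : Subgroup G) B E bot_le hB
    rw [relIndex_bot_left, relIndex_bot_left] at h1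
    nlinarith
  have hcomm : ∀ a ∈ E, a ≠ 1 → ∀ c ∈ E, c ≠ 1 →
      centralizerPPrimeCore 2 c ≤ centralizer (centralizerPPrimeCore 2 a : Set G) := by
    intro a ha ha1 c hc hc1
    refine hgen c hc hc1 _ fun B' hB' hi' y hy => mem_centralizer_iff.2 fun x hx => ?_
    have key : centralizerPPrimeCore 2 a ≤ centralizer ({y} : Set G) := by
      refine hgen a ha ha1 _ fun B hB hi x hx => mem_centralizer_singleton_iff.2 ?_
      obtain ⟨b, hb, hb1⟩ : ∃ b ∈ B ⊓ B', b ≠ 1 := by
        refine (B ⊓ B').bot_or_exists_ne_one.resolve_left fun hbot => ?_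
        have h1 : Nat.card B ≤ 2 := by
          have h2 := relIndex_mul_relIndex (⊥ : Subgroup G) (B ⊓ B') B bot_le inf_le_left
          rw [relIndex_bot_left, relIndex_bot_left, hbot, card_bot, one_mul, ← hbot,
            inf_relIndex_left] at h2
          rw [← h2]
          exact (Subgroup.relIndex_le_of_le_right hB (fun h0 => by
            have := index_ne_zero_of_finite (H := B'.subgroupOf E)
            exact this h0)).trans hi'
        have := hcardB B hB hi
        omega
      have hbE := hB hb.1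
      have hx' := balance S A hA hA3 hinv hcon (hEord a ha ha1) (hEord b hbE hb1) (hAab _ (hEA ha) _ (hEA hbE))
        ⟨hx.1, centralizer_le (Set.singleton_subset_iff.2 (SetLike.mem_coe.2 hb.1)) hx.2⟩
      have hy' := balance S A hA hA3 hinv hcon (hEord c hc hc1) (hEord b hbE hb1) (hAab _ (hEA hc) _ (hEA hbE))
        ⟨hy.1, centralizer_le (Set.singleton_subset_iff.2 (SetLike.mem_coe.2 hb.2)) hy.2⟩
      exact habel b hbE hb1 x hx' y hy'
    exact mem_centralizer_singleton_iff.1 (key hx)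
  -- the subgroup they generate
  set U : Set G := {x | ∃ a ∈ E, a ≠ 1 ∧ x ∈ centralizerPPrimeCore 2 a} with hU
  have hUc : ∀ x ∈ closure U, ∀ y ∈ closure U, x * y = y * x := by
    have h1 : closure U ≤ centralizer (closure U : Set G) := by
      refine (closure_le _).2 fun x hx => ?_
      rw [SetLike.mem_coe, centralizer_closure, mem_centralizer_iff]
      obtain ⟨a, ha, ha1, hxa⟩ := hx
      rintro y ⟨c, hc, hc1, hyc⟩
      exact (mem_centralizer_iff.1 (hcomm a ha ha1 c hc hc1 hyc) x hxa).symm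
    exact fun x hx y hy => (mem_centralizer_iff.1 (h1 hx) y hy).symm
  have hUodd : ∀ x ∈ closure U, Odd (orderOf x) := by
    intro x hx
    induction hx using closure_induction with
    | mem y hy =>
      obtain ⟨a, _, _, hya⟩ := hy
      exact odd_orderOf_theta hya
    | one => simp
    | mul y w hy hw ihy ihw =>
      exact Odd.of_dvd_nat (ihy.mul ihw) ((show Commute y w from hUc y hy w hw).orderOf_mul_dvd_mul_orderOf)
    | inv y _ ih => rwa [orderOf_inv]
  have hWbot : closure U = ⊥ := by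
    refine hinv _ ?_ ?_
    · by_contra he
      rw [Nat.not_odd_iff_even] at he
      obtain ⟨x, hx⟩ := exists_prime_orderOf_dvd_card' 2 (G := closure U) he.two_dvd
      have := hUodd x x.2
      rw [orderOf_coe, hx] at this
      exact absurd this (by decide)
    · intro s hs
      have hmem : ∀ (g : G), g ∈ (S : Subgroup G) → ∀ w ∈ closure U, g * w * g⁻¹ ∈ closure U := by
        intro g hg w hw
        induction hw using closure_induction with
        | mem y hy =>
          obtain ⟨a, ha, ha1, hya⟩ := hy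
          refine subset_closure ⟨g * a * g⁻¹, (mem_normalizer_iff.1 (hSE hg) a).1 ha, ?_, conj_mem_theta g hya⟩
          rw [Ne, mul_inv_eq_one, mul_eq_left]
          exact ha1
        | one => simp
        | mul a b _ _ iha ihb => simpa [mul_assoc] using mul_mem iha ihb
        | inv a _ iha => simpa [mul_assoc] using inv_mem iha
      refine mem_normalizer_iff.2 fun w => ⟨hmem s hs w, fun hw => ?_⟩
      have := hmem s⁻¹ (inv_mem hs) _ hw
      simpa [mul_assoc] using this
  have hthetaE : ∀ a ∈ E, a ≠ 1 → centralizerPPrimeCore 2 a = ⊥ := fun a ha ha1 =>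
    le_bot_iff.1 (hWbot ▸ fun x hx => subset_closure ⟨a, ha, ha1, hx⟩)
  -- an arbitrary involution, first inside `S`
  suffices hinS : ∀ u ∈ (S : Subgroup G), orderOf u = 2 → centralizerPPrimeCore 2 u = ⊥ by
    obtain ⟨P, hP⟩ := (IsPGroup.of_card (n := 1) (G := zpowers t)
      (by rw [Nat.card_zpowers, ht, pow_one])).exists_le_sylow
    obtain ⟨g, hg⟩ := MulAction.exists_smul_eq G P S
    have hu : g * t * g⁻¹ ∈ (S : Subgroup G) := by
      rw [← hg]
      exact ⟨t, hP (mem_zpowers t), rfl⟩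
    refine (eq_bot_iff_forall _).2 fun x hx => ?_
    have := conj_mem_theta g hx
    rw [hinS _ hu ((orderOf_conj' g t).trans ht), mem_bot, mul_inv_eq_one, mul_eq_left] at this
    exact this
  intro u huS hu
  let f : E →* E :=
    { toFun := fun x => ⟨x.1 * (u * x.1 * u⁻¹), E.mul_mem x.2 ((mem_normalizer_iff.1 (hSE huS) _).1 x.2)⟩
      map_one' := by simp
      map_mul' := fun x y => Subtype.ext (by
        show (x.1 * y.1) * (u * (x.1 * y.1) * u⁻¹) = x.1 * (u * x.1 * u⁻¹) * (y.1 * (u * y.1 * u⁻¹))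
        rw [show u * (x.1 * y.1) * u⁻¹ = (u * x.1 * u⁻¹) * (u * y.1 * u⁻¹) by group,
          mul_assoc x.1 y.1, ← mul_assoc y.1,
          hAab _ (hEA y.2) _ (hEA ((mem_normalizer_iff.1 (hSE huS) _).1 x.2))]
        simp only [mul_assoc]) }
  set Eu := E ⊓ centralizer ({u} : Set G) with hEu
  have hfix : ∀ v ∈ E, u * v * u⁻¹ = v → v ∈ Eu := fun v hv h =>
    ⟨hv, mem_centralizer_singleton_iff.2 (mul_inv_eq_iff_eq_mul.1 h).symm⟩
  have hker : Nat.card f.ker ≤ Nat.card Eu := by
    refine Nat.card_le_card_of_injective (fun x => ⟨(x.1 : G), hfix _ x.1.2 ?_⟩) fun x y h =>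
      Subtype.ext (Subtype.ext (congrArg (fun v : Eu => (v : G)) h))
    have h1 : (x.1 : G) * (u * x.1 * u⁻¹) = 1 := congrArg Subtype.val (MonoidHom.mem_ker.1 x.2)
    have h2 : (x.1 : G) * x.1 = 1 := by rw [← pow_two]; exact x.1.2.2
    exact mul_left_cancel (h1.trans h2.symm)
  have hran : Nat.card f.range ≤ Nat.card Eu := by
    refine Nat.card_le_card_of_injective (fun x => ⟨(x.1 : G), hfix _ x.1.2 ?_⟩) fun x y h =>
      Subtype.ext (Subtype.ext (congrArg (fun v : Eu => (v : G)) h))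
    obtain ⟨_, w, rfl⟩ := x
    show u * ((w : G) * (u * w * u⁻¹)) * u⁻¹ = (w : G) * (u * w * u⁻¹)
    have huu : u * u = 1 := mul_self_eq_one hu
    rw [show u * ((w : G) * (u * w * u⁻¹)) * u⁻¹ = (u * w * u⁻¹) * ((u * u) * w * (u * u)⁻¹) by group,
      huu, one_mul, inv_one, mul_one]
    exact hAab _ (hEA ((mem_normalizer_iff.1 (hSE huS) _).1 w.2)) _ (hEA w.2)
  have hEu3 : 2 < Nat.card Eu := by
    have h1 := f.ker.card_mul_index
    rw [Subgroup.index_ker] at h1
    nlinarith
  refine le_bot_iff.1 (H40.le_of_hyperplanes (H40.elemAb_mono hEel (inf_le_left : Eu ≤ E)) (theta_odd_card u)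
    (inf_le_right.trans (theta_le_normalizer u)) fun B hB hi => ?_)
  obtain ⟨b, hb, hb1⟩ : ∃ b ∈ B, b ≠ 1 := B.bot_or_exists_ne_one.resolve_left fun h => by
    rw [h, relIndex_bot_left] at hi
    have : 2 < Nat.card ↥(E ⊓ centralizer ({u} : Set G)) := hEu3
    omega
  have hbu : u * b = b * u := (mem_centralizer_singleton_iff.1 (hB hb).2).symm
  rw [← hthetaE b (hB hb).1 hb1]
  exact (inf_le_inf_left _ (centralizer_le (Set.singleton_subset_iff.2 (SetLike.mem_coe.2 hb)))).trans
    (balance S A hA hA3 hinv hcon hu (hEord b (hB hb).1 hb1) hbu)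

theorem char_two {T : Subgroup G} (hT : IsPGroup 2 ↥T) (hT1 : T ≠ ⊥) :
    centralizer (Cfsg.pCore 2 ↥(normalizer (T : Set G)) : Set ↥(normalizer (T : Set G))) ≤
      Cfsg.pCore 2 ↥(normalizer (T : Set G)) := by
  haveI : Fact (Nat.Prime 2) := ⟨Nat.prime_two⟩
  obtain ⟨z, hz, hzT, hzc⟩ := S3246.exists_invol_center hT hT1
  have hO : Cfsg.pPrimeCore 2 ↥(centralizer ({z} : Set G)) = ⊥ := by
    have h := theta_eq_bot S A hA hA3 hinv hcon hz
    rwa [centralizerPPrimeCore, map_eq_bot_iff_of_injective _ (subtype_injective _)] at h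
  exact S3246.local_char2 hT (fun t ht => mem_centralizer_singleton_iff.2 (hzc t ht))
    (centralizer_le (Set.singleton_subset_iff.2 hzT))
    (S3246.good_of _ (H65.centralizer_pCore_le (constrained_centralizer S A hA hA3 hinv hcon hz) hO))

theorem exists_noncyclic_center [IsSimpleGroup G] (hG : ¬ IsMulCommutative G) :
    ∃ M : Subgroup G, Cfsg.IsMaximalTwoLocal M ∧ ¬ IsCyclic ↥(Subgroup.center ↥(Cfsg.pCore 2 ↥M)) := by
  classical
  haveI : Fact (Nat.Prime 2) := ⟨Nat.prime_two⟩
  by_contra hcon'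
  push Not at hcon'
  -- each maximal 2-local is the centraliser of an involution, the only candidate centralising `O₂(M)`
  have hM : ∀ M : Subgroup G, Cfsg.IsMaximalTwoLocal M → ∃ w ∈ (Cfsg.pCore 2 ↥M).map M.subtype,
      orderOf w = 2 ∧ M = centralizer ({w} : Set G) ∧
      ∀ v ∈ M, orderOf v = 2 → (∀ p ∈ (Cfsg.pCore 2 ↥M).map M.subtype, p * v = v * p) → v = w := by
    intro M hMax
    obtain ⟨T, hT, hT1, hMT⟩ := hMax.1
    set P0 := Cfsg.pCore 2 ↥M with hP0
    have hP0p : IsPGroup 2 P0 := Cores.pCore_isPGroup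
    have hc : centralizer (P0 : Set ↥M) ≤ P0 := by
      rw [hP0, hMT]
      exact char_two S A hA hA3 hinv hcon hT hT1
    have hP0ne : P0 ≠ ⊥ := by
      intro h
      apply hT1
      haveI : (T.subgroupOf M).Normal := by
        rw [hMT]; exact (normal_subgroupOf_iff_le_normalizer le_normalizer).2 le_rfl
      have h1 : T.subgroupOf M ≤ P0 := Cores.le_pCore (hT.comap_of_injective M.subtype M.subtype_injective)
      rw [h, le_bot_iff, subgroupOf_eq_bot, disjoint_iff, inf_eq_left.2 (hMT ▸ le_normalizer)] at h1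
      exact h1
    haveI := hcon' M hMax
    haveI : Nontrivial P0 := P0.nontrivial_iff_ne_bot.2 hP0ne
    obtain ⟨w, -, hwc, hw⟩ := PGroups.exists_mem_center_orderOf_eq hP0p (⊤ : Subgroup P0) top_ne_bot
    have huniq : ∀ v : ↥M, orderOf v = 2 → v ∈ centralizer (P0 : Set ↥M) → v = (w : ↥M) := by
      intro v hv hvc
      have hvP : v ∈ P0 := hc hvc
      have hvz : (⟨v, hvP⟩ : P0) ∈ center P0 :=
        mem_center_iff.2 fun p => Subtype.ext (mem_centralizer_iff.1 hvc p p.2)
      letI := Fintype.ofFinite (center P0)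
      have h2v : orderOf (⟨⟨v, hvP⟩, hvz⟩ : center P0) = 2 := by rw [orderOf_mk, orderOf_mk, hv]
      have h2w : orderOf (⟨w, hwc⟩ : center P0) = 2 := by rw [orderOf_mk, hw]
      have hdvd : 2 ∣ Fintype.card (center P0) := h2w ▸ orderOf_dvd_card
      have hcard := IsCyclic.card_orderOf_eq_totient (α := center P0) hdvd
      rw [Nat.totient_two, Finset.card_eq_one] at hcard
      obtain ⟨x, hx⟩ := hcard
      have ha : (⟨⟨v, hvP⟩, hvz⟩ : center P0) ∈ ({x} : Finset (center P0)) :=
        hx ▸ Finset.mem_filter.2 ⟨Finset.mem_univ _, h2v⟩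
      have hb : (⟨w, hwc⟩ : center P0) ∈ ({x} : Finset (center P0)) :=
        hx ▸ Finset.mem_filter.2 ⟨Finset.mem_univ _, h2w⟩
      rw [Finset.mem_singleton] at ha hb
      exact congrArg (fun c : center P0 => ((c : P0) : ↥M)) (ha.trans hb.symm)
    set w0 : G := ((w : ↥M) : G) with hw0
    have hw2 : orderOf w0 = 2 := by rw [hw0, orderOf_coe, orderOf_coe, hw]
    have hwM : M ≤ centralizer ({w0} : Set G) := by
      intro g hg
      have h1 : (⟨g, hg⟩ : ↥M) * (w : ↥M) * (⟨g, hg⟩ : ↥M)⁻¹ = (w : ↥M) := by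
        refine huniq _ ?_ (mem_centralizer_iff.2 fun p hp => ?_)
        · rw [orderOf_conj', orderOf_coe, hw]
        · set g' : ↥M := ⟨g, hg⟩ with hg'
          have hp' : g'⁻¹ * p * g' ∈ P0 := by
            simpa using (inferInstance : P0.Normal).conj_mem p hp g'⁻¹
          have h2 : g'⁻¹ * p * g' * (w : ↥M) = (w : ↥M) * (g'⁻¹ * p * g') :=
            congrArg Subtype.val (mem_center_iff.1 hwc ⟨_, hp'⟩)
          calc p * (g' * (w : ↥M) * g'⁻¹) = g' * (g'⁻¹ * p * g' * (w : ↥M)) * g'⁻¹ := by group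
            _ = g' * (w : ↥M) * g'⁻¹ * p := by rw [h2]; group
      exact mem_centralizer_singleton_iff.2 (mul_inv_eq_iff_eq_mul.1 (congrArg Subtype.val h1))
    refine ⟨w0, ⟨(w : ↥M), w.2, rfl⟩, hw2, ?_, fun v hvM hv hvc => ?_⟩
    · refine (hMax.2 _ ⟨zpowers w0, IsPGroup.of_card (n := 1) (by rw [Nat.card_zpowers, hw2, pow_one]),
        fun h => ne_one_of_orderOf hw2 (zpowers_eq_bot.1 h), (S3246.normalizer_zpowers_invol hw2).symm⟩ hwM).symm
    · have := huniq ⟨v, hvM⟩ (by rw [← hv]; exact (orderOf_coe _).symm) (mem_centralizer_iff.2 fun p hp =>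
        Subtype.ext (hvc p ⟨p, hp, rfl⟩))
      exact congrArg Subtype.val this
  -- central involutions of Sylow subgroups
  have hloc : ∀ Q : Subgroup G, IsPGroup 2 Q → Q ≠ ⊥ → ∃ w g, normalizer (Q : Set G) ≤ centralizer ({w} : Set G) ∧
      orderOf w = 2 ∧ ∀ v, (∀ s ∈ (S : Subgroup G), s * v = v * s) → orderOf v = 2 → g * v * g⁻¹ = w := by
    intro Q hQ hQ1
    obtain ⟨M, hMax, hle⟩ := S3246.exists_maximal_local hQ hQ1
    obtain ⟨w, hwP, hw, hMw, huniq⟩ := hM M hMax
    set P := (Cfsg.pCore 2 ↥M).map M.subtype with hP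
    obtain ⟨R, hR⟩ := ((Cores.pCore_isPGroup (p := 2) (G := ↥M)).map M.subtype).exists_le_sylow
    obtain ⟨g, hg⟩ := MulAction.exists_smul_eq G S R
    refine ⟨w, g, hMw ▸ hle, hw, fun v hvc hv => ?_⟩
    have hcR : ∀ r ∈ (R : Subgroup G), r * (g * v * g⁻¹) = g * v * g⁻¹ * r := by
      rw [← hg]
      rintro _ ⟨s, hs, rfl⟩
      show g * s * g⁻¹ * (g * v * g⁻¹) = g * v * g⁻¹ * (g * s * g⁻¹)
      calc g * s * g⁻¹ * (g * v * g⁻¹) = g * (s * v) * g⁻¹ := by group
        _ = _ := by rw [hvc s hs]; group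
    refine huniq _ ?_ ((orderOf_conj' g v).trans hv) fun p hp => hcR p (hR hp)
    rw [hMw]
    exact mem_centralizer_singleton_iff.2 (hcR w (hR hwP)).symm
  have hS1 : (S : Subgroup G) ≠ ⊥ := by
    intro h
    apply hA3
    intro B _ _
    have hA0 : Nat.card A = 1 := by rw [show A = ⊥ from le_bot_iff.1 (h ▸ hA.1), card_bot]
    exact (card_le_card_group B).trans (by rw [hA0]; norm_num)
  obtain ⟨z, hz, hzS, hzc⟩ := S3246.exists_invol_center S.isPGroup' hS1
  have hzu : ∀ v, (∀ s ∈ (S : Subgroup G), s * v = v * s) → orderOf v = 2 → v = z := by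
    intro v hvc hv
    obtain ⟨w, g, -, -, hu⟩ := hloc _ S.isPGroup' hS1
    have h := (hu v hvc hv).trans (hu z hzc hz).symm
    exact mul_left_cancel (mul_right_cancel h)
  -- no two commuting conjugates
  have hiso : ∀ e f : G, IsConj z e → IsConj z f → e * f = f * e → e = f := by
    by_contra hne
    push Not at hne
    obtain ⟨e0, f0, he0, hf0, hc0, hn0⟩ := hne
    obtain ⟨⟨e, f, Q⟩, ⟨he, hf, hef, hn, hQp, hQC, hfQ⟩, hmax⟩ :=
      Set.exists_max_image {x : G × G × Subgroup G | IsConj z x.1 ∧ IsConj z x.2.1 ∧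
          x.1 * x.2.1 = x.2.1 * x.1 ∧ x.1 ≠ x.2.1 ∧ IsPGroup 2 x.2.2 ∧
          x.2.2 ≤ centralizer ({x.1, x.2.1} : Set G) ∧ x.2.2 ≠ ⊥}
        (fun x => Nat.card x.2.2) (Set.toFinite _) ⟨(e0, f0, zpowers e0), he0, hf0, hc0, hn0,
          IsPGroup.of_card (n := 1) (by rw [Nat.card_zpowers, ← orderOf_of_isConj he0, hz, pow_one]),
          zpowers_le.2 (mem_centralizer_iff.2 (by
            rintro x (rfl | rfl)
            · rfl
            · exact hc0.symm)),
          fun h => ne_one_of_orderOf ((orderOf_of_isConj he0).symm.trans hz) (zpowers_eq_bot.1 h)⟩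
    simp only at he hf hef hn hQp hQC hfQ hmax
    obtain ⟨w, g, hNw, hw, hu⟩ := hloc Q hQp hfQ
    have hwz : IsConj z w := isConj_iff.2 ⟨g, hu z hzc hz⟩
    -- `w = c` for each `c` of the pair
    have key : ∀ c d : G, IsConj z c → IsConj z d → c ≠ d → Q ≤ centralizer ({c, d} : Set G) → w = c := by
      intro c d hcz hdz hcd hQcd
      by_contra hwc
      obtain ⟨x, rfl⟩ := isConj_iff.1 hcz
      set T := H48.cj x (S : Subgroup G) with hT
      have hTc : T ≤ centralizer ({x * z * x⁻¹} : Set G) := by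
        rintro _ ⟨s, hs, rfl⟩
        refine mem_centralizer_singleton_iff.2 ?_
        show x * s * x⁻¹ * (x * z * x⁻¹) = x * z * x⁻¹ * (x * s * x⁻¹)
        calc x * s * x⁻¹ * (x * z * x⁻¹) = x * (s * z) * x⁻¹ := by group
          _ = _ := by rw [hzc s hs]; group
      obtain ⟨Sc, hSc, hQSc⟩ := H48.exists_isSylowIn_ge hQp
        (hQcd.trans (centralizer_le (Set.singleton_subset_iff.2 (Set.mem_insert _ _))))
      have hScS : Nat.card (S : Subgroup G) ≤ Nat.card Sc := by
        rw [← H48.card_cj x (S : Subgroup G)]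
        exact hSc.card_le (H48.isPGroup_cj S.isPGroup') hTc
      have hQne : Q ≠ Sc := by
        intro hQS
        obtain ⟨y, -, hy⟩ := (H48.isSylowIn_sylow S).exists_cj_le hQp le_top
        have hye : H48.cj y Q = (S : Subgroup G) :=
          H48.eq_of_le_of_card_le hy (by rw [H48.card_cj, hQS]; exact hScS)
        have hcen : ∀ v ∈ ({x * z * x⁻¹, d} : Set G), ∀ s ∈ (S : Subgroup G),
            s * (y * v * y⁻¹) = y * v * y⁻¹ * s := by
          intro v hv s hs
          rw [← hye] at hs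
          obtain ⟨q, hq, rfl⟩ := hs
          show y * q * y⁻¹ * (y * v * y⁻¹) = y * v * y⁻¹ * (y * q * y⁻¹)
          have := (mem_centralizer_iff.1 (hQcd hq) v hv)
          calc y * q * y⁻¹ * (y * v * y⁻¹) = y * (q * v) * y⁻¹ := by group
            _ = _ := by rw [← this]; group
        have h1 := hzu _ (hcen _ (Or.inl rfl)) (by rw [orderOf_conj', ← orderOf_of_isConj hcz, hz])
        have h2 := hzu _ (hcen _ (Or.inr rfl)) (by rw [orderOf_conj', ← orderOf_of_isConj hdz, hz])
        exact hcd (mul_left_cancel (mul_right_cancel (h1.trans h2.symm)))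
      have hlt := H48.card_lt_card_inf_normalizer hSc.isPGroup hQSc hQne
      have hwQ : ∀ v ∈ Sc ⊓ normalizer (Q : Set G), v * w = w * v := fun v hv =>
        mem_centralizer_singleton_iff.1 (hNw hv.2)
      have hcw : x * z * x⁻¹ * w = w * (x * z * x⁻¹) := by
        refine mem_centralizer_singleton_iff.1 (hNw (centralizer_le_normalizer _ (mem_centralizer_iff.2 fun q hq => ?_)))
        exact (mem_centralizer_iff.1 (hQcd hq) _ (Or.inl rfl)).symm
      have := hmax (x * z * x⁻¹, w, Sc ⊓ normalizer (Q : Set G)) ⟨hcz, hwz, hcw, Ne.symm hwc,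
        hSc.isPGroup.to_le inf_le_left, fun v hv => mem_centralizer_iff.2 (by
          rintro a (rfl | rfl)
          · exact (mem_centralizer_singleton_iff.1 (hSc.le hv.1)).symm
          · exact (hwQ v hv).symm), fun h => hfQ (le_bot_iff.1 (h ▸ le_inf hQSc le_normalizer))⟩
      exact absurd this (not_le.2 hlt)
    have h1 := key e f he hf hn hQC
    have h2 := key f e hf he (Ne.symm hn) (by rwa [Set.pair_comm])
    exact hn (h1.symm.trans h2)
  have hisol : Cfsg.IsIsolatedInvolution z :=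
    ⟨hz, fun g hg => (hiso z _ (IsConj.refl z) (isConj_iff.2 ⟨g, rfl⟩) hg.eq).symm⟩
  have hO : Cfsg.oddCore G = ⊥ := by
    refine (IsSimpleGroup.eq_bot_or_eq_top_of_normal _ inferInstance).resolve_right fun h => ?_
    have h1 := Cores.coprime_card_pPrimeCore (p := 2) (G := G)
    rw [show Cfsg.pPrimeCore 2 G = ⊤ from h, card_top] at h1
    exact (Nat.Prime.coprime_iff_not_dvd Nat.prime_two).1 h1.symm
      (hz ▸ orderOf_dvd_natCard z)
  have hzz : z ∈ center G := mem_center_iff.2 fun g => by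
    have := zStar_cor_soluble zStarTheorem z hisol g
    rw [hO, mem_bot, mul_inv_eq_one, mul_inv_eq_iff_eq_mul] at this
    exact this.symm
  rcases IsSimpleGroup.eq_bot_or_eq_top_of_normal (center G) inferInstance with h | h
  · rw [h, mem_bot] at hzz
    exact ne_one_of_orderOf hz hzz
  · exact hG ⟨⟨fun a b => mem_center_iff.1 (h ▸ mem_top b) a⟩⟩

end Cfsg.Agent.H61.EarlyCharTwo
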