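import Mathlib.GroupTheory.Sylow
import Mathlib.GroupTheory.Nilpotent
import Mathlib.GroupTheory.Commutator.Basic
import Mathlib.GroupTheory.IsSubnormal
import Cfsg.Prelude.Def_CaseTheorems

/-!
Small generalities used by the statements of the range S2922–S3000.
-/

set_option autoImplicit false

namespace Cfsg.Agent.H61

open Subgroup

variable {G : Type*} [Group G]

/-- An element of a finite group conjugating a subgroup into itself normalizes it. -/
theorem mem_normalizer_of_conj_mem [Finite G] {H : Subgroup G} {g : G}
    (h : ∀ x ∈ H, g * x * g⁻¹ ∈ H) : g ∈ Subgroup.normalizer (H : Set G) := by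
  rw [Subgroup.mem_normalizer_iff_map_conj_eq]
  refine Subgroup.eq_of_le_of_card_ge ?_ ?_
  · rintro _ ⟨x, hx, rfl⟩
    exact h x hx
  · rw [Subgroup.card_map_of_injective (MulAut.conj g).injective]

/-- `C_G(x)` as the conditions on the elements. -/
theorem mem_centralizer_singleton {x g : G} :
    g ∈ Subgroup.centralizer ({x} : Set G) ↔ g * x = x * g := by
  rw [Subgroup.mem_centralizer_singleton_iff]

end Cfsg.Agent.H61
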