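import Cfsg.Agent.H61.ClassSizeDiameter

/-!
A connected class-size prime graph has diameter at most three.

Bad primes form a clique, and two nonadjacent good primes have a common bad neighbour; so an edge
between a good and a bad prime puts every good prime at distance at most two from the bad clique.
-/

set_option autoImplicit false
set_option linter.style.haveILetI false

namespace Cfsg.Agent.H61.ClassDiam

open Subgroup

universe u

variable {G : Type u} [Group G] [Finite G]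

/-- `p` is a vertex. -/
def Vert (G : Type u) [Group G] (p : ℕ) : Prop :=
  p.Prime ∧ ∃ g : G, p ∣ (centralizer ({g} : Set G)).index

/-- `p` and `q` are adjacent. -/
def Adj (G : Type u) [Group G] (p q : ℕ) : Prop :=
  ∃ g : G, p * q ∣ (centralizer ({g} : Set G)).index

/-- No Sylow `p`-subgroup is centralized by its normalizer. -/
def Bad (G : Type u) [Group G] (p : ℕ) : Prop :=
  ∀ P : Sylow p G, ¬ normalizer ((P : Subgroup G) : Set G) ≤ centralizer ((P : Subgroup G) : Set G)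

omit [Finite G] in
theorem Adj.symm {p q : ℕ} : Adj G p q → Adj G q p := fun ⟨g, hg⟩ => ⟨g, by rwa [mul_comm]⟩

omit [Finite G] in
theorem Adj.vert_right {p q : ℕ} (hq : q.Prime) : Adj G p q → Vert G q :=
  fun ⟨g, hg⟩ => ⟨hq, g, (Dvd.intro_left p rfl).trans hg⟩

theorem bad_bad {p q : ℕ} (hp : p.Prime) (hq : q.Prime) (hpq : p ≠ q) (hP : Bad G p) (hQ : Bad G q) :
    Adj G p q := by
  haveI : Fact p.Prime := ⟨hp⟩
  haveI : Fact q.Prime := ⟨hq⟩
  by_contra hn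
  obtain ⟨P⟩ : Nonempty (Sylow p G) := inferInstance
  obtain ⟨Q⟩ : Nonempty (Sylow q G) := inferInstance
  exact hQ Q (average hpq P Q (fun x hx => hn ⟨x, hx⟩) (hP P))

/-- Two vertices at distance at most three. -/
def Near (G : Type u) [Group G] (p q : ℕ) : Prop :=
  Adj G p q ∨ (∃ r : ℕ, Vert G r ∧ r ≠ p ∧ r ≠ q ∧ Adj G p r ∧ Adj G r q) ∨
    ∃ r s : ℕ, Vert G r ∧ Vert G s ∧ r ≠ p ∧ s ≠ q ∧ r ≠ s ∧ r ≠ q ∧ s ≠ p ∧
      Adj G p r ∧ Adj G r s ∧ Adj G s q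

omit [Finite G] in
theorem Near.symm {p q : ℕ} : Near G p q → Near G q p := by
  rintro (h | ⟨r, hr, h1, h2, h3, h4⟩ | ⟨r, s, hr, hs, h1, h2, h3, h4, h5, h6, h7, h8⟩)
  · exact Or.inl h.symm
  · exact Or.inr (Or.inl ⟨r, hr, h2, h1, h4.symm, h3.symm⟩)
  · exact Or.inr (Or.inr ⟨s, r, hs, hr, h2, h1, h3.symm, h5, h4, h8.symm, h7.symm, h6.symm⟩)

theorem good_near_bad {g p q b : ℕ} (hp : Vert G p) (hq : Vert G q) (hP : ¬ Bad G p) (hQ : Bad G q)
    (hg : Vert G g) (hb : Vert G b) (hG : ¬ Bad G g) (hB : Bad G b) (hgb : Adj G g b) :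
    Near G p q := by
  have hpq : p ≠ q := fun h => hP (h ▸ hQ)
  have hgq : g ≠ q := fun h => hG (h ▸ hQ)
  have hbp : b ≠ p := fun h => hP (h ▸ hB)
  have hgb' : g ≠ b := fun h => hG (h ▸ hB)
  by_cases hgp : g = p
  · subst hgp
    by_cases hbq : b = q
    · exact Or.inl (hbq ▸ hgb)
    · exact Or.inr (Or.inl ⟨b, hb, hbp, hbq, hgb, bad_bad hb.1 hq.1 hbq hB hQ⟩)
  by_cases hadj : Adj G p g
  · by_cases hbq : b = q
    · exact Or.inr (Or.inl ⟨g, hg, hgp, hgq, hadj, hbq ▸ hgb⟩)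
    · exact Or.inr (Or.inr ⟨g, b, hg, hb, hgp, hbq, hgb', hgq, hbp, hadj, hgb,
        bad_bad hb.1 hq.1 hbq hB hQ⟩)
  haveI : Fact p.Prime := ⟨hp.1⟩
  haveI : Fact g.Prime := ⟨hg.1⟩
  simp only [Bad, not_forall, not_not] at hP hG
  obtain ⟨P, hPg⟩ := hP
  obtain ⟨R, hRg⟩ := hG
  obtain ⟨r, hr, hrp, -, hrbad, hpr, -⟩ := good_good_bad (Ne.symm hgp) P R hPg hRg
    (fun x hx => hadj ⟨x, hx⟩) hp.2 hg.2
  by_cases hrq : r = q
  · exact Or.inl (hrq ▸ hpr)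
  · exact Or.inr (Or.inl ⟨r, Adj.vert_right hr hpr, hrp, hrq, hpr, bad_bad hr hq.1 hrq hrbad hQ⟩)

theorem near_of_connected
    (hconn : ∀ S : Set ℕ, (∃ p ∈ S, Vert G p) → (∃ q ∉ S, Vert G q) →
      ∃ p q : ℕ, Vert G p ∧ Vert G q ∧ p ∈ S ∧ q ∉ S ∧ Adj G p q)
    {p q : ℕ} (hp : Vert G p) (hq : Vert G q) (hpq : p ≠ q) : Near G p q := by
  by_cases hP : Bad G p
  · by_cases hQ : Bad G q
    · exact Or.inl (bad_bad hp.1 hq.1 hpq hP hQ)
    · obtain ⟨g, b, hg, hb, hG, hB, hgb⟩ :=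
        hconn {t | ¬ Bad G t} ⟨q, hQ, hq⟩ ⟨p, not_not_intro hP, hp⟩
      exact (good_near_bad hq hp hQ hP hg hb hG (not_not.1 hB) hgb).symm
  · by_cases hQ : Bad G q
    · obtain ⟨g, b, hg, hb, hG, hB, hgb⟩ :=
        hconn {t | ¬ Bad G t} ⟨p, hP, hp⟩ ⟨q, not_not_intro hQ, hq⟩
      exact good_near_bad hp hq hP hQ hg hb hG (not_not.1 hB) hgb
    · by_cases hadj : Adj G p q
      · exact Or.inl hadj
      haveI : Fact p.Prime := ⟨hp.1⟩
      haveI : Fact q.Prime := ⟨hq.1⟩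
      simp only [Bad, not_forall, not_not] at hP hQ
      obtain ⟨P, hPg⟩ := hP
      obtain ⟨Q, hQg⟩ := hQ
      obtain ⟨r, hr, h1, h2, h3, h4⟩ := good_good hpq P Q hPg hQg (fun x hx => hadj ⟨x, hx⟩) hp.2 hq.2
      exact Or.inr (Or.inl ⟨r, Adj.vert_right hr h3, h1, h2, h3, h4⟩)

end Cfsg.Agent.H61.ClassDiam
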