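import Cfsg.Agent.Coprime.Action
import Cfsg.Agent.Coprime.Centralize
import Cfsg.Agent.Cores.Constrained
import Cfsg.Agent.Components.PAction
import Cfsg.Agent.H47.LocalCore

/-!
Coprime operator groups and cores of centralizers: if `P` acts coprimely on `H` with `[H, P]`
solvable and `z ∈ C_H(P)` is a `q`-element, then `[O_{q'}(C_H(z)), P]` and
`O_{q'}(C_H(z)) ⊓ O_{q'}(C_H(P))` lie in `O_{q'}(H)`.
-/

set_option autoImplicit false
set_option linter.style.haveILetI false

namespace Cfsg.Agent.H61.CoreControl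

open Subgroup Cfsg.Agent.H47

universe u

variable {G : Type u} [Group G] [Finite G] {p q : ℕ} [hp : Fact p.Prime] [hq : Fact q.Prime]

/-- The case `O_{q'}(H) = 1`. -/
theorem key (H P : Subgroup G) [H.Normal] (hP : IsPGroup p P) (hcop : (Nat.card H).Coprime p)
    (hsol : Group.IsSolvable ↥⁅H, P⁆) (hO : coreOf q H = ⊥) {z : G} (hzH : z ∈ H)
    (hzP : z ∈ centralizer (P : Set G)) (hz : IsPGroup q (zpowers z)) :
    coreOf q (H ⊓ centralizer ({z} : Set G)) ⊓ coreOf q (H ⊓ centralizer (P : Set G)) = ⊥ ∧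
      ⁅coreOf q (H ⊓ centralizer ({z} : Set G)), P⁆ = ⊥ := by
  haveI := hsol
  set L := ⁅H, P⁆ with hL
  have hPH : P ≤ normalizer (H : Set G) := Components.le_normalizer_of_normal _
  have hLH : L ≤ H := Coprime.commutator_le_left_of_normalizer hPH
  have hHL : H ≤ normalizer (L : Set G) := normalizer_commutator_ge_left H P
  have hLO : coreOf q L = ⊥ := le_bot_iff.1 (hO ▸ coreOf_mono hLH hHL)
  have hLO' : Cfsg.pPrimeCore q ↥L = ⊥ :=
    (map_eq_bot_iff_of_injective _ L.subtype_injective).1 hLO
  set R := (Cfsg.pCore q ↥L).map L.subtype with hR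
  have hRL : R ≤ L := map_subtype_le _
  have hRq : IsPGroup q R := Cores.pCore_isPGroup.map _
  have hHR : H ≤ normalizer (R : Set G) :=
    Components.le_normalizer_map_characteristic _ hHL
  have hPR : P ≤ normalizer (R : Set G) :=
    Components.le_normalizer_map_characteristic _ (normalizer_commutator_ge_right H P)
  have hLC : L ⊓ centralizer (R : Set G) ≤ R := by
    rintro x ⟨hxL, hxC⟩
    refine ⟨⟨x, hxL⟩, Cores.centralizer_pCore_le Cores.isPSolvable_of_isSolvable hLO' ?_, rfl⟩
    refine mem_centralizer_iff.2 fun r hr => Subtype.ext ?_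
    exact mem_centralizer_iff.1 hxC _ ⟨r, hr, rfl⟩
  set D := coreOf q (H ⊓ centralizer ({z} : Set G)) with hD
  set E := coreOf q (H ⊓ centralizer (P : Set G)) with hE
  have hDH : D ≤ H := (coreOf_le _).trans inf_le_left
  have hEH : E ≤ H := (coreOf_le _).trans inf_le_left
  have hDq : (Nat.card D).Coprime q := coprime_coreOf _
  have hDR : D ≤ centralizer (R : Set G) := by
    refine Coprime.thompson_AxB hz hDq ?_ R hRq (zpowers_le.2 (hHR hzH)) (hDH.trans hHR) ?_
    · refine le_centralizer_iff.1 fun d hd => ?_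
      rw [Subgroup.zpowers_eq_closure, centralizer_closure]
      exact (coreOf_le _ hd).2
    · rintro r ⟨hr, hrc⟩
      have hrH : r ∈ H := hLH (hRL hr)
      have hrz : r ∈ H ⊓ centralizer ({z} : Set G) :=
        ⟨hrH, mem_centralizer_singleton_iff.2
          (mem_centralizer_iff.1 hrc z (mem_zpowers z)).symm⟩
      refine mem_centralizer_iff.2 fun d hd => ?_
      have hdR : d * r * d⁻¹ * r⁻¹ ∈ R := mul_mem ((mem_normalizer_iff.1 (hHR (hDH hd)) r).1 hr)
        (inv_mem hr)
      have hdD : d * r * d⁻¹ * r⁻¹ ∈ D := by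
        rw [mul_assoc, mul_assoc]
        refine mul_mem hd ?_
        rw [← mul_assoc]
        exact (mem_normalizer_iff.1 (le_normalizer_coreOf _ hrz) _).1 (inv_mem hd)
      have h1 : d * r * d⁻¹ * r⁻¹ ∈ R ⊓ D := ⟨hdR, hdD⟩
      rw [Cores.disjoint_of_isPGroup_of_coprime hRq hDq, mem_bot, mul_inv_eq_one,
        mul_inv_eq_iff_eq_mul] at h1
      exact h1
  have hPD : P ≤ normalizer (D : Set G) := by
    refine Components.le_normalizer_map_characteristic _ ?_
    refine le_trans (le_inf hPH ?_) inf_normalizer_le_normalizer_inf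
    refine le_trans ?_ le_normalizer
    exact fun x hx => mem_centralizer_singleton_iff.2 (mem_centralizer_iff.1 hzP x hx)
  refine ⟨?_, ?_⟩
  · set M := H ⊓ centralizer (R : Set G) with hM
    have hMH : M ≤ H := inf_le_left
    have hRC : H ⊔ P ≤ normalizer (centralizer (R : Set G) : Set G) :=
      (sup_le hHR hPR).trans (normalizer_le_normalizer_centralizer R)
    have hHM : H ⊔ P ≤ normalizer (M : Set G) :=
      (le_inf (sup_le le_normalizer hPH) hRC).trans inf_normalizer_le_normalizer_inf
    have hPM : P ≤ normalizer (M : Set G) := le_sup_right.trans hHM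
    have hMcop : (Nat.card P).Coprime (Nat.card M) := by
      obtain ⟨n, hn⟩ := IsPGroup.iff_card.1 hP
      rw [hn]
      exact Nat.Coprime.pow_left n (hcop.coprime_dvd_left (card_dvd_of_le hMH)).symm
    haveI : Group.IsNilpotent P := hP.isNilpotent
    have hdec := Coprime.commutator_sup_centralizer hPM hMcop (Or.inl inferInstance)
    have hMR : ⁅M, P⁆ ≤ R ⊓ centralizer (R : Set G) := by
      have h1 : ⁅M, P⁆ ≤ L := commutator_mono hMH le_rfl
      have h2 : ⁅M, P⁆ ≤ centralizer (R : Set G) :=
        (Coprime.commutator_le_left_of_normalizer hPM).trans inf_le_right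
      exact le_inf ((le_inf h1 h2).trans hLC) h2
    set E' := E ⊓ M with hE'
    have hME : M ≤ normalizer (E' : Set G) := by
      rw [← hdec]
      refine sup_le (fun w hw => ?_) ?_
      · refine centralizer_le_normalizer _ (mem_centralizer_iff.2 fun e he => ?_)
        exact (mem_centralizer_iff.1 he.2.2 w (hMR hw).1).symm
      · rintro c ⟨hcM, hcP⟩
        exact inf_normalizer_le_normalizer_inf
          ⟨le_normalizer_coreOf _ ⟨hMH hcM, hcP⟩, le_normalizer hcM⟩
    have hE'bot : E' = ⊥ := by
      refine le_bot_iff.1 (hO ▸ le_trans ?_ (coreOf_mono hMH (le_sup_left.trans hHM)))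
      exact le_coreOf inf_le_right hME
        (Nat.Coprime.coprime_dvd_left (card_dvd_of_le inf_le_left) (coprime_coreOf _))
    refine le_bot_iff.1 (hE'bot ▸ ?_)
    rintro x ⟨hxD, hxE⟩
    exact ⟨hxE, hEH hxE, hDR hxD⟩
  · refine le_bot_iff.1 (le_trans (le_inf ?_ ?_) (le_of_eq
      (Cores.disjoint_of_isPGroup_of_coprime hRq hDq)))
    · exact (le_inf (commutator_mono hDH le_rfl)
        ((Coprime.commutator_le_left_of_normalizer hPD).trans hDR)).trans hLC
    · exact Coprime.commutator_le_left_of_normalizer hPD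

/-- The general case. -/
theorem core_control (H P : Subgroup G) [H.Normal] (hP : IsPGroup p P)
    (hcop : (Nat.card H).Coprime p) (hsol : Group.IsSolvable ↥⁅H, P⁆) {z : G} (hzH : z ∈ H)
    (hzP : z ∈ centralizer (P : Set G)) (hz : IsPGroup q (zpowers z)) :
    (coreOf q (H ⊓ centralizer ({z} : Set G)) ⊓ coreOf q (H ⊓ centralizer (P : Set G))) ⊔
      ⁅coreOf q (H ⊓ centralizer ({z} : Set G)), P⁆ ≤ coreOf q H := by
  haveI := hsol
  set K := coreOf q H with hK
  haveI hKn : K.Normal := normalizer_eq_top_iff.1 (top_le_iff.1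
    (Components.le_normalizer_map_characteristic _ (Components.le_normalizer_of_normal ⊤)))
  set π := QuotientGroup.mk' K with hπ
  have hsurj : Function.Surjective π := QuotientGroup.mk'_surjective K
  have hKH : K ≤ H := coreOf_le H
  haveI : (H.map π).Normal := (inferInstance : H.Normal).map π hsurj
  have hcop' : (Nat.card (H.map π)).Coprime p := hcop.coprime_dvd_left (card_map_dvd H π)
  have hsol' : Group.IsSolvable ↥⁅H.map π, P.map π⁆ := by
    rw [← map_commutator]
    exact Group.isSolvable_of_surjective (f := π.subgroupMap ⁅H, P⁆)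
      (MonoidHom.subgroupMap_surjective _ _)
  have hO : coreOf q (H.map π) = ⊥ := by
    set X := coreOf q (H.map π) with hX
    set Y := X.comap π with hY
    have hKY : K ≤ Y := fun k hk => by
      rw [hY, mem_comap, show π k = 1 from (QuotientGroup.eq_one_iff k).2 hk]
      exact one_mem _
    have hYX : Y.map π = X := map_comap_eq_self_of_surjective hsurj X
    have hYH : Y ≤ H := by
      refine (comap_mono (coreOf_le _)).trans ?_
      rw [comap_map_eq, hπ, QuotientGroup.ker_mk']
      exact sup_le le_rfl hKH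
    have hHY : H ≤ normalizer (Y : Set G) := by
      refine le_trans ?_ (le_normalizer_comap π)
      intro h hh
      exact le_normalizer_coreOf _ ⟨h, hh, rfl⟩
    have hYc : (Nat.card Y).Coprime q := by
      have h1 : Nat.card K * Nat.card X = Nat.card Y := by
        rw [← hYX, hπ, Cores.card_map_mk', ← relIndex_bot_left K,
          relIndex_mul_relIndex ⊥ K Y bot_le hKY, relIndex_bot_left]
      rw [← h1]
      exact Nat.Coprime.mul_left (coprime_coreOf _) (coprime_coreOf _)
    have := le_coreOf hYH hHY hYc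
    rw [← hYX, eq_bot_iff]
    rintro _ ⟨y, hy, rfl⟩
    exact mem_bot.2 ((QuotientGroup.eq_one_iff y).2 (this hy))
  have hlift : ∀ {r : ℕ} [Fact r.Prime] (T : Subgroup G), IsPGroup r T → (Nat.card K).Coprime r →
      (H ⊓ centralizer (T : Set G)).map π = H.map π ⊓ centralizer ((T.map π : Subgroup _) : Set _) := by
    intro r _ T hT hKr
    refine le_antisymm ?_ ?_
    · refine (map_inf_le _ _ _).trans (inf_le_inf_left _ ?_)
      exact (Cores.map_centralizer_of_coprime K hKr hT).le
    · rintro x ⟨hx1, hx2⟩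
      rw [← Cores.map_centralizer_of_coprime K hKr hT] at hx2
      obtain ⟨g, hg, rfl⟩ := hx2
      obtain ⟨h, hh, hgh⟩ := hx1
      refine ⟨g, ⟨?_, hg⟩, rfl⟩
      have h2 : h⁻¹ * g ∈ H := hKH ((QuotientGroup.eq (s := K)).1 hgh)
      simpa using mul_mem hh h2
  have hz1 : H.map π ⊓ centralizer ({π z} : Set _) = (H ⊓ centralizer ({z} : Set G)).map π := by
    have := hlift (zpowers z) hz (coprime_coreOf _)
    rw [MonoidHom.map_zpowers, zpowers_eq_closure z, centralizer_closure,
      zpowers_eq_closure (π z), centralizer_closure] at this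
    exact this.symm
  have hP1 : H.map π ⊓ centralizer ((P.map π : Subgroup _) : Set _) =
      (H ⊓ centralizer (P : Set G)).map π :=
    (hlift P hP (hcop.coprime_dvd_left (card_dvd_of_le hKH))).symm
  obtain ⟨hk1, hk2⟩ := key (H.map π) (P.map π) (hP.map π) hcop' hsol' hO
    (z := π z) ⟨z, hzH, rfl⟩
    (mem_centralizer_iff.2 (by
      rintro _ ⟨x, hx, rfl⟩
      rw [← map_mul, ← map_mul, mem_centralizer_iff.1 hzP x hx]))
    (by rw [← MonoidHom.map_zpowers]; exact hz.map π)
  rw [hz1, hP1] at hk1
  rw [hz1] at hk2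
  refine sup_le ?_ ?_
  · rintro x ⟨hx1, hx2⟩
    have h1 : π x ∈ (⊥ : Subgroup (G ⧸ K)) := hk1 ▸
      ⟨map_coreOf_le π _ ⟨x, hx1, rfl⟩, map_coreOf_le π _ ⟨x, hx2, rfl⟩⟩
    exact (QuotientGroup.eq_one_iff x).1 (mem_bot.1 h1)
  · rw [← QuotientGroup.ker_mk' K, ← Subgroup.map_eq_bot_iff, ← hπ, map_commutator, eq_bot_iff, ← hk2]
    exact commutator_mono (map_coreOf_le π _) le_rfl

end Cfsg.Agent.H61.CoreControl
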