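import Cfsg.Agent.Coprime.Action
import Cfsg.Agent.BlockBasic.PPart
import Cfsg.Prelude.Def_SubgroupEmbedding
import Mathlib.GroupTheory.Transfer
import Mathlib.GroupTheory.Sylow

/-!
Abelian extremely closed `p`-subgroups: the pair generated by the subgroup and a conjugate has a
normal `p`-complement on which the subgroup acts without fixed points; passage to subgroups and
quotients.
-/

namespace Cfsg.Agent.H61.ExtClosed

open Subgroup

universe u

variable {G : Type u} [Group G]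

/-- An abelian extremely closed `p`-subgroup. -/
structure Hyp (p : ℕ) (H : Subgroup G) : Prop where
  pg : IsPGroup p H
  comm : ∀ a ∈ H, ∀ b ∈ H, a * b = b * a
  closed : Cfsg.IsExtremelyClosed H

variable [Finite G] {p : ℕ} [hp : Fact p.Prime] {H : Subgroup G}

/-- The group generated by `H` and a conjugate. -/
abbrev Kg (H : Subgroup G) (g : G) : Subgroup G := H ⊔ H.map (MulAut.conj g).toMonoidHom

theorem orderOf_pow_of_mem (h : IsPGroup p H) {x : G} (hx : x ∈ H) : ∃ k, orderOf x = p ^ k := by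
  obtain ⟨k, hk⟩ := IsPGroup.iff_orderOf.1 h ⟨x, hx⟩
  exact ⟨k, by rw [← hk, Subgroup.orderOf_mk]⟩

theorem not_dvd_orderOf_of_mem {R : Subgroup G} (hR : ¬ p ∣ Nat.card R) {x : G} (hx : x ∈ R) :
    ¬ p ∣ orderOf x := fun hd => hR (hd.trans (R.orderOf_dvd_natCard hx))

omit [Finite G] in
theorem eq_one_of_orders {x : G} (hk : ∃ k, orderOf x = p ^ k) (hn : ¬ p ∣ orderOf x) : x = 1 := by
  obtain ⟨k, hk⟩ := hk
  rcases k with _ | k
  · exact orderOf_eq_one_iff.1 (by rw [hk, pow_zero])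
  · exact absurd (hk ▸ dvd_pow_self p k.succ_ne_zero) hn

theorem eq_one_of_mem_of_mem (h : IsPGroup p H) {R : Subgroup G} (hR : ¬ p ∣ Nat.card R) {x : G}
    (hxH : x ∈ H) (hxR : x ∈ R) : x = 1 :=
  eq_one_of_orders (orderOf_pow_of_mem h hxH) (not_dvd_orderOf_of_mem hR hxR)

theorem coprime_card (h : IsPGroup p H) {R : Subgroup G} (hR : ¬ p ∣ Nat.card R) :
    (Nat.card H).Coprime (Nat.card R) := by
  obtain ⟨n, hn⟩ := h.exists_card_eq
  rw [hn]
  exact (hp.out.coprime_iff_not_dvd.2 hR).pow_left n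

theorem Hyp.solvable (h : Hyp p H) : Group.IsSolvable H := by
  haveI : IsMulCommutative H := ⟨⟨fun a b => Subtype.ext (h.comm a a.2 b b.2)⟩⟩
  exact Coprime.isSolvable_of_isMulCommutative

/-- The normal complement of `H` in the group it generates with a conjugate. -/
structure IsPair (p : ℕ) (H : Subgroup G) (g : G) (R : Subgroup G) : Prop where
  card : ¬ p ∣ Nat.card R
  le : R ≤ Kg H g
  norm : ∀ a ∈ Kg H g, ∀ r ∈ R, a * r * a⁻¹ ∈ R
  decomp : ∀ x ∈ Kg H g, ∃ r ∈ R, ∃ a ∈ H, x = r * a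
  conj : ∃ k ∈ R, k⁻¹ * g ∈ normalizer (H : Set G)

theorem Hyp.exists_pair (h : Hyp p H) (g : G) : ∃ R, IsPair p H g R := by
  classical
  set K := Kg H g with hK
  set P : Subgroup K := H.subgroupOf K with hPdef
  have hHK : H ≤ K := le_sup_left
  have hPp : IsPGroup p P := h.pg.comap_of_injective K.subtype K.subtype_injective
  have hNP : normalizer (P : Set K) = P := by
    refine le_antisymm (fun x hx => ?_) le_normalizer
    have hx' : (x : G) ∈ K ⊓ normalizer (H : Set G) := by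
      refine ⟨x.2, mem_normalizer_iff.2 fun a => ⟨fun ha => ?_, fun ha => ?_⟩⟩
      · exact (mem_normalizer_iff.1 hx ⟨a, hHK ha⟩).1 ha
      · have haK : a ∈ K := by
          simpa [mul_assoc] using K.mul_mem (K.mul_mem (K.inv_mem x.2) (hHK ha)) x.2
        exact (mem_normalizer_iff.1 hx ⟨a, haK⟩).2 ha
    exact (SetLike.ext_iff.1 (h.closed g) (x : G)).1 hx'
  obtain ⟨n, hn⟩ := hPp.exists_card_eq
  have hnd : ¬ p ^ (n + 1) ∣ Nat.card K := by
    intro hd
    have h1 := Sylow.prime_dvd_card_quotient_normalizer hd hn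
    rw [← Subgroup.index_eq_card, ← Subgroup.subgroupOf, ← Subgroup.relIndex, hNP,
      Subgroup.relIndex_self] at h1
    exact hp.out.not_dvd_one h1
  have hidx : ¬ p ∣ P.index := fun hd => hnd (by
    rw [← P.card_mul_index, hn, pow_succ]
    exact mul_dvd_mul_left _ hd)
  let S : Sylow p K := hPp.toSylow hidx
  have hSP : (S : Subgroup K) = P := IsPGroup.toSylow_coe hPp hidx
  have hNC : normalizer ((S : Subgroup K) : Set K) ≤ centralizer ((S : Subgroup K) : Set K) := by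
    rw [hSP, hNP]
    intro a ha
    exact mem_centralizer_iff.2 fun b hb => Subtype.ext (h.comm _ hb _ ha)
  set R' := (MonoidHom.transferSylow S hNC).ker with hR'
  have hc := MonoidHom.ker_transferSylow_isComplement' S hNC
  rw [← hR'] at hc
  have hR'n : R'.Normal := MonoidHom.normal_ker _
  have hR'c : ¬ p ∣ Nat.card R' := MonoidHom.not_dvd_card_ker_transferSylow S hNC
  clear_value R'
  have hdec : ∀ x ∈ K, ∃ r ∈ R'.map K.subtype, ∃ a ∈ H, x = r * a := by
    intro x hx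
    obtain ⟨⟨r, a⟩, hra⟩ := hc.2 ⟨x, hx⟩
    exact ⟨_, ⟨r, r.2, rfl⟩, _, (show (a : K) ∈ P from hSP ▸ a.2), (congrArg Subtype.val hra).symm⟩
  refine ⟨R'.map K.subtype, ?_, map_subtype_le _, ?_, hdec, ?_⟩
  · rw [Subgroup.card_map_of_injective K.subtype_injective]
    exact hR'c
  · rintro a ha _ ⟨r, hr, rfl⟩
    exact ⟨⟨a, ha⟩ * r * ⟨a, ha⟩⁻¹, hR'n.conj_mem r hr ⟨a, ha⟩, rfl⟩
  · set Q : Subgroup K := (H.map (MulAut.conj g).toMonoidHom).subgroupOf K with hQ
    have hQp : IsPGroup p Q :=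
      (h.pg.map _).comap_of_injective K.subtype K.subtype_injective
    obtain ⟨T, hT⟩ := hQp.exists_le_sylow
    obtain ⟨c, hc'⟩ := MulAction.exists_smul_eq K S T
    obtain ⟨r, hr, a, ha, hra⟩ := hdec c c.2
    refine ⟨r, hr, mem_normalizer_fintype (fun b hb => ?_)⟩
    have hb' : g * b * g⁻¹ ∈ K := le_sup_right (a := H) ⟨b, hb, rfl⟩
    have h1 : (⟨g * b * g⁻¹, hb'⟩ : K) ∈ ((c • S : Sylow p K) : Subgroup K) := by
      rw [hc']
      exact hT ⟨b, hb, rfl⟩
    obtain ⟨s, hs, hse⟩ := h1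
    have hsH : (s : G) ∈ H := (show s ∈ P from hSP ▸ hs)
    have hse' : (c : G) * (s : G) * (c : G)⁻¹ = g * b * g⁻¹ := congrArg Subtype.val hse
    show r⁻¹ * g * b * (r⁻¹ * g)⁻¹ ∈ H
    have : r⁻¹ * g * b * (r⁻¹ * g)⁻¹ = a * (s : G) * a⁻¹ := by
      calc r⁻¹ * g * b * (r⁻¹ * g)⁻¹ = r⁻¹ * (g * b * g⁻¹) * r := by group
        _ = r⁻¹ * ((r * a) * (s : G) * (r * a)⁻¹) * r := by rw [← hse', ← hra]
        _ = _ := by group
    rw [this]
    exact H.mul_mem (H.mul_mem ha hsH) (H.inv_mem ha)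

namespace IsPair

variable {g : G} {R : Subgroup G}

omit [Finite G] hp in
theorem norm_H (hR : IsPair p H g R) {a r : G} (ha : a ∈ H) (hr : r ∈ R) : a * r * a⁻¹ ∈ R :=
  hR.norm a (le_sup_left (b := H.map (MulAut.conj g).toMonoidHom) ha) r hr

omit [Finite G] hp in
theorem le_normalizer (hR : IsPair p H g R) : H ≤ normalizer (R : Set G) := fun a ha => by
  refine mem_normalizer_iff.2 fun r => ⟨fun hr => hR.norm_H ha hr, fun hr => ?_⟩
  simpa [mul_assoc] using hR.norm_H (H.inv_mem ha) hr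

/-- `H` acts on the complement without fixed points. -/
theorem eq_one_of_fixed (hR : IsPair p H g R) (h : Hyp p H) {r : G} (hr : r ∈ R)
    (hc : ∀ a ∈ H, a * r = r * a) : r = 1 := by
  refine eq_one_of_mem_of_mem h.pg hR.card ?_ hr
  rw [← h.closed g]
  refine ⟨hR.le hr, mem_normalizer_fintype fun a ha => ?_⟩
  show r * a * r⁻¹ ∈ H
  rwa [← hc a ha, mul_inv_cancel_right]

/-- An element of `R` whose commutators with `H` lie in a normalized subgroup `N` lies in `N`. -/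
theorem mem_of_commutators_mem (hR : IsPair p H g R) (h : Hyp p H) {N : Subgroup G}
    (hN : H ≤ normalizer (N : Set G)) {r : G} (hr : r ∈ R)
    (hc : ∀ a ∈ H, r⁻¹ * (a * r * a⁻¹) ∈ N) : r ∈ N := by
  have hn2 : H ≤ normalizer ((R ⊓ N : Subgroup G) : Set G) := fun a ha => by
    refine mem_normalizer_fintype fun x hx => ?_
    exact ⟨hR.norm_H ha hx.1, (mem_normalizer_iff.1 (hN ha) x).1 hx.2⟩
  obtain ⟨c, hc', hrc⟩ := Coprime.exists_centralizer_mem_coset hR.le_normalizer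
    (coprime_card h.pg hR.card) (Or.inl h.solvable) (N := R ⊓ N) inf_le_left hn2 hr
    (fun a ha => ⟨R.mul_mem (R.inv_mem hr) (hR.norm_H ha hr), hc a ha⟩)
  have h1 : c = 1 := hR.eq_one_of_fixed h hc'.1 fun a ha => mem_centralizer_iff.1 hc'.2 a ha
  rw [h1, mul_one] at hrc
  simpa using N.inv_mem hrc.2

end IsPair

/-- Fusion in `H` is controlled by its normalizer. -/
theorem Hyp.exists_normalizer_conj (h : Hyp p H) {a g : G} (ha : a ∈ H) (hg : g * a * g⁻¹ ∈ H) :
    ∃ n ∈ normalizer (H : Set G), n * a * n⁻¹ = g * a * g⁻¹ := by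
  obtain ⟨R, hR⟩ := h.exists_pair g
  obtain ⟨k, hk, hn⟩ := hR.conj
  set n := k⁻¹ * g with hndef
  have hb : n * a * n⁻¹ ∈ H := (mem_normalizer_iff.1 hn a).1 ha
  refine ⟨n, hn, ?_⟩
  set b := n * a * n⁻¹ with hbdef
  have e : g * a * g⁻¹ = k * b * k⁻¹ := by rw [hbdef, hndef]; group
  rw [e] at hg ⊢
  have h1 : k * b * k⁻¹ * b⁻¹ = 1 := by
    refine eq_one_of_mem_of_mem h.pg hR.card (H.mul_mem hg (H.inv_mem hb)) ?_
    have : k * b * k⁻¹ * b⁻¹ = k * (b * k⁻¹ * b⁻¹) := by group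
    rw [this]
    exact R.mul_mem hk (hR.norm_H hb (R.inv_mem hk))
  exact (mul_inv_eq_one.1 h1).symm

/-- The property passes to subgroups containing `H`. -/
theorem Hyp.subgroupOf (h : Hyp p H) {L : Subgroup G} (hHL : H ≤ L) :
    Hyp p (H.subgroupOf L) := by
  refine ⟨h.pg.comap_of_injective L.subtype L.subtype_injective,
    fun a ha b hb => Subtype.ext (h.comm _ ha _ hb), fun g => ?_⟩
  refine le_antisymm (fun x ⟨hx, hxn⟩ => ?_) (le_inf le_sup_left Subgroup.le_normalizer)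
  show (x : G) ∈ H
  rw [← h.closed (g : G)]
  refine ⟨?_, mem_normalizer_fintype fun a ha => ?_⟩
  · have hle : H.subgroupOf L ⊔ (H.subgroupOf L).map (MulAut.conj g).toMonoidHom ≤
        (Kg H (g : G)).subgroupOf L := by
      refine sup_le (comap_mono le_sup_left) ?_
      rintro _ ⟨a, ha, rfl⟩
      exact le_sup_right (a := H) ⟨(a : G), ha, rfl⟩
    exact hle hx
  · exact (mem_normalizer_iff.1 hxn ⟨a, hHL ha⟩).1 ha

/-- The property passes to a quotient as soon as normalizers do. -/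
theorem Hyp.quotient (h : Hyp p H) (N : Subgroup G) [N.Normal]
    (hyp : ∀ g : G, ∀ y ∈ Kg H g, (∀ a ∈ H, y * a * y⁻¹ ∈ H ⊔ N) → y ∈ H ⊔ N) :
    Hyp p (H.map (QuotientGroup.mk' N)) := by
  refine ⟨h.pg.map _, ?_, fun q => ?_⟩
  · rintro _ ⟨a, ha, rfl⟩ _ ⟨b, hb, rfl⟩
    rw [← map_mul, ← map_mul, h.comm a ha b hb]
  obtain ⟨g, rfl⟩ := QuotientGroup.mk'_surjective N q
  refine le_antisymm (fun y ⟨hy, hyn⟩ => ?_) (le_inf le_sup_left Subgroup.le_normalizer)
  have hy' : y ∈ (Kg H g).map (QuotientGroup.mk' N) := by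
    rw [Kg, Subgroup.map_sup]
    refine SetLike.le_def.1 (sup_le_sup le_rfl ?_) hy
    rintro _ ⟨_, ⟨a, ha, rfl⟩, rfl⟩
    exact ⟨_, ⟨a, ha, rfl⟩, by simp⟩
  obtain ⟨z, hz, rfl⟩ := hy'
  have hback : ∀ w : G, QuotientGroup.mk' N w ∈ H.map (QuotientGroup.mk' N) ↔ w ∈ H ⊔ N := by
    intro w
    rw [← Subgroup.mem_comap, Subgroup.comap_map_eq, QuotientGroup.ker_mk']
  rw [hback]
  refine hyp g z hz fun a ha => (hback _).1 ?_
  simpa using (mem_normalizer_iff.1 hyn _).1 (mem_map_of_mem _ ha)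

/-- The quotient by a normal subgroup of order prime to `p`. -/
theorem Hyp.quotient_regular (h : Hyp p H) (N : Subgroup G) [N.Normal] (hN : ¬ p ∣ Nat.card N) :
    Hyp p (H.map (QuotientGroup.mk' N)) := by
  refine h.quotient N fun g y hy hyn => ?_
  obtain ⟨R, hR⟩ := h.exists_pair g
  obtain ⟨r, hr, a, ha, rfl⟩ := hR.decomp y hy
  have hNn : H ≤ normalizer (N : Set G) := by rw [Subgroup.normalizer_eq_top]; exact le_top
  refine (H ⊔ N).mul_mem (le_sup_right (a := H) (hR.mem_of_commutators_mem h hNn hr fun b hb => ?_))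
    (le_sup_left (b := N) ha)
  -- conjugation by `r` sends `H` into `H ⊔ N`
  have h1 : r * b * r⁻¹ ∈ H ⊔ N := by
    have := hyn _ (H.mul_mem (H.mul_mem (H.inv_mem ha) hb) ha)
    simpa [mul_assoc] using this
  obtain ⟨b', hb', n, hn, e⟩ := Subgroup.mem_sup_of_normal_right.1 h1
  have hin : b'⁻¹ * (r * b * r⁻¹) = n := by rw [← e]; group
  have hbb : b' = b := by
    refine (inv_mul_eq_one.1 ?_)
    refine eq_one_of_orders (p := p) (orderOf_pow_of_mem h.pg (H.mul_mem (H.inv_mem hb') hb)) ?_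
    -- `b'⁻¹ b` lies in `R ⊔ N`, of order prime to `p`
    have hnR : R ≤ normalizer (N : Set G) := by rw [Subgroup.normalizer_eq_top]; exact le_top
    have hmem : b'⁻¹ * b ∈ N ⊔ R := by
      have hcr : b * r * b⁻¹ * r⁻¹ ∈ R := R.mul_mem (hR.norm_H hb hr) (R.inv_mem hr)
      have e2 : b'⁻¹ * b = n * (r * b * r⁻¹)⁻¹ * b := by rw [← hin]; group
      have e3 : (r * b * r⁻¹)⁻¹ * b = r * (b⁻¹ * r⁻¹ * b) := by group
      rw [e2, mul_assoc, e3]
      refine mul_mem (mem_sup_left hn) (mem_sup_right (R.mul_mem hr ?_))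
      simpa using hR.norm_H (H.inv_mem hb) (R.inv_mem hr)
    set w := b'⁻¹ * b
    have hw := orderOf_pow_of_mem h.pg (H.mul_mem (H.inv_mem hb') hb)
    have hwN : w ∈ N := by
      rw [← QuotientGroup.eq_one_iff (N := N)]
      obtain ⟨n₀, hn₀, r₀, hr₀, e0⟩ := Subgroup.mem_sup_of_normal_left.1 hmem
      have ew : (QuotientGroup.mk w : G ⧸ N) = QuotientGroup.mk r₀ := by
        rw [← e0, QuotientGroup.mk_mul, (QuotientGroup.eq_one_iff n₀).2 hn₀, one_mul]
      refine eq_one_of_orders (p := p) ?_ ?_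
      · obtain ⟨k, hk⟩ := hw
        obtain ⟨j, -, hj⟩ := (Nat.dvd_prime_pow hp.out).1
          (hk ▸ orderOf_map_dvd (QuotientGroup.mk' N) w : orderOf (QuotientGroup.mk' N w) ∣ p ^ k)
        exact ⟨j, hj⟩
      · rw [ew]
        exact fun hd => not_dvd_orderOf_of_mem hR.card hr₀ (hd.trans (orderOf_map_dvd (QuotientGroup.mk' N) r₀))
    exact fun hd => not_dvd_orderOf_of_mem hN hwN hd
  subst hbb
  have hn' := (inferInstance : N.Normal).conj_mem _ (N.inv_mem hn) r⁻¹
  have e4 : r⁻¹ * (b' * r * b'⁻¹) = r⁻¹ * (b' * n⁻¹ * b'⁻¹) * r := by rw [← hin]; group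
  rw [e4]
  have hn'' := (inferInstance : N.Normal).conj_mem _ (N.inv_mem hn) b'
  simpa using (inferInstance : N.Normal).conj_mem _ hn'' r⁻¹

/-- The quotient by a central subgroup inside `H`. -/
theorem Hyp.quotient_le (h : Hyp p H) (N : Subgroup G) [N.Normal] (hN : N ≤ H) :
    Hyp p (H.map (QuotientGroup.mk' N)) := by
  refine h.quotient N fun g y hy hyn => ?_
  rw [sup_eq_left.2 hN] at hyn ⊢
  rw [← h.closed g]
  exact ⟨hy, mem_normalizer_fintype hyn⟩

end Cfsg.Agent.H61.ExtClosed
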