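import Cfsg.Agent.H61.ExtClosedBasic
import Cfsg.Agent.BlockBasic.Kernel
import Cfsg.Agent.BlockBasic.Orth
import Cfsg.Agent.CharInduce.Ops
import Cfsg.Agent.CharBasic.Kernel
import Cfsg.Agent.CharBasic.Integral
import Cfsg.Agent.H83.ClassConst

/-!
Character-theoretic preparations for the factorization of groups with an extremely closed abelian
`p`-subgroup.
-/

open scoped ComplexConjugate

namespace Cfsg.Agent.H61.ExtClosed

open CharBasic

universe u

variable {G : Type u} [Group G] [Finite G]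

/-- An irreducible character of constant absolute value is linear. -/
theorem degree_one_of_norm {χ : G → ℂ} (hχ : Cfsg.IsIrrCharacter G χ)
    (h : ∀ g, ‖χ g‖ = ‖χ 1‖) : χ 1 = 1 := by
  cases nonempty_fintype G
  obtain ⟨d, -, hd⟩ := IsIrr.exists_degree hχ
  have h1 := classInner_irr_self hχ
  rw [classInner_def, inv_mul_eq_iff_eq_mul₀ (Nat.cast_ne_zero.2 Nat.card_pos.ne'), mul_one] at h1
  simp only [Complex.mul_conj', h, hd, Complex.norm_natCast, Complex.ofReal_natCast,
    Finset.sum_const, Finset.card_univ, nsmul_eq_mul, Nat.card_eq_fintype_card] at h1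
  have h2 : (d : ℂ) ^ 2 = 1 := mul_left_cancel₀
    (Nat.cast_ne_zero.2 Fintype.card_ne_zero : (Fintype.card G : ℂ) ≠ 0) (h1.trans (mul_one _).symm)
  have h3 : d ^ 2 = 1 := by exact_mod_cast h2
  rw [hd, (Nat.pow_eq_one.1 h3).resolve_right two_ne_zero, Nat.cast_one]

/-- A character trivial on the conjugates of an abelian subgroup generating the group normally,
modulo that subgroup, is linear. -/
theorem degree_one_of_conj_kernel {χ : G → ℂ} (hχ : Cfsg.IsIrrCharacter G χ) (H : Subgroup G)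
    (hH : ∀ a ∈ H, ∀ b ∈ H, a * b = b * a) (hgen : Subgroup.normalClosure (H : Set G) = ⊤)
    (hker : ∀ g : G, ∀ a ∈ H, ∃ b ∈ H, ∃ k : G, χ k = χ 1 ∧ g * a * g⁻¹ = k * b) : χ 1 = 1 := by
  classical
  obtain ⟨K, hKn, hK, hKm⟩ := IsChar.exists_kernel (IsIrr.isCharacter hχ)
  have htop : H ⊔ K = ⊤ := by
    rw [eq_top_iff, ← hgen]
    refine Subgroup.closure_le (H ⊔ K) |>.2 ?_
    intro y hy
    obtain ⟨a, ha, hc⟩ := Group.mem_conjugatesOfSet_iff.1 hy
    obtain ⟨g, rfl⟩ := isConj_iff.1 hc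
    obtain ⟨b, hb, k, hk, e⟩ := hker g a ha
    rw [e]
    exact mul_mem (Subgroup.mem_sup_right ((hK k).2 hk)) (Subgroup.mem_sup_left hb)
  obtain ⟨n, ρ, hρi, hρ⟩ := id hχ
  refine degree_one_of_norm hχ fun g => ?_
  rw [← hρ]
  refine (IsChar.norm_eq_iff_scalar ρ g).2 (schur_scalar ρ (ρ g) fun y => ?_)
  have hker' : ∀ k ∈ K, ρ k = 1 := fun k hk => by
    have h1 := (hK k).1 hk
    rw [← hρ, Representation.char_one] at h1
    exact (character_eq_finrank_iff ρ k).1 (by rw [h1, Module.finrank_fin_fun])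
  obtain ⟨a, ha, k, hk, rfl⟩ := Subgroup.mem_sup_of_normal_right.1
    (htop ▸ Subgroup.mem_top g : g ∈ H ⊔ K)
  obtain ⟨b, hb, l, hl, rfl⟩ := Subgroup.mem_sup_of_normal_right.1
    (htop ▸ Subgroup.mem_top y : y ∈ H ⊔ K)
  simp only [map_mul, hker' k hk, hker' l hl, mul_one]
  rw [← map_mul, hH a ha b hb, map_mul]

/-- The sum of the linear characters at a point is a natural number. -/
theorem exists_sum_linear (g : G) [Fintype (Cfsg.IrrCharacter G)]
    [DecidablePred fun χ : Cfsg.IrrCharacter G => (χ : G → ℂ) 1 = 1] :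
    ∃ m : ℕ, ∑ χ ∈ Finset.univ.filter (fun χ : Cfsg.IrrCharacter G => (χ : G → ℂ) 1 = 1),
      (χ : G → ℂ) g = m := by
  classical
  cases nonempty_fintype G
  set S := Finset.univ.filter fun χ : Cfsg.IrrCharacter G => (χ : G → ℂ) 1 = 1 with hS
  by_cases hall : ∀ χ ∈ S, (χ : G → ℂ) g = 1
  · exact ⟨S.card, by rw [Finset.sum_congr rfl hall, Finset.sum_const, nsmul_eq_mul, mul_one]⟩
  push Not at hall
  obtain ⟨χ₀, hχ₀, hne⟩ := hall
  obtain ⟨l, hl⟩ := CharInduce.IsChar.exists_hom_of_degree_one (IsIrr.isCharacter χ₀.2)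
    (Finset.mem_filter.1 hχ₀).2
  refine ⟨0, ?_⟩
  rw [Nat.cast_zero]
  have hsum : ∑ χ ∈ S, (χ : G → ℂ) g = ∑ χ ∈ S, (l g : ℂ) * (χ : G → ℂ) g := by
    have hmap : ∀ χ ∈ S, ∀ m : G →* ℂˣ,
        ∃ ψ ∈ S, ∀ y, (ψ : G → ℂ) y = (m y : ℂ) * (χ : G → ℂ) y := by
      intro χ hχ m
      obtain ⟨l', hl'⟩ := CharInduce.IsChar.exists_hom_of_degree_one (IsIrr.isCharacter χ.2)
        (Finset.mem_filter.1 hχ).2
      refine ⟨⟨fun y => ((m * l') y : ℂ), CharInduce.isIrrCharacter_hom (m * l')⟩,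
        Finset.mem_filter.2 ⟨Finset.mem_univ _, by simp⟩, fun y => ?_⟩
      simp [hl', MonoidHom.mul_apply]
    choose F hF hFy using hmap
    refine (Finset.sum_bij' (fun χ hχ => F χ hχ l) (fun χ hχ => F χ hχ l⁻¹)
      (fun χ hχ => hF χ hχ l) (fun χ hχ => hF χ hχ l⁻¹) ?_ ?_ ?_).symm
    · intro χ hχ
      refine Subtype.ext (funext fun y => ?_)
      rw [hFy, hFy, MonoidHom.inv_apply, Units.val_inv_eq_inv_val, ← mul_assoc,
        inv_mul_cancel₀ (Units.ne_zero _), one_mul]
    · intro χ hχ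
      refine Subtype.ext (funext fun y => ?_)
      rw [hFy, hFy, MonoidHom.inv_apply, Units.val_inv_eq_inv_val, ← mul_assoc,
        mul_inv_cancel₀ (Units.ne_zero _), one_mul]
    · intro χ hχ
      rw [hFy]
  rw [← Finset.mul_sum] at hsum
  have hl1 : (l g : ℂ) ≠ 1 := by rw [← hl]; exact hne
  have : ((l g : ℂ) - 1) * ∑ χ ∈ S, (χ : G → ℂ) g = 0 := by
    rw [sub_mul, one_mul, ← hsum, sub_self]
  exact (mul_eq_zero.1 this).resolve_left (sub_ne_zero.2 hl1)

/-- For a normal subgroup `R`, the average of a character over a coset bounds the real part of its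
values on `R` from below. -/
theorem re_lower_bound [Fintype G] (R : Subgroup G) [R.Normal] [DecidablePred (· ∈ R)] {χ : G → ℂ}
    (hχ : Cfsg.IsCharacter G χ) (h : G) {w : G} (hw : w ∈ R) :
    2 * (∑ r ∈ Finset.univ.filter (· ∈ R), χ (h * r)).re ≤
      (Nat.card R : ℝ) * ((χ w).re + (χ 1).re) := by
  refine IsChar.induction_on (p := fun χ => 2 * (∑ r ∈ Finset.univ.filter (· ∈ R), χ (h * r)).re ≤
    (Nat.card R : ℝ) * ((χ w).re + (χ 1).re)) hχ (by simp) ?_
  intro φ ψ hφ _ ih
  suffices hmain : 2 * (∑ r ∈ Finset.univ.filter (· ∈ R), φ (h * r)).re ≤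
      (Nat.card R : ℝ) * ((φ w).re + (φ 1).re) by
    simp only [Pi.add_apply, Finset.sum_add_distrib, Complex.add_re] at ih ⊢
    nlinarith [hmain, ih]
  obtain ⟨n, ρ, hρ, rfl⟩ := hφ
  have hre : ∀ y, |(ρ.character y).re| ≤ (ρ.character 1).re := fun y => by
    refine (Complex.abs_re_le_norm _).trans ((norm_character_le (ρ := ρ) y).trans (le_of_eq ?_))
    rw [Representation.char_one, Complex.natCast_re]
  by_cases hsum : ∑ l ∈ Finset.univ.filter (· ∈ R), ρ.character l = 0
  · -- the average over `R` is zero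
    set c : G → ℂ := fun g => if g ∈ R then 1 else 0 with hc
    have hcl : Cfsg.IsClassFunction G c := fun g x => by
      have : x * g * x⁻¹ ∈ R ↔ g ∈ R := ⟨fun h => by
        simpa [mul_assoc] using Subgroup.Normal.conj_mem inferInstance _ h x⁻¹,
        fun h => Subgroup.Normal.conj_mem inferInstance g h x⟩
      simp only [hc, this]
    have hT := H83.repSum_scalar hcl ρ
    have hs : ∑ g : G, c g * ρ.character g = ∑ l ∈ Finset.univ.filter (· ∈ R), ρ.character l := by
      rw [Finset.sum_filter]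
      exact Finset.sum_congr rfl fun g _ => by simp [hc]
    rw [hs, hsum, zero_div, zero_smul] at hT
    have h0 : ∑ r ∈ Finset.univ.filter (· ∈ R), ρ.character (h * r) = 0 := by
      have h1 : ∑ r ∈ Finset.univ.filter (· ∈ R), ρ (h * r) = 0 := by
        simp only [map_mul, ← Finset.mul_sum]
        rw [Finset.sum_filter]
        have e : (∑ a : G, if a ∈ R then ρ a else 0) = repSum c ρ :=
          Finset.sum_congr rfl fun g _ => by by_cases hg : g ∈ R <;> simp [hc, hg]
        rw [e, hT, mul_zero]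
      simp only [Representation.character, ← map_sum]
      rw [h1, map_zero]
    rw [h0, Complex.zero_re, mul_zero]
    refine mul_nonneg (Nat.cast_nonneg _) ?_
    linarith [neg_abs_le (ρ.character w).re, hre w]
  · -- `R` acts trivially
    have htriv := fun l hl => H82.eq_one_of_sum_ne_zero R (χ := ρ.character) ⟨n, ρ, hρ, rfl⟩ hsum
      (l := l) hl
    obtain ⟨K, hKn, hK, hKm⟩ := IsChar.exists_kernel (isCharacter_character ρ)
    rw [Finset.sum_congr rfl (g := fun _ => ρ.character h) fun r hr =>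
      hKm h r ((hK r).2 (htriv r (Finset.mem_filter.1 hr).2)), Finset.sum_const, nsmul_eq_mul,
      htriv w hw, ← Fintype.card_subtype, ← Nat.card_eq_fintype_card, ← Complex.ofReal_natCast,
      Complex.re_ofReal_mul]
    nlinarith [le_abs_self (ρ.character h).re, hre h,
      (Nat.cast_nonneg _ : (0 : ℝ) ≤ Nat.card R)]

variable {p : ℕ} [hp : Fact p.Prime] {M : Ideal Cfsg.AlgInt}

/-- Every linear character is in the principal block when the `p`-regular elements lie in its
kernel. -/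
theorem mem_principalBlock_of_linear (hM : Cfsg.IsPModular p M) {χ : Cfsg.IrrCharacter G}
    (h1 : (χ : G → ℂ) 1 = 1) (hreg : ∀ g : G, ¬ p ∣ orderOf g → (χ : G → ℂ) g = 1) :
    χ ∈ Cfsg.principalBlock M G := by
  refine BlockBasic.sameBlock_of_congr_regular hM (χ := BlockBasic.trivialIrr) fun g hg => ?_
  have : Cfsg.centralChar ((BlockBasic.trivialIrr : Cfsg.IrrCharacter G) : G → ℂ) g =
      Cfsg.centralChar (χ : G → ℂ) g := by
    simp only [Cfsg.centralChar, h1, hreg g hg]
    rfl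
  rw [this, sub_self]
  exact BlockBasic.memLocalIdeal_zero hM

/-- The sum of the squares of the degrees in the principal block is a positive multiple of the
order of a Sylow `p`-subgroup. -/
theorem sylow_le_sum_sq (hM : Cfsg.IsPModular p M) :
    p ^ (Nat.card G).factorization p ≤
      ∑ᶠ ψ ∈ Cfsg.principalBlock M G, Cfsg.charDegree (ψ : G → ℂ) ^ 2 := by
  classical
  cases nonempty_fintype G
  set B := Cfsg.principalBlock M G with hBdef
  have hB : Cfsg.IsPBlock M B := BlockBasic.isPBlock_principalBlock M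
  set s := ∑ᶠ ψ ∈ B, Cfsg.charDegree (ψ : G → ℂ) ^ 2 with hsdef
  have hdeg : ∀ ψ : Cfsg.IrrCharacter G, (ψ : G → ℂ) 1 = (Cfsg.charDegree (ψ : G → ℂ) : ℂ) :=
    fun ψ => BlockBasic.apply_one_eq_charDegree ψ
  obtain ⟨r, ⟨m, rfl⟩, hr⟩ := BlockBasic.exists_mul_of_vanish (p := p)
    (fun ψ : Cfsg.IrrCharacter G => if ψ ∈ B then (ψ : G → ℂ) 1 else 0)
    (Set.range (Nat.cast : ℕ → ℂ)) ⟨0, Nat.cast_zero⟩
    (fun _ ⟨a, ha⟩ _ ⟨b, hb⟩ => ⟨a + b, by simp [← ha, ← hb]⟩)
    (fun n _ ⟨a, ha⟩ => ⟨a * n, by simp [← ha]⟩)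
    (fun ψ => by
      split_ifs
      · exact ⟨_, (hdeg ψ).symm⟩
      · exact ⟨0, Nat.cast_zero⟩)
    (fun y hy ⟨k, hk⟩ => by
      have hsing : p ∣ orderOf y := by
        rcases k with _ | k
        · exact absurd (orderOf_eq_one_iff.1 (by rw [hk, pow_zero])) hy
        · exact hk ▸ dvd_pow_self p k.succ_ne_zero
      have h0 := BlockBasic.blockKernel_eq_zero_of_regular_of_singular hM hB (g := (1 : G))
        (h := y⁻¹) (by rw [orderOf_one]; exact hp.out.not_dvd_one) (by rwa [orderOf_inv])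
      rw [BlockBasic.blockKernel, BlockBasic.finsum_mem_eq_sum_ite] at h0
      refine Eq.trans (Finset.sum_congr rfl fun ψ _ => ?_) h0
      rw [ite_mul, zero_mul, IsChar.inv_apply (IsIrr.isCharacter ψ.2), Complex.conj_conj])
  have hsum : (s : ℂ) = (p ^ (Nat.card G).factorization p * m : ℕ) := by
    rw [hsdef, finsum_mem_def, finsum_eq_sum_of_fintype, Nat.cast_sum]
    push_cast at hr ⊢
    refine Eq.trans (Finset.sum_congr rfl fun ψ _ => ?_) hr
    rw [Set.indicator_apply]
    split_ifs <;> simp [hdeg, sq]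
  have h2 : s = p ^ (Nat.card G).factorization p * m := by exact_mod_cast hsum
  have hpos : 0 < s := by
    rw [hsdef, finsum_mem_def, finsum_eq_sum_of_fintype]
    refine Finset.sum_pos' (fun _ _ => Nat.zero_le _) ⟨BlockBasic.trivialIrr, Finset.mem_univ _, ?_⟩
    have h1 := hdeg BlockBasic.trivialIrr
    rw [show ((BlockBasic.trivialIrr : Cfsg.IrrCharacter G) : G → ℂ) 1 = 1 from rfl] at h1
    have h1' : (1 : ℕ) = Cfsg.charDegree ((BlockBasic.trivialIrr : Cfsg.IrrCharacter G) : G → ℂ) := by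
      exact_mod_cast h1
    rw [Set.indicator_of_mem (show (BlockBasic.trivialIrr : Cfsg.IrrCharacter G) ∈ B from BlockBasic.self_mem_blockOf hM BlockBasic.trivialIrr),
      ← h1']
    norm_num
  rw [h2] at hpos ⊢
  generalize p ^ (Nat.card G).factorization p = a at hpos ⊢
  rcases Nat.eq_zero_or_pos m with rfl | hm0
  · simp at hpos
  · exact Nat.le_mul_of_pos_right a hm0

end Cfsg.Agent.H61.ExtClosed
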