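import Cfsg.Agent.H61.ExtClosedParseval
import Cfsg.Agent.BlockBasic.Orth
import Cfsg.Agent.CharBasic.Kernel
import Cfsg.Agent.CharBasic.Integral

/-!
An abelian extremely closed `p`-subgroup `H`, `p` odd, acts without fixed points on the commutator
`[W, H]` for every invariant subgroup `W` of order prime to `p`.
-/

open scoped ComplexConjugate

namespace Cfsg.Agent.H61.ExtClosed

open Subgroup CharBasic

universe u

variable {G : Type u} [Group G] [Finite G] {p : ℕ} [hp : Fact p.Prime]

/-- An element whose order is prime to the index of a normal subgroup lies in it. -/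
theorem mem_of_coprime_index {W : Subgroup G} [W.Normal] {r : G}
    (h : Nat.Coprime (orderOf r) W.index) : r ∈ W := by
  obtain ⟨m, hm⟩ := exists_pow_eq_self_of_coprime h.symm
  rw [← hm]
  exact W.pow_mem (W.pow_index_mem r) m

variable {H W : Subgroup G}

/-- The index of `W` in `W H`. -/
theorem index_eq_card (h : IsPGroup p H) [W.Normal] (hW : ¬ p ∣ Nat.card W) (hsup : H ⊔ W = ⊤) :
    W.index = Nat.card H := by
  have hd : W ⊓ H = ⊥ := by
    rw [eq_bot_iff]
    exact fun z hz => mem_bot.2 (eq_one_of_mem_of_mem h hW hz.2 hz.1)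
  have h1 := Coprime.card_sup (H := H) (N := W) (by rw [normalizer_eq_top]; exact le_top) hd
  rw [sup_comm, hsup, Subgroup.card_top, ← W.card_mul_index] at h1
  exact Nat.eq_of_mul_eq_mul_left Nat.card_pos h1

/-- An invariant irreducible character of `W = [W, H]` is trivial on `[W, x]` for `x` of order
`p` in `H`, provided `H` acts without fixed points on `[C_W(x), H]`. -/
theorem trivial_on_commutator (hp2 : p ≠ 2) (h : Hyp p H) [W.Normal] (hW : ¬ p ∣ Nat.card W)
    (hsup : H ⊔ W = ⊤) (hWeq : ⁅W, H⁆ = W) {x : G} (hxH : x ∈ H) (hx : orderOf x = p)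
    (hfix : ∀ m ∈ ⁅W ⊓ centralizer ({x} : Set G), H⁆, (∀ a ∈ H, a * m = m * a) → m = 1)
    {θ : W → ℂ} (hθ : Cfsg.IsIrrCharacter W θ)
    (hinv : ∀ a ∈ H, ∀ n : W,
      θ ⟨a * n * a⁻¹, (inferInstance : W.Normal).conj_mem _ n.2 a⟩ = θ n)
    {n : W} (hn : (n : G) ∈ ⁅W, zpowers x⁆) : θ n = θ 1 := by
  classical
  cases nonempty_fintype G
  have hWn : W.Normal := inferInstance
  have hidx := index_eq_card h.pg hW hsup
  -- invariance under the whole group
  have hinvG : ∀ (g : G) (m : W), θ ⟨g * m * g⁻¹, hWn.conj_mem _ m.2 g⟩ = θ m := by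
    intro g m
    obtain ⟨a, ha, w, hw, rfl⟩ := Subgroup.mem_sup_of_normal_right.1
      (hsup ▸ mem_top g : g ∈ H ⊔ W)
    have h1 := hinv a ha ⟨w * m * w⁻¹, hWn.conj_mem _ m.2 w⟩
    have h2 := IsIrr.isClassFunction hθ m ⟨w, hw⟩
    refine Eq.trans (congrArg θ (Subtype.ext ?_)) (h1.trans (Eq.trans (congrArg θ (Subtype.ext ?_)) h2))
    · show a * w * (m : G) * (a * w)⁻¹ = a * (w * m * w⁻¹) * a⁻¹
      group
    · rfl
  obtain ⟨d, hd0, hd⟩ := IsIrr.exists_degree hθ
  have hdW : ¬ p ∣ d := by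
    obtain ⟨d', -, hd', hdvd, -⟩ := IsIrr.degree_dvd hθ
    have : d = d' := by exact_mod_cast hd.symm.trans hd'
    exact this ▸ fun hh => hW (hh.trans hdvd)
  -- the determinant is trivial
  have hdet : ∀ m : W, CharInduce.detHom (Classical.choose_spec (id hθ)).choose m = 1 := by
    set ρ := (Classical.choose_spec (id hθ)).choose with hρdef
    have hρ : ρ.character = θ := (Classical.choose_spec (id hθ)).choose_spec.2
    set D := CharInduce.detHom ρ with hD
    have hDinv : ∀ (a : G) (m : W), D ⟨a * m * a⁻¹, hWn.conj_mem _ m.2 a⟩ = D m := by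
      intro a m
      let ρ' : Representation ℂ W _ := ρ.comp (MulAut.conjNormal a).toMonoidHom
      have hρ' : ρ'.character = θ := by
        funext y
        show ρ.character (MulAut.conjNormal a y) = θ y
        rw [hρ, show MulAut.conjNormal a y = (⟨a * y * a⁻¹, hWn.conj_mem _ y.2 a⟩ : W) from
          Subtype.ext (by simp)]
        exact hinvG a y
      have e := congrFun ((CharInduce.detChar_eq ρ' hρ').symm.trans (CharInduce.detChar_eq ρ hρ)) m
      refine Units.ext (Eq.trans ?_ e)
      show (D _ : ℂ) = LinearMap.det (ρ (MulAut.conjNormal a m))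
      rw [show MulAut.conjNormal a m = (⟨a * m * a⁻¹, hWn.conj_mem _ m.2 a⟩ : W) from
        Subtype.ext (by simp)]
      rfl
    intro m
    have hle : W ≤ D.ker.map W.subtype := by
      refine le_of_eq_of_le hWeq.symm (commutator_le.2 fun w hw a _ => ?_)
      refine ⟨(⟨w, hw⟩ : W) * ⟨a * w⁻¹ * a⁻¹, hWn.conj_mem _ (W.inv_mem hw) a⟩, ?_, ?_⟩
      · show D _ = 1
        rw [map_mul, hDinv a ⟨w⁻¹, W.inv_mem hw⟩, ← map_mul]
        exact (congrArg D (Subtype.ext (mul_inv_cancel w))).trans (map_one D)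
      · simp [commutatorElement_def, mul_assoc]
    obtain ⟨m', hm', he⟩ := hle m.2
    rw [← Subtype.ext he]
    exact hm'
  -- the extension
  obtain ⟨χ, hχ, hres⟩ := CharInduce.exists_extension_of_det (N := W) hθ hinvG hd
    (by
      rw [hidx]
      obtain ⟨k, hk⟩ := h.pg.exists_card_eq
      rw [hk]
      exact (hp.out.coprime_iff_not_dvd.2 hdW).pow_left k) 1
    (fun m => by
      rw [CharInduce.detChar_eq _ (Classical.choose_spec (id hθ)).choose_spec.2]
      simp only [hdet m, MonoidHom.one_apply])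
  have hχ1 : χ 1 = d := by rw [← hd, ← hres 1]; rfl
  set L := W ⊓ centralizer ({x} : Set G) with hL
  have hHL : H ≤ normalizer (L : Set G) := fun a ha => by
    refine mem_normalizer_fintype fun y hy => ?_
    refine ⟨hWn.conj_mem _ hy.1 a, mem_centralizer_singleton_iff.2 ?_⟩
    have h1 : Commute a x := h.comm _ ha _ hxH
    have h2 : Commute y x := mem_centralizer_singleton_iff.1 hy.2
    exact ((h1.mul_left h2).mul_left h1.inv_left).eq
  have hML : ⁅L, H⁆ ≤ L := Coprime.commutator_le_left_of_normalizer hHL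
  have D : Coset p H W x χ :=
    ⟨h.comm, h.pg, by rw [normalizer_eq_top]; exact le_top, hWn, hW, hxH, hx, hχ, by
      rwa [show (fun w : W => χ w) = θ from funext hres]⟩
  have hne : ∀ k : ℕ, x ^ k ≠ 1 ↔ ¬ p ∣ k := fun k => by
    rw [Ne, ← orderOf_dvd_iff_pow_eq_one, hx]
  -- the functional equation
  have hfun : ∀ i j : ℕ, ¬ p ∣ i → ¬ p ∣ j → ¬ p ∣ i + j →
      χ (x ^ i) * χ (x ^ j) = d * χ (x ^ (i + j)) := by
    intro i j hi hj hij
    have hterm : ∀ g : G, χ (x ^ i * (g * x ^ j * g⁻¹)) = χ (x ^ (i + j)) := by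
      intro g
      obtain ⟨R, hR⟩ := h.exists_pair g
      obtain ⟨k, hk, hkn⟩ := hR.conj
      have hxj : x ^ j ∈ H := H.pow_mem hxH j
      -- commutators with `H` lie in `W`
      have hcomW : ∀ y : G, ∀ b ∈ H, y * b * y⁻¹ * b⁻¹ ∈ W := by
        intro y b hb
        obtain ⟨a, ha, w, hw, rfl⟩ := Subgroup.mem_sup_of_normal_right.1
          (hsup ▸ mem_top y : y ∈ H ⊔ W)
        have hab := h.comm a ha b hb
        have e : a * w * b * (a * w)⁻¹ * b⁻¹ = a * (w * (b * w⁻¹ * b⁻¹)) * a⁻¹ := by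
          have hab' : a⁻¹ * b⁻¹ = b⁻¹ * a⁻¹ := h.comm _ (H.inv_mem ha) _ (H.inv_mem hb)
          calc a * w * b * (a * w)⁻¹ * b⁻¹ = a * w * b * w⁻¹ * (a⁻¹ * b⁻¹) := by group
            _ = _ := by rw [hab']; group
        rw [e]
        exact hWn.conj_mem _ (W.mul_mem hw (hWn.conj_mem _ (W.inv_mem hw) b)) a
      set n := k⁻¹ * g with hndef
      have hb : n * x ^ j * n⁻¹ = x ^ j := by
        refine mul_inv_eq_one.1 (eq_one_of_mem_of_mem h.pg hW
          (H.mul_mem ((mem_normalizer_iff.1 hkn _).1 hxj) (H.inv_mem hxj)) (hcomW n _ hxj))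
      set r := (x ^ j)⁻¹ * (k * x ^ j * k⁻¹) with hrdef
      have hrR : r ∈ R := by
        have : r = ((x ^ j)⁻¹ * k * (x ^ j)⁻¹⁻¹) * k⁻¹ := by rw [hrdef]; group
        rw [this]
        exact R.mul_mem (hR.norm_H (H.inv_mem hxj) hk) (R.inv_mem hk)
      have e : x ^ i * (g * x ^ j * g⁻¹) = x ^ (i + j) * r := by
        rw [hrdef, show g * x ^ j * g⁻¹ = k * (n * x ^ j * n⁻¹) * k⁻¹ by rw [hndef]; group, hb,
          pow_add]
        group
      rw [e]
      have hz : x ^ (i + j) ∈ H := H.pow_mem hxH _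
      obtain ⟨o, ho, c, hc, hzc, he⟩ := exists_section hR.card (orderOf_pow_of_mem h.pg hz)
        (hR.le_normalizer hz) hrR
      rw [he, IsIrr.isClassFunction hχ (x ^ (i + j) * c) o]
      have hcW : c ∈ W := by
        refine mem_of_coprime_index ?_
        rw [hidx]
        exact ((coprime_card h.pg hR.card).symm.coprime_dvd_left (R.orderOf_dvd_natCard hc))
      have hcx : c ∈ centralizer ({x} : Set G) := by
        refine mem_centralizer_singleton_iff.2 ?_
        have hX : Nat.card (zpowers x) = p := by rw [Nat.card_zpowers, hx]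
        obtain ⟨m, hm⟩ := Submonoid.mem_powers_iff _ _ |>.1
          (mem_powers_of_prime_card hX (g := (⟨x ^ (i + j), (zpowers x).pow_mem (mem_zpowers x) _⟩ : zpowers x))
            (g' := ⟨x, mem_zpowers x⟩) fun hh => (hne _).2 hij (congrArg Subtype.val hh))
        have hm' : (x ^ (i + j)) ^ m = x := congrArg Subtype.val hm
        rw [← hm']
        exact ((Commute.pow_left (show Commute (x ^ (i + j)) c from hzc) m).symm).eq
      -- `R ∩ C_W(x)` is a commutator with `H`
      have hn2 : H ≤ normalizer ((R ⊓ L : Subgroup G) : Set G) := fun a ha => by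
        refine mem_normalizer_fintype fun y hy => ?_
        exact ⟨hR.norm_H ha hy.1, (mem_normalizer_iff.1 (hHL ha) y).1 hy.2⟩
      have hcop : ¬ p ∣ Nat.card (R ⊓ L : Subgroup G) := fun hh =>
        hR.card (hh.trans (Subgroup.card_dvd_of_le inf_le_left))
      have hcM : c ∈ ⁅L, H⁆ := by
        have hmem : c ∈ ⁅(R ⊓ L : Subgroup G), H⁆ ⊔
            ((R ⊓ L : Subgroup G) ⊓ centralizer (H : Set G)) := by
          rw [Coprime.commutator_sup_centralizer hn2 (coprime_card h.pg hcop) (Or.inl h.solvable)]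
          exact ⟨hc, hcW, hcx⟩
        have hbot : (R ⊓ L : Subgroup G) ⊓ centralizer (H : Set G) = ⊥ := by
          rw [eq_bot_iff]
          exact fun y hy => mem_bot.2
            (hR.eq_one_of_fixed h hy.1.1 fun a ha => mem_centralizer_iff.1 hy.2 a ha)
        rw [hbot, sup_bot_eq] at hmem
        exact commutator_mono inf_le_right le_rfl hmem
      exact D.const_on ⁅L, H⁆ hML (normalizer_commutator_ge_left L H)
        (normalizer_commutator_ge_right L H) hfix ((zpowers x).pow_mem (mem_zpowers x) _)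
        ((hne _).2 hij) hcM
    have hsum := H80.sum_conj_mul (⟨χ, hχ⟩ : Cfsg.IrrCharacter G) (x ^ i) (x ^ j)
    simp only [hterm, Finset.sum_const, Finset.card_univ, nsmul_eq_mul, hχ1,
      ← Nat.card_eq_fintype_card] at hsum
    refine mul_left_cancel₀ (Nat.cast_ne_zero.2 (Nat.card_pos (α := G)).ne' : (Nat.card G : ℂ) ≠ 0) ?_
    linear_combination -hsum
  have hp3 : 3 ≤ p := by
    have := hp.out.two_le; omega
  have hpow : ∀ k : ℕ, 1 ≤ k → k < p → χ (x ^ k) * (d : ℂ) ^ (k - 1) = χ x ^ k := by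
    intro k hk
    induction k, hk using Nat.le_induction with
    | base => intro _; simp
    | succ k hk ih =>
      intro hk'
      have e := hfun k 1 (Nat.not_dvd_of_pos_of_lt (by omega) (by omega))
        (Nat.not_dvd_of_pos_of_lt one_pos (by omega)) (Nat.not_dvd_of_pos_of_lt (by omega) hk')
      rw [pow_one] at e
      obtain ⟨k', rfl⟩ : ∃ k', k = k' + 1 := ⟨k - 1, by omega⟩
      rw [pow_succ (χ x) (k' + 1), ← ih (by omega), Nat.add_sub_cancel, Nat.add_sub_cancel,
        pow_succ (d : ℂ) k']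
      linear_combination (-(d : ℂ) ^ k') * e
  have hdC : (d : ℂ) ≠ 0 := Nat.cast_ne_zero.2 (by omega)
  have hx0 : χ x ≠ 0 := by
    intro h0
    have hz : ∀ u : zpowers x, u ≠ 1 → χ (u : G) = 0 := by
      intro u hu
      obtain ⟨m, hm⟩ := (mem_zpowers_iff_mem_range_orderOf).1 u.2 |> Finset.mem_image.1
      rw [← hm.2]
      have hm0 : 1 ≤ m := by
        rcases Nat.eq_zero_or_pos m with h' | h'
        · exact absurd (Subtype.ext (by rw [← hm.2, h', pow_zero]; rfl)) hu
        · exact h'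
      have := hpow m hm0 (hx ▸ Finset.mem_range.1 hm.1)
      rw [h0, zero_pow (by omega)] at this
      exact (mul_eq_zero.1 this).resolve_right (pow_ne_zero _ hdC)
    let _ : Fintype (zpowers x) := Fintype.ofFinite _
    obtain ⟨q, hq⟩ := BlockBasic.isIrr_sum_sylow (⟨χ, hχ⟩ : Cfsg.IrrCharacter G) (zpowers x)
    rw [Finset.sum_eq_single (1 : zpowers x) (fun u _ hu => hz u hu) (by simp),
      Nat.card_zpowers, hx] at hq
    rw [OneMemClass.coe_one, hχ1] at hq
    exact hdW ⟨q, by exact_mod_cast hq⟩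
  have hnorm : ‖χ x‖ = (d : ℝ) := by
    have h1 : ¬ p ∣ 2 := Nat.not_dvd_of_pos_of_lt two_pos (by omega)
    have h2 : ¬ p ∣ p - 1 := Nat.not_dvd_of_pos_of_lt (by omega) (by omega)
    have h3 : ¬ p ∣ p - 1 + 2 := by
      rw [show p - 1 + 2 = p + 1 by omega, ← Nat.dvd_add_iff_right (dvd_refl p)]
      exact hp.out.not_dvd_one
    have e := hfun (p - 1) 2 h2 h1 h3
    have e1 := hpow (p - 1) (by omega) (by omega)
    have e2 := hpow 2 (by norm_num) (by omega)
    rw [show p - 1 + 2 = p + 1 by omega, pow_succ' x p, show x ^ p = 1 from hx ▸ pow_orderOf_eq_one x,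
      mul_one] at e
    rw [show p - 1 - 1 = p - 2 by omega] at e1
    rw [show 2 - 1 = 1 from rfl, pow_one] at e2
    have e3 : χ x ^ p * χ x = (d : ℂ) ^ p * χ x := by
      rw [← pow_succ, show p + 1 = (p - 1) + 2 by omega, pow_add, ← e1, ← e2]
      conv_rhs => rw [show p = (p - 2) + 1 + 1 by omega, pow_succ, pow_succ]
      linear_combination ((d : ℂ) ^ (p - 2) * d) * e
    have e4 := congrArg norm (mul_right_cancel₀ hx0 e3)
    rw [norm_pow, norm_pow, Complex.norm_natCast] at e4
    exact (pow_left_inj₀ (norm_nonneg _) (Nat.cast_nonneg d) hp.out.ne_zero).1 e4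
  -- the centre of the character
  obtain ⟨Z, hZn, hZ⟩ := IsChar.exists_center (IsIrr.isCharacter hχ)
  have hxZ : zpowers x ≤ Z := zpowers_le.2 ((hZ x).2 (by rw [hnorm, hχ1, Complex.norm_natCast]))
  obtain ⟨m, ρ, hρi, hρ⟩ := id hχ
  obtain ⟨K, hKn, hK, -⟩ := IsChar.exists_kernel (IsIrr.isCharacter hχ)
  have hle : ⁅W, zpowers x⁆ ≤ K := by
    refine commutator_le.2 fun w _ y hy => (hK _).2 ?_
    obtain ⟨ω, hω⟩ := (IsChar.norm_eq_iff_scalar ρ y).1 (by rw [hρ]; exact (hZ y).1 (hxZ hy))
    have h1 : ρ (w * y * w⁻¹ * y⁻¹) = ρ 1 := by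
      have h2 : ρ w * ρ y * ρ w⁻¹ = ρ y := by
        rw [hω]
        refine LinearMap.ext fun v => ?_
        simp only [Module.End.mul_apply, LinearMap.smul_apply, LinearMap.id_coe, id_eq, map_smul]
        rw [← Module.End.mul_apply, ← map_mul, mul_inv_cancel, map_one, Module.End.one_apply]
      rw [map_mul, map_mul, map_mul, h2, ← map_mul, mul_inv_cancel]
    rw [← hρ, commutatorElement_def]
    simp only [Representation.character, h1]
  rw [← hres, ← hres 1]
  exact (hK _).1 (hle hn)

/-- The fixed points of `H` on `[W, H]` for `W` normal with `H W = G` and `[W, H] = W`, by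
induction. -/
theorem fixFree_core (hp2 : p ≠ 2) (h : Hyp p H) [W.Normal] (hW : ¬ p ∣ Nat.card W)
    (hsup : H ⊔ W = ⊤) (hWeq : ⁅W, H⁆ = W)
    (ih : ∀ {G' : Type u} [Group G'] [Finite G'] {H' W' : Subgroup G'},
      Nat.card H' * Nat.card W' < Nat.card H * Nat.card W → Hyp p H' → ¬ p ∣ Nat.card W' →
      H' ≤ normalizer (W' : Set G') → ∀ c ∈ ⁅W', H'⁆, (∀ a ∈ H', a * c = c * a) → c = 1)
    {c : G} (hc : c ∈ W) (hcH : ∀ a ∈ H, a * c = c * a) : c = 1 := by
  classical
  have hWn : W.Normal := inferInstance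
  by_cases hH : H = ⊥
  · rw [hH, commutator_bot_right] at hWeq
    exact mem_bot.1 (hWeq ▸ hc)
  obtain ⟨⟨x, hxH⟩, hxo⟩ := exists_prime_orderOf_dvd_card' p (by
    obtain ⟨k, hk⟩ := h.pg.exists_card_eq
    rcases k with _ | k
    · exact absurd (Subgroup.eq_bot_of_card_eq H (by rw [hk, pow_zero])) hH
    · rw [hk]; exact dvd_pow_self p k.succ_ne_zero)
  have hx : orderOf x = p := by rwa [Subgroup.orderOf_mk] at hxo
  have hx1 : x ≠ 1 := fun hh => hp.out.ne_one (by rw [← hx, hh, orderOf_one])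
  by_cases hcen : x ∈ Subgroup.center G
  · -- pass to the quotient by a central subgroup of `H`
    have hZn : (zpowers x).Normal := ⟨fun y hy g => by
      have : y ∈ Subgroup.center G := zpowers_le.2 hcen hy
      rwa [Subgroup.mem_center_iff.1 this g, mul_inv_cancel_right]⟩
    set π := QuotientGroup.mk' (zpowers x)
    have hlt : Nat.card (H.map π) < Nat.card H := by
      refine lt_of_le_of_ne (Nat.card_le_card_of_surjective _ (π.subgroupMap_surjective H))
        fun heq => hx1 ?_
      have hb := ((Nat.bijective_iff_surjective_and_card (π.subgroupMap H)).2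
        ⟨π.subgroupMap_surjective H, heq.symm⟩).1
      have : (⟨x, hxH⟩ : H) = 1 := hb (Subtype.ext (by
        show π x = π 1
        rw [map_one]
        exact (QuotientGroup.eq_one_iff x).2 (mem_zpowers x)))
      exact congrArg Subtype.val this
    have hle : Nat.card (W.map π) ∣ Nat.card W := W.card_map_dvd π
    have h1 : π c = 1 := by
      refine ih (Nat.mul_lt_mul_of_lt_of_le hlt (Nat.le_of_dvd Nat.card_pos hle) Nat.card_pos)
        (h.quotient_le (zpowers x) (zpowers_le.2 hxH)) (fun hd => hW (hd.trans hle))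
        (by
          have : (W.map π).Normal := hWn.map π (QuotientGroup.mk'_surjective _)
          rw [normalizer_eq_top]
          exact le_top) (π c) ?_ ?_
      · rw [← map_commutator, hWeq]
        exact mem_map_of_mem π hc
      · rintro _ ⟨a, ha, rfl⟩
        rw [← map_mul, ← map_mul, hcH a ha]
    exact eq_one_of_mem_of_mem (H := zpowers x)
      (h.pg.to_le (zpowers_le.2 hxH)) hW ((QuotientGroup.eq_one_iff c).1 h1) hc
  -- `x` is not central
  set L := W ⊓ centralizer ({x} : Set G) with hL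
  have hHL : H ≤ normalizer (L : Set G) := fun a ha => by
    refine mem_normalizer_fintype fun y hy => ?_
    refine ⟨hWn.conj_mem _ hy.1 a, mem_centralizer_singleton_iff.2 ?_⟩
    have h1 : Commute a x := h.comm _ ha _ hxH
    have h2 : Commute y x := mem_centralizer_singleton_iff.1 hy.2
    exact ((h1.mul_left h2).mul_left h1.inv_left).eq
  have hLW : L < W := by
    refine lt_of_le_of_ne inf_le_left fun he => hcen ?_
    rw [Subgroup.mem_center_iff]
    intro g
    obtain ⟨a, ha, w, hw, rfl⟩ := Subgroup.mem_sup_of_normal_right.1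
      (hsup ▸ mem_top g : g ∈ H ⊔ W)
    have h1 : Commute a x := h.comm _ ha _ hxH
    have h2 : Commute w x :=
      mem_centralizer_singleton_iff.1 (show w ∈ L from he.symm ▸ hw).2
    exact (h1.mul_left h2).eq
  have hfix : ∀ m ∈ ⁅L, H⁆, (∀ a ∈ H, a * m = m * a) → m = 1 :=
    ih (Nat.mul_lt_mul_of_pos_left (Nat.lt_of_le_of_ne (Subgroup.card_le_of_le hLW.le) fun he =>
      hLW.ne (Subgroup.eq_of_le_of_card_ge hLW.le he.ge)) Nat.card_pos)
      h (fun hd => hW (hd.trans (Subgroup.card_dvd_of_le hLW.le))) hHL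
  set W₀ := ⁅W, zpowers x⁆ with hW₀
  have hxn : zpowers x ≤ normalizer (W : Set G) := by rw [normalizer_eq_top]; exact le_top
  have hW₀W : W₀ ≤ W := Coprime.commutator_le_left_of_normalizer hxn
  have hW₀H : H ≤ normalizer (W₀ : Set G) := fun a ha => by
    have hle : W₀.map (MulAut.conj a).toMonoidHom ≤ W₀ := by
      rw [hW₀, map_commutator]
      refine commutator_mono ?_ ?_
      · rintro _ ⟨w, hw, rfl⟩
        exact hWn.conj_mem w hw a
      · rintro _ ⟨y, hy, rfl⟩
        show a * y * a⁻¹ ∈ zpowers x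
        rwa [h.comm a ha y (zpowers_le.2 hxH hy), mul_inv_cancel_right]
    exact mem_normalizer_fintype fun y hy => hle ⟨y, hy, rfl⟩
  -- no fixed points in `W₀`
  have hfix₀ : ∀ y ∈ W₀, (∀ a ∈ H, a * y = y * a) → y = 1 := by
    intro y hy hyH
    by_contra hy1
    let _ : Fintype W := Fintype.ofFinite W
    letI : MulAction H (Cfsg.IrrCharacter W) :=
      { smul := fun a φ => H80.twist φ (MulAut.conjNormal ((a : G)⁻¹))
        one_smul := fun φ => Subtype.ext (funext fun w => by
          show (φ : W → ℂ) (MulAut.conjNormal (((1 : H) : G)⁻¹) w) = _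
          simp)
        mul_smul := fun a b φ => Subtype.ext (funext fun w => by
          show (φ : W → ℂ) (MulAut.conjNormal (((a * b : H) : G)⁻¹) w) = (φ : W → ℂ)
            (MulAut.conjNormal ((b : G)⁻¹) (MulAut.conjNormal ((a : G)⁻¹) w))
          simp) }
    obtain ⟨Mo, hMo⟩ := BlockBasic.exists_isPModular hp.out
    haveI := H80.charP_quot Mo hMo
    set q := Ideal.Quotient.mk Mo
    set y' : W := ⟨y, hW₀W hy⟩
    have hsmul : ∀ (a : H) (φ : Cfsg.IrrCharacter W) (w : W), (a : G) * w = w * a →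
        H80.valInt (a • φ) w = H80.valInt φ w := by
      intro a φ w hw
      refine Subtype.ext ?_
      show (φ : W → ℂ) (MulAut.conjNormal ((a : G)⁻¹) w) = (φ : W → ℂ) w
      refine congrArg (φ : W → ℂ) (Subtype.ext ?_)
      rw [MulAut.conjNormal_apply, inv_inv, mul_assoc, ← hw, inv_mul_cancel_left]
    have hs1 := H80.sum_eq_sum_fixed h.pg
      (fun φ : Cfsg.IrrCharacter W => q (H80.valInt φ 1 * H80.valInt φ y'))
      (fun a φ => by rw [hsmul a φ 1 (by simp), hsmul a φ y' (hyH a a.2)])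
    have hs2 := H80.sum_eq_sum_fixed h.pg
      (fun φ : Cfsg.IrrCharacter W => q (H80.valInt φ 1 * H80.valInt φ 1))
      (fun a φ => by rw [hsmul a φ 1 (by simp)])
    have heq : ∀ φ : Cfsg.IrrCharacter W, (∀ a : H, a • φ = φ) →
        H80.valInt φ y' = H80.valInt φ 1 := by
      intro φ hφ
      refine Subtype.ext ?_
      refine trivial_on_commutator hp2 h hW hsup hWeq hxH hx hfix φ.2 (fun a ha n => ?_)
        (show (y' : G) ∈ ⁅W, zpowers x⁆ from hy)
      have e := congrFun (congrArg Subtype.val (hφ ⟨a⁻¹, H.inv_mem ha⟩)) n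
      refine Eq.trans (congrArg (φ : W → ℂ) (Subtype.ext ?_)) e
      simp
    have h0 : (∑ φ : Cfsg.IrrCharacter W, H80.valInt φ 1 * H80.valInt φ y') = 0 := by
      apply Subtype.ext
      push_cast
      simp only [H80.valInt_coe]
      rw [sum_degree_mul_apply, if_neg fun hh => hy1 (congrArg Subtype.val hh)]
    have h2 : (∑ φ : Cfsg.IrrCharacter W, H80.valInt φ 1 * H80.valInt φ 1) =
        (Nat.card W : Cfsg.AlgInt) := by
      apply Subtype.ext
      push_cast
      simp only [H80.valInt_coe]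
      rw [← sum_sq_degree (G := W)]
      simp [sq]
    rw [← map_sum, h2] at hs2
    rw [← map_sum, h0, map_zero] at hs1
    have : q (Nat.card W : Cfsg.AlgInt) = 0 := by
      rw [hs2]
      refine Eq.trans (Finset.sum_congr rfl fun φ hφ => ?_) hs1.symm
      rw [heq φ (Finset.mem_filter.1 hφ).2]
    rw [Ideal.Quotient.eq_zero_iff_mem, BlockBasic.natCast_mem_iff hMo] at this
    exact hW this
  -- `W` is the product of `W₀` and `[C_W(x), H]`
  set Wx := ⁅L, H⁆ with hWx
  have hWxW : Wx ≤ W := (Coprime.commutator_le_left_of_normalizer hHL).trans hLW.le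
  have hn₀ : W ≤ normalizer (W₀ : Set G) := normalizer_commutator_ge_left W (zpowers x)
  have hcopx := coprime_card (h.pg.to_le (zpowers_le.2 hxH)) hW
  have hsolvx : Group.IsSolvable (zpowers x) :=
    Coprime.isSolvable_of_le (zpowers_le.2 hxH) h.solvable
  have hdec : W₀ ⊔ L = W := by
    have e := Coprime.commutator_sup_centralizer hxn hcopx (Or.inl hsolvx)
    rwa [show W ⊓ centralizer (zpowers x : Set G) = L by
      rw [hL, zpowers_eq_closure, centralizer_closure]] at e
  have hW' : W ≤ W₀ ⊔ Wx := by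
    refine le_of_eq_of_le hWeq.symm (commutator_le.2 fun w hw a ha => ?_)
    rw [← hdec] at hw
    obtain ⟨y, hy, l, hl, rfl⟩ := (Coprime.mem_sup_iff (hLW.le.trans hn₀)).1 hw
    rw [commutatorElement_mul_left_eq_conj_mul]
    refine mul_mem (mul_mem (mul_mem (mem_sup_left hy)
      (mem_sup_right (commutator_mem_commutator hl ha))) (inv_mem (mem_sup_left hy))) (mem_sup_left ?_)
    rw [commutatorElement_def, mul_assoc, mul_assoc]
    refine W₀.mul_mem hy ?_
    rw [← mul_assoc]
    exact Coprime.conj_mem (hW₀H ha) (W₀.inv_mem hy)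
  obtain ⟨y, hy, v, hv, rfl⟩ := (Coprime.mem_sup_iff (hWxW.trans hn₀)).1 (hW' hc)
  obtain ⟨y', hy', v', hv', he⟩ := Coprime.centralizer_mul (A := H) (K := W)
    (by rw [normalizer_eq_top]; exact le_top) (coprime_card h.pg hW) (Or.inl h.solvable)
    hW₀W hWxW hW₀H (normalizer_commutator_ge_right L H) hy hv (mem_centralizer_iff.2 hcH)
  rw [he, hfix₀ y' hy'.1 fun a ha => mem_centralizer_iff.1 hy'.2 a ha,
    hfix v' hv'.1 fun a ha => mem_centralizer_iff.1 hv'.2 a ha, mul_one]

theorem fixFree_aux (hp2 : p ≠ 2) (n : ℕ) : ∀ {G : Type u} [Group G] [Finite G]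
    {H W : Subgroup G}, Nat.card H * Nat.card W = n → Hyp p H → ¬ p ∣ Nat.card W →
    H ≤ normalizer (W : Set G) → ∀ c ∈ ⁅W, H⁆, (∀ a ∈ H, a * c = c * a) → c = 1 := by
  induction n using Nat.strong_induction_on with
  | _ n ih =>
    intro G _ _ H W hn h hW hnorm c hc hcH
    have hle := Coprime.commutator_le_left_of_normalizer hnorm
    by_cases hWeq : ⁅W, H⁆ = W
    swap
    · have hlt : Nat.card (⁅W, H⁆ : Subgroup G) < Nat.card W :=
        Nat.lt_of_le_of_ne (Subgroup.card_le_of_le hle) fun he =>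
          hWeq (Subgroup.eq_of_le_of_card_ge hle he.ge)
      refine ih _ (hn ▸ Nat.mul_lt_mul_of_pos_left hlt Nat.card_pos) rfl h
        (fun hd => hW (hd.trans (Subgroup.card_dvd_of_le hle)))
        (normalizer_commutator_ge_right W H) c ?_ hcH
      rwa [Coprime.commutator_commutator_eq hnorm (coprime_card h.pg hW) (Or.inl h.solvable)]
    -- move to `W H`
    set T := W ⊔ H with hT
    have hWT : W ≤ T := le_sup_left
    have hHT : H ≤ T := le_sup_right
    have hcW : c ∈ W := hle hc
    have hN : (W.subgroupOf T).Normal := (Subgroup.normal_subgroupOf_iff_le_normalizer hWT).2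
      (sup_le Subgroup.le_normalizer hnorm)
    have hH' : Nat.card (H.subgroupOf T) = Nat.card H :=
      Nat.card_congr (Subgroup.subgroupOfEquivOfLe hHT).toEquiv
    have hW' : Nat.card (W.subgroupOf T) = Nat.card W :=
      Nat.card_congr (Subgroup.subgroupOfEquivOfLe hWT).toEquiv
    have h1 : (⟨c, hWT hcW⟩ : T) = 1 := by
      refine fixFree_core hp2 (H := H.subgroupOf T) (W := W.subgroupOf T) (h.subgroupOf hHT)
        (by rwa [hW']) ?_ ?_ (fun {G'} _ _ {H'} {W'} hlt hh hw hn' => ?_) hcW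
        (fun a ha => Subtype.ext (hcH a ha))
      · rw [← Subgroup.subgroupOf_sup hHT hWT, sup_comm]
        exact Subgroup.subgroupOf_self T
      · apply Subgroup.map_injective T.subtype_injective
        rw [map_commutator, map_subgroupOf_eq_of_le hWT, map_subgroupOf_eq_of_le hHT, hWeq]
      · rw [hH', hW', hn] at hlt
        exact ih _ hlt rfl hh hw hn'
    exact congrArg Subtype.val h1

/-- `H` acts without fixed points on `[W, H]`. -/
theorem Hyp.fixFree (hp2 : p ≠ 2) (h : Hyp p H) (hW : ¬ p ∣ Nat.card W)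
    (hn : H ≤ normalizer (W : Set G)) {c : G} (hc : c ∈ ⁅W, H⁆)
    (hcH : ∀ a ∈ H, a * c = c * a) : c = 1 :=
  fixFree_aux hp2 _ rfl h hW hn c hc hcH

end Cfsg.Agent.H61.ExtClosed
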