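import Cfsg.Agent.H61.ExtClosedSection
import Cfsg.Agent.H61.ExtClosedBlock
import Cfsg.Agent.Cores.ThirdMain
import Cfsg.Agent.Cores.PrincipalSection
import Cfsg.Agent.Cores.PCore

/-!
The critical configuration for the factorization `G = N_G(H) O_{p'}(G)`: it does not exist, by
counting with the principal block.
-/

open scoped ComplexConjugate

namespace Cfsg.Agent.H61.ExtClosed

open Subgroup CharBasic

universe u

variable {G : Type u} [Group G] [Finite G] {p : ℕ} [hp : Fact p.Prime]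

/-- The critical configuration. -/
structure Crit (p : ℕ) (H : Subgroup G) : Prop where
  hyp : Hyp p H
  gen : Subgroup.normalClosure (H : Set G) = ⊤
  ne_bot : H ≠ ⊥
  noCentral : ∀ x ∈ H, x ≠ 1 → x ∉ Subgroup.center G
  core : Cfsg.pPrimeCore p G = ⊥
  loc : ∀ z ∈ H, z ≠ 1 → ∀ (g : G) (R : Subgroup G), IsPair p H g R → ∀ c ∈ R, z * c = c * z →
    c ∈ (Cfsg.pPrimeCore p (centralizer ({z} : Set G))).map (centralizer ({z} : Set G)).subtype

variable {H : Subgroup G} {M : Ideal Cfsg.AlgInt}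

/-- Principal block characters are constant on `z R`. -/
theorem Crit.key (hc : Crit p H) (hM : Cfsg.IsPModular p M) {χ : Cfsg.IrrCharacter G}
    (hχ : χ ∈ Cfsg.principalBlock M G) {z : G} (hz : z ∈ H) (hz1 : z ≠ 1) {g : G} {R : Subgroup G}
    (hR : IsPair p H g R) {r : G} (hr : r ∈ R) : (χ : G → ℂ) (z * r) = (χ : G → ℂ) z := by
  obtain ⟨k, hk⟩ := orderOf_pow_of_mem hc.hyp.pg hz
  obtain ⟨o, ho, c, hc', hzc, he⟩ := exists_section hR.card ⟨k, hk⟩ (hR.le_normalizer hz) hr
  rw [he, IsIrr.isClassFunction χ.2 (z * c) o]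
  obtain ⟨c', hc'', rfl⟩ := hc.loc z hz hz1 g R hR c hc' hzc
  exact Cores.principalBlock_apply_mul hM hk hχ _ Cores.not_dvd_card_pPrimeCore hc''

/-- The critical configuration does not occur. -/
theorem Crit.false (hp2 : p ≠ 2) (hc : Crit p H) : False := by
  classical
  cases nonempty_fintype G
  have h := hc.hyp
  obtain ⟨M, hM⟩ := BlockBasic.exists_isPModular hp.out
  set B := Cfsg.principalBlock M G with hBdef
  have hB : Cfsg.IsPBlock M B := BlockBasic.isPBlock_principalBlock M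
  set Bf := Finset.univ.filter fun χ : Cfsg.IrrCharacter G => χ ∈ B with hBf
  have hBmem : ∀ {χ : Cfsg.IrrCharacter G}, χ ∈ Bf ↔ χ ∈ B := fun {χ} => by simp [hBf]
  have hkernel : ∀ g t : G, BlockBasic.blockKernel B g t =
      ∑ χ ∈ Bf, (χ : G → ℂ) g * conj ((χ : G → ℂ) t) := fun g t => by
    rw [BlockBasic.blockKernel, BlockBasic.finsum_mem_eq_sum_ite, Finset.sum_filter]
  set one : Cfsg.IrrCharacter G := BlockBasic.trivialIrr with honedef
  have hone : one ∈ Bf := hBmem.2 (BlockBasic.self_mem_blockOf hM BlockBasic.trivialIrr)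
  have hone1 : ∀ g, (one : G → ℂ) g = 1 := fun _ => rfl
  -- the non-identity elements of `H`
  set S := (Finset.univ.filter (· ∈ H)).erase 1 with hS
  have hSmem : ∀ {x : G}, x ∈ S ↔ x ≠ 1 ∧ x ∈ H := fun {x} => by simp [hS]
  have hcardS : S.card + 1 = Nat.card H := by
    rw [hS, Finset.card_erase_add_one (by simp), Nat.card_eq_fintype_card, Fintype.card_subtype]
  obtain ⟨x₀, hx₀⟩ : ∃ x₀, x₀ ∈ S := by
    obtain ⟨x, hx, hx1⟩ := (Subgroup.bot_or_exists_ne_one H).resolve_left hc.ne_bot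
    exact ⟨x, hSmem.2 ⟨hx1, hx⟩⟩
  obtain ⟨e, he⟩ := h.pg.exists_card_eq
  have hq3 : 3 ≤ Nat.card H := by
    have hp3 : 3 ≤ p := by have := hp.out.two_le; omega
    rcases e with _ | e
    · exact absurd (Subgroup.eq_bot_of_card_eq H (by rw [he, pow_zero])) hc.ne_bot
    · rw [he, pow_succ]
      exact le_trans hp3 (Nat.le_mul_of_pos_left p (pow_pos hp.out.pos e))
  have hsing : ∀ x ∈ S, p ∣ orderOf x := fun x hx => by
    obtain ⟨k, hk⟩ := orderOf_pow_of_mem h.pg (hSmem.1 hx).2
    rcases k with _ | k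
    · exact absurd (orderOf_eq_one_iff.1 (by rw [hk, pow_zero])) (hSmem.1 hx).1
    · exact hk ▸ dvd_pow_self p k.succ_ne_zero
  have horth : ∀ {w x : G}, ¬ p ∣ orderOf w → x ∈ S →
      ∑ χ ∈ Bf, (χ : G → ℂ) w * conj ((χ : G → ℂ) x) = 0 := fun hw hx => by
    rw [← hkernel]
    exact BlockBasic.blockKernel_eq_zero_of_regular_of_singular hM hB hw (hsing _ hx)
  -- the pairs
  choose R hR using h.exists_pair
  choose k hk hkn using fun g => (hR g).conj
  set W : G → G → G := fun g x => x * (k g * x⁻¹ * (k g)⁻¹) with hWdef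
  have hWR : ∀ g, ∀ x ∈ H, W g x ∈ R g := fun g x hx => by
    have : W g x = x * k g * x⁻¹ * (k g)⁻¹ := by simp only [hWdef]; group
    rw [this]
    exact (R g).mul_mem ((hR g).norm_H hx (hk g)) ((R g).inv_mem (hk g))
  have hWreg : ∀ g, ∀ x ∈ H, ¬ p ∣ orderOf (W g x) := fun g x hx =>
    not_dvd_orderOf_of_mem (hR g).card (hWR g x hx)
  -- degrees and fixed point multiplicities
  choose d hd0 hd using fun χ : Cfsg.IrrCharacter G => IsIrr.exists_degree χ.2
  have hdC : ∀ χ, (d χ : ℂ) ≠ 0 := fun χ => Nat.cast_ne_zero.2 (by have := hd0 χ; omega)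
  set U : Cfsg.IrrCharacter G → ℂ := fun χ => ∑ x ∈ S, (χ : G → ℂ) x with hU
  have hUn : ∀ χ, ∃ n : ℕ, U χ + d χ = (Nat.card H : ℂ) * n := fun χ => by
    obtain ⟨n, hn⟩ := BlockBasic.isIrr_sum_sylow χ H
    refine ⟨n, ?_⟩
    rw [← hn, hU, ← hd χ, hS, Finset.sum_erase_add _ _ (by simp : (1 : G) ∈ _)]
    exact Finset.sum_subtype _ (fun g => by simp) _
  choose n hn using hUn
  set E : Cfsg.IrrCharacter G → G → ℂ := fun χ x => ∑ g : G, (χ : G → ℂ) (W g x) with hE
  -- the fundamental equation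
  have master : ∀ χ ∈ Bf, ∀ x ∈ S,
      (χ : G → ℂ) x * ((Nat.card H : ℂ) * n χ) * Nat.card G =
        d χ * ((Nat.card G : ℂ) * U χ + E χ x) := by
    intro χ hχ x hx
    obtain ⟨hx1, hxH⟩ := hSmem.1 hx
    have hper : ∀ g : G, ∑ y ∈ S, (χ : G → ℂ) (x * (g * y * g⁻¹)) =
        U χ - (χ : G → ℂ) x + (χ : G → ℂ) (W g x) := by
      intro g
      set m := (k g)⁻¹ * g with hm
      have h1 : ∑ y ∈ S, (χ : G → ℂ) (x * (g * y * g⁻¹)) =
          ∑ y ∈ S, (χ : G → ℂ) (x * (k g * y * (k g)⁻¹)) := by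
        refine Finset.sum_nbij' (fun y => m * y * m⁻¹) (fun y => m⁻¹ * y * m) ?_ ?_ ?_ ?_ ?_
        · intro y hy
          obtain ⟨hy1, hyH⟩ := hSmem.1 hy
          refine hSmem.2 ⟨fun hh => hy1 ?_, (mem_normalizer_iff.1 (hkn g) y).1 hyH⟩
          exact conj_eq_one_iff.1 hh
        · intro y hy
          obtain ⟨hy1, hyH⟩ := hSmem.1 hy
          refine hSmem.2 ⟨fun hh => hy1 ?_, (mem_normalizer_iff''.1 (hkn g) y).1 hyH⟩
          have : y = m * (m⁻¹ * y * m) * m⁻¹ := by group
          rw [this, hh]; group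
        · intro y _; group
        · intro y _; group
        · intro y _
          congr 1
          rw [hm]; group
      rw [h1]
      have hxi : x⁻¹ ∈ S := hSmem.2 ⟨inv_ne_one.2 hx1, H.inv_mem hxH⟩
      rw [← Finset.sum_erase_add _ _ hxi]
      congr 1
      have h2 : ∑ y ∈ S.erase x⁻¹, (χ : G → ℂ) (x * (k g * y * (k g)⁻¹)) =
          ∑ z ∈ S.erase x, (χ : G → ℂ) z := by
        refine Finset.sum_nbij' (fun y => x * y) (fun z => x⁻¹ * z) ?_ ?_ ?_ ?_ ?_
        · intro y hy
          obtain ⟨hyx, hy⟩ := Finset.mem_erase.1 hy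
          obtain ⟨hy1, hyH⟩ := hSmem.1 hy
          refine Finset.mem_erase.2 ⟨fun hh => hy1 (mul_eq_left.1 hh),
            hSmem.2 ⟨fun hh => hyx (eq_inv_of_mul_eq_one_right hh), H.mul_mem hxH hyH⟩⟩
        · intro z hz
          obtain ⟨hzx, hz⟩ := Finset.mem_erase.1 hz
          obtain ⟨hz1, hzH⟩ := hSmem.1 hz
          refine Finset.mem_erase.2 ⟨fun hh => hz1 (mul_eq_left.1 hh),
            hSmem.2 ⟨fun hh => hzx (inv_mul_eq_one.1 hh).symm, H.mul_mem (H.inv_mem hxH) hzH⟩⟩
        · intro y _; group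
        · intro y _; group
        · intro y hy
          obtain ⟨hyx, hy⟩ := Finset.mem_erase.1 hy
          obtain ⟨hy1, hyH⟩ := hSmem.1 hy
          have e : x * (k g * y * (k g)⁻¹) = (x * y) * (y⁻¹ * k g * y * (k g)⁻¹) := by group
          rw [e]
          refine hc.key hM (hBmem.1 hχ) (H.mul_mem hxH hyH)
            (fun hh => hyx (eq_inv_of_mul_eq_one_right hh)) (hR g) ?_
          refine (R g).mul_mem ?_ ((R g).inv_mem (hk g))
          simpa using (hR g).norm_H (H.inv_mem hyH) (hk g)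
      rw [h2, Finset.sum_erase_eq_sub hx]
    have hsum : (d χ : ℂ) * ∑ g : G, ∑ y ∈ S, (χ : G → ℂ) (x * (g * y * g⁻¹)) =
        (Nat.card G : ℂ) * (χ : G → ℂ) x * U χ := by
      rw [Finset.sum_comm, Finset.mul_sum, hU, Finset.mul_sum]
      refine Finset.sum_congr rfl fun y _ => ?_
      rw [← hd χ, H80.sum_conj_mul]
    simp only [hper, Finset.sum_add_distrib, Finset.sum_const, Finset.card_univ, nsmul_eq_mul,
      ← Nat.card_eq_fintype_card] at hsum
    rw [← hn χ]
    linear_combination -hsum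
  -- its consequence for the block sums
  have hA : ∀ x ∈ S, ∀ t ∈ S,
      ∑ χ ∈ Bf, (Nat.card H : ℂ) * n χ / d χ * ((χ : G → ℂ) x * conj ((χ : G → ℂ) t)) =
        ∑ χ ∈ Bf, U χ * conj ((χ : G → ℂ) t) := by
    intro x hx t ht
    have h0 : ∑ χ ∈ Bf, E χ x * conj ((χ : G → ℂ) t) = 0 := by
      simp only [hE, Finset.sum_mul]
      rw [Finset.sum_comm]
      exact Finset.sum_eq_zero fun g _ => horth (hWreg g x (hSmem.1 hx).2) ht
    have hG : (Nat.card G : ℂ) ≠ 0 := Nat.cast_ne_zero.2 Nat.card_pos.ne'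
    calc ∑ χ ∈ Bf, (Nat.card H : ℂ) * n χ / d χ * ((χ : G → ℂ) x * conj ((χ : G → ℂ) t))
        = ∑ χ ∈ Bf, (U χ * conj ((χ : G → ℂ) t) +
            (Nat.card G : ℂ)⁻¹ * (E χ x * conj ((χ : G → ℂ) t))) := by
          refine Finset.sum_congr rfl fun χ hχ => ?_
          have := master χ hχ x hx
          have := hdC χ
          field_simp
          linear_combination conj ((χ : G → ℂ) t) * master χ hχ x hx
      _ = _ := by rw [Finset.sum_add_distrib, ← Finset.mul_sum, h0, mul_zero, add_zero]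
  -- every character is linear or constant on `S`
  have hconst : ∀ χ ∈ Bf, n χ ≠ 0 → ∀ x ∈ S, ∀ t ∈ S, (χ : G → ℂ) x = (χ : G → ℂ) t := by
    intro χ hχ hn0 x hx t ht
    have hz : ∑ ψ ∈ Bf, ((Nat.card H : ℝ) * n ψ / d ψ) * ‖(ψ : G → ℂ) x - (ψ : G → ℂ) t‖ ^ 2 = 0 := by
      have e : ((∑ ψ ∈ Bf, ((Nat.card H : ℝ) * n ψ / d ψ) *
          ‖(ψ : G → ℂ) x - (ψ : G → ℂ) t‖ ^ 2 : ℝ) : ℂ) = 0 := by
        push_cast
        calc _ = ∑ ψ ∈ Bf, ((Nat.card H : ℂ) * n ψ / d ψ * ((ψ : G → ℂ) x * conj ((ψ : G → ℂ) x)) -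
            (Nat.card H : ℂ) * n ψ / d ψ * ((ψ : G → ℂ) x * conj ((ψ : G → ℂ) t)) -
            (Nat.card H : ℂ) * n ψ / d ψ * ((ψ : G → ℂ) t * conj ((ψ : G → ℂ) x)) +
            (Nat.card H : ℂ) * n ψ / d ψ * ((ψ : G → ℂ) t * conj ((ψ : G → ℂ) t))) := by
              refine Finset.sum_congr rfl fun ψ _ => ?_
              rw [← Complex.mul_conj', map_sub]
              ring
          _ = 0 := by
              simp only [Finset.sum_add_distrib, Finset.sum_sub_distrib, hA x hx x hx, hA x hx t ht,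
                hA t ht x hx, hA t ht t ht]
              ring
      exact_mod_cast e
    have h1 := (Finset.sum_eq_zero_iff_of_nonneg fun ψ _ =>
      mul_nonneg (div_nonneg (mul_nonneg (Nat.cast_nonneg _) (Nat.cast_nonneg _))
        (Nat.cast_nonneg _)) (sq_nonneg _)).1 hz χ hχ
    have h2 : (Nat.card H : ℝ) * n χ / d χ ≠ 0 := by
      have := hd0 χ
      exact div_ne_zero (mul_ne_zero (Nat.cast_ne_zero.2 Nat.card_pos.ne') (Nat.cast_ne_zero.2 hn0))
        (Nat.cast_ne_zero.2 (by omega))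
    simpa [sub_eq_zero] using (mul_eq_zero.1 h1).resolve_left h2
  have hlinear : ∀ χ ∈ Bf, n χ = 0 → d χ = 1 := by
    intro χ hχ hn0
    have hU0 : U χ = -(d χ : ℂ) := by
      have := hn χ
      rw [hn0, Nat.cast_zero, mul_zero] at this
      linear_combination this
    have hker : ∀ g : G, ∀ x ∈ S, (χ : G → ℂ) (W g x) = d χ := by
      intro g x hx
      have hm := master χ hχ x hx
      rw [hn0, Nat.cast_zero, mul_zero, mul_zero, zero_mul, eq_comm, mul_eq_zero] at hm
      have hm' : E χ x = (Nat.card G : ℂ) * d χ := by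
        have := hm.resolve_left (hdC χ)
        rw [hU0] at this
        linear_combination this
      have hle : ∀ g : G, ((χ : G → ℂ) (W g x)).re ≤ d χ := fun g =>
        (Complex.re_le_norm _).trans ((IsChar.norm_le (IsIrr.isCharacter χ.2) _).trans
          (le_of_eq (by rw [hd, Complex.norm_natCast, ← Complex.natCast_re])))
      have hre := congrArg Complex.re hm'
      simp only [hE, Complex.re_sum] at hre
      have hre' : ∑ g : G, ((χ : G → ℂ) (W g x)).re = ∑ _g : G, (d χ : ℝ) := by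
        rw [hre, Finset.sum_const, Finset.card_univ, nsmul_eq_mul, ← Nat.card_eq_fintype_card]
        simp
      have hg := (Finset.sum_eq_sum_iff_of_le fun g _ => hle g).1 hre' g (Finset.mem_univ g)
      have hnorm : ‖(χ : G → ℂ) (W g x)‖ ≤ d χ :=
        (IsChar.norm_le (IsIrr.isCharacter χ.2) _).trans (le_of_eq (by rw [hd]; simp))
      refine Complex.ext (by rw [hg, Complex.natCast_re]) ?_
      have h3 : ((χ : G → ℂ) (W g x)).im ^ 2 ≤ 0 := by
        have h4 := Complex.sq_norm ((χ : G → ℂ) (W g x))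
        rw [Complex.normSq_apply, hg] at h4
        nlinarith [norm_nonneg ((χ : G → ℂ) (W g x)), hnorm]
      rw [Complex.natCast_im]
      exact pow_eq_zero_iff two_ne_zero |>.1 (le_antisymm h3 (sq_nonneg _))
    have h1 : (χ : G → ℂ) 1 = 1 := by
      refine degree_one_of_conj_kernel χ.2 H h.comm hc.gen fun g a ha => ?_
      by_cases ha1 : a = 1
      · exact ⟨1, H.one_mem, 1, rfl, by rw [ha1]; group⟩
      set b := (k g)⁻¹ * g * a * ((k g)⁻¹ * g)⁻¹ with hb
      have hbH : b ∈ H := (mem_normalizer_iff.1 (hkn g) a).1 ha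
      have hb1 : b ≠ 1 := fun hh => ha1 (conj_eq_one_iff.1 hh)
      refine ⟨b, hbH, (W g b)⁻¹, ?_, ?_⟩
      · rw [IsChar.inv_apply (IsIrr.isCharacter χ.2), hker g b (hSmem.2 ⟨hb1, hbH⟩), hd,
          Complex.conj_natCast]
      · simp only [hWdef, hb]; group
    have : (d χ : ℂ) = 1 := by rw [← hd χ, h1]
    exact_mod_cast this
  have hnl : ∀ χ ∈ Bf, (χ : G → ℂ) 1 ≠ 1 → ∀ x ∈ S, ∀ t ∈ S, (χ : G → ℂ) x = (χ : G → ℂ) t :=
    fun χ hχ h1 => hconst χ hχ fun h0 => h1 (by rw [hd, hlinear χ hχ h0, Nat.cast_one])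
  -- linear characters
  set L := Finset.univ.filter fun χ : Cfsg.IrrCharacter G => (χ : G → ℂ) 1 = 1 with hL
  have hLhom : ∀ χ ∈ L, ∃ l : G →* ℂˣ, ∀ g, (χ : G → ℂ) g = (l g : ℂ) := fun χ hχ =>
    CharInduce.IsChar.exists_hom_of_degree_one (IsIrr.isCharacter χ.2) (Finset.mem_filter.1 hχ).2
  have hLpow : ∀ (l : G →* ℂˣ) (g : G), l g ^ Nat.card H = 1 := by
    intro l g
    let K : Subgroup G := ((powMonoidHom (Nat.card H) : ℂˣ →* ℂˣ).comp l).ker
    have hle : Subgroup.normalClosure (H : Set G) ≤ K := Subgroup.normalClosure_le_normal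
      fun a ha => by
        show l a ^ Nat.card H = 1
        have : a ^ Nat.card H = 1 :=
          congrArg Subtype.val (pow_card_eq_one' (x := (⟨a, ha⟩ : H)))
        rw [← map_pow, this, map_one]
    rw [hc.gen] at hle
    exact hle (mem_top g)
  have hLB : L ⊆ Bf := fun χ hχ => by
    obtain ⟨l, hl⟩ := hLhom χ hχ
    refine hBmem.2 (mem_principalBlock_of_linear hM (Finset.mem_filter.1 hχ).2 fun g hg => ?_)
    have h1 : orderOf (l g) = 1 := Nat.eq_one_of_dvd_coprimes
      ((hp.out.coprime_iff_not_dvd.2 hg).pow_left e)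
      (he ▸ orderOf_dvd_of_pow_eq_one (hLpow l g)) (orderOf_map_dvd l g)
    rw [hl, orderOf_eq_one_iff.1 h1, Units.val_one]
  have hLf : Bf.filter (fun χ : Cfsg.IrrCharacter G => (χ : G → ℂ) 1 = 1) = L := by
    ext χ
    exact ⟨fun hh => Finset.mem_filter.2 ⟨Finset.mem_univ _, (Finset.mem_filter.1 hh).2⟩,
      fun hh => Finset.mem_filter.2 ⟨hLB hh, (Finset.mem_filter.1 hh).2⟩⟩
  have hLcom : ∀ χ ∈ L, ∀ g ∈ _root_.commutator G, (χ : G → ℂ) g = 1 := fun χ hχ g hg => by
    obtain ⟨l, hl⟩ := hLhom χ hχ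
    rw [hl, MonoidHom.mem_ker.1 (Abelianization.commutator_subset_ker l hg), Units.val_one]
  -- `G = H G'`
  have htop : H ⊔ _root_.commutator G = ⊤ := by
    rw [eq_top_iff, ← hc.gen]
    refine (Subgroup.closure_le _).2 ?_
    intro y hy
    obtain ⟨a, ha, hcj⟩ := Group.mem_conjugatesOfSet_iff.1 hy
    obtain ⟨g, rfl⟩ := isConj_iff.1 hcj
    have hmem : g * a * g⁻¹ * a⁻¹ ∈ _root_.commutator G := by
      rw [commutator_eq_closure]
      exact Subgroup.subset_closure ⟨g, a, by rw [commutatorElement_def]⟩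
    have : g * a * g⁻¹ = (g * a * g⁻¹ * a⁻¹) * a := by group
    rw [this]
    exact mul_mem (mem_sup_right hmem) (mem_sup_left ha)
  by_cases hnz : ∃ χ ∈ Bf, (χ : G → ℂ) 1 ≠ 1 ∧ (χ : G → ℂ) x₀ ≠ 0
  · -- all non-identity elements of `H` are conjugate
    obtain ⟨χ₁, hχ₁, hχ₁1, hχ₁x⟩ := hnz
    have hconj : ∀ x ∈ S, ∀ t ∈ S, IsConj x t := by
      intro x hx t ht
      by_contra hne
      have h0 : BlockBasic.blockKernel B x t = 0 := BlockBasic.blockKernel_eq_zero hM hB (by
        rw [(BlockBasic.pPart_eq_self_iff x).2 (orderOf_pow_of_mem h.pg (hSmem.1 hx).2),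
          (BlockBasic.pPart_eq_self_iff t).2 (orderOf_pow_of_mem h.pg (hSmem.1 ht).2)]
        exact hne)
      rw [hkernel, ← Finset.sum_filter_add_sum_filter_not Bf
        (fun χ : Cfsg.IrrCharacter G => (χ : G → ℂ) 1 = 1), hLf] at h0
      obtain ⟨m, hm⟩ := exists_sum_linear (x * t⁻¹)
      have hl : ∑ χ ∈ L, (χ : G → ℂ) x * conj ((χ : G → ℂ) t) = m := by
        rw [← hm]
        refine Finset.sum_congr rfl fun χ hχ => ?_
        obtain ⟨l, hl⟩ := hLhom χ hχ
        rw [← IsChar.inv_apply (IsIrr.isCharacter χ.2), hl, hl, hl, map_mul, Units.val_mul]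
      rw [hl] at h0
      have hpos : 0 < ∑ χ ∈ Bf.filter (fun χ : Cfsg.IrrCharacter G => ¬(χ : G → ℂ) 1 = 1),
          ‖(χ : G → ℂ) x₀‖ ^ 2 :=
        Finset.sum_pos' (fun _ _ => sq_nonneg _)
          ⟨χ₁, Finset.mem_filter.2 ⟨hχ₁, hχ₁1⟩, by positivity⟩
      have h1 : ((m : ℝ) + ∑ χ ∈ Bf.filter (fun χ : Cfsg.IrrCharacter G => ¬(χ : G → ℂ) 1 = 1),
          ‖(χ : G → ℂ) x₀‖ ^ 2 : ℝ) = 0 := by
        have e : (((m : ℝ) + ∑ χ ∈ Bf.filter (fun χ : Cfsg.IrrCharacter G => ¬(χ : G → ℂ) 1 = 1),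
          ‖(χ : G → ℂ) x₀‖ ^ 2 : ℝ) : ℂ) = 0 := by
          rw [← h0]
          push_cast
          congr 1
          refine Finset.sum_congr rfl fun χ hχ => ?_
          obtain ⟨hχB, hχ1⟩ := Finset.mem_filter.1 hχ
          rw [hnl χ hχB hχ1 x hx x₀ hx₀, hnl χ hχB hχ1 t ht x₀ hx₀, Complex.mul_conj']
        exact_mod_cast e
      linarith [(Nat.cast_nonneg m : (0 : ℝ) ≤ m)]
    -- so `H` lies in the commutator subgroup
    have hHD : H ≤ _root_.commutator G := by
      intro x hx
      by_cases hx1 : x = 1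
      · rw [hx1]; exact one_mem _
      have hx2 : x * x ≠ 1 := fun hh => by
        obtain ⟨j, hj⟩ := orderOf_pow_of_mem h.pg hx
        have hd2 : p ^ j ∣ 2 := hj ▸ orderOf_dvd_of_pow_eq_one (by rw [pow_two, hh])
        rcases j with _ | j
        · exact hx1 (orderOf_eq_one_iff.1 (by rw [hj, pow_zero]))
        · exact hp2 ((Nat.prime_dvd_prime_iff_eq hp.out Nat.prime_two).1
            ((dvd_pow_self p j.succ_ne_zero).trans hd2))
      obtain ⟨g, hg⟩ := isConj_iff.1
        (hconj x (hSmem.2 ⟨hx1, hx⟩) (x * x) (hSmem.2 ⟨hx2, H.mul_mem hx hx⟩))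
      have : x = g * x * g⁻¹ * x⁻¹ := by rw [hg, mul_inv_cancel_right]
      rw [this, commutator_eq_closure]
      exact Subgroup.subset_closure ⟨g, x, by rw [commutatorElement_def]⟩
    have hDtop : _root_.commutator G = ⊤ := by rwa [sup_eq_right.2 hHD] at htop
    have hLone : ∀ χ ∈ Bf, (χ : G → ℂ) 1 = 1 → χ = one := fun χ hχ h1 =>
      Subtype.ext (funext fun g => hLcom χ (Finset.mem_filter.2 ⟨Finset.mem_univ _, h1⟩) g
        (hDtop ▸ mem_top g))
    have hall : ∀ χ ∈ Bf, ∀ x ∈ S, (χ : G → ℂ) x = (χ : G → ℂ) x₀ := fun χ hχ x hx => by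
      by_cases h1 : (χ : G → ℂ) 1 = 1
      · rw [hLone χ hχ h1, hone1, hone1]
      · exact hnl χ hχ h1 x hx x₀ hx₀
    have hUs : ∀ χ ∈ Bf, U χ = (S.card : ℂ) * (χ : G → ℂ) x₀ := fun χ hχ => by
      rw [hU]
      simp only
      rw [Finset.sum_congr rfl (hall χ hχ), Finset.sum_const, nsmul_eq_mul]
    have hSpos : 0 < S.card := Finset.card_pos.2 ⟨x₀, hx₀⟩
    -- the values are integers
    have hint : ∀ χ ∈ Bf, ∃ s : ℤ, (χ : G → ℂ) x₀ = (s : ℂ) := fun χ hχ => by
      have hS0 : ((S.card : ℤ) : ℂ) ≠ 0 := by exact_mod_cast hSpos.ne'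
      have hval : (χ : G → ℂ) x₀ =
          (((Nat.card H * n χ : ℕ) : ℤ) - (d χ : ℤ) : ℤ) / ((S.card : ℤ) : ℂ) := by
        rw [eq_div_iff hS0]
        push_cast
        rw [mul_comm, ← hUs χ hχ, ← hn χ]
        ring
      obtain ⟨s, hs⟩ := BlockBasic.dvd_of_isIntegral_div (by exact_mod_cast hSpos.ne')
        (hval ▸ IsChar.isIntegral (IsIrr.isCharacter χ.2) x₀)
      refine ⟨s, ?_⟩
      rw [hval, hs]
      push_cast
      rw [mul_div_cancel_left₀]
      exact_mod_cast hS0
    choose! sI hsI using hint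
    -- some value is negative
    have hneg : ∃ χ ∈ Bf, sI χ < 0 := by
      by_contra hne
      push Not at hne
      have h0 := horth (w := (1 : G)) (by rw [orderOf_one]; exact hp.out.not_dvd_one) hx₀
      have h1 : ((∑ χ ∈ Bf, (d χ : ℤ) * sI χ : ℤ) : ℂ) = ((0 : ℤ) : ℂ) := by
        push_cast
        rw [← h0]
        refine Finset.sum_congr rfl fun χ hχ => ?_
        rw [hd, hsI χ hχ, map_intCast]
      have h2 := Finset.single_le_sum (f := fun χ => (d χ : ℤ) * sI χ)
        (fun χ hχ => mul_nonneg (Int.natCast_nonneg _) (hne χ hχ)) hone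
      rw [Int.cast_injective h1] at h2
      have hd1 : d one = 1 := by
        have := hd one
        rw [hone1] at this
        exact_mod_cast this.symm
      have hs1 : sI one = 1 := by
        have := hsI one hone
        rw [hone1] at this
        exact_mod_cast this.symm
      simp [hd1, hs1] at h2
    -- the bound on each value
    set q : ℝ := (Nat.card H : ℝ) with hq
    have hqS : (S.card : ℝ) = q - 1 := by
      rw [hq, eq_sub_iff_add_eq]; exact_mod_cast hcardS
    have hqn : ∀ χ ∈ Bf, q * n χ = d χ + (q - 1) * (sI χ : ℝ) := fun χ hχ => by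
      have e : (((q * n χ : ℝ)) : ℂ) = (((d χ + (S.card : ℝ) * (sI χ : ℝ)) : ℝ) : ℂ) := by
        push_cast [hq]
        rw [← hn χ, hUs χ hχ, hsI χ hχ]
        ring
      rw [← hqS]
      exact_mod_cast e
    have hbound : ∀ χ ∈ Bf, χ ≠ one → q * n χ ≤ (q - 1) * d χ := by
      intro χ hχ hne
      have h1 : (χ : G → ℂ) 1 ≠ 1 := fun hh => hne (hLone χ hχ hh)
      have hdpos : (0 : ℝ) < d χ := by exact_mod_cast hd0 χ
      set s : ℝ := (sI χ : ℝ) with hs
      have hsx : ∀ x ∈ S, (χ : G → ℂ) x = (s : ℂ) := fun x hx => by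
        rw [hall χ hχ x hx, hsI χ hχ, hs]; norm_cast
      have hsd : s < d χ := by
        refine lt_of_le_of_ne ?_ fun hh => h1 ?_
        · have := (Complex.re_le_norm ((χ : G → ℂ) x₀)).trans
            (IsChar.norm_le (IsIrr.isCharacter χ.2) x₀)
          rwa [hsx x₀ hx₀, hd, Complex.ofReal_re, Complex.norm_natCast] at this
        obtain ⟨K, hKn, hK, -⟩ := IsChar.exists_kernel (IsIrr.isCharacter χ.2)
        have hle : Subgroup.normalClosure (H : Set G) ≤ K := Subgroup.normalClosure_le_normal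
          fun a ha => by
            refine (hK a).2 ?_
            by_cases ha1 : a = 1
            · rw [ha1]
            · rw [hsx a (hSmem.2 ⟨ha1, ha⟩), hh, hd]; simp
        rw [hc.gen] at hle
        exact degree_one_of_norm χ.2 fun g => by rw [(hK g).1 (hle (mem_top g))]
      have hlow : ∀ g : G, 2 * s - d χ ≤ ((χ : G → ℂ) (W g x₀)).re := by
        intro g
        set T := Kg H g
        let R' : Subgroup T := (R g).subgroupOf T
        haveI : R'.Normal := ⟨fun r hr a => (hR g).norm a a.2 r hr⟩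
        let _ : Fintype T := Fintype.ofFinite T
        have hx0T : x₀ ∈ T := mem_sup_left (hSmem.1 hx₀).2
        have hw := re_lower_bound R' (CharInduce.IsChar.res (IsIrr.isCharacter χ.2) T)
          (⟨x₀, hx0T⟩ : T) (w := ⟨W g x₀, (hR g).le (hWR g x₀ (hSmem.1 hx₀).2)⟩)
          (hWR g x₀ (hSmem.1 hx₀).2)
        have hsum : ∑ r ∈ Finset.univ.filter (· ∈ R'),
            (χ : G → ℂ) (((⟨x₀, hx0T⟩ : T) * r : T) : G) = ((Nat.card R' : ℝ) * s : ℝ) := by
          rw [Finset.sum_congr rfl (g := fun _ => (s : ℂ)) fun r hr => by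
            rw [Subgroup.coe_mul, hc.key hM (hBmem.1 hχ) (hSmem.1 hx₀).2 (hSmem.1 hx₀).1 (hR g)
              (r := (r : G)) (Finset.mem_filter.1 hr).2, hsx x₀ hx₀]]
          rw [Finset.sum_const, nsmul_eq_mul, Nat.card_eq_fintype_card, Fintype.card_subtype]
          push_cast
          rfl
        rw [hsum, Complex.ofReal_re, OneMemClass.coe_one, hd, Complex.natCast_re] at hw
        have hpos : (0 : ℝ) < Nat.card R' := Nat.cast_pos.2 Nat.card_pos
        nlinarith [hw, hpos]
      have hEre : (Nat.card G : ℝ) * (2 * s - d χ) ≤ (E χ x₀).re := by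
        rw [hE]
        simp only [Complex.re_sum]
        refine le_trans (le_of_eq ?_) (Finset.sum_le_sum fun g _ => hlow g)
        rw [Finset.sum_const, Finset.card_univ, nsmul_eq_mul, ← Nat.card_eq_fintype_card]
      have hm := congrArg Complex.re (master χ hχ x₀ hx₀)
      rw [hsx x₀ hx₀, hUs χ hχ, hsx x₀ hx₀] at hm
      simp only [Complex.mul_re, Complex.add_re, Complex.ofReal_re, Complex.ofReal_im,
        Complex.natCast_re, Complex.natCast_im, Complex.mul_im, Complex.add_im, mul_zero, zero_mul,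
        sub_zero, add_zero, zero_add] at hm
      rw [← hq, hqS, hqn χ hχ] at hm
      rw [hqn χ hχ]
      have hGpos : (0 : ℝ) < Nat.card G := Nat.cast_pos.2 Nat.card_pos
      -- `((q - 1) s - d) (s - d) ≥ 0`
      have key : 0 ≤ ((q - 1) * s - d χ) * (s - d χ) := by
        have h5 : (Nat.card G : ℝ) * (d χ * (2 * s - d χ)) ≤ d χ * (E χ x₀).re := by
          nlinarith [mul_le_mul_of_nonneg_left hEre hdpos.le]
        nlinarith [hm, h5, hGpos]
      have hq3' : (3 : ℝ) ≤ q := by rw [hq]; exact_mod_cast hq3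
      by_contra hlt
      push Not at hlt
      have h6 : (0 : ℝ) < (q - 1) * s - d χ := by nlinarith
      nlinarith
    -- the contradiction
    set f : Cfsg.IrrCharacter G → ℝ := fun χ => (sI χ : ℝ) ^ 2 * ((q - 1) - q * n χ / d χ) with hf
    have hfsum : ∑ χ ∈ Bf, f χ = 0 := by
      have e := hA x₀ hx₀ x₀ hx₀
      have e' : ((∑ χ ∈ Bf, f χ : ℝ) : ℂ) = 0 := by
        simp only [hf]
        rw [← sub_eq_zero.2 e.symm, ← Finset.sum_sub_distrib]
        push_cast
        refine Finset.sum_congr rfl fun χ hχ => ?_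
        rw [hUs χ hχ, hsI χ hχ, map_intCast, hq]
        push_cast
        rw [show ((Nat.card H : ℂ)) - 1 = (S.card : ℂ) by rw [← hcardS]; push_cast; ring]
        ring
      exact_mod_cast e'
    have hfone : f one = -1 := by
      have hd1 : d one = 1 := by
        have := hd one
        rw [hone1] at this
        exact_mod_cast this.symm
      have hs1 : sI one = 1 := by
        have := hsI one hone
        rw [hone1] at this
        exact_mod_cast this.symm
      simp only [hf, hqn one hone, hd1, hs1]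
      ring
    obtain ⟨χ₂, hχ₂, hs2⟩ := hneg
    have hne2 : χ₂ ≠ one := fun hh => by
      have := hsI χ₂ hχ₂
      rw [hh, hone1] at this
      have h1 : sI one = 1 := by exact_mod_cast this.symm
      rw [hh, h1] at hs2
      exact absurd hs2 (by norm_num)
    have hf2 : 1 < f χ₂ := by
      have h1 : (sI χ₂ : ℝ) ≤ -1 := by exact_mod_cast (show sI χ₂ ≤ -1 by omega)
      have hdpos : (0 : ℝ) < d χ₂ := by exact_mod_cast hd0 χ₂
      have hq3' : (3 : ℝ) ≤ q := by rw [hq]; exact_mod_cast hq3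
      have h2 : q * n χ₂ / d χ₂ < 1 := by
        rw [div_lt_one hdpos, hqn χ₂ hχ₂]
        nlinarith
      simp only [hf]
      have h3 : (1 : ℝ) ≤ (sI χ₂ : ℝ) ^ 2 := by nlinarith
      nlinarith
    have hnn : ∀ χ ∈ Bf.erase one, 0 ≤ f χ := fun χ hχ => by
      obtain ⟨hne, hχB⟩ := Finset.mem_erase.1 hχ
      refine mul_nonneg (sq_nonneg _) (sub_nonneg.2 ?_)
      rw [div_le_iff₀ (by exact_mod_cast hd0 χ)]
      exact hbound χ hχB hne
    have hge := Finset.single_le_sum hnn (Finset.mem_erase.2 ⟨hne2, hχ₂⟩)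
    rw [← Finset.sum_erase_add _ _ hone, hfone] at hfsum
    linarith
  · -- all nonlinear characters vanish on `S`
    push Not at hnz
    have hvan : ∀ χ ∈ Bf, (χ : G → ℂ) 1 ≠ 1 → ∀ x ∈ S, (χ : G → ℂ) x = 0 := fun χ hχ h1 x hx =>
      (hnl χ hχ h1 x hx x₀ hx₀).trans (hnz χ hχ h1)
    have honeL : one ∈ L := Finset.mem_filter.2 ⟨Finset.mem_univ _, rfl⟩
    have hLsum : ∀ x ∈ S, ∑ χ ∈ L, (χ : G → ℂ) x = 0 := by
      intro x hx
      have h0 := BlockBasic.conj_blockKernel B (1 : G) x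
      rw [BlockBasic.blockKernel_eq_zero_of_regular_of_singular hM hB
        (by rw [orderOf_one]; exact hp.out.not_dvd_one) (hsing x hx), map_zero, hkernel,
        ← Finset.sum_filter_add_sum_filter_not Bf
          (fun χ : Cfsg.IrrCharacter G => (χ : G → ℂ) 1 = 1), hLf] at h0
      rw [Finset.sum_eq_zero (s := Bf.filter _) fun χ hχ => by
        rw [hvan χ (Finset.mem_filter.1 hχ).1 (Finset.mem_filter.1 hχ).2 x hx, zero_mul],
        add_zero] at h0
      refine Eq.trans (Finset.sum_congr rfl fun χ hχ => ?_) h0.symm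
      rw [(Finset.mem_filter.1 hχ).2, map_one, mul_one]
    have hdisj : ∀ x ∈ S, x ∉ _root_.commutator G := fun x hx hD => by
      have h0 := hLsum x hx
      rw [Finset.sum_congr rfl fun χ hχ => hLcom χ hχ x hD, Finset.sum_const, nsmul_eq_mul,
        mul_one, Nat.cast_eq_zero, Finset.card_eq_zero] at h0
      rw [h0] at honeL
      simp at honeL
    have hHD : H ⊓ _root_.commutator G = ⊥ := by
      rw [eq_bot_iff]
      intro y hy
      refine mem_bot.2 (by_contra fun hy1 => hdisj y (hSmem.2 ⟨hy1, hy.1⟩) hy.2)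
    set D := _root_.commutator G with hD
    -- few linear characters
    have hLcard : L.card ≤ Nat.card H := by
      let _ : Fintype H := Fintype.ofFinite H
      have h1 : L.card ≤ Fintype.card (Cfsg.IrrCharacter H) := by
        rw [← Finset.card_univ]
        choose l hl using hLhom
        refine Finset.card_le_card_of_injOn
          (fun χ => if hχ : χ ∈ L then (⟨fun a => ((l χ hχ).comp H.subtype a : ℂ),
            CharInduce.isIrrCharacter_hom _⟩ : Cfsg.IrrCharacter H) else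
              ⟨fun _ => 1, isIrrCharacter_one⟩) (fun _ _ => Finset.mem_univ _) ?_
        intro χ hχ ψ hψ hh
        have hh' : ∀ a : H, ((l χ hχ) a : ℂ) = ((l ψ hψ) a : ℂ) := fun a => by
          have := congrFun (congrArg Subtype.val hh) a
          simpa [dif_pos (show χ ∈ L from hχ), dif_pos (show ψ ∈ L from hψ)] using this
        refine Subtype.ext (funext fun g => ?_)
        obtain ⟨a, ha, b, hb, rfl⟩ := Subgroup.mem_sup_of_normal_right.1
          (htop ▸ mem_top g : g ∈ H ⊔ D)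
        rw [hl χ hχ, hl ψ hψ, map_mul, map_mul,
          MonoidHom.mem_ker.1 (Abelianization.commutator_subset_ker (l χ hχ) hb),
          MonoidHom.mem_ker.1 (Abelianization.commutator_subset_ker (l ψ hψ) hb), mul_one, mul_one]
        exact hh' ⟨a, ha⟩
      refine h1.trans ?_
      rw [← Nat.card_eq_fintype_card, card_irrCharacter]
      exact Nat.card_le_card_of_surjective _ ConjClasses.mk_surjective
    by_cases hpD : p ∣ Nat.card D
    · -- a larger `p`-subgroup centralizes `x₀`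
      obtain ⟨P, hP⟩ := h.pg.exists_le_sylow
      have hPN : (P : Subgroup G) ≤ normalizer (H : Set G) := by
        intro g hg
        have hle : R g ≤ P := (hR g).le.trans (sup_le hP (by
          rintro _ ⟨a, ha, rfl⟩
          exact P.mul_mem (P.mul_mem hg (hP ha)) (P.inv_mem hg)))
        have hk1 : k g = 1 := eq_one_of_mem_of_mem P.isPGroup' (hR g).card (hle (hk g)) (hk g)
        simpa [hk1] using hkn g
      obtain ⟨⟨m, hm⟩, hmo⟩ := exists_prime_orderOf_dvd_card' p hpD
      rw [Subgroup.orderOf_mk] at hmo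
      have hmp : IsPGroup p (zpowers m) :=
        IsPGroup.of_card (n := 1) (by rw [Nat.card_zpowers, hmo, pow_one])
      obtain ⟨Q, hQ⟩ := hmp.exists_le_sylow
      obtain ⟨t, ht⟩ := MulAction.exists_smul_eq G P Q
      have hmQ : m ∈ ((t • P : Sylow p G) : Subgroup G) := ht ▸ hQ (mem_zpowers m)
      obtain ⟨m', hm'P, hm'⟩ := hmQ
      have hm'e : t * m' * t⁻¹ = m := hm'
      have hm'D : m' ∈ D := by
        have := (inferInstance : D.Normal).conj_mem m hm t⁻¹
        rw [← hm'e] at this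
        simpa [mul_assoc] using this
      have hm'1 : m' ≠ 1 := fun hh => hp.out.ne_one (by rw [← hmo, ← hm'e, hh]; simp)
      have hm'H : m' ∉ H := fun hh => hm'1 (by rw [← mem_bot, ← hHD]; exact ⟨hh, hm'D⟩)
      have hcen : ∀ a ∈ H, a * m' = m' * a := fun a ha => by
        have h1 : m' * a * m'⁻¹ * a⁻¹ = 1 := by
          rw [← mem_bot, ← hHD]
          refine ⟨H.mul_mem ((mem_normalizer_iff.1 (hPN hm'P) a).1 ha) (H.inv_mem ha), ?_⟩
          rw [hD, commutator_eq_closure]
          exact Subgroup.subset_closure ⟨m', a, by rw [commutatorElement_def]⟩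
        exact (mul_inv_eq_iff_eq_mul.1 (mul_inv_eq_one.1 h1)).symm
      set U' := H ⊔ zpowers m' with hU'
      have hUP : U' ≤ P := sup_le hP (zpowers_le.2 hm'P)
      have hUC : U' ≤ centralizer ({x₀} : Set G) := by
        refine sup_le (fun a ha => mem_centralizer_singleton_iff.2 (h.comm a ha _ (hSmem.1 hx₀).2)) ?_
        exact zpowers_le.2 (mem_centralizer_singleton_iff.2 (hcen x₀ (hSmem.1 hx₀).2).symm)
      have hlt : Nat.card H < Nat.card U' := by
        refine Nat.lt_of_le_of_ne (Subgroup.card_le_of_le le_sup_left) fun hh => hm'H ?_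
        have := Subgroup.eq_of_le_of_card_ge (le_sup_left : H ≤ U') hh.ge
        rw [this]
        exact mem_sup_right (mem_zpowers m')
      obtain ⟨j, hj⟩ := (P.isPGroup'.to_le hUP).exists_card_eq
      obtain ⟨i, hi⟩ := orderOf_pow_of_mem h.pg (hSmem.1 hx₀).2
      have hsyl : Nat.card U' ≤ p ^ (Nat.card (centralizer ({x₀} : Set G))).factorization p := by
        rw [hj]
        exact Nat.pow_le_pow_right hp.out.pos ((hp.out.pow_dvd_iff_le_factorization
          Nat.card_pos.ne').1 (hj ▸ Subgroup.card_dvd_of_le hUC))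
      have hkk := Cores.blockKernel_principal_self (G := G) hM hi
      have hkL : BlockBasic.blockKernel B x₀ x₀ = (L.card : ℂ) := by
        rw [hkernel, ← Finset.sum_filter_add_sum_filter_not Bf
          (fun χ : Cfsg.IrrCharacter G => (χ : G → ℂ) 1 = 1), hLf,
          Finset.sum_eq_zero (s := Bf.filter _) fun χ hχ => by
            rw [hvan χ (Finset.mem_filter.1 hχ).1 (Finset.mem_filter.1 hχ).2 x₀ hx₀, zero_mul],
          add_zero, Finset.card_eq_sum_ones, Nat.cast_sum]
        refine Finset.sum_congr rfl fun χ hχ => ?_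
        obtain ⟨l, hl⟩ := hLhom χ hχ
        rw [Complex.mul_conj', hl, CharInduce.norm_hom]
        simp
      have h5 := sylow_le_sum_sq (G := centralizer ({x₀} : Set G)) hM
      rw [← hBdef, hkL, Nat.cast_inj] at hkk
      omega
    · -- `G'` is a normal subgroup of order prime to `p`
      have hDbot : D = ⊥ := by
        rw [eq_bot_iff, ← hc.core]
        exact Cores.le_pPrimeCore (hp.out.coprime_iff_not_dvd.2 hpD).symm
      apply hc.noCentral x₀ (hSmem.1 hx₀).2 (hSmem.1 hx₀).1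
      rw [Subgroup.mem_center_iff]
      intro g
      have : g * x₀ * g⁻¹ * x₀⁻¹ = 1 := by
        rw [← mem_bot, ← hDbot, hD, commutator_eq_closure]
        exact Subgroup.subset_closure ⟨g, x₀, by rw [commutatorElement_def]⟩
      exact mul_inv_eq_iff_eq_mul.1 (mul_inv_eq_one.1 this)

end Cfsg.Agent.H61.ExtClosed
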