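import Cfsg.Agent.H61.ExtClosedCrit
import Cfsg.Agent.H61.ExtClosedCoprime
import Mathlib.GroupTheory.SchurZassenhaus

/-!
Factorization for an abelian extremely closed `p`-subgroup, `p` odd: reduction to the critical
configuration.
-/

namespace Cfsg.Agent.H61.ExtClosed

open Subgroup

universe u

variable {G : Type u} [Group G] [Finite G] {p : ℕ} [hp : Fact p.Prime]

/-- The quotient by a central `p`-subgroup has trivial `p'`-core when the group has. -/
theorem core_quotient_central {x : G} (hx : x ∈ Subgroup.center G) (hk : ∃ k, orderOf x = p ^ k)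
    [(zpowers x).Normal] (hcore : Cfsg.pPrimeCore p G = ⊥) :
    Cfsg.pPrimeCore p (G ⧸ zpowers x) = ⊥ := by
  set Z := zpowers x
  set π := QuotientGroup.mk' Z with hπ
  set O := Cfsg.pPrimeCore p (G ⧸ Z) with hO
  set K := O.comap π with hK
  have hZK : Z ≤ K := fun z hz => by
    show π z ∈ O
    rw [show π z = 1 from (QuotientGroup.eq_one_iff z).2 hz]
    exact O.one_mem
  have hKn : K.Normal := (Cfsg.pPrimeCore_normal p (G ⧸ Z)).comap π
  set f : K →* G ⧸ Z := π.comp K.subtype
  set Z' : Subgroup K := Z.subgroupOf K with hZ'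
  have hker : f.ker = Z' := by
    rw [hZ', ← MonoidHom.comap_ker, QuotientGroup.ker_mk']
    rfl
  have hrange : f.range = O := by
    ext y
    refine ⟨?_, fun hy => ?_⟩
    · rintro ⟨k, rfl⟩
      exact k.2
    · obtain ⟨g, rfl⟩ := QuotientGroup.mk'_surjective Z y
      exact ⟨⟨g, hy⟩, rfl⟩
  have hidx : Z'.index = Nat.card O := by rw [← hker, Subgroup.index_ker, hrange]
  have hOp : ¬ p ∣ Nat.card O := Cores.not_dvd_card_pPrimeCore
  have hZp : IsPGroup p Z := by
    obtain ⟨j, hj⟩ := hk
    exact IsPGroup.of_card (n := j) (by rw [Nat.card_zpowers, hj])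
  have hcop : Nat.Coprime (Nat.card Z') Z'.index := by
    rw [hidx]
    have hZ'p : IsPGroup p Z' := hZp.comap_of_injective K.subtype K.subtype_injective
    obtain ⟨j, hj⟩ := hZ'p.exists_card_eq
    rw [hj]
    exact (hp.out.coprime_iff_not_dvd.2 hOp).pow_left j
  obtain ⟨R, hR⟩ := Subgroup.exists_right_complement'_of_coprime hcop
  have hRcard : Nat.card R = Nat.card O := by rw [← hidx, ← hR.symm.index_eq_card]
  -- the complement consists of all `p`-regular elements of `K`
  have hmem : ∀ s : K, ¬ p ∣ orderOf (s : G) → s ∈ R := by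
    intro s hs
    obtain ⟨⟨z, r⟩, he⟩ := hR.2 s
    have hzc : Commute ((z : K) : G) ((r : K) : G) :=
      ((Subgroup.mem_center_iff.1 (zpowers_le.2 hx z.2)) _).symm
    have hrd : ¬ p ∣ orderOf ((r : K) : G) := by
      rw [Subgroup.orderOf_coe, Subgroup.orderOf_coe]
      exact fun hd => hOp (hRcard ▸ hd.trans (_root_.orderOf_dvd_natCard r))
    have e : ((z : K) : G) * ((r : K) : G) = s := congrArg Subtype.val he
    have h1 := BlockBasic.pPart_mul_of hzc (orderOf_pow_of_mem hZp z.2) hrd
    rw [e, (BlockBasic.pPart_eq_one_iff _).2 hs] at h1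
    rw [← h1, one_mul] at e
    exact (Subtype.ext e : (r : K) = s) ▸ r.2
  have hreg : ∀ r ∈ R, ¬ p ∣ orderOf ((r : K) : G) := fun r hr hd => by
    rw [Subgroup.orderOf_coe] at hd
    exact hOp (hRcard ▸ hd.trans (R.orderOf_dvd_natCard hr))
  have hn : (R.map K.subtype).Normal := ⟨by
    rintro _ ⟨r, hr, rfl⟩ g
    refine ⟨⟨g * r * g⁻¹, hKn.conj_mem _ r.2 g⟩, hmem _ ?_, rfl⟩
    show ¬ p ∣ orderOf (g * (r : G) * g⁻¹)
    have e : orderOf (g * (r : G) * g⁻¹) = orderOf (r : G) := MulEquiv.orderOf_eq (MulAut.conj g) (r : G)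
    rw [e]
    exact hreg r hr⟩
  have hRbot : R.map K.subtype = ⊥ := by
    rw [eq_bot_iff, ← hcore]
    refine Cores.le_pPrimeCore ?_
    rw [Subgroup.card_map_of_injective K.subtype_injective, hRcard]
    exact (hp.out.coprime_iff_not_dvd.2 hOp).symm
  refine Subgroup.eq_bot_of_card_eq O ?_
  rw [← hRcard, ← Subgroup.card_map_of_injective K.subtype_injective, hRbot, Subgroup.card_bot]

/-- `G = N(H) O_{p'}(G)`. -/
theorem factor_aux (hp2 : p ≠ 2) (n : ℕ) : ∀ {G : Type u} [Group G] [Finite G] {H : Subgroup G},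
    Nat.card G = n → Hyp p H → normalizer (H : Set G) ⊔ Cfsg.pPrimeCore p G = ⊤ := by
  induction n using Nat.strong_induction_on with
  | _ n ih =>
    intro G _ _ H hn h
    subst hn
    by_cases hcore : Cfsg.pPrimeCore p G = ⊥
    swap
    · -- pass to `G / O_{p'}(G)`
      set O := Cfsg.pPrimeCore p G with hO
      set π := QuotientGroup.mk' O with hπ
      have hOp : ¬ p ∣ Nat.card O := Cores.not_dvd_card_pPrimeCore
      have hlt : Nat.card (G ⧸ O) < Nat.card G := by
        rw [O.card_eq_card_quotient_mul_card_subgroup]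
        exact lt_mul_of_one_lt_right Nat.card_pos (Subgroup.one_lt_card_iff_ne_bot O |>.2 hcore)
      have hN := ih _ hlt rfl (h.quotient_regular O hOp)
      have e : Cfsg.pPrimeCore p (G ⧸ O) = ⊥ := Cores.pPrimeCore_quotient_pPrimeCore
      rw [e, sup_bot_eq] at hN
      rw [eq_top_iff]
      intro g _
      have hle : H.map (MulAut.conj g).toMonoidHom ≤ O ⊔ H := by
        rintro _ ⟨a, ha, rfl⟩
        show g * a * g⁻¹ ∈ O ⊔ H
        have h1 : π g * π a * (π g)⁻¹ ∈ H.map π :=
          (mem_normalizer_iff.1 (hN ▸ mem_top (π g)) _).1 (mem_map_of_mem π ha)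
        rw [← map_inv, ← map_mul, ← map_mul, ← Subgroup.mem_comap, Subgroup.comap_map_eq, hπ,
          QuotientGroup.ker_mk'] at h1
        rwa [sup_comm]
      obtain ⟨o, ho, he⟩ := Coprime.exists_conj_of_le_sup (H₁ := H) (N := O)
        (by rw [normalizer_eq_top]; exact le_top) hle
        (Subgroup.card_map_of_injective (MulAut.conj g).injective) (coprime_card h.pg hOp)
        (Or.inl h.solvable)
      have hmem : o⁻¹ * g ∈ normalizer (H : Set G) := by
        refine mem_normalizer_fintype fun a ha => ?_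
        have : g * a * g⁻¹ ∈ H.map (MulAut.conj o).toMonoidHom := he ▸ ⟨a, ha, rfl⟩
        obtain ⟨b, hb, hb'⟩ := this
        have hb'' : o * b * o⁻¹ = g * a * g⁻¹ := hb'
        have : o⁻¹ * g * a * (o⁻¹ * g)⁻¹ = b := by
          rw [show o⁻¹ * g * a * (o⁻¹ * g)⁻¹ = o⁻¹ * (g * a * g⁻¹) * o by group, ← hb'']
          group
        show o⁻¹ * g * a * (o⁻¹ * g)⁻¹ ∈ H
        rw [this]
        exact hb
      rw [show g = o * (o⁻¹ * g) by group]
      exact mul_mem (mem_sup_right ho) (mem_sup_left hmem)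
    suffices hnorm : H.Normal by rw [normalizer_eq_top, top_sup_eq]
    by_cases hcen : ∃ x ∈ H, x ≠ 1 ∧ x ∈ Subgroup.center G
    · -- pass to the quotient by a central subgroup of `H`
      obtain ⟨x, hxH, hx1, hxc⟩ := hcen
      have hZn : (zpowers x).Normal := ⟨fun y hy g => by
        have : y ∈ Subgroup.center G := zpowers_le.2 hxc hy
        rwa [Subgroup.mem_center_iff.1 this g, mul_inv_cancel_right]⟩
      have hle : zpowers x ≤ H := zpowers_le.2 hxH
      have hlt : Nat.card (G ⧸ zpowers x) < Nat.card G := by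
        rw [(zpowers x).card_eq_card_quotient_mul_card_subgroup]
        exact lt_mul_of_one_lt_right Nat.card_pos
          (Subgroup.one_lt_card_iff_ne_bot _ |>.2 (zpowers_ne_bot.2 hx1))
      have hN := ih _ hlt rfl (h.quotient_le (zpowers x) hle)
      rw [core_quotient_central hxc (orderOf_pow_of_mem h.pg hxH) hcore, sup_bot_eq] at hN
      have hn' := (normalizer_eq_top_iff (H := H.map (QuotientGroup.mk' (zpowers x)))).1 hN
      have := hn'.comap (QuotientGroup.mk' (zpowers x))
      rwa [Subgroup.comap_map_eq, QuotientGroup.ker_mk', sup_eq_left.2 hle] at this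
    push Not at hcen
    by_cases hgen : Subgroup.normalClosure (H : Set G) = ⊤
    swap
    · -- `H` lies in a proper normal subgroup
      set K := Subgroup.normalClosure (H : Set G) with hK
      have hHK : H ≤ K := Subgroup.le_normalClosure
      have hlt : Nat.card K < Nat.card G :=
        lt_of_le_of_ne (Subgroup.card_le_card_group K) fun he => hgen (K.eq_top_of_card_eq he)
      have hcK : Cfsg.pPrimeCore p K = ⊥ := by
        rw [Cores.pPrimeCore_of_normal K, hcore, Subgroup.bot_subgroupOf]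
      have hN := ih _ hlt rfl (h.subgroupOf hHK)
      rw [hcK, sup_bot_eq] at hN
      refine ⟨fun a ha g => ?_⟩
      have hconj : H.map (MulAut.conj g).toMonoidHom ≤ normalizer (H : Set G) := by
        rintro _ ⟨b, hb, rfl⟩
        have hbK : g * b * g⁻¹ ∈ K :=
          (Subgroup.normalClosure_normal (s := (H : Set G))).conj_mem b (hHK hb) g
        refine mem_normalizer_fintype fun c hc => ?_
        exact (mem_normalizer_iff.1 (hN ▸ mem_top (⟨g * b * g⁻¹, hbK⟩ : K)) ⟨c, hHK hc⟩).1 hc
      rw [← h.closed g]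
      exact ⟨mem_sup_right ⟨a, ha, rfl⟩, hconj ⟨a, ha, rfl⟩⟩
    by_cases hbot : H = ⊥
    · rw [hbot]; infer_instance
    exfalso
    refine Crit.false hp2 ⟨h, hgen, hbot, hcen, hcore, ?_⟩
    -- the local condition
    intro z hz hz1 g R hR c hc hzc
    set C := centralizer ({z} : Set G) with hC
    have hHC : H ≤ C := fun a ha => mem_centralizer_singleton_iff.2 (h.comm a ha z hz)
    have hlt : Nat.card C < Nat.card G := by
      refine lt_of_le_of_ne (Subgroup.card_le_card_group C) fun he => hcen z hz hz1 ?_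
      have ht := C.eq_top_of_card_eq he
      rw [Subgroup.mem_center_iff]
      exact fun y => mem_centralizer_singleton_iff.1 (ht ▸ mem_top y : y ∈ C)
    set O := Cfsg.pPrimeCore p C with hO
    set π := QuotientGroup.mk' O
    set H' := H.subgroupOf C with hH'
    have hN := ih _ hlt rfl (h.subgroupOf hHC)
    have hnm : (H'.map π).Normal := by
      refine ⟨?_⟩
      rintro _ ⟨a, ha, rfl⟩ y
      obtain ⟨y, rfl⟩ := QuotientGroup.mk'_surjective O y
      obtain ⟨m, hm, o, ho, rfl⟩ := Subgroup.mem_sup_of_normal_right.1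
        (hN ▸ mem_top y : y ∈ normalizer (H' : Set C) ⊔ O)
      have ho1 : π o = 1 := (QuotientGroup.eq_one_iff o).2 ho
      rw [map_mul, ho1, mul_one, ← map_inv, ← map_mul, ← map_mul]
      exact mem_map_of_mem π ((mem_normalizer_iff.1 hm a).1 ha)
    set R' := R ⊓ C with hR'
    have hR'p : ¬ p ∣ Nat.card R' := fun hd => hR.card (hd.trans (Subgroup.card_dvd_of_le inf_le_left))
    have hR'n : H ≤ normalizer (R' : Set G) := fun a ha => by
      refine mem_normalizer_fintype fun y hy => ?_
      exact ⟨hR.norm_H ha hy.1, C.mul_mem (C.mul_mem (hHC ha) hy.2) (C.inv_mem (hHC ha))⟩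
    have hcomm : ⁅R', H⁆ = R' := by
      have e := Coprime.commutator_sup_centralizer hR'n (coprime_card h.pg hR'p) (Or.inl h.solvable)
      have hb : R' ⊓ centralizer (H : Set G) = ⊥ := by
        rw [eq_bot_iff]
        exact fun y hy => mem_bot.2
          (hR.eq_one_of_fixed h hy.1.1 fun a ha => mem_centralizer_iff.1 hy.2 a ha)
      rwa [hb, sup_bot_eq] at e
    set R'' := R'.subgroupOf C with hR''
    have hcomm' : ⁅R'', H'⁆ = R'' := by
      apply Subgroup.map_injective C.subtype_injective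
      rw [map_commutator, map_subgroupOf_eq_of_le (inf_le_right : R' ≤ C),
        map_subgroupOf_eq_of_le hHC, hcomm]
    have hle : R''.map π ≤ H'.map π := by
      conv_lhs => rw [← hcomm', map_commutator]
      exact Subgroup.commutator_le_right _ _
    have hcC : c ∈ C := mem_centralizer_singleton_iff.2 hzc.symm
    refine ⟨⟨c, hcC⟩, ?_, rfl⟩
    refine (QuotientGroup.eq_one_iff _).1 ?_
    refine eq_one_of_mem_of_mem (p := p) (H := H'.map π)
      ((h.pg.comap_of_injective C.subtype C.subtype_injective).map π) (R := R''.map π)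
      (fun hd => hR'p ?_) (hle (mem_map_of_mem π (show (⟨c, hcC⟩ : C) ∈ R'' from ⟨hc, hcC⟩)))
      (mem_map_of_mem π (show (⟨c, hcC⟩ : C) ∈ R'' from ⟨hc, hcC⟩))
    have e : Nat.card R'' = Nat.card R' :=
      Nat.card_congr (Subgroup.subgroupOfEquivOfLe (inf_le_right : R' ≤ C)).toEquiv
    exact e ▸ hd.trans (R''.card_map_dvd π)

/-- `G = N(H) O_{p'}(G)`. -/
theorem Hyp.factor (hp2 : p ≠ 2) {H : Subgroup G} (h : Hyp p H) :
    normalizer (H : Set G) ⊔ Cfsg.pPrimeCore p G = ⊤ :=
  factor_aux hp2 _ rfl h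

/-- The normal closure of `H` meets the normalizer of `H` in `H`. -/
theorem Hyp.normalClosure_inf (hp2 : p ≠ 2) {H : Subgroup G} (h : Hyp p H) :
    Subgroup.normalClosure (H : Set G) ⊓ normalizer (H : Set G) = H := by
  refine le_antisymm (fun y hy => ?_) (le_inf Subgroup.le_normalClosure Subgroup.le_normalizer)
  set O := Cfsg.pPrimeCore p G with hO
  have hOn : H ≤ normalizer (O : Set G) := by rw [normalizer_eq_top]; exact le_top
  set V := ⁅O, H⁆ with hV
  have hVO : V ≤ O := Coprime.commutator_le_left_of_normalizer hOn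
  have hHV : H ≤ normalizer (V : Set G) := normalizer_commutator_ge_right O H
  have hle : Subgroup.normalClosure (H : Set G) ≤ V ⊔ H := by
    refine (Subgroup.closure_le _).2 ?_
    intro w hw
    obtain ⟨a, ha, hcj⟩ := Group.mem_conjugatesOfSet_iff.1 hw
    obtain ⟨g, rfl⟩ := isConj_iff.1 hcj
    obtain ⟨o, ho, m, hm, rfl⟩ := Subgroup.mem_sup_of_normal_left.1
      ((sup_comm (a := O) (b := normalizer (H : Set G))).trans (h.factor hp2) ▸ mem_top g :
        g ∈ O ⊔ normalizer (H : Set G))
    set b := m * a * m⁻¹ with hb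
    have hbH : b ∈ H := (mem_normalizer_iff.1 hm a).1 ha
    have e : o * m * a * (o * m)⁻¹ = (o * b * o⁻¹ * b⁻¹) * b := by rw [hb]; group
    rw [e]
    refine mul_mem (mem_sup_left ?_) (mem_sup_right hbH)
    have := commutator_mem_commutator ho hbH
    rwa [commutatorElement_def] at this
  obtain ⟨v, hv, a, ha, rfl⟩ := (Coprime.mem_sup_iff hHV).1 (hle hy.1)
  have hvN : v ∈ normalizer (H : Set G) := by
    have := (normalizer (H : Set G)).mul_mem hy.2
      ((normalizer (H : Set G)).inv_mem (Subgroup.le_normalizer ha))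
    simpa using this
  have hv1 : v = 1 := by
    refine h.fixFree hp2 Cores.not_dvd_card_pPrimeCore hOn hv fun b hb => ?_
    have h1 : v * b * v⁻¹ * b⁻¹ = 1 := by
      refine eq_one_of_mem_of_mem h.pg (R := O) Cores.not_dvd_card_pPrimeCore
        (H.mul_mem ((mem_normalizer_iff.1 hvN b).1 hb) (H.inv_mem hb)) ?_
      have : v * b * v⁻¹ * b⁻¹ = v * (b * v⁻¹ * b⁻¹) := by group
      rw [this]
      exact O.mul_mem (hVO hv) ((Cfsg.pPrimeCore_normal p G).conj_mem _ (O.inv_mem (hVO hv)) b)
    exact (mul_inv_eq_iff_eq_mul.1 (mul_inv_eq_one.1 h1)).symm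
  rw [hv1, one_mul]
  exact ha

end Cfsg.Agent.H61.ExtClosed
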