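import Cfsg.Agent.H61.ExtClosedSection
import Cfsg.Agent.CharInduce.CoprimeExt
import Cfsg.Agent.CharInduce.Transport
import Cfsg.Agent.H82.PrincipalBlock

/-!
An irreducible character whose restriction to a normal subgroup `W` of order prime to `p` is
irreducible, seen on the coset of `W` by an element `x` of order `p`: it has norm one there, so
only characters of `C_W(x)` invariant under a group centralizing `x` occur, and it is constant on
the cosets of a normal subgroup of `C_W(x)` without fixed points.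
-/

open scoped ComplexConjugate

namespace Cfsg.Agent.H61.ExtClosed

open Subgroup CharBasic

universe u

theorem sum_sq_eq {A : Type*} [Group A] [Fintype A] {f : A → ℂ} {r : ℝ}
    (h : Cfsg.classInner f f = (r : ℂ)) : ∑ a : A, ‖f a‖ ^ 2 = (Nat.card A : ℝ) * r := by
  rw [classInner_self_eq] at h
  have h1 := Complex.ofReal_injective h
  rwa [inv_mul_eq_iff_eq_mul₀ (Nat.cast_ne_zero.2 Nat.card_pos.ne')] at h1

/-- A function on a group of prime order with natural Fourier coefficients is zero away from `1`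
or has square norm at least `p - 1` there. -/
theorem norm_gap {X : Type*} [Group X] [Fintype X] {p : ℕ} [hp : Fact p.Prime]
    (hX : Nat.card X = p) (a : X → ℂ)
    (hnat : ∀ μ : Cfsg.IrrCharacter X, ∃ n : ℕ, Cfsg.classInner a (μ : X → ℂ) = n) :
    (∀ u : X, u ≠ 1 → a u = 0) ∨
      (p : ℝ) - 1 ≤ ∑ u : X, ‖a u‖ ^ 2 - ‖a 1‖ ^ 2 := by
  classical
  have := isCyclic_of_prime_card (α := X) hX
  letI : CommGroup X := IsCyclic.commGroup
  choose n hn using hnat
  have hac : Cfsg.IsClassFunction X a := fun g h => by rw [mul_comm h g, mul_inv_cancel_right]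
  have hexp : ∀ u : X, a u = ∑ μ : Cfsg.IrrCharacter X, (n μ : ℂ) * (μ : X → ℂ) u := fun u => by
    conv_lhs => rw [classFunction_expansion hac]
    simp [Finset.sum_apply, hn]
  have hcardI : Fintype.card (Cfsg.IrrCharacter X) = p := by
    have h1 := card_irrCharacter (G := X)
    rw [Nat.card_congr ConjClasses.mkEquiv.symm, hX, Nat.card_eq_fintype_card] at h1
    exact h1
  have hone : ∀ μ : Cfsg.IrrCharacter X, (μ : X → ℂ) 1 = 1 := fun μ =>
    CharInduce.IsIrr.degree_one_of_comm mul_comm μ.2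
  have hnorm : ∑ u : X, ‖a u‖ ^ 2 = (p : ℝ) * ∑ μ, ((n μ : ℝ)) ^ 2 := by
    have h1 := classInner_eq_sum (ψ := a) hac
    simp only [hn, Complex.conj_natCast] at h1
    rw [← hX]
    refine sum_sq_eq (h1.trans ?_)
    push_cast
    simp [sq]
  have hzero : ‖a 1‖ ^ 2 = (∑ μ, (n μ : ℝ)) ^ 2 := by
    rw [hexp]
    simp only [hone, mul_one]
    rw [← Nat.cast_sum, Complex.norm_natCast, Nat.cast_sum]
  obtain ⟨μ₀, -, hμ₀⟩ := Finset.exists_min_image (Finset.univ : Finset (Cfsg.IrrCharacter X)) n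
    ⟨⟨fun _ => 1, isIrrCharacter_one⟩, Finset.mem_univ _⟩
  set c := n μ₀ with hc
  let m : Cfsg.IrrCharacter X → ℝ := fun μ => (n μ : ℝ) - c
  have hm0 : ∀ μ, 0 ≤ m μ := fun μ => by
    have := hμ₀ μ (Finset.mem_univ μ)
    simp only [m, sub_nonneg]
    exact_mod_cast this
  have hdiff : ∑ u : X, ‖a u‖ ^ 2 - ‖a 1‖ ^ 2 = (p : ℝ) * ∑ μ, m μ ^ 2 - (∑ μ, m μ) ^ 2 := by
    rw [hnorm, hzero]
    simp only [m, sub_sq, Finset.sum_sub_distrib, Finset.sum_add_distrib, Finset.sum_const,
      Finset.card_univ, hcardI, nsmul_eq_mul, ← Finset.sum_mul, ← Finset.mul_sum]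
    ring
  set K := Finset.univ.filter fun μ => n μ ≠ c with hK
  rcases K.eq_empty_or_nonempty with he | hne
  · left
    intro u hu
    have hall : ∀ μ, n μ = c := fun μ => by
      by_contra h
      have : μ ∈ K := Finset.mem_filter.2 ⟨Finset.mem_univ _, h⟩
      simp [he] at this
    rw [hexp]
    simp only [hall, ← Finset.mul_sum]
    have h0 := sum_degree_mul_apply u
    simp only [hone, one_mul, if_neg hu] at h0
    rw [h0, mul_zero]
  · right
    rw [hdiff]
    have hmK : ∀ μ ∉ K, m μ = 0 := fun μ h => by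
      simp only [hK, Finset.mem_filter, Finset.mem_univ, true_and, not_not] at h
      simp [m, h]
    have h1 : ∑ μ, m μ = ∑ μ ∈ K, m μ :=
      (Finset.sum_subset (Finset.subset_univ K) fun μ _ h => hmK μ h).symm
    have h2 : ∑ μ, m μ ^ 2 = ∑ μ ∈ K, m μ ^ 2 :=
      (Finset.sum_subset (Finset.subset_univ K) fun μ _ h => by rw [hmK μ h]; ring).symm
    have h3 := sq_sum_le_card_mul_sum_sq (s := K) (f := m)
    have h4 : (K.card : ℝ) ≤ ∑ μ ∈ K, m μ ^ 2 := by
      rw [← nsmul_one K.card, ← Finset.sum_const]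
      refine Finset.sum_le_sum fun μ hμ => ?_
      have hμ' := (Finset.mem_filter.1 hμ).2
      have hle := hμ₀ μ (Finset.mem_univ μ)
      have : (1 : ℝ) ≤ m μ := by
        have : (c : ℝ) + 1 ≤ n μ := by exact_mod_cast (show c + 1 ≤ n μ by omega)
        simp only [m]; linarith
      nlinarith
    have h5 : 1 ≤ K.card := hne.card_pos
    have h6 : K.card + 1 ≤ p := by
      rw [← hcardI, Nat.succ_le_iff]
      refine Finset.card_lt_univ_of_notMem (x := μ₀) ?_
      simp [hK, hc]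
    have h5' : (1 : ℝ) ≤ K.card := by exact_mod_cast h5
    have h6' : (K.card : ℝ) + 1 ≤ p := by exact_mod_cast h6
    rw [h1, h2]
    nlinarith [mul_nonneg (sub_nonneg.2 h5') (show (0 : ℝ) ≤ (p : ℝ) - 1 - K.card by linarith)]

variable {G : Type u} [Group G] [Finite G] {p : ℕ} [hp : Fact p.Prime]

/-- A character with irreducible restriction along a homomorphism is irreducible. -/
theorem isIrr_of_comp {A B : Type*} [Group A] [Fintype A] [Group B] [Finite B] (f : A →* B)
    {χ : B → ℂ} (hχ : Cfsg.IsCharacter B χ) (h : Cfsg.IsIrrCharacter A fun a => χ (f a)) :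
    Cfsg.IsIrrCharacter B χ := by
  revert h
  refine IsChar.induction_on (p := fun χ => (Cfsg.IsIrrCharacter A fun a => χ (f a)) →
    Cfsg.IsIrrCharacter B χ) hχ (fun h => absurd rfl (IsIrr.one_ne_zero h)) ?_
  intro φ ψ hφ hψ _ h
  by_cases hψ1 : ψ 1 = 0
  · rw [CharInduce.IsChar.eq_zero_of_one_eq_zero hψ hψ1, add_zero]
    exact hφ
  exfalso
  have ha := CharInduce.IsChar.comp (IsIrr.isCharacter hφ) f
  have hb := CharInduce.IsChar.comp hψ f
  have hsum : (fun a => (φ + ψ) (f a)) = (fun a => φ (f a)) + fun a => ψ (f a) := rfl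
  have h1 := classInner_irr_self h
  rw [hsum, classInner_add_left, classInner_add_right, classInner_add_right] at h1
  obtain ⟨n1, e1⟩ := classInner_isChar_nat ha ha
  obtain ⟨n2, e2⟩ := classInner_isChar_nat ha hb
  obtain ⟨n3, e3⟩ := classInner_isChar_nat hb ha
  obtain ⟨n4, e4⟩ := classInner_isChar_nat hb hb
  rw [e1, e2, e3, e4] at h1
  have hn : n1 + n2 + (n3 + n4) = 1 := by exact_mod_cast h1
  have hn1 : n1 ≠ 0 := fun h0 => by
    rw [h0, Nat.cast_zero, classInner_self_eq_zero] at e1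
    exact IsIrr.one_ne_zero hφ (by simpa using congrFun e1 1)
  have hn4 : n4 ≠ 0 := fun h0 => by
    rw [h0, Nat.cast_zero, classInner_self_eq_zero] at e4
    exact hψ1 (by simpa using congrFun e4 1)
  omega

/-- The data of the coset argument. -/
structure Coset (p : ℕ) (H W : Subgroup G) (x : G) (χ : G → ℂ) : Prop where
  comm : ∀ a ∈ H, ∀ b ∈ H, a * b = b * a
  pg : IsPGroup p H
  norm : H ≤ normalizer (W : Set G)
  normal : W.Normal
  card : ¬ p ∣ Nat.card W
  mem : x ∈ H
  order : orderOf x = p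
  irr : Cfsg.IsIrrCharacter G χ
  res : Cfsg.IsIrrCharacter W fun w => χ w

variable {H W : Subgroup G} {x : G} {χ : G → ℂ}

/-- The norm of the character on the cosets of `W` other than `W`. -/
theorem Coset.norm_sum [Fintype G] [DecidablePred (· ∈ W)] (D : Coset p H W x χ)
    [Fintype (zpowers x)] :
    ∑ u : zpowers x, ∑ w ∈ Finset.univ.filter (· ∈ W), ‖χ ((u : G) * w)‖ ^ 2 =
      (p : ℝ) * Nat.card W := by
  classical
  have := D.normal
  let T : Subgroup G := W ⊔ zpowers x
  let _ : Fintype T := Fintype.ofFinite T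
  let _ : Fintype W := Fintype.ofFinite W
  have hX : Nat.card (zpowers x) = p := by rw [Nat.card_zpowers, D.order]
  have hd : W ⊓ zpowers x = ⊥ := by
    rw [eq_bot_iff]
    refine fun z hz => mem_bot.2 (eq_one_of_orders (p := p) (orderOf_pow_of_mem D.pg ?_)
      (not_dvd_orderOf_of_mem D.card hz.1))
    exact zpowers_le.2 D.mem hz.2
  have hn : zpowers x ≤ normalizer (W : Set G) := by rw [Subgroup.normalizer_eq_top]; exact le_top
  have hirr : Cfsg.IsIrrCharacter T fun t => χ t := by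
    refine isIrr_of_comp (Subgroup.inclusion (le_sup_left : W ≤ T))
      (CharInduce.IsChar.res (IsIrr.isCharacter D.irr) T) ?_
    simpa using D.res
  have hT : Nat.card T = Nat.card W * p := by rw [Coprime.card_sup hn hd, hX]
  have h2 : ∑ t : T, ‖χ t‖ ^ 2 = (Nat.card T : ℝ) := by
    have h := sum_sq_eq (r := 1) (by simpa using classInner_irr_self hirr)
    rw [mul_one] at h
    exact Eq.trans (by simp) h
  rw [hT] at h2
  push_cast at h2
  rw [mul_comm (p : ℝ), ← h2, ← Finset.sum_product']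
  refine Finset.sum_bij (fun q hq => (⟨(q.1 : G) * q.2, mul_mem (mem_sup_right q.1.2)
    (mem_sup_left (Finset.mem_filter.1 (Finset.mem_product.1 hq).2).2)⟩ : T))
    (fun _ _ => Finset.mem_univ _) ?_ ?_ fun _ _ => rfl
  · intro q hq r hr e
    have hq2 := (Finset.mem_filter.1 (Finset.mem_product.1 hq).2).2
    have hr2 := (Finset.mem_filter.1 (Finset.mem_product.1 hr).2).2
    have e' : (q.1 : G) * q.2 = (r.1 : G) * r.2 := congrArg Subtype.val e
    have h0 : (r.1 : G)⁻¹ * q.1 = r.2 * q.2⁻¹ := by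
      rw [eq_mul_inv_iff_mul_eq, mul_assoc, e', inv_mul_cancel_left]
    have h00 : (r.1 : G)⁻¹ * q.1 = 1 := by
      rw [← mem_bot, ← hd]
      exact ⟨h0 ▸ W.mul_mem hr2 (W.inv_mem hq2), (zpowers x).mul_mem ((zpowers x).inv_mem r.1.2) q.1.2⟩
    have h12 : (q.1 : G) = r.1 := (inv_mul_eq_one.1 h00).symm
    exact Prod.ext (Subtype.ext h12) (mul_left_cancel (h12 ▸ e' : (r.1 : G) * q.2 = r.1 * r.2))
  · intro t _
    obtain ⟨w, hw, a, ha, hwa⟩ := (Coprime.mem_sup_iff hn).1 t.2
    refine ⟨(⟨a, ha⟩, a⁻¹ * w * a), Finset.mem_product.2 ⟨Finset.mem_univ _,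
      Finset.mem_filter.2 ⟨Finset.mem_univ _, ?_⟩⟩, Subtype.ext ?_⟩
    · simpa using D.normal.conj_mem w hw a⁻¹
    · show a * (a⁻¹ * w * a) = (t : G)
      rw [← hwa]; group

/-- The sum over a coset of `W` in terms of the centralizer in `W`. -/
theorem Coset.coset_sum [Fintype G] [DecidablePred (· ∈ W)] (D : Coset p H W x χ) {u : G}
    (hu : u ∈ zpowers x) (hu1 : u ≠ 1) (L : Subgroup G) [DecidablePred (· ∈ L)]
    (hL : L = W ⊓ centralizer ({x} : Set G)) :
    (Nat.card W : ℝ) * ∑ y ∈ Finset.univ.filter (· ∈ L), ‖χ (u * y)‖ ^ 2 =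
      (Nat.card L : ℝ) * ∑ w ∈ Finset.univ.filter (· ∈ W), ‖χ (u * w)‖ ^ 2 := by
  classical
  have := D.normal
  have huH : u ∈ H := zpowers_le.2 D.mem hu
  have huk := orderOf_pow_of_mem D.pg huH
  have huc : ∀ y, y ∈ L → Commute u y := by
    intro y hy
    rw [hL] at hy
    obtain ⟨i, rfl⟩ := mem_zpowers_iff.1 hu
    exact (Commute.zpow_left (mem_centralizer_singleton_iff.1 hy.2).symm i)
  have hLW : ∀ y, y ∈ L → y ∈ W := fun y hy => by rw [hL] at hy; exact hy.1
  have hcen : ∀ o, o ∈ W → o * u = u * o → o ∈ L := by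
    intro o ho hc
    rw [hL]
    refine ⟨ho, mem_centralizer_singleton_iff.2 ?_⟩
    have hmem : x ∈ zpowers u := by
      have hX : Nat.card (zpowers x) = p := by rw [Nat.card_zpowers, D.order]
      obtain ⟨i, hi⟩ := Submonoid.mem_powers_iff _ _ |>.1
        (mem_powers_of_prime_card hX (g := (⟨u, hu⟩ : zpowers x))
          (g' := ⟨x, mem_zpowers x⟩) fun h => hu1 (congrArg Subtype.val h))
      exact ⟨i, by simpa using congrArg Subtype.val hi⟩
    obtain ⟨i, rfl⟩ := mem_zpowers_iff.1 hmem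
    exact (Commute.zpow_right (show Commute o u from hc) i).eq
  set SW := Finset.univ.filter (· ∈ W) with hSW
  set SL := Finset.univ.filter (· ∈ L) with hSL
  -- the map `(o, y) ↦ u⁻¹ o (u y) o⁻¹`
  set F : G × G → G := fun q => u⁻¹ * (q.1 * (u * q.2) * q.1⁻¹) with hF
  have hmaps : ∀ q ∈ SW ×ˢ SL, F q ∈ SW := by
    intro q hq
    simp only [hSW, hSL, Finset.mem_product, Finset.mem_filter, Finset.mem_univ, true_and] at hq ⊢
    have : F q = (u⁻¹ * q.1 * u) * (q.2 * q.1⁻¹) := by simp only [hF]; group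
    rw [this]
    refine W.mul_mem ?_ (W.mul_mem (hLW _ hq.2) (W.inv_mem hq.1))
    simpa using D.normal.conj_mem _ hq.1 u⁻¹
  have hfib : ∀ w ∈ SW, ((SW ×ˢ SL).filter fun q => F q = w).card = Nat.card L := by
    intro w hw
    simp only [hSW, Finset.mem_filter, Finset.mem_univ, true_and] at hw
    obtain ⟨o, ho, c, hc, huc', he⟩ := exists_section D.card huk
      (by rw [Subgroup.normalizer_eq_top]; trivial) hw
    have hcL : c ∈ L := hcen c hc huc'.symm
    rw [Nat.card_eq_fintype_card, Fintype.card_subtype]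
    refine Finset.card_bij (fun q _ => o⁻¹ * q.1) ?_ ?_ ?_
    · rintro ⟨o', y⟩ hq
      simp only [hSW, hSL, hF, Finset.mem_filter, Finset.mem_product, Finset.mem_univ, true_and] at hq ⊢
      obtain ⟨⟨ho', hy⟩, hq⟩ := hq
      refine hcen _ (W.mul_mem (W.inv_mem ho) ho') ?_
      have e1 : o' * (u * y) * o'⁻¹ = o * (u * c) * o⁻¹ := by
        rw [← he, ← hq, mul_inv_cancel_left]
      have e2 := congrArg (BlockBasic.pPart (p := p)) e1
      rw [BlockBasic.pPart_conj, BlockBasic.pPart_conj,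
        BlockBasic.pPart_mul_of (huc y hy) huk (not_dvd_orderOf_of_mem D.card (hLW y hy)),
        BlockBasic.pPart_mul_of (huc c hcL) huk (not_dvd_orderOf_of_mem D.card hc)] at e2
      calc o⁻¹ * o' * u = o⁻¹ * (o' * u * o'⁻¹) * o' := by group
        _ = o⁻¹ * (o * u * o⁻¹) * o' := by rw [e2]
        _ = u * (o⁻¹ * o') := by group
    · rintro ⟨o', y⟩ hq ⟨o'', y'⟩ hq' e
      simp only [hSW, hSL, hF, Finset.mem_filter, Finset.mem_product, Finset.mem_univ, true_and] at hq hq'
      have hoo : o' = o'' := mul_left_cancel e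
      subst hoo
      have := hq.2.trans hq'.2.symm
      simpa using this
    · intro l hl
      simp only [Finset.mem_filter, Finset.mem_univ, true_and] at hl
      refine ⟨(o * l, l⁻¹ * c * l), ?_, by simp⟩
      simp only [hSW, hSL, hF, Finset.mem_filter, Finset.mem_product, Finset.mem_univ, true_and]
      refine ⟨⟨W.mul_mem ho (hLW l hl), L.mul_mem (L.mul_mem (L.inv_mem hl) hcL) hl⟩, ?_⟩
      have hul := (huc l hl).eq
      have : o * l * (u * (l⁻¹ * c * l)) * (o * l)⁻¹ = o * (u * c) * o⁻¹ := by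
        calc o * l * (u * (l⁻¹ * c * l)) * (o * l)⁻¹ = o * ((l * u) * l⁻¹ * c) * o⁻¹ := by group
          _ = _ := by rw [← hul]; group
      rw [this, ← he, inv_mul_cancel_left]
  have hval : ∀ q ∈ SW ×ˢ SL, ‖χ (u * F q)‖ ^ 2 = ‖χ (u * q.2)‖ ^ 2 := fun q _ => by
    simp only [hF, mul_inv_cancel_left, IsIrr.isClassFunction D.irr _ _]
  have h1 : ∑ q ∈ SW ×ˢ SL, ‖χ (u * F q)‖ ^ 2 =
      (Nat.card L : ℝ) * ∑ w ∈ SW, ‖χ (u * w)‖ ^ 2 := by
    rw [← Finset.sum_fiberwise_of_maps_to hmaps, Finset.mul_sum]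
    refine Finset.sum_congr rfl fun w hw => ?_
    rw [Finset.sum_congr rfl (g := fun _ => ‖χ (u * w)‖ ^ 2) fun q hq => by
      rw [(Finset.mem_filter.1 hq).2], Finset.sum_const, hfib w hw, nsmul_eq_mul]
  rw [← h1, Finset.sum_congr rfl hval, Finset.sum_product]
  dsimp only
  rw [Finset.sum_const, nsmul_eq_mul, hSW, Nat.card_eq_fintype_card, Fintype.card_subtype]

/-- The character is constant on `u M` for a normal subgroup `M` of `C_W(x)` without fixed
points. -/
theorem Coset.const_on (D : Coset p H W x χ) (M : Subgroup G)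
    (hML : M ≤ W ⊓ centralizer ({x} : Set G))
    (hMn : W ⊓ centralizer ({x} : Set G) ≤ normalizer (M : Set G)) (hMH : H ≤ normalizer (M : Set G))
    (hMfix : ∀ m ∈ M, (∀ a ∈ H, a * m = m * a) → m = 1)
    {u : G} (hu : u ∈ zpowers x) (hu1 : u ≠ 1) {m : G} (hm : m ∈ M) : χ (u * m) = χ u := by
  classical
  cases nonempty_fintype G
  have := D.normal
  set L := W ⊓ centralizer ({x} : Set G) with hLdef
  let _ : Fintype L := Fintype.ofFinite L
  let _ : Fintype (zpowers x) := Fintype.ofFinite _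
  let ψ : zpowers x → L → ℂ := fun v y => χ ((v : G) * y)
  have hcomm : ∀ (v : zpowers x) (y : L), Commute (v : G) (y : G) := by
    intro v y
    obtain ⟨i, hi⟩ := mem_zpowers_iff.1 v.2
    rw [← hi]
    exact Commute.zpow_left (mem_centralizer_singleton_iff.1 y.2.2).symm i
  have hψc : ∀ v, Cfsg.IsClassFunction L (ψ v) := by
    intro v g h
    show χ ((v : G) * ((h * g * h⁻¹ : L) : G)) = χ ((v : G) * g)
    rw [show ((h * g * h⁻¹ : L) : G) = (h : G) * g * (h : G)⁻¹ by simp,
      ← IsIrr.isClassFunction D.irr ((v : G) * g) (h : G)]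
    congr 1
    rw [← mul_assoc (h : G), ← (hcomm v h).eq]
    group
  -- Fourier coefficients
  let cf : Cfsg.IrrCharacter L → zpowers x → ℂ := fun φ v => Cfsg.classInner (ψ v) (φ : L → ℂ)
  have hnat : ∀ φ : Cfsg.IrrCharacter L, ∀ μ : Cfsg.IrrCharacter (zpowers x),
      ∃ n : ℕ, Cfsg.classInner (cf φ) (μ : zpowers x → ℂ) = n := by
    intro φ μ
    let Φ : zpowers x × L →* G := MonoidHom.noncommCoprod (zpowers x).subtype L.subtype hcomm
    have hf := CharInduce.IsChar.comp (IsIrr.isCharacter D.irr) Φ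
    obtain ⟨l, hl⟩ := CharInduce.IsChar.exists_hom_of_degree_one (IsIrr.isCharacter μ.2)
      (CharInduce.IsIrr.degree_one_of_comm (fun a b => Subtype.ext (by
        obtain ⟨i, hi⟩ := mem_zpowers_iff.1 a.2
        obtain ⟨j, hj⟩ := mem_zpowers_iff.1 b.2
        show (a : G) * b = b * a
        rw [← hi, ← hj, zpow_mul_comm])) μ.2)
    have hξ := CharInduce.isIrr_hom_mul
      (CharInduce.IsIrr.comp φ.2 (MonoidHom.snd (zpowers x) L) fun y => ⟨(1, y), rfl⟩)
      (l.comp (MonoidHom.fst (zpowers x) L))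
    obtain ⟨n, hn⟩ := classInner_isChar_nat hf (IsIrr.isCharacter hξ)
    refine ⟨n, ?_⟩
    rw [← hn]
    simp only [cf, ψ, classInner_def, Nat.card_prod, Nat.cast_mul, mul_inv, Fintype.sum_prod_type,
      Finset.mul_sum, Finset.sum_mul, hl, map_mul]
    refine Finset.sum_congr rfl fun v _ => Finset.sum_congr rfl fun y _ => ?_
    simp only [Φ, Subgroup.coe_subtype, MonoidHom.coe_comp,
      Function.comp_apply, MonoidHom.coe_fst, MonoidHom.coe_snd]
    rw [show ((zpowers x).subtype.noncommCoprod L.subtype hcomm) (v, y) = (v : G) * y from rfl]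
    ring
  -- the total norm
  have hX : Nat.card (zpowers x) = p := by rw [Nat.card_zpowers, D.order]
  have htot : ∑ φ : Cfsg.IrrCharacter L,
      ((∑ v : zpowers x, ‖cf φ v‖ ^ 2) - ‖cf φ 1‖ ^ 2) = (p : ℝ) - 1 := by
    have hpar : ∀ v : zpowers x, ∑ φ : Cfsg.IrrCharacter L, ‖cf φ v‖ ^ 2 =
        (Nat.card L : ℝ)⁻¹ * ∑ y : L, ‖χ ((v : G) * y)‖ ^ 2 := by
      intro v
      have h1 := classInner_eq_sum (ψ := ψ v) (hψc v)
      rw [classInner_self_eq] at h1
      simp only [Complex.mul_conj'] at h1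
      exact_mod_cast h1.symm
    rw [Finset.sum_sub_distrib, Finset.sum_comm, Finset.sum_congr rfl fun v _ => hpar v, hpar 1,
      ← Finset.mul_sum, ← mul_sub]
    have hsub : ∀ v : G, ∑ y : L, ‖χ (v * y)‖ ^ 2 =
        ∑ y ∈ Finset.univ.filter (· ∈ L), ‖χ (v * y)‖ ^ 2 := fun v =>
      (Finset.sum_subtype (Finset.univ.filter (· ∈ L)) (fun z => by simp) fun z => ‖χ (v * z)‖ ^ 2).symm
    have hWne : (Nat.card W : ℝ) ≠ 0 := Nat.cast_ne_zero.2 Nat.card_pos.ne'
    have hLne : (Nat.card L : ℝ) ≠ 0 := Nat.cast_ne_zero.2 Nat.card_pos.ne'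
    have hW1 : ∑ w ∈ Finset.univ.filter (· ∈ W), ‖χ (((1 : zpowers x) : G) * w)‖ ^ 2 =
        (Nat.card W : ℝ) := by
      let _ : Fintype W := Fintype.ofFinite W
      rw [OneMemClass.coe_one]
      have e : ∑ w ∈ Finset.univ.filter (· ∈ W), ‖χ (1 * w)‖ ^ 2 = ∑ z : W, ‖χ (1 * z)‖ ^ 2 :=
        Finset.sum_subtype (Finset.univ.filter (· ∈ W)) (fun z => by simp) fun z => ‖χ (1 * z)‖ ^ 2
      rw [e]
      have h := sum_sq_eq (A := W) (r := 1) (by simpa using classInner_irr_self D.res)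
      rw [mul_one] at h
      exact Eq.trans (by simp) h
    have hN := D.norm_sum
    rw [← Finset.sum_erase_add _ _ (Finset.mem_univ (1 : zpowers x)), hW1] at hN
    rw [← Finset.sum_erase_add _ _ (Finset.mem_univ (1 : zpowers x)), add_sub_cancel_right,
      Finset.mul_sum]
    have key : ∀ v ∈ Finset.univ.erase (1 : zpowers x),
        (Nat.card L : ℝ)⁻¹ * ∑ y : L, ‖χ ((v : G) * y)‖ ^ 2 =
          (Nat.card W : ℝ)⁻¹ * ∑ w ∈ Finset.univ.filter (· ∈ W), ‖χ ((v : G) * w)‖ ^ 2 := by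
      intro v hv
      have h := D.coset_sum v.2 (fun h => (Finset.mem_erase.1 hv).1 (Subtype.ext h)) L hLdef
      rw [← hsub] at h
      field_simp
      linarith [h]
    rw [Finset.sum_congr rfl key, ← Finset.mul_sum]
    field_simp
    linarith [hN]
  -- moved characters do not occur
  have hstab : ∀ a : H, ∀ y : L, (a : G) * y * (a : G)⁻¹ ∈ L := by
    intro a y
    refine ⟨(mem_normalizer_iff.1 (D.norm a.2) y).1 y.2.1, mem_centralizer_singleton_iff.2 ?_⟩
    have h1 : Commute (a : G) x := D.comm _ a.2 _ D.mem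
    have h2 : Commute (y : G) x := mem_centralizer_singleton_iff.1 y.2.2
    exact ((h1.mul_left h2).mul_left h1.inv_left).eq
  have hinv : ∀ φ : Cfsg.IrrCharacter L, (∃ v : zpowers x, v ≠ 1 ∧ cf φ v ≠ 0) →
      ∀ (a : H) (y : L), (φ : L → ℂ) ⟨(a : G) * y * (a : G)⁻¹, hstab a y⟩ = (φ : L → ℂ) y := by
    rintro φ ⟨v, hv1, hv⟩ a
    by_contra hne
    push Not at hne
    obtain ⟨y, hy⟩ := hne
    let e : MulAut L :=
      { toFun := fun z => ⟨(a : G) * z * (a : G)⁻¹, hstab a z⟩
        invFun := fun z => ⟨((a⁻¹ : H) : G) * z * ((a⁻¹ : H) : G)⁻¹, hstab a⁻¹ z⟩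
        left_inv := fun z => Subtype.ext (by simp [mul_assoc])
        right_inv := fun z => Subtype.ext (by simp [mul_assoc])
        map_mul' := fun z z' => Subtype.ext (by simp [mul_assoc]) }
    set φ' := H80.twist φ e with hφ'
    have hne' : φ' ≠ φ := fun h =>
      hy (congrArg (fun f : Cfsg.IrrCharacter L => (f : L → ℂ) y) h)
    have hsame : ∀ w : zpowers x, cf φ' w = cf φ w := by
      intro w
      simp only [cf, classInner_def]
      congr 1
      refine Fintype.sum_equiv e.toEquiv _ _ fun z => ?_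
      show ψ w z * conj ((φ : L → ℂ) (e z)) = ψ w (e z) * conj ((φ : L → ℂ) (e z))
      congr 1
      show χ ((w : G) * z) = χ ((w : G) * ((a : G) * z * (a : G)⁻¹))
      rw [← IsIrr.isClassFunction D.irr ((w : G) * z) (a : G)]
      congr 1
      have haw : (a : G) * w = w * a := D.comm _ a.2 _ (zpowers_le.2 D.mem w.2)
      rw [← mul_assoc, haw]
      group
    rcases norm_gap hX (cf φ) (hnat φ) with h0 | hbig
    · exact hv (h0 v hv1)
    have hbig' : (p : ℝ) - 1 ≤ (∑ v : zpowers x, ‖cf φ' v‖ ^ 2) - ‖cf φ' 1‖ ^ 2 := by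
      simpa [hsame] using hbig
    have hpos : ∀ θ : Cfsg.IrrCharacter L, θ ∈ (Finset.univ : Finset _) →
        0 ≤ (∑ v : zpowers x, ‖cf θ v‖ ^ 2) - ‖cf θ 1‖ ^ 2 := fun θ _ =>
      sub_nonneg.2 (Finset.single_le_sum (f := fun v => ‖cf θ v‖ ^ 2) (fun _ _ => sq_nonneg _)
        (Finset.mem_univ _))
    have hsum := Finset.sum_le_sum_of_subset_of_nonneg
      (Finset.subset_univ ({φ, φ'} : Finset (Cfsg.IrrCharacter L))) fun θ hθ _ => hpos θ hθ
    rw [Finset.sum_pair (Ne.symm hne'), htot] at hsum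
    have : (2 : ℝ) ≤ p := by exact_mod_cast hp.out.two_le
    linarith
  -- invariant characters are trivial on `M`
  have hMtriv : ∀ φ : Cfsg.IrrCharacter L,
      (∀ (a : H) (y : L), (φ : L → ℂ) ⟨(a : G) * y * (a : G)⁻¹, hstab a y⟩ = (φ : L → ℂ) y) →
      ∀ y : L, (y : G) ∈ M → (φ : L → ℂ) y = (φ : L → ℂ) 1 := by
    intro φ hφ y hy
    have hMn' : (M.subgroupOf L).Normal := (Subgroup.normal_subgroupOf_iff_le_normalizer hML).2 hMn
    refine H82.eq_one_of_sum_ne_zero (M.subgroupOf L) φ.2 ?_ hy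
    intro hsum
    obtain ⟨Mo, hMo⟩ := BlockBasic.exists_isPModular hp.out
    haveI := H80.charP_quot Mo hMo
    set q := Ideal.Quotient.mk Mo
    obtain ⟨d, -, hd⟩ := IsIrr.exists_degree φ.2
    letI : MulAction H {z : L // z ∈ M.subgroupOf L} :=
      { smul := fun a z => ⟨⟨(a : G) * (z.1 : G) * (a : G)⁻¹, hstab a z.1⟩,
          (mem_normalizer_iff.1 (hMH a.2) _).1 z.2⟩
        one_smul := fun z => Subtype.ext (Subtype.ext (by
          show ((1 : H) : G) * (z.1 : G) * ((1 : H) : G)⁻¹ = _; simp))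
        mul_smul := fun a b z => Subtype.ext (Subtype.ext (by
          show ((a * b : H) : G) * (z.1 : G) * ((a * b : H) : G)⁻¹ =
            (a : G) * ((b : G) * (z.1 : G) * (b : G)⁻¹) * (a : G)⁻¹
          simp [mul_assoc])) }
    have hs := H80.sum_eq_sum_fixed D.pg
      (fun z : {z : L // z ∈ M.subgroupOf L} => q (H80.valInt φ z.1))
      (fun a z => congrArg q (Subtype.ext (hφ a z.1)))
    have hfx : (Finset.univ.filter fun z : {z : L // z ∈ M.subgroupOf L} => ∀ a : H, a • z = z) =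
        {⟨1, one_mem _⟩} := by
      ext z
      simp only [Finset.mem_filter, Finset.mem_univ, true_and, Finset.mem_singleton]
      refine ⟨fun hz => Subtype.ext (Subtype.ext (hMfix _ z.2 fun a ha => ?_)), ?_⟩
      · have h := congrArg (fun w : {z : L // z ∈ M.subgroupOf L} => (w.1 : G)) (hz ⟨a, ha⟩)
        exact mul_inv_eq_iff_eq_mul.1 h
      · rintro rfl a
        exact Subtype.ext (Subtype.ext (show (a : G) * 1 * (a : G)⁻¹ = 1 by simp))
    rw [hfx, Finset.sum_singleton, ← map_sum, H80.valInt_one hd] at hs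
    have h0 : (∑ z : {z : L // z ∈ M.subgroupOf L}, H80.valInt φ z.1) = 0 := by
      apply Subtype.ext
      push_cast
      rw [← hsum]
      simp only [H80.valInt_coe]
      exact (Finset.sum_subtype (Finset.univ.filter (· ∈ M.subgroupOf L)) (fun z => by simp)
        fun z => (φ : L → ℂ) z).symm
    rw [h0, map_zero, eq_comm, Ideal.Quotient.eq_zero_iff_mem,
      BlockBasic.natCast_mem_iff hMo] at hs
    have hLW : ¬ p ∣ Nat.card L := fun h =>
      D.card (h.trans (Subgroup.card_dvd_of_le inf_le_left))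
    exact H80.not_dvd_degree hp.out hLW φ hd hs
  -- conclusion
  have hexp := classFunction_expansion (hψc ⟨u, hu⟩)
  have hval : ∀ y : L, χ (u * y) =
      ∑ φ : Cfsg.IrrCharacter L, cf φ ⟨u, hu⟩ * (φ : L → ℂ) y := fun y => by
    have h := congrFun hexp y
    simpa [Finset.sum_apply, ψ, cf] using h
  have hmL : m ∈ L := hML hm
  have h1 := hval ⟨m, hmL⟩
  have h2 := hval 1
  simp only [OneMemClass.coe_one, mul_one] at h2
  rw [h1, h2]
  refine Finset.sum_congr rfl fun φ _ => ?_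
  by_cases hz : cf φ ⟨u, hu⟩ = 0
  · rw [hz, zero_mul, zero_mul]
  · rw [hMtriv φ (hinv φ ⟨⟨u, hu⟩, fun h => hu1 (congrArg Subtype.val h), hz⟩) ⟨m, hmL⟩ hm]

end Cfsg.Agent.H61.ExtClosed
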