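import Cfsg.Agent.H61.ExtClosedBasic
import Cfsg.Agent.H80.Glauberman

/-!
A coset of a normal subgroup of order prime to `p` by a `p`-element lies in the `p`-section of that
element; the double sum over a conjugacy class seen through the pair complements.
-/

namespace Cfsg.Agent.H61.ExtClosed

open Subgroup

universe u

variable {G : Type u} [Group G] [Finite G] {p : ℕ} [hp : Fact p.Prime] {H : Subgroup G}

/-- An element `z r` is conjugate to some `z c` with `c` centralizing `z`. -/
theorem exists_section {R : Subgroup G} (hR : ¬ p ∣ Nat.card R) {z : G}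
    (hz : ∃ k, orderOf z = p ^ k) (hzR : z ∈ normalizer (R : Set G)) {r : G} (hr : r ∈ R) :
    ∃ o ∈ R, ∃ c ∈ R, z * c = c * z ∧ z * r = o * (z * c) * o⁻¹ := by
  classical
  set Z := zpowers z with hZdef
  have hZn : Z ≤ normalizer (R : Set G) := zpowers_le.2 hzR
  have hZp : IsPGroup p Z := by
    obtain ⟨k, hk⟩ := hz
    exact IsPGroup.of_card (n := k) (by rw [Nat.card_zpowers, hk])
  have hd : R ⊓ Z = ⊥ := by
    rw [eq_bot_iff]
    exact fun x hx => mem_bot.2 (eq_one_of_mem_of_mem hZp hR hx.2 hx.1)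
  set T := R ⊔ Z with hTdef
  have hcard : Nat.card T = Nat.card R * Nat.card Z := Coprime.card_sup hZn hd
  set P : Subgroup T := Z.subgroupOf T with hPdef
  have hPp : IsPGroup p P := hZp.comap_of_injective T.subtype T.subtype_injective
  have hPc : Nat.card P = Nat.card Z :=
    Nat.card_congr (Subgroup.subgroupOfEquivOfLe (le_sup_right : Z ≤ T)).toEquiv
  have hidx : ¬ p ∣ P.index := by
    intro h
    apply hR
    have h1 := P.card_mul_index
    rw [hPc, hcard, mul_comm (Nat.card R)] at h1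
    rwa [Nat.eq_of_mul_eq_mul_left Nat.card_pos h1] at h
  let S : Sylow p T := hPp.toSylow hidx
  have hSP : (S : Subgroup T) = P := IsPGroup.toSylow_coe hPp hidx
  set g := z * r with hg
  have hgT : g ∈ T := mul_mem (mem_sup_right (mem_zpowers z)) (mem_sup_left hr)
  set v := BlockBasic.pPart (p := p) g with hv
  set s := BlockBasic.pReg (p := p) g with hs
  have hvs : v * s = g := BlockBasic.pPart_mul_pReg g
  have hcomm : Commute v s := BlockBasic.commute_pPart_pReg g
  have hvT : v ∈ T := by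
    have h1 : BlockBasic.pPart (p := p) (⟨g, hgT⟩ : T) = _ := rfl
    obtain ⟨y, hy, hcy, hk, hn⟩ := BlockBasic.isPPart_pPart (p := p) (⟨g, hgT⟩ : T)
    have h2 : v = ((BlockBasic.pPart (p := p) (⟨g, hgT⟩ : T) : T) : G) := by
      refine BlockBasic.pPart_eq_of_isPPart ⟨(y : G), congrArg Subtype.val hy,
        congrArg Subtype.val hcy.eq, ?_, ?_⟩
      · simpa only [Subgroup.orderOf_coe] using hk
      · simpa only [Subgroup.orderOf_coe] using hn
    rw [h2]
    exact SetLike.coe_mem _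
  have hsT : s ∈ T := by
    have : s = v⁻¹ * g := by rw [← hvs]; group
    rw [this]; exact mul_mem (inv_mem hvT) hgT
  have hsR : s ∈ R := by
    obtain ⟨n, hn, a, ha, hna⟩ := (Coprime.mem_sup_iff hZn).1 hsT
    obtain ⟨k, hk⟩ := orderOf_pow_of_mem hZp ha
    -- the image of `s` modulo `R` is a `p`-element of order prime to `p`
    set Q := R.subgroupOf T with hQ
    have hQn : Q.Normal := Subgroup.normal_subgroupOf_iff_le_normalizer le_sup_left |>.2
      (sup_le Subgroup.le_normalizer hZn)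
    set sT : T := ⟨s, hsT⟩
    set aT : T := ⟨a, mem_sup_right ha⟩
    have hsa : QuotientGroup.mk' Q sT = QuotientGroup.mk' Q aT := by
      have e : sT = ⟨n, mem_sup_left hn⟩ * aT := Subtype.ext hna.symm
      rw [e, map_mul]
      have h0 : QuotientGroup.mk' Q (⟨n, mem_sup_left hn⟩ : T) = 1 :=
        (QuotientGroup.eq_one_iff _).2 hn
      rw [h0, one_mul]
    have h1 : QuotientGroup.mk' Q sT = 1 := by
      refine eq_one_of_orders (p := p) ?_ ?_
      · rw [hsa]
        obtain ⟨j, -, hj⟩ := (Nat.dvd_prime_pow hp.out).1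
          (((orderOf_map_dvd (QuotientGroup.mk' Q) aT).trans
            (dvd_of_eq ((Subgroup.orderOf_coe aT).symm.trans hk))))
        exact ⟨j, hj⟩
      · intro hdvd
        refine BlockBasic.not_dvd_orderOf_pReg (p := p) g ?_
        show p ∣ orderOf s
        have : orderOf sT = orderOf s := (Subgroup.orderOf_coe sT).symm
        exact this ▸ hdvd.trans (orderOf_map_dvd (QuotientGroup.mk' Q) sT)
    exact (QuotientGroup.eq_one_iff sT).1 h1
  set Vs : Subgroup T := zpowers (⟨v, hvT⟩ : T)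
  have hVp : IsPGroup p Vs := by
    obtain ⟨k, hk⟩ := BlockBasic.exists_orderOf_pPart (p := p) g
    exact IsPGroup.of_card (n := k) (by rw [Nat.card_zpowers, Subgroup.orderOf_mk]; exact hk)
  obtain ⟨S', hS'⟩ := hVp.exists_le_sylow
  obtain ⟨t, ht⟩ := MulAction.exists_smul_eq T S S'
  have hvmem : (⟨v, hvT⟩ : T) ∈ ((t • S : Sylow p T) : Subgroup T) := by
    rw [ht]; exact hS' (mem_zpowers _)
  obtain ⟨w, hw, hwv⟩ := hvmem
  have hwZ : (w : G) ∈ Z := (show w ∈ P from hSP ▸ hw)
  obtain ⟨o, ho, a, ha, hoa⟩ := (Coprime.mem_sup_iff hZn).1 t.2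
  have hwv' : (t : G) * (w : G) * (t : G)⁻¹ = v := congrArg Subtype.val hwv
  have hcw : a * (w : G) * a⁻¹ = (w : G) := by
    obtain ⟨i, rfl⟩ := mem_zpowers_iff.1 ha
    obtain ⟨j, hj⟩ := mem_zpowers_iff.1 hwZ
    rw [← hj, ← zpow_add, ← zpow_neg, ← zpow_add]
    congr 1
    ring
  have hv' : v = o * (w : G) * o⁻¹ := by
    rw [← hwv', ← hoa]
    conv_rhs => rw [← hcw]
    group
  have hwz : (w : G) = z := by
    refine (inv_mul_eq_one.1 (eq_one_of_mem_of_mem hZp hR
      (Z.mul_mem (Z.inv_mem (mem_zpowers z)) hwZ) ?_)).symm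
    have h1 : z⁻¹ * v ∈ R := by
      have : z⁻¹ * v = r * s⁻¹ := by
        rw [eq_mul_inv_iff_mul_eq, mul_assoc, hvs, hg, inv_mul_cancel_left]
      rw [this]; exact R.mul_mem hr (R.inv_mem hsR)
    have hw' : (w : G) ∈ normalizer (R : Set G) := hZn hwZ
    have h2 : z⁻¹ * (w : G) = (z⁻¹ * v) * (o * ((w : G)⁻¹ * o⁻¹ * (w : G))) := by
      rw [hv']; group
    rw [h2]
    exact R.mul_mem h1 (R.mul_mem ho (Coprime.conj_mem' hw' (R.inv_mem ho)))
  refine ⟨o, ho, o⁻¹ * s * o, R.mul_mem (R.mul_mem (R.inv_mem ho) hsR) ho, ?_, ?_⟩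
  · have h1 := hcomm.eq
    rw [hv', hwz] at h1
    calc z * (o⁻¹ * s * o) = o⁻¹ * ((o * z * o⁻¹) * s) * o := by group
      _ = o⁻¹ * (s * (o * z * o⁻¹)) * o := by rw [h1]
      _ = o⁻¹ * s * o * z := by group
  · show g = _
    rw [← hvs, hv', hwz]
    group

end Cfsg.Agent.H61.ExtClosed
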