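import Mathlib

/-!
A criterion for a permutation group of prime power degree `p ^ k` to be nonsolvable: it is primitive
and has an element whose number of fixed points is neither `0`, `1` nor divisible by `p`. Primitivity
of a group containing a full cycle is tested on residue classes.
-/

set_option autoImplicit false

namespace Cfsg.Agent.H61.FreePair

open Equiv MulAction
open scoped Pointwise

theorem not_solvable_of_fixed {X : Type*} [Finite X] [Nontrivial X] (H : Subgroup (Perm X))
    [hprim : IsPreprimitive H X] {p k : ℕ} (hp : p.Prime) (hX : Nat.card X = p ^ k) {g : Perm X}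
    (hg : g ∈ H) (hf1 : Nat.card {x // g x = x} ≠ 1) (hfp : ¬ p ∣ Nat.card {x // g x = x}) :
    ¬ Group.IsSolvable H := by
  classical
  intro hs
  haveI : FaithfulSMul H X := ⟨fun {a b} h => Subtype.ext (Equiv.ext h)⟩
  have hne : Nontrivial H := by
    obtain ⟨x, y, hxy⟩ := exists_pair_ne X
    obtain ⟨a, ha⟩ := exists_smul_eq H x y
    exact ⟨⟨a, 1, fun e => hxy (by rw [← ha, e, one_smul])⟩⟩
  -- the last nontrivial derived subgroup
  obtain ⟨N, hNn, hN1, hNc⟩ : ∃ N : Subgroup H, N.Normal ∧ N ≠ ⊥ ∧ ⁅N, N⁆ = ⊥ := by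
    obtain ⟨n, hn⟩ := hs.solvable
    induction n with
    | zero => exact absurd hn (by simpa using (top_ne_bot (α := Subgroup H)))
    | succ n ih =>
      by_cases h : derivedSeries H n = ⊥
      · exact ih h
      · exact ⟨derivedSeries H n, derivedSeries_normal H n, h, by rw [← derivedSeries_succ]; exact hn⟩
  haveI := hNn
  have hfix : fixedPoints N X ≠ Set.univ := by
    intro h
    apply hN1
    rw [eq_bot_iff]
    intro a ha
    rw [Subgroup.mem_bot]
    exact eq_of_smul_eq_smul fun x : X => by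
      rw [one_smul]; exact mem_fixedPoints.1 (h.symm ▸ Set.mem_univ x) ⟨a, ha⟩
  haveI htr : IsPretransitive N X := IsQuasiPreprimitive.isPretransitive_of_normal hfix
  have hab : ∀ a ∈ N, ∀ b ∈ N, a * b = b * a := fun a ha b hb =>
    Subgroup.mem_centralizer_iff.1 ((Subgroup.commutator_eq_bot_iff_le_centralizer.1 hNc) hb) a ha
  have hfree : ∀ a ∈ N, ∀ x : X, a • x = x → a = 1 := by
    intro a ha x hx
    refine eq_of_smul_eq_smul fun y : X => ?_
    obtain ⟨⟨b, hb⟩, hby⟩ := exists_smul_eq N x y
    rw [one_smul, ← hby]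
    show a • b • x = b • x
    rw [smul_smul, hab a ha b hb, mul_smul, hx]
  obtain ⟨c⟩ : Nonempty {x // g x = x} := by
    by_contra h
    rw [not_nonempty_iff] at h
    exact hfp (by rw [Nat.card_eq_zero.2 (Or.inl h)]; exact dvd_zero p)
  set g' : H := ⟨g, hg⟩ with hg'
  set C : Subgroup N := (Subgroup.centralizer ({g'} : Set H)).subgroupOf N with hC
  have hcardN : Nat.card N = Nat.card X := by
    refine Nat.card_congr (Equiv.ofBijective (fun a : N => a • (c : X)) ⟨fun a b h => ?_, fun y => ?_⟩)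
    · have h' : ((b : H)⁻¹ * (a : H)) • (c : X) = c := by
        rw [mul_smul]; show (b : H)⁻¹ • (a • (c : X)) = c
        rw [show a • (c : X) = b • (c : X) from h]; exact inv_smul_smul (b : H) (c : X)
      exact Subtype.ext (inv_mul_eq_one.1 (hfree _ (N.mul_mem (N.inv_mem b.2) a.2) _ h')).symm
    · exact exists_smul_eq N (c : X) y
  have hcardC : Nat.card C = Nat.card {x // g x = x} := by
    refine Nat.card_congr (Equiv.ofBijective (fun a : C => (⟨((a : N) : H) • (c : X), ?_⟩ : {x // g x = x}))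
      ⟨fun a b h => ?_, fun y => ?_⟩)
    · show g' • ((a : N) : H) • (c : X) = _
      rw [smul_smul, ← Subgroup.mem_centralizer_singleton_iff.1 (Subgroup.mem_subgroupOf.1 (hC ▸ a.2)), mul_smul]
      exact congrArg _ c.2
    · have h' : (((b : N) : H)⁻¹ * ((a : N) : H)) • (c : X) = c := by
        rw [mul_smul, show ((a : N) : H) • (c : X) = ((b : N) : H) • (c : X) from congrArg Subtype.val h]; exact inv_smul_smul _ _
      exact Subtype.ext (Subtype.ext
        (inv_mul_eq_one.1 (hfree _ (N.mul_mem (N.inv_mem b.1.2) a.1.2) _ h')).symm)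
    · obtain ⟨a, ha⟩ := exists_smul_eq N (c : X) (y : X)
      have haC : a ∈ C := by
        rw [hC, Subgroup.mem_subgroupOf, Subgroup.mem_centralizer_singleton_iff]
        have h1 := hNn.conj_mem a a.2 g'
        have h2 : ((a : H)⁻¹ * (g' * a * g'⁻¹)) • (c : X) = c := by
          have hc : g'⁻¹ • (c : X) = c := by rw [inv_smul_eq_iff]; exact c.2.symm
          rw [mul_smul, mul_smul, mul_smul, hc, show (a : H) • (c : X) = y from ha,
            show g' • (y : X) = y from y.2, inv_smul_eq_iff]
          exact ha.symm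
        have h3 := inv_mul_eq_one.1 (hfree _ (N.mul_mem (N.inv_mem a.2) h1) _ h2)
        rw [eq_mul_inv_iff_mul_eq] at h3
        exact h3
      exact ⟨⟨a, haC⟩, Subtype.ext ha⟩
  obtain ⟨j, -, hj⟩ := (Nat.dvd_prime_pow hp).1
    ((hX ▸ hcardN ▸ hcardC ▸ Subgroup.card_subgroup_dvd_card C : Nat.card {x // g x = x} ∣ p ^ k))
  cases j with
  | zero => exact hf1 (by rw [hj, pow_zero])
  | succ j => exact hfp (hj ▸ dvd_pow_self p j.succ_ne_zero)

theorem finRotate_pow_val {m : ℕ} [NeZero m] (i : ℕ) (x : Fin m) :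
    ((finRotate m ^ i) x).val = (x.val + i) % m := by
  induction i with
  | zero => simp [Nat.mod_eq_of_lt x.isLt]
  | succ i ih =>
    rw [pow_succ', Perm.mul_apply, finRotate_apply, Fin.val_add, ih, Fin.val_one']
    rw [← Nat.add_mod, ← Nat.add_assoc]

/-- Primitivity of a group containing the full cycle, tested on residue classes. -/
theorem isPreprimitive_of_residues {m : ℕ} (hm : 2 ≤ m) (H : Subgroup (Perm (Fin m)))
    (hu : finRotate m ∈ H)
    (hres : ∀ d : ℕ, d ∣ m → 1 < d → d < m →
      ∃ g ∈ H, ∃ i j : Fin m, i.val % d = j.val % d ∧ (g i).val % d ≠ (g j).val % d) :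
    IsPreprimitive H (Fin m) := by
  classical
  haveI : NeZero m := ⟨by omega⟩
  set z : Fin m := ⟨0, by omega⟩ with hz
  set R : ℕ → H := fun i => ⟨finRotate m ^ i, H.pow_mem hu i⟩ with hR
  have hRv : ∀ i (x : Fin m), (R i • x).val = (x.val + i) % m := fun i x => finRotate_pow_val i x
  have hRz : ∀ i, i < m → R i • z = ⟨i % m, Nat.mod_lt _ (by omega)⟩ := fun i _ =>
    Fin.ext (by rw [hRv]; simp [hz])
  haveI : IsPretransitive H (Fin m) :=
    (MulAction.isPretransitive_iff_base z).2 fun y => ⟨R y.val, Fin.ext (by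
      rw [hRv]; simp [hz, Nat.mod_eq_of_lt y.isLt])⟩
  refine IsPreprimitive.of_isTrivialBlock_base z fun {B} hzB hB => ?_
  have hmem : ∀ i : ℕ, (⟨i % m, Nat.mod_lt _ (by omega)⟩ : Fin m) ∈ B → R i • B = B := fun i hi => by
    refine hB.smul_eq_of_mem (a := z) hzB ?_
    have e : R i • z = (⟨i % m, Nat.mod_lt _ (by omega)⟩ : Fin m) := Fin.ext (by rw [hRv]; simp [hz])
    exact e ▸ hi
  have hmem' : ∀ i : ℕ, R i • B = B → (⟨i % m, Nat.mod_lt _ (by omega)⟩ : Fin m) ∈ B := fun i hi => by
    rw [← hi, Set.mem_smul_set]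
    exact ⟨z, hzB, Fin.ext (by rw [hRv]; simp [hz])⟩
  have hex : ∃ d, 0 < d ∧ R d • B = B := ⟨m, by omega, hmem m (by simpa [hz] using hzB)⟩
  set d := Nat.find hex with hd
  obtain ⟨hd0, hdB⟩ := Nat.find_spec hex
  have hadd : ∀ i j, R (i + j) = R i * R j := fun i j => Subtype.ext (pow_add _ _ _)
  have hiff : ∀ i, R i • B = B ↔ d ∣ i := by
    have hmul : ∀ k, R (d * k) • B = B := by
      intro k
      induction k with
      | zero => exact (show R (d * 0) = 1 from Subtype.ext (by simp [hR])) ▸ one_smul _ B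
      | succ k ih => rw [Nat.mul_succ, hadd, mul_smul, hdB, ih]
    refine fun i => ⟨fun h => Nat.dvd_of_mod_eq_zero ?_, fun ⟨k, hk⟩ => hk ▸ hmul k⟩
    by_contra hne
    refine Nat.find_min hex (Nat.mod_lt i hd0) ⟨Nat.pos_of_ne_zero hne, ?_⟩
    have := h
    rw [← Nat.div_add_mod i d, hadd, mul_smul] at this
    calc R (i % d) • B = R (i % d) • R (d * (i / d)) • B := by rw [hmul]
      _ = R (d * (i / d)) • R (i % d) • B := by
        rw [smul_smul, smul_smul, ← hadd, ← hadd, add_comm]
      _ = B := this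
  have hdm : d ∣ m := (hiff m).1 (hmem m (by simpa [hz] using hzB))
  have hB' : ∀ x : Fin m, x ∈ B ↔ d ∣ x.val := fun x => by
    have e : (⟨x.val % m, Nat.mod_lt _ (by omega)⟩ : Fin m) = x := Fin.ext (Nat.mod_eq_of_lt x.isLt)
    rw [← hiff]
    exact ⟨fun h => hmem x.val (by rwa [e]), fun h => e ▸ hmem' x.val h⟩
  rcases Nat.lt_or_ge 1 d with hd1 | hd1
  · rcases Nat.lt_or_ge d m with hdm' | hdm'
    · exfalso
      obtain ⟨g, hg, i, j, hij, hne⟩ := hres d hdm hd1 hdm'
      apply hne
      -- `i` and `j` lie in the translate `R i • B`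
      have hin : ∀ a x : Fin m, x.val % d = a.val % d → x ∈ R a.val • B := by
        intro a x hax
        rw [Set.mem_smul_set]
        refine ⟨⟨(x.val + (m - a.val)) % m, Nat.mod_lt _ (by omega)⟩, (hB' _).2 ?_, Fin.ext ?_⟩
        · have : d ∣ x.val + (m - a.val) := by
            refine Nat.dvd_of_mod_eq_zero ?_
            rw [Nat.add_mod, hax, ← Nat.add_mod, Nat.add_sub_cancel' a.isLt.le]
            exact Nat.mod_eq_zero_of_dvd hdm
          exact (Nat.dvd_mod_iff hdm).2 this
        · rw [hRv]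
          show ((x.val + (m - a.val)) % m + a.val) % m = x.val
          rw [Nat.mod_add_mod, show x.val + (m - a.val) + a.val = x.val + m by omega,
            Nat.add_mod_right, Nat.mod_eq_of_lt x.isLt]
      set g' : H := ⟨g, hg⟩
      have h1 : g' • R i.val • B = R (g i).val • B := by
        have hb1 : g i ∈ (g' * R i.val) • B := by
          rw [mul_smul]; exact Set.smul_mem_smul_set (hin i i rfl)
        have hb2 : g i ∈ R (g i).val • B := hin (g i) (g i) rfl
        rw [smul_smul]
        rcases hB.smul_eq_smul_or_disjoint (g' * R i.val) (R (g i).val) with e | e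
        · exact e
        · exact absurd hb2 (Set.disjoint_left.1 e hb1)
      have h2 : g j ∈ R (g i).val • B := h1 ▸ Set.smul_mem_smul_set (hin i j hij.symm)
      obtain ⟨x, hx, hxe⟩ := Set.mem_smul_set.1 h2
      have hx' := congrArg (fun t : Fin m => t.val % d) hxe
      simp only [hRv, Nat.mod_mod_of_dvd _ hdm] at hx'
      rw [Nat.add_mod, Nat.mod_eq_zero_of_dvd ((hB' x).1 hx), zero_add, Nat.mod_mod] at hx'
      exact hx'
    · left
      intro x hx y hy
      have h1 : x.val = 0 := Nat.eq_zero_of_dvd_of_lt ((hB' x).1 hx) (by omega)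
      have h2 : y.val = 0 := Nat.eq_zero_of_dvd_of_lt ((hB' y).1 hy) (by omega)
      exact Fin.ext (by omega)
  · right
    exact Set.eq_univ_iff_forall.2 fun x => (hB' x).2 (by rw [show d = 1 by omega]; exact one_dvd _)

end Cfsg.Agent.H61.FreePair
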