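import Cfsg.Agent.H61.FreePairPatterns

/-!
Choice of the points on which two given elements of prime power order of the alternating group are
made to generate a nonsolvable group.
-/

set_option autoImplicit false

namespace Cfsg.Agent.H61.FreePair

open Equiv

variable {n : ℕ}

/-- The length of the cycle of `x`. -/
noncomputable abbrev per (w : Perm (Fin n)) (x : Fin n) : ℕ := Function.minimalPeriod w x

theorem per_pos (w : Perm (Fin n)) (x : Fin n) : 0 < per w x :=
  Function.minimalPeriod_pos_of_mem_periodicPts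
    ⟨orderOf w, orderOf_pos w, show w^[orderOf w] x = x by
      rw [Perm.iterate_eq_pow, pow_orderOf_eq_one]; rfl⟩

theorem per_primePow {p : ℕ} (hp : p.Prime) {w : Perm (Fin n)} (hw : ∃ k, orderOf w = p ^ k)
    (x : Fin n) : ∃ j, per w x = p ^ j := by
  obtain ⟨k, hk⟩ := hw
  have h : Function.IsPeriodicPt w (p ^ k) x := by
    show w^[p ^ k] x = x
    rw [Perm.iterate_eq_pow, ← hk, pow_orderOf_eq_one]; rfl
  obtain ⟨j, -, hj⟩ := (Nat.dvd_prime_pow hp).1 h.minimalPeriod_dvd
  exact ⟨j, hj⟩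

theorem per_inj (w : Perm (Fin n)) (x : Fin n) {i j : ℕ} (hi : i < per w x) (hj : j < per w x)
    (h : w^[i] x = w^[j] x) : i = j :=
  Function.iterate_injOn_Iio_minimalPeriod hi hj h

theorem iterate_per (w : Perm (Fin n)) (x : Fin n) : w^[per w x] x = x :=
  Function.iterate_minimalPeriod

theorem one_lt_per {w : Perm (Fin n)} {x : Fin n} (h : w x ≠ x) : 1 < per w x := by
  rcases Nat.lt_or_ge 1 (per w x) with h1 | h1
  · exact h1
  · exfalso
    have h2 : per w x = 1 := le_antisymm h1 (per_pos w x)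
    have := iterate_per w x
    rw [h2] at this
    exact h this

/-- The cycle of `x`. -/
noncomputable def orb (w : Perm (Fin n)) (x : Fin n) : Finset (Fin n) :=
  (Finset.range (per w x)).image fun i => w^[i] x

theorem card_orb (w : Perm (Fin n)) (x : Fin n) : (orb w x).card = per w x := by
  rw [orb, Finset.card_image_of_injOn, Finset.card_range]
  intro i hi j hj h
  exact per_inj w x (Finset.mem_range.1 hi) (Finset.mem_range.1 hj) h

theorem iterate_mem_orb (w : Perm (Fin n)) (x : Fin n) (i : ℕ) : w^[i] x ∈ orb w x := by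
  rw [← Function.iterate_mod_minimalPeriod_eq]
  exact Finset.mem_image.2 ⟨_, Finset.mem_range.2 (Nat.mod_lt _ (per_pos w x)), rfl⟩

theorem apply_mem_orb_iff (w : Perm (Fin n)) (x y : Fin n) : w y ∈ orb w x ↔ y ∈ orb w x := by
  constructor
  · intro h
    obtain ⟨i, -, hi⟩ := Finset.mem_image.1 h
    have hy : y = w^[i + (per w x - 1)] x := by
      apply w.injective
      rw [← Function.iterate_succ_apply' (f := w), Nat.succ_eq_add_one,
        show i + (per w x - 1) + 1 = i + per w x by have := per_pos w x; omega,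
        Function.iterate_add_apply, iterate_per]
      exact hi.symm
    rw [hy]; exact iterate_mem_orb w x _
  · intro h
    obtain ⟨i, -, rfl⟩ := Finset.mem_image.1 h
    rw [← Function.iterate_succ_apply' (f := w)]
    exact iterate_mem_orb w x _

/-- Cycles lining up to a prescribed number of points. -/
theorem fill {p : ℕ} (hp : p.Prime) (w : Perm (Fin n)) (T : ℕ) : ∀ S : Finset (Fin n),
    (∀ x, w x ∈ S ↔ x ∈ S) → (∀ x ∈ S, ∃ j, per w x = p ^ j ∧ p ^ j ∣ T) → T ≤ S.card →
    ∃ e : Fin T → Fin n, Function.Injective e ∧ (∀ i, e i ∈ S) ∧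
      ∀ i : Fin T, ∃ k : Fin T, w (e i) = e k ∧
        (k.val = i.val + 1 ∨ ∃ j, k.val + p ^ j = i.val + 1) := by
  induction T using Nat.strong_induction_on with
  | _ T ih =>
  intro S hS hdiv hT
  rcases Nat.eq_zero_or_pos T with rfl | hT0
  · exact ⟨Fin.elim0, fun i => i.elim0, fun i => i.elim0, fun i => i.elim0⟩
  obtain ⟨x, hxS, hmax⟩ := S.exists_max_image (per w) (Finset.card_pos.1 (by omega))
  obtain ⟨j, hj, hjT⟩ := hdiv x hxS
  set c := per w x with hc
  have hcT : c ≤ T := hj ▸ Nat.le_of_dvd hT0 hjT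
  have hc0 : 0 < c := per_pos w x
  have hin : ∀ i, w^[i] x ∈ S := by
    intro i
    induction i with
    | zero => exact hxS
    | succ i hi => rw [Function.iterate_succ_apply']; exact (hS _).2 hi
  have hsub : orb w x ⊆ S := fun y hy => by
    obtain ⟨i, -, rfl⟩ := Finset.mem_image.1 hy
    exact hin i
  obtain ⟨e, he, heS, hstep⟩ := ih (T - c) (by omega) (S \ orb w x)
    (fun y => by rw [Finset.mem_sdiff, Finset.mem_sdiff, hS, apply_mem_orb_iff])
    (fun y hy => by
      have hyS := (Finset.mem_sdiff.1 hy).1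
      obtain ⟨i, hi, hiT⟩ := hdiv y hyS
      refine ⟨i, hi, Nat.dvd_sub hiT ?_⟩
      rw [hj]
      refine Nat.pow_dvd_pow p ((Nat.pow_le_pow_iff_right hp.one_lt).1 ?_)
      rw [← hi, ← hj]
      exact hmax y hyS)
    (by rw [Finset.card_sdiff_of_subset hsub, card_orb, ← hc]; omega)
  refine ⟨fun i => if h : i.val < c then w^[i.val] x else e ⟨i.val - c, by omega⟩, ?_, ?_, ?_⟩
  · intro i k h
    simp only at h
    apply Fin.ext
    split_ifs at h with h1 h2 h2
    · exact per_inj w x h1 h2 h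
    · exact absurd (h ▸ iterate_mem_orb w x i.val) (Finset.mem_sdiff.1 (heS _)).2
    · exact absurd (h.symm ▸ iterate_mem_orb w x k.val) (Finset.mem_sdiff.1 (heS _)).2
    · have := congrArg Fin.val (he h)
      simp only at this
      omega
  · intro i
    simp only
    split
    · exact hin _
    · exact (Finset.mem_sdiff.1 (heS _)).1
  · intro i
    simp only
    by_cases h : i.val < c
    · rcases Nat.lt_or_ge (i.val + 1) c with h1 | h1
      · refine ⟨⟨i.val + 1, by omega⟩, ?_, Or.inl rfl⟩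
        rw [dif_pos h, dif_pos (show (i.val + 1) < c from h1), ← Function.iterate_succ_apply' (f := w)]
      · refine ⟨⟨0, hT0⟩, ?_, Or.inr ⟨j, ?_⟩⟩
        · rw [dif_pos h, dif_pos (show 0 < c from hc0), ← Function.iterate_succ_apply' (f := w),
            show i.val.succ = c by omega, hc, iterate_per]
          rfl
        · show 0 + p ^ j = i.val + 1
          omega
    · obtain ⟨k, hk, hk'⟩ := hstep ⟨i.val - c, by omega⟩
      refine ⟨⟨k.val + c, by omega⟩, ?_, ?_⟩
      · rw [dif_neg h, dif_neg (show ¬ k.val + c < c by omega), hk]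
        exact congrArg e (Fin.ext (show k.val = k.val + c - c by omega))
      · rcases hk' with e1 | ⟨i', e1⟩
        · exact Or.inl (show k.val + c = i.val + 1 by simp only at e1; omega)
        · exact Or.inr ⟨i', show k.val + c + p ^ i' = i.val + 1 by simp only at e1; omega⟩

theorem two_parts_bound {p : ℕ} (hp3 : 3 ≤ p) (m : ℕ) :
    2 * ∑ i ∈ Finset.range (m + 1), p ^ i ≤ 3 * p ^ m := by
  induction m with
  | zero => simp
  | succ m ih =>
    rw [Finset.sum_range_succ, pow_succ]
    have : 3 * p ^ m ≤ p ^ m * p := by rw [mul_comm 3]; exact Nat.mul_le_mul_left _ hp3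
    omega

/-- Few moved points leave an odd permutation in the centraliser. -/
theorem exists_odd_centralizing {p m : ℕ} (hp : p.Prime) (hp3 : 3 ≤ p) (w : Perm (Fin n))
    (hwm : w ^ (p ^ m) = 1) (hm : p ^ (m + 1) ≤ n) :
    ∃ c : Perm (Fin n), Perm.sign c = -1 ∧ c * w = w * c := by
  classical
  by_contra hno
  simp only [not_exists, not_and] at hno
  have hle : Subgroup.centralizer {w} ≤ alternatingGroup (Fin n) := fun c hc => by
    rw [Perm.mem_alternatingGroup]
    rcases Int.units_eq_one_or (Perm.sign c) with h | h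
    · exact h
    · exact absurd (Subgroup.mem_centralizer_singleton_iff.1 hc) (hno c h)
  obtain ⟨-, hsum, hcnt⟩ := Perm.centralizer_le_alternating_iff.1 hle
  have hnd : w.cycleType.Nodup := Multiset.nodup_iff_count_le_one.2 hcnt
  have hsub : w.cycleType.toFinset ⊆ (Finset.range (m + 1)).image (p ^ ·) := by
    intro c hc
    obtain ⟨i, hi, hci⟩ := (Nat.dvd_prime_pow hp).1 ((Perm.dvd_of_mem_cycleType
      (Multiset.mem_toFinset.1 hc)).trans (orderOf_dvd_of_pow_eq_one hwm))
    exact Finset.mem_image.2 ⟨i, Finset.mem_range.2 (by omega), hci.symm⟩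
  have h1 : w.cycleType.sum ≤ ∑ i ∈ Finset.range (m + 1), p ^ i := by
    have e : w.cycleType.sum = ∑ c ∈ w.cycleType.toFinset, c := by
      rw [Finset.sum_eq_multiset_sum, Multiset.toFinset_val, hnd.dedup, Multiset.map_id']
    rw [e]
    refine (Finset.sum_le_sum_of_subset hsub).trans (le_of_eq ?_)
    exact Finset.sum_image fun a _ b _ h => Nat.pow_right_injective hp.two_le h
  have h2 := two_parts_bound hp3 m
  rw [Fintype.card_fin] at hsum
  rw [pow_succ] at hm
  have h4 : p ^ m * 3 ≤ p ^ m * p := Nat.mul_le_mul_left _ hp3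
  have := Nat.one_le_pow m p hp.pos
  omega

/-- The case of a longest cycle of length at least five. -/
theorem exists_of_long {p : ℕ} (hp : p.Prime) (hp3 : 3 ≤ p) (u w : alternatingGroup (Fin n))
    (hw : w ≠ 1) (hu' : ∃ k, orderOf (u : Perm (Fin n)) = p ^ k)
    (hw' : ∃ k, orderOf (w : Perm (Fin n)) = p ^ k) (x₀ : Fin n)
    (hq5 : 5 ≤ per (u : Perm (Fin n)) x₀)
    (hmax : ∀ y, per (w : Perm (Fin n)) y ≤ per (u : Perm (Fin n)) x₀) :
    ∃ g : alternatingGroup (Fin n), Good p u (g * w * g⁻¹) := by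
  classical
  obtain ⟨a, ha⟩ := per_primePow hp hu' x₀
  set U := (u : Perm (Fin n)) with hU
  set W := (w : Perm (Fin n)) with hW
  generalize hq : per U x₀ = q at *
  haveI : NeZero q := ⟨by omega⟩
  let e₁ : Fin q ↪ Fin n := ⟨fun i => U^[i.val] x₀, fun i j h =>
    Fin.ext (per_inj U x₀ (hq.symm ▸ i.isLt) (hq.symm ▸ j.isLt) h)⟩
  have hu1 : ∀ i, U (e₁ i) = e₁ (finRotate q i) := by
    intro i
    show U (U^[i.val] x₀) = U^[(finRotate q i).val] x₀
    have h := finRotate_pow_val 1 i
    rw [pow_one] at h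
    rw [h, ← Function.iterate_succ_apply' (f := U)]
    subst hq
    exact (Function.iterate_mod_minimalPeriod_eq).symm
  obtain ⟨y₀, -, hy₀⟩ := (Finset.univ (α := Fin n)).exists_max_image (per W) ⟨x₀, Finset.mem_univ _⟩
  obtain ⟨c, hc⟩ := per_primePow hp hw' y₀
  have hb1 : 1 < per W y₀ := by
    obtain ⟨y, hy⟩ : ∃ y, W y ≠ y := by
      by_contra h
      simp only [not_exists, not_not] at h
      exact hw (Subtype.ext (Equiv.ext h))
    exact lt_of_lt_of_le (one_lt_per hy) (hy₀ y (Finset.mem_univ _))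
  have hc0 : 0 < c := by
    rcases Nat.eq_zero_or_pos c with rfl | h
    · rw [pow_zero] at hc; omega
    · exact h
  generalize hb : per W y₀ = b at *
  have hbq : b ≤ q := hb ▸ hmax y₀
  -- the points of the longest cycle of the second element, backwards
  let back : Fin b → Fin n := fun i => W^[b - 1 - i.val] y₀
  have back_inj : Function.Injective back := fun i j h => by
    have h' := per_inj W y₀ (by rw [hb]; omega) (by rw [hb]; omega) h
    exact Fin.ext (by omega)
  have back_step : ∀ i : Fin b, W (back i) =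
      back ⟨if i.val = 0 then b - 1 else i.val - 1, by split <;> omega⟩ := by
    intro i
    show W (W^[b - 1 - i.val] y₀) = W^[_] y₀
    rw [← Function.iterate_succ_apply' (f := W)]
    split
    · rw [show (b - 1 - i.val).succ = per W y₀ by omega, iterate_per]
      simp
    · exact congrArg (fun k => W^[k] y₀) (show (b - 1 - i.val).succ = b - 1 - (i.val - 1) by omega)
  rcases Nat.lt_or_ge b q with hlt | hge
  · -- shorter second cycle
    have hsmall : ∀ y, ∃ j, per W y = p ^ j ∧ p ^ j ∣ q - b := fun y => by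
      obtain ⟨j, hj⟩ := per_primePow hp hw' y
      have hjb : p ^ j ≤ p ^ c := by rw [← hj, ← hc]; exact hy₀ y (Finset.mem_univ _)
      have hjc := (Nat.pow_le_pow_iff_right hp.one_lt).1 hjb
      have hca : c ≤ a := (Nat.pow_le_pow_iff_right hp.one_lt).1 (by omega)
      refine ⟨j, hj, Nat.dvd_sub ?_ ?_⟩
      · rw [ha]; exact Nat.pow_dvd_pow p (hjc.trans hca)
      · rw [hc]; exact Nat.pow_dvd_pow p hjc
    have hqn : q ≤ n := by simpa using Fintype.card_le_of_injective e₁ e₁.injective
    obtain ⟨e, he, heS, hstep⟩ := fill hp W (q - b) (Finset.univ \ orb W y₀)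
      (fun y => by simp [apply_mem_orb_iff]) (fun y _ => hsmall y)
      (by rw [Finset.card_sdiff_of_subset (Finset.subset_univ _), card_orb, hb, Finset.card_univ,
        Fintype.card_fin]; omega)
    let f : Fin q → Fin n := fun i =>
      if h : i.val < b then back ⟨i.val, h⟩ else e ⟨i.val - b, by omega⟩
    have hf : Function.Injective f := by
      intro i k h
      simp only [f] at h
      apply Fin.ext
      split_ifs at h with h1 h2 h2
      · have h' := congrArg (fun t : Fin b => t.val) (back_inj h)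
        exact h'
      · have hm : back ⟨i.val, h1⟩ ∈ orb W y₀ := iterate_mem_orb W y₀ _
        rw [h] at hm
        exact absurd hm (Finset.mem_sdiff.1 (heS _)).2
      · have hm : back ⟨k.val, h2⟩ ∈ orb W y₀ := iterate_mem_orb W y₀ _
        rw [← h] at hm
        exact absurd hm (Finset.mem_sdiff.1 (heS _)).2
      · have := congrArg Fin.val (he h)
        simp only at this
        omega
    let e₂ : Fin q ↪ Fin n := ⟨f, hf⟩
    have hex : ∀ i : Fin q, ∃ k : Fin q, W (e₂ i) = e₂ k ∧ (i.val = 0 → k.val + 1 = b) ∧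
        (0 < i.val → i.val < b → k.val + 1 = i.val) ∧
        (b ≤ i.val → k.val = i.val + 1 ∨ ∃ j, k.val + p ^ j = i.val + 1) := by
      intro i
      by_cases h : i.val < b
      · refine ⟨⟨if i.val = 0 then b - 1 else i.val - 1, by split <;> omega⟩, ?_,
          fun h0 => ?_, fun h0 _ => ?_, fun h0 => absurd h (not_lt.2 h0)⟩
        · show W (f i) = f _
          simp only [f]
          rw [dif_pos h, dif_pos (show (if i.val = 0 then b - 1 else i.val - 1) < b by split <;> omega)]
          exact back_step ⟨i.val, h⟩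
        · show (if i.val = 0 then b - 1 else i.val - 1) + 1 = b
          rw [if_pos h0]; omega
        · show (if i.val = 0 then b - 1 else i.val - 1) + 1 = i.val
          rw [if_neg h0.ne']; omega
      · obtain ⟨k, hk, hk'⟩ := hstep ⟨i.val - b, by omega⟩
        refine ⟨⟨k.val + b, by omega⟩, ?_, fun h0 => absurd (h0 ▸ (by omega : 0 < b)) h,
          fun _ h0 => absurd h0 h, fun _ => ?_⟩
        · show W (f i) = f _
          simp only [f]
          rw [dif_neg h, dif_neg (show ¬ k.val + b < b by omega), hk]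
          exact congrArg e (Fin.ext (show k.val = k.val + b - b by omega))
        · rcases hk' with e1 | ⟨i', e1⟩
          · exact Or.inl (show k.val + b = i.val + 1 by simp only at e1; omega)
          · exact Or.inr ⟨i', show k.val + b + p ^ i' = i.val + 1 by simp only at e1; omega⟩
    choose t ht htz htl hth using hex
    have htinj : Function.Injective t := fun i k h =>
      e₂.injective (W.injective (by rw [ht, ht, h]))
    let τ : Perm (Fin q) := Equiv.ofBijective t (Finite.injective_iff_bijective.1 htinj)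
    refine of_odd hp u w (finRotate q) τ e₁ e₂ hu1 ht ?_
      (good_backward hp hp3 ha hc hc0 hlt τ htz htl hth)
    rcases Nat.lt_or_ge (q + 1) n with hn | hn
    · have hcard : 1 < (Finset.univ \ Finset.univ.map e₁).card := by
        rw [Finset.card_sdiff_of_subset (Finset.subset_univ _), Finset.card_map, Finset.card_univ,
          Finset.card_univ, Fintype.card_fin, Fintype.card_fin]
        omega
      obtain ⟨y, hy, z, hz, hyz⟩ := Finset.one_lt_card.1 hcard
      refine ⟨Equiv.swap y z, Perm.sign_swap hyz, Or.inl fun i => swap_apply_of_ne_of_ne ?_ ?_⟩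
      · intro h; exact (Finset.mem_sdiff.1 hy).2 (h ▸ Finset.mem_map_of_mem e₁ (Finset.mem_univ i))
      · intro h; exact (Finset.mem_sdiff.1 hz).2 (h ▸ Finset.mem_map_of_mem e₁ (Finset.mem_univ i))
    · have hca : c + 1 ≤ a := (Nat.pow_lt_pow_iff_right hp.one_lt).1 (by omega)
      have hwc : W ^ (p ^ c) = 1 := Equiv.ext fun y => by
        rw [← Perm.iterate_eq_pow]
        show _ = y
        have hd : per W y ∣ p ^ c := by
          obtain ⟨j, hj⟩ := per_primePow hp hw' y
          rw [hj]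
          refine Nat.pow_dvd_pow p ((Nat.pow_le_pow_iff_right hp.one_lt).1 ?_)
          rw [← hj, ← hc]
          exact hy₀ y (Finset.mem_univ _)
        exact (Function.isPeriodicPt_iff_minimalPeriod_dvd.2 hd : _)
      have hm : p ^ (c + 1) ≤ n := (Nat.pow_le_pow_right hp.pos hca).trans (ha ▸ hqn)
      obtain ⟨d, hd1, hd2⟩ := exists_odd_centralizing hp hp3 W hwc hm
      exact ⟨d, hd1, Or.inr hd2⟩
  · -- equal cycle lengths
    obtain rfl : b = q := le_antisymm hbq hge
    obtain ⟨φ₁, φ₂, h1, h2, h1', h2'⟩ := good_equal hp hp3 ha hq5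
    refine of_two_signs hp u w (finRotate b) (finRotate b)⁻¹ φ₁ φ₂ e₁ ⟨back, back_inj⟩ hu1
      (fun i => ?_) h1 h2 h1' h2'
    show W (back i) = back ((finRotate b)⁻¹ i)
    rw [back_step]
    congr 1
    apply Equiv.injective (finRotate b)
    rw [Perm.coe_inv, Equiv.apply_symm_apply]
    apply Fin.ext
    have h := finRotate_pow_val 1 (⟨if i.val = 0 then b - 1 else i.val - 1, by split <;> omega⟩ : Fin b)
    rw [pow_one] at h
    rw [h]
    show ((if i.val = 0 then b - 1 else i.val - 1) + 1) % b = i.val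
    split
    · rw [show b - 1 + 1 = b by omega, Nat.mod_self]; omega
    · rw [show i.val - 1 + 1 = i.val by omega, Nat.mod_eq_of_lt i.isLt]

/-- Three points of a cycle of length three. -/
theorem triple (w : Perm (Fin n)) (hw : w ^ 3 = 1) {x : Fin n} (hx : w x ≠ x) :
    w (w (w x)) = x ∧ w (w x) ≠ x ∧ w (w x) ≠ w x := by
  have h3 : w (w (w x)) = x := by
    have := congrArg (fun f : Perm (Fin n) => f x) hw
    simpa [pow_succ, Perm.mul_apply] using this
  refine ⟨h3, fun h => hx ?_, fun h => hx (w.injective h)⟩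
  have := congrArg w h
  rw [h3] at this
  exact this.symm

/-- The case in which both elements have order three. -/
theorem exists_of_three (hn : 5 ≤ n) (u w : alternatingGroup (Fin n))
    (hu : (u : Perm (Fin n)) ^ 3 = 1) (hw : (w : Perm (Fin n)) ^ 3 = 1) (hu1 : u ≠ 1) (hw1 : w ≠ 1) :
    ∃ g : alternatingGroup (Fin n), Good 3 u (g * w * g⁻¹) ∨ Good 3 w (g * u * g⁻¹) := by
  classical
  set U := (u : Perm (Fin n))
  set W := (w : Perm (Fin n))
  obtain ⟨x, hx⟩ : ∃ x, U x ≠ x := by
    by_contra h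
    simp only [not_exists, not_not] at h
    exact hu1 (Subtype.ext (Equiv.ext h))
  obtain ⟨y, hy⟩ : ∃ y, W y ≠ y := by
    by_contra h
    simp only [not_exists, not_not] at h
    exact hw1 (Subtype.ext (Equiv.ext h))
  -- six points
  have six : ∀ (u w : alternatingGroup (Fin n)), (u : Perm (Fin n)) ^ 3 = 1 → (w : Perm (Fin n)) ^ 3 = 1 →
      ∀ x x' y : Fin n, (u : Perm (Fin n)) x ≠ x → (u : Perm (Fin n)) x' ≠ x' →
      x' ∉ ({x, (u : Perm (Fin n)) x, (u : Perm (Fin n)) ((u : Perm (Fin n)) x)} : Finset (Fin n)) →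
      (w : Perm (Fin n)) y ≠ y → ∃ g : alternatingGroup (Fin n), Good 3 u (g * w * g⁻¹) := by
    intro u w hu hw x x' y hx hx' hxx hy
    set U := (u : Perm (Fin n))
    set W := (w : Perm (Fin n))
    obtain ⟨a3, a2, a1⟩ := triple U hu hx
    obtain ⟨b3, b2, b1⟩ := triple U hu hx'
    simp only [Finset.mem_insert, Finset.mem_singleton, not_or] at hxx
    obtain ⟨n0, n1, n2⟩ := hxx
    have i1 : U x' ≠ U x := fun h => n0 (U.injective h)
    have i2 : U x' ≠ U (U x) := fun h => n1 (U.injective h)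
    have i3 : U x' ≠ x := fun h => n2 (U.injective (by rw [h, a3]))
    have k1 : U (U x') ≠ U (U x) := fun h => i1 (U.injective h)
    have k2 : U (U x') ≠ x := fun h => i2 (U.injective (by rw [h, a3]))
    have k3 : U (U x') ≠ U x := fun h => i3 (U.injective h)
    obtain ⟨e₁, he₁⟩ : ∃ e₁ : Fin 6 ↪ Fin n, ∀ i, U (e₁ i) = e₁ ((![1, 2, 0, 4, 5, 3] : Fin 6 → Fin 6) i) := by
      refine ⟨⟨![x, U x, U (U x), x', U x', U (U x')], ?_⟩, ?_⟩
      · intro i j h
        fin_cases i <;> fin_cases j <;>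
          simp [hx, hx', Ne.symm hx, Ne.symm hx', a2, a1, b2, b1, Ne.symm a2, Ne.symm a1, Ne.symm b2,
            Ne.symm b1, n0, n1, n2, i1, i2, i3, k1, k2, k3, Ne.symm n0, Ne.symm n1, Ne.symm n2,
            Ne.symm i1, Ne.symm i2, Ne.symm i3, Ne.symm k1, Ne.symm k2, Ne.symm k3] at h ⊢
      · intro i
        show U ((![x, U x, U (U x), x', U x', U (U x')] : Fin 6 → Fin n) i) = (![x, U x, U (U x), x', U x', U (U x')] : Fin 6 → Fin n) ((![1, 2, 0, 4, 5, 3] : Fin 6 → Fin 6) i)
        fin_cases i <;> simp [a3, b3]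
    obtain ⟨c3, c2, c1⟩ := triple W hw hy
    by_cases hw2 : ∃ y', W y' ≠ y' ∧ y' ∉ ({y, W y, W (W y)} : Finset (Fin n))
    · -- two cycles of `w`
      obtain ⟨y', hy', hyy⟩ := hw2
      obtain ⟨d3, d2, d1⟩ := triple W hw hy'
      simp only [Finset.mem_insert, Finset.mem_singleton, not_or] at hyy
      obtain ⟨m0, m1, m2⟩ := hyy
      have i1 : W y' ≠ W y := fun h => m0 (W.injective h)
      have i2 : W y' ≠ W (W y) := fun h => m1 (W.injective h)
      have i3 : W y' ≠ y := fun h => m2 (W.injective (by rw [h, c3]))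
      have k1 : W (W y') ≠ W (W y) := fun h => i1 (W.injective h)
      have k2 : W (W y') ≠ y := fun h => i2 (W.injective (by rw [h, c3]))
      have k3 : W (W y') ≠ W y := fun h => i3 (W.injective h)
      obtain ⟨e₂, he₂⟩ : ∃ e₂ : Fin 6 ↪ Fin n, ∀ i, W (e₂ i) = e₂ ((![1, 3, 5, 0, 2, 4] : Fin 6 → Fin 6) i) := by
        refine ⟨⟨![y, W y, y', W (W y), W (W y'), W y'], ?_⟩, ?_⟩
        · intro i j h
          fin_cases i <;> fin_cases j <;>
            simp [hy, hy', Ne.symm hy, Ne.symm hy', c2, c1, d2, d1, Ne.symm c2, Ne.symm c1, Ne.symm d2,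
              Ne.symm d1, m0, m1, m2, i1, i2, i3, k1, k2, k3, Ne.symm m0, Ne.symm m1, Ne.symm m2,
              Ne.symm i1, Ne.symm i2, Ne.symm i3, Ne.symm k1, Ne.symm k2, Ne.symm k3] at h ⊢
        · intro i
          show W ((![y, W y, y', W (W y), W (W y'), W y'] : Fin 6 → Fin n) i) = (![y, W y, y', W (W y), W (W y'), W y'] : Fin 6 → Fin n) ((![1, 3, 5, 0, 2, 4] : Fin 6 → Fin 6) i)
          fin_cases i <;> simp [c3, d3]
      set σ : Perm (Fin 6) := ⟨![1, 2, 0, 4, 5, 3], ![2, 0, 1, 5, 3, 4], by decide, by decide⟩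
      set τ : Perm (Fin 6) := ⟨![1, 3, 5, 0, 2, 4], ![3, 0, 4, 1, 5, 2], by decide, by decide⟩
      have hg : Good 3 σ τ := by
        refine good_three σ τ 5 (σ * σ * τ * σ * τ) ?_ (by decide) (by decide) (by decide) (by decide)
          (by decide) (by decide) (by decide)
        have hs : σ ∈ Subgroup.closure ({σ, τ} : Set (Perm (Fin 6))) :=
          Subgroup.subset_closure (Or.inl rfl)
        have ht : τ ∈ Subgroup.closure ({σ, τ} : Set (Perm (Fin 6))) :=
          Subgroup.subset_closure (Or.inr rfl)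
        exact mul_mem (mul_mem (mul_mem (mul_mem hs hs) ht) hs) ht
      set φ : Perm (Fin 6) := Equiv.swap 0 2 * Equiv.swap 1 5 * Equiv.swap 3 4
      refine of_two_signs Nat.prime_three u w σ τ 1 φ e₁ e₂ he₁ he₂ (map_one _) (by decide)
        (by simpa using hg) ?_
      rw [show φ * τ * φ⁻¹ = τ by decide]
      exact hg
    · -- a single cycle of `w`
      simp only [not_exists, not_and, not_not] at hw2
      have hfx : ∀ z, z ∉ ({y, W y, W (W y)} : Finset (Fin n)) → W z = z := fun z hz => by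
        by_contra h
        exact hz (hw2 z h)
      have h6 : 6 ≤ n := by simpa using Fintype.card_le_of_injective e₁ e₁.injective
      obtain ⟨z, hz⟩ : ∃ z : Fin 3 ↪ Fin n, ∀ i, z i ∉ ({y, W y, W (W y)} : Finset (Fin n)) := by
        have hle : 3 ≤ (Finset.univ \ ({y, W y, W (W y)} : Finset (Fin n))).card := by
          rw [Finset.card_sdiff_of_subset (Finset.subset_univ _), Finset.card_univ, Fintype.card_fin]
          have := Finset.card_le_three (a := y) (b := W y) (c := W (W y))
          omega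
        obtain ⟨t, ht, ht3⟩ := Finset.exists_subset_card_eq hle
        exact ⟨(t.orderEmbOfFin ht3).toEmbedding,
          fun i => (Finset.mem_sdiff.1 (ht (Finset.orderEmbOfFin_mem t ht3 i))).2⟩
      have hz0 := hz 0; have hz1 := hz 1; have hz2 := hz 2
      have f0 := hfx _ hz0; have f1 := hfx _ hz1; have f2 := hfx _ hz2
      simp only [Finset.mem_insert, Finset.mem_singleton, not_or] at hz0 hz1 hz2
      obtain ⟨p0, p1, p2⟩ := hz0; obtain ⟨q0, q1, q2⟩ := hz1; obtain ⟨r0, r1, r2⟩ := hz2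
      have z01 : z 0 ≠ z 1 := z.injective.ne (by decide)
      have z02 : z 0 ≠ z 2 := z.injective.ne (by decide)
      have z12 : z 1 ≠ z 2 := z.injective.ne (by decide)
      obtain ⟨e₂, he₂⟩ : ∃ e₂ : Fin 6 ↪ Fin n, ∀ i, W (e₂ i) = e₂ ((![0, 1, 3, 4, 2, 5] : Fin 6 → Fin 6) i) := by
        refine ⟨⟨![z 0, z 1, y, W y, W (W y), z 2], ?_⟩, ?_⟩
        · intro i j h
          fin_cases i <;> fin_cases j <;>
            simp [hy, Ne.symm hy, c2, c1, Ne.symm c2, Ne.symm c1, p0, p1, p2, q0, q1, q2, r0, r1, r2,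
              Ne.symm p0, Ne.symm p1, Ne.symm p2, Ne.symm q0, Ne.symm q1, Ne.symm q2, Ne.symm r0,
              Ne.symm r1, Ne.symm r2, z01, z02, z12, Ne.symm z01, Ne.symm z02, Ne.symm z12] at h ⊢
        · intro i
          show W ((![z 0, z 1, y, W y, W (W y), z 2] : Fin 6 → Fin n) i) = (![z 0, z 1, y, W y, W (W y), z 2] : Fin 6 → Fin n) ((![0, 1, 3, 4, 2, 5] : Fin 6 → Fin 6) i)
          fin_cases i <;> simp [c3, f0, f1, f2]
      set σ : Perm (Fin 6) := ⟨![1, 2, 0, 4, 5, 3], ![2, 0, 1, 5, 3, 4], by decide, by decide⟩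
      set τ : Perm (Fin 6) := ⟨![0, 1, 3, 4, 2, 5], ![0, 1, 4, 2, 3, 5], by decide, by decide⟩
      have hg : Good 3 σ τ := by
        refine good_three σ τ 4 (σ * τ * σ * τ) ?_ (by decide) (by decide) (by decide) (by decide)
          (by decide) (by decide) (by decide)
        have hs : σ ∈ Subgroup.closure ({σ, τ} : Set (Perm (Fin 6))) :=
          Subgroup.subset_closure (Or.inl rfl)
        have ht : τ ∈ Subgroup.closure ({σ, τ} : Set (Perm (Fin 6))) :=
          Subgroup.subset_closure (Or.inr rfl)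
        exact mul_mem (mul_mem (mul_mem hs ht) hs) ht
      set φ : Perm (Fin 6) := Equiv.swap 0 1
      refine of_two_signs Nat.prime_three u w σ τ 1 φ e₁ e₂ he₁ he₂ (map_one _) (by decide)
        (by simpa using hg) ?_
      rw [show φ * τ * φ⁻¹ = τ by decide]
      exact hg
  by_cases hu2 : ∃ x', U x' ≠ x' ∧ x' ∉ ({x, U x, U (U x)} : Finset (Fin n))
  · obtain ⟨x', hx', hxx⟩ := hu2
    obtain ⟨g, hg⟩ := six u w hu hw x x' y hx hx' hxx hy
    exact ⟨g, Or.inl hg⟩
  by_cases hw2 : ∃ y', W y' ≠ y' ∧ y' ∉ ({y, W y, W (W y)} : Finset (Fin n))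
  · obtain ⟨y', hy', hyy⟩ := hw2
    obtain ⟨g, hg⟩ := six w u hw hu y y' x hy hy' hyy hx
    exact ⟨g, Or.inr hg⟩
  -- two single cycles on five points
  simp only [not_exists, not_and, not_not] at hu2 hw2
  have five : ∀ (U : Perm (Fin n)) (x : Fin n), U ^ 3 = 1 → U x ≠ x →
      (∀ z, U z ≠ z → z ∈ ({x, U x, U (U x)} : Finset (Fin n))) →
      ∃ f₀ f₁ : Fin n, Function.Injective (![x, U x, U (U x), f₀, f₁]) ∧ U f₀ = f₀ ∧ U f₁ = f₁ ∧
        U (U (U x)) = x := by
    intro U x hU hx hfx
    obtain ⟨a3, a2, a1⟩ := triple U hU hx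
    have hle : 1 < (Finset.univ \ ({x, U x, U (U x)} : Finset (Fin n))).card := by
      rw [Finset.card_sdiff_of_subset (Finset.subset_univ _), Finset.card_univ, Fintype.card_fin]
      have := Finset.card_le_three (a := x) (b := U x) (c := U (U x))
      omega
    obtain ⟨f₀, h0, f₁, h1, h01⟩ := Finset.one_lt_card.1 hle
    replace h0 := (Finset.mem_sdiff.1 h0).2
    replace h1 := (Finset.mem_sdiff.1 h1).2
    have e0 : U f₀ = f₀ := by by_contra h; exact h0 (hfx _ h)
    have e1 : U f₁ = f₁ := by by_contra h; exact h1 (hfx _ h)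
    simp only [Finset.mem_insert, Finset.mem_singleton, not_or] at h0 h1
    refine ⟨f₀, f₁, ?_, e0, e1, a3⟩
    intro i j h
    fin_cases i <;> fin_cases j <;>
      simp [hx, Ne.symm hx, a2, a1, Ne.symm a2, Ne.symm a1, h0.1, h0.2.1, h0.2.2, h1.1, h1.2.1, h1.2.2,
        Ne.symm h0.1, Ne.symm h0.2.1, Ne.symm h0.2.2, Ne.symm h1.1, Ne.symm h1.2.1, Ne.symm h1.2.2,
        h01, Ne.symm h01] at h ⊢
  obtain ⟨f₀, f₁, hi, e0, e1, a3⟩ := five U x hu hx hu2
  obtain ⟨g₀, g₁, hj, d0, d1, c3⟩ := five W y hw hy hw2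
  obtain ⟨e₁, he₁⟩ : ∃ e₁ : Fin 5 ↪ Fin n, ∀ i, U (e₁ i) = e₁ ((![1, 2, 0, 3, 4] : Fin 5 → Fin 5) i) :=
    ⟨⟨_, hi⟩, fun i => by fin_cases i <;> simp [a3, e0, e1]⟩
  obtain ⟨e₂, he₂⟩ : ∃ e₂ : Fin 5 ↪ Fin n, ∀ i, W (e₂ i) = e₂ ((![0, 1, 3, 4, 2] : Fin 5 → Fin 5) i) := by
    refine ⟨⟨![g₀, g₁, y, W y, W (W y)], ?_⟩, ?_⟩
    · have e : (![g₀, g₁, y, W y, W (W y)] : Fin 5 → Fin n) =
          ![y, W y, W (W y), g₀, g₁] ∘ (![3, 4, 0, 1, 2] : Fin 5 → Fin 5) := by
        funext i; fin_cases i <;> rfl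
      rw [e]
      exact hj.comp (by decide)
    · intro i
      fin_cases i <;> simp [c3, d0, d1]
  set σ : Perm (Fin 5) := ⟨![1, 2, 0, 3, 4], ![2, 0, 1, 3, 4], by decide, by decide⟩
  set τ : Perm (Fin 5) := ⟨![0, 1, 3, 4, 2], ![0, 1, 4, 2, 3], by decide, by decide⟩
  have hg : Good 3 σ τ := by
    refine good_three σ τ 5 (σ * σ * τ * σ * τ) ?_ (by decide) (by decide) (by decide) (by decide)
      (by decide) (by decide) (by decide)
    have hs : σ ∈ Subgroup.closure ({σ, τ} : Set (Perm (Fin 5))) := Subgroup.subset_closure (Or.inl rfl)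
    have ht : τ ∈ Subgroup.closure ({σ, τ} : Set (Perm (Fin 5))) := Subgroup.subset_closure (Or.inr rfl)
    exact mul_mem (mul_mem (mul_mem (mul_mem hs hs) ht) hs) ht
  set φ : Perm (Fin 5) := Equiv.swap 0 1
  obtain ⟨g, hg⟩ := of_two_signs Nat.prime_three u w σ τ 1 φ e₁ e₂ he₁ he₂ (map_one _) (by decide)
    (by simpa using hg) (by rw [show φ * τ * φ⁻¹ = τ by decide]; exact hg)
  exact ⟨g, Or.inl hg⟩

theorem good_swap {G : Type*} [Group G] {p : ℕ} {u w g : G} (h : Good p w (g * u * g⁻¹)) :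
    Good p u (g⁻¹ * w * g) := by
  set c : G ≃* G := MulAut.conj g⁻¹ with hc
  have e1 : c (g * u * g⁻¹) = u := by simp [hc, MulAut.conj_apply, mul_assoc]
  have e2 : c w = g⁻¹ * w * g := by simp [hc, MulAut.conj_apply]
  constructor
  · rintro ⟨k, hk⟩
    refine h.1 ⟨k, ?_⟩
    rw [← hk, ← e2, ← orderOf_injective c.toMonoidHom c.injective (w * (g * u * g⁻¹))]
    simp only [MulEquiv.coe_toMonoidHom, map_mul]
    rw [← map_mul, ← map_mul, e1]
    exact (orderOf_injective (MulAut.conj u).toMonoidHom (MulAut.conj u).injective (c w * u)).symm.trans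
      (congrArg orderOf (by simp [MulAut.conj_apply, mul_assoc]))
  · intro hs
    refine h.2 ?_
    have hmap : (Subgroup.closure {w, g * u * g⁻¹}).map c.toMonoidHom =
        Subgroup.closure {u, g⁻¹ * w * g} := by
      rw [MonoidHom.map_closure, Set.image_pair]
      simp only [MulEquiv.coe_toMonoidHom]
      rw [e1, e2, Set.pair_comm]
    rw [← hmap] at hs
    haveI := hs
    let E := Subgroup.equivMapOfInjective (Subgroup.closure {w, g * u * g⁻¹}) c.toMonoidHom c.injective
    exact solvable_of_solvable_injective (f := E.toMonoidHom) fun _ _ h => E.injective h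

theorem exists_free_pair (hn : 5 ≤ n) {p : ℕ} (hp : p.Prime) (hp3 : 3 ≤ p)
    (u w : alternatingGroup (Fin n)) (hu : u ≠ 1) (hw : w ≠ 1) (hu' : ∃ k : ℕ, orderOf u = p ^ k)
    (hw' : ∃ k : ℕ, orderOf w = p ^ k) :
    ∃ g : alternatingGroup (Fin n), Good p u (g * w * g⁻¹) := by
  rw [← Subgroup.orderOf_coe] at hu' hw'
  obtain ⟨x₀, -, hx₀⟩ := (Finset.univ (α := Fin n)).exists_max_image (per (u : Perm (Fin n)))
    ⟨⟨0, by omega⟩, Finset.mem_univ _⟩
  obtain ⟨y₀, -, hy₀⟩ := (Finset.univ (α := Fin n)).exists_max_image (per (w : Perm (Fin n)))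
    ⟨⟨0, by omega⟩, Finset.mem_univ _⟩
  rcases Nat.lt_or_ge (max (per (u : Perm (Fin n)) x₀) (per (w : Perm (Fin n)) y₀)) 5 with h | h
  · -- all cycles have length at most three
    have hle : per (u : Perm (Fin n)) x₀ < 5 ∧ per (w : Perm (Fin n)) y₀ < 5 := max_lt_iff.1 h
    have cube : ∀ (v : alternatingGroup (Fin n)) (z₀ : Fin n), v ≠ 1 →
        (∃ k, orderOf (v : Perm (Fin n)) = p ^ k) → per (v : Perm (Fin n)) z₀ < 5 →
        (∀ z ∈ (Finset.univ : Finset (Fin n)), per (v : Perm (Fin n)) z ≤ per (v : Perm (Fin n)) z₀) →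
        p = 3 ∧ (v : Perm (Fin n)) ^ 3 = 1 := by
      intro v z₀ hv hv' hz hmax
      have key : ∀ z, 1 < per (v : Perm (Fin n)) z → p = 3 ∧ per (v : Perm (Fin n)) z = 3 := by
        intro z h1
        obtain ⟨j, hj⟩ := per_primePow hp hv' z
        have h5 := hmax z (Finset.mem_univ _)
        rcases j with _ | _ | j
        · rw [pow_zero] at hj; omega
        · rw [zero_add, pow_one] at hj
          have : p ≠ 4 := by rintro rfl; exact absurd hp (by decide)
          omega
        · have : 9 ≤ p ^ (j + 1 + 1) := by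
            rw [pow_succ, pow_succ]
            have := Nat.one_le_pow j p hp.pos
            have : 3 ≤ p ^ j * p := le_trans hp3 (Nat.le_mul_of_pos_left _ (Nat.pow_pos hp.pos))
            calc 9 = 3 * 3 := rfl
              _ ≤ p ^ j * p * p := Nat.mul_le_mul this hp3
          omega
      obtain ⟨z, hz1⟩ : ∃ z, (v : Perm (Fin n)) z ≠ z := by
        by_contra h
        simp only [not_exists, not_not] at h
        exact hv (Subtype.ext (Equiv.ext h))
      refine ⟨(key z (one_lt_per hz1)).1, Equiv.ext fun t => ?_⟩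
      rw [← Perm.iterate_eq_pow]
      show _ = t
      have hd : per (v : Perm (Fin n)) t ∣ 3 := by
        rcases Nat.lt_or_ge 1 (per (v : Perm (Fin n)) t) with h1 | h1
        · rw [(key t h1).2]
        · rw [le_antisymm h1 (per_pos _ t)]; exact one_dvd 3
      exact (Function.isPeriodicPt_iff_minimalPeriod_dvd.2 hd : _)
    obtain ⟨rfl, hu3⟩ := cube u x₀ hu hu' hle.1 hx₀
    obtain ⟨-, hw3⟩ := cube w y₀ hw hw' hle.2 hy₀
    obtain ⟨g, hg | hg⟩ := exists_of_three hn u w hu3 hw3 hu hw
    · exact ⟨g, hg⟩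
    · exact ⟨g⁻¹, by rw [inv_inv]; exact good_swap hg⟩
  rcases le_total (per (w : Perm (Fin n)) y₀) (per (u : Perm (Fin n)) x₀) with h1 | h1
  · exact exists_of_long hp hp3 u w hw hu' hw' x₀ (by rwa [max_eq_left h1] at h)
      fun y => (hy₀ y (Finset.mem_univ _)).trans h1
  · obtain ⟨g, hg⟩ := exists_of_long hp hp3 w u hu hw' hu' y₀ (by rwa [max_eq_right h1] at h)
      fun y => (hx₀ y (Finset.mem_univ _)).trans h1
    exact ⟨g⁻¹, by rw [inv_inv]; exact good_swap hg⟩

end Cfsg.Agent.H61.FreePair
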