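import Mathlib

/-!
Transfer of a good pair of permutations on few points to a pair of elements of the alternating group,
one of them conjugated by an even permutation.
-/

set_option autoImplicit false

namespace Cfsg.Agent.H61.FreePair

open Equiv

/-- The product of the pair does not have `p`-power order and the pair generates a nonsolvable group. -/
def Good {G : Type*} [Group G] (p : ℕ) (a b : G) : Prop :=
  (¬ ∃ k : ℕ, orderOf (a * b) = p ^ k) ∧ ¬ Group.IsSolvable ↥(Subgroup.closure ({a, b} : Set G))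

variable {n m p : ℕ}

/-- The pairs consisting of a permutation and a permutation it induces on an embedded subset. -/
def restrictPairs (e : Fin m ↪ Fin n) : Subgroup (alternatingGroup (Fin n) × Perm (Fin m)) where
  carrier := {a | ∀ i, (a.1 : Perm (Fin n)) (e i) = e (a.2 i)}
  one_mem' := fun i => by simp
  mul_mem' := fun {a b} ha hb i => by
    simp only [Set.mem_setOf_eq] at ha hb
    simp [ha, hb]
  inv_mem' := fun {a} ha i => by
    have h := ha (a.2⁻¹ i)
    simp only [Perm.coe_inv, Equiv.apply_symm_apply] at h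
    show ((a.1 : Perm (Fin n))⁻¹) (e i) = e (a.2⁻¹ i)
    rw [Perm.inv_eq_iff_eq]; exact h.symm

theorem good_of_restrict (hp : p.Prime) (e : Fin m ↪ Fin n) (a b : alternatingGroup (Fin n))
    (σ τ : Perm (Fin m)) (ha : ∀ i, (a : Perm (Fin n)) (e i) = e (σ i))
    (hb : ∀ i, (b : Perm (Fin n)) (e i) = e (τ i)) (h : Good p σ τ) : Good p a b := by
  constructor
  · rintro ⟨k, hk⟩
    refine h.1 ?_
    have hmem : ((a * b, σ * τ) : alternatingGroup (Fin n) × Perm (Fin m)) ^ (p ^ k) ∈ restrictPairs e :=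
      (restrictPairs e).pow_mem ((restrictPairs e).mul_mem (x := (a, σ)) (y := (b, τ)) ha hb) _
    have h1 : (σ * τ) ^ (p ^ k) = 1 := by
      refine Equiv.ext fun i => e.injective ?_
      have := hmem i
      simp only [Prod.pow_fst, Prod.pow_snd, ← hk, pow_orderOf_eq_one] at this
      simpa [← hk] using this.symm
    obtain ⟨j, -, hj⟩ := (Nat.dvd_prime_pow hp).1 (orderOf_dvd_of_pow_eq_one h1)
    exact ⟨j, hj⟩
  · intro hs
    refine h.2 ?_
    set L : Subgroup (alternatingGroup (Fin n) × Perm (Fin m)) :=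
      Subgroup.closure {(a, σ), (b, τ)} with hL
    have hle : L ≤ restrictPairs e := by
      rw [hL, Subgroup.closure_le]
      rintro x (rfl | rfl)
      · exact ha
      · exact hb
    have hfst : L.map (MonoidHom.fst (alternatingGroup (Fin n)) (Perm (Fin m))) =
        Subgroup.closure {a, b} := by
      rw [hL, MonoidHom.map_closure, Set.image_pair]; rfl
    have hsnd : L.map (MonoidHom.snd (alternatingGroup (Fin n)) (Perm (Fin m))) =
        Subgroup.closure {σ, τ} := by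
      rw [hL, MonoidHom.map_closure, Set.image_pair]; rfl
    haveI hLs : Group.IsSolvable L := by
      refine solvable_of_solvable_injective (f := ((MonoidHom.fst (alternatingGroup (Fin n))
        (Perm (Fin m))).comp L.subtype).codRestrict (Subgroup.closure {a, b})
          (fun x => hfst ▸ Subgroup.mem_map_of_mem _ x.2)) ?_
      intro x y hxy
      have h1 : (x : alternatingGroup (Fin n) × Perm (Fin m)).1 = (y : _ × Perm (Fin m)).1 :=
        congrArg Subtype.val hxy
      refine Subtype.ext (Prod.ext h1 (Equiv.ext fun i => e.injective ?_))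
      rw [← hle x.2 i, ← hle y.2 i, h1]
    rw [← hsnd]
    exact solvable_of_surjective
      (MonoidHom.subgroupMap_surjective (MonoidHom.snd (alternatingGroup (Fin n)) (Perm (Fin m))) L)

theorem exists_extends (e₁ e₂ : Fin m ↪ Fin n) : ∃ g : Perm (Fin n), ∀ i, g (e₂ i) = e₁ i := by
  haveI := Perm.isMultiplyPretransitive (Fin n) m
  obtain ⟨g, hg⟩ := MulAction.exists_smul_eq (Perm (Fin n)) e₂ e₁
  exact ⟨g, fun i => by rw [← hg]; rfl⟩

theorem of_extends (hp : p.Prime) (u w : alternatingGroup (Fin n)) (σ τ φ : Perm (Fin m))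
    (e₁ e₂ : Fin m ↪ Fin n) (hu : ∀ i, (u : Perm (Fin n)) (e₁ i) = e₁ (σ i))
    (hw : ∀ i, (w : Perm (Fin n)) (e₂ i) = e₂ (τ i)) (g : Perm (Fin n)) (hg : Perm.sign g = 1)
    (hge : ∀ i, g (e₂ i) = e₁ (φ i)) (h : Good p σ (φ * τ * φ⁻¹)) :
    ∃ g : alternatingGroup (Fin n), Good p u (g * w * g⁻¹) := by
  refine ⟨⟨g, Perm.mem_alternatingGroup.2 hg⟩, good_of_restrict hp e₁ _ _ σ _ hu (fun i => ?_) h⟩
  have hinv : g⁻¹ (e₁ i) = e₂ (φ⁻¹ i) := by
    rw [Perm.inv_eq_iff_eq, hge, Perm.coe_inv, Equiv.apply_symm_apply]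
  show (g * (w : Perm (Fin n)) * g⁻¹) (e₁ i) = e₁ ((φ * τ * φ⁻¹) i)
  simp only [Perm.mul_apply, hinv, hw, hge]

/-- Realisation when two renumberings of opposite signs both give good pairs. -/
theorem of_two_signs (hp : p.Prime) (u w : alternatingGroup (Fin n)) (σ τ φ₁ φ₂ : Perm (Fin m))
    (e₁ e₂ : Fin m ↪ Fin n) (hu : ∀ i, (u : Perm (Fin n)) (e₁ i) = e₁ (σ i))
    (hw : ∀ i, (w : Perm (Fin n)) (e₂ i) = e₂ (τ i)) (hφ₁ : Perm.sign φ₁ = 1)
    (hφ₂ : Perm.sign φ₂ = -1) (h₁ : Good p σ (φ₁ * τ * φ₁⁻¹)) (h₂ : Good p σ (φ₂ * τ * φ₂⁻¹)) :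
    ∃ g : alternatingGroup (Fin n), Good p u (g * w * g⁻¹) := by
  obtain ⟨g₀, hg₀⟩ := exists_extends e₁ e₂
  rcases Int.units_eq_one_or (Perm.sign g₀) with h | h
  · refine of_extends hp u w σ τ φ₁ e₁ e₂ hu hw (φ₁.viaFintypeEmbedding e₁ * g₀) ?_ (fun i => ?_) h₁
    · rw [map_mul, Perm.viaFintypeEmbedding_sign, hφ₁, h, mul_one]
    · rw [Perm.mul_apply, hg₀, Perm.viaFintypeEmbedding_apply_image]
  · refine of_extends hp u w σ τ φ₂ e₁ e₂ hu hw (φ₂.viaFintypeEmbedding e₁ * g₀) ?_ (fun i => ?_) h₂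
    · rw [map_mul, Perm.viaFintypeEmbedding_sign, hφ₂, h]; decide
    · rw [Perm.mul_apply, hg₀, Perm.viaFintypeEmbedding_apply_image]

/-- Realisation when an odd permutation fixes the subset or centralises the conjugated element. -/
theorem of_odd (hp : p.Prime) (u w : alternatingGroup (Fin n)) (σ τ : Perm (Fin m))
    (e₁ e₂ : Fin m ↪ Fin n) (hu : ∀ i, (u : Perm (Fin n)) (e₁ i) = e₁ (σ i))
    (hw : ∀ i, (w : Perm (Fin n)) (e₂ i) = e₂ (τ i))
    (hc : ∃ c : Perm (Fin n), Perm.sign c = -1 ∧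
      ((∀ i, c (e₁ i) = e₁ i) ∨ c * (w : Perm (Fin n)) = (w : Perm (Fin n)) * c))
    (h : Good p σ τ) : ∃ g : alternatingGroup (Fin n), Good p u (g * w * g⁻¹) := by
  obtain ⟨g₀, hg₀⟩ := exists_extends e₁ e₂
  have h' : Good p σ (1 * τ * 1⁻¹) := by simpa using h
  rcases Int.units_eq_one_or (Perm.sign g₀) with hs | hs
  · exact of_extends hp u w σ τ 1 e₁ e₂ hu hw g₀ hs (by simpa using hg₀) h'
  · obtain ⟨c, hcs, hc | hc⟩ := hc
    · refine of_extends hp u w σ τ 1 e₁ e₂ hu hw (c * g₀) ?_ (fun i => ?_) h'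
      · rw [map_mul, hcs, hs]; decide
      · simp [hg₀, hc]
    · have hinv : ∀ i, (g₀ * c)⁻¹ (e₁ i) = c⁻¹ (e₂ i) := fun i => by
        rw [mul_inv_rev, Perm.mul_apply, ← hg₀ i]; exact congrArg _ (Equiv.symm_apply_apply g₀ _)
      refine ⟨⟨g₀ * c, Perm.mem_alternatingGroup.2 (by rw [map_mul, hcs, hs]; decide)⟩,
        good_of_restrict hp e₁ _ _ σ τ hu (fun i => ?_) h⟩
      show (g₀ * c * (w : Perm (Fin n)) * (g₀ * c)⁻¹) (e₁ i) = e₁ (τ i)
      rw [mul_assoc g₀ c, hc, Perm.mul_apply, hinv, Perm.mul_apply, Perm.mul_apply,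
        Perm.coe_inv, Equiv.apply_symm_apply, hw, hg₀]

end Cfsg.Agent.H61.FreePair
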