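import Cfsg.Agent.H61.FreePairCriterion
import Cfsg.Agent.H61.FreePairRealize

/-!
Good pairs on `q = p ^ k` points whose first member is the full cycle, and good pairs on five and six
points whose members have order three.
-/

set_option autoImplicit false

namespace Cfsg.Agent.H61.FreePair

open Equiv

theorem good_of_fixed {p k m : ℕ} (hp : p.Prime) (hm : m = p ^ k) (h2 : 2 ≤ m) (τ : Perm (Fin m))
    (hf1 : Nat.card {x // (finRotate m * τ) x = x} ≠ 1)
    (hfp : ¬ p ∣ Nat.card {x // (finRotate m * τ) x = x})
    (hres : ∀ d : ℕ, d ∣ m → 1 < d → d < m →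
      ∃ g ∈ Subgroup.closure ({finRotate m, τ} : Set (Perm (Fin m))), ∃ i j : Fin m,
        i.val % d = j.val % d ∧ (g i).val % d ≠ (g j).val % d) :
    Good p (finRotate m) τ := by
  classical
  haveI : Fact p.Prime := ⟨hp⟩
  haveI : Nontrivial (Fin m) := Fin.nontrivial_iff_two_le.2 h2
  have hσ : finRotate m ∈ Subgroup.closure ({finRotate m, τ} : Set (Perm (Fin m))) :=
    Subgroup.subset_closure (Or.inl rfl)
  have hτ : τ ∈ Subgroup.closure ({finRotate m, τ} : Set (Perm (Fin m))) :=
    Subgroup.subset_closure (Or.inr rfl)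
  constructor
  · rintro ⟨j, hj⟩
    have h := Perm.card_compl_support_modEq (p := p) (n := j)
      (σ := finRotate m * τ) (by rw [← hj]; exact pow_orderOf_eq_one _)
    have hc : (finRotate m * τ).supportᶜ.card = Nat.card {x // (finRotate m * τ) x = x} := by
      rw [Nat.card_eq_fintype_card, Fintype.card_subtype]
      congr 1
      ext x
      simp
    rw [hc, Fintype.card_fin] at h
    apply hfp
    have hk : k ≠ 0 := by rintro rfl; simp only [pow_zero] at hm; omega
    exact (Nat.modEq_zero_iff_dvd).1 (h.trans (Nat.modEq_zero_iff_dvd.2 (hm ▸ dvd_pow_self p hk)))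
  · haveI := isPreprimitive_of_residues h2 _ hσ hres
    exact not_solvable_of_fixed _ hp (by rw [Nat.card_fin]; exact hm)
      (Subgroup.mul_mem _ hσ hτ) hf1 hfp

/-- Pattern for a second member whose longest cycle is shorter than the first one. -/
theorem good_backward {p a c q b : ℕ} (hp : p.Prime) (hp3 : 3 ≤ p) (hq : q = p ^ a) (hb : b = p ^ c)
    (hc : 0 < c) (hbq : b < q)
    (τ : Perm (Fin q)) (hz : ∀ i : Fin q, i.val = 0 → (τ i).val + 1 = b)
    (hlow : ∀ i : Fin q, 0 < i.val → i.val < b → (τ i).val + 1 = i.val)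
    (hhigh : ∀ i : Fin q, b ≤ i.val →
      (τ i).val = i.val + 1 ∨ ∃ j, (τ i).val + p ^ j = i.val + 1) :
    Good p (finRotate q) τ := by
  classical
  have hca : c < a := by
    rw [hb, hq] at hbq
    exact (Nat.pow_lt_pow_iff_right hp.one_lt).1 hbq
  have hb3 : 3 ≤ b := hb ▸ le_trans hp3 (Nat.le_self_pow hc.ne' p)
  have hpb : p * b ≤ q := by
    rw [hb, hq, ← pow_succ']
    exact Nat.pow_le_pow_right hp.pos hca
  have h3b : 3 * b ≤ q := le_trans (Nat.mul_le_mul_right b hp3) hpb
  haveI : NeZero q := ⟨by omega⟩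
  have hval : ∀ x : Fin q, (finRotate q x).val = (x.val + 1) % q := fun x => by
    have := finRotate_pow_val 1 x
    rwa [pow_one] at this
  have hfix : ∀ x : Fin q, (finRotate q * τ) x = x ↔ 0 < x.val ∧ x.val < b := fun x => by
    rw [Perm.mul_apply, Fin.ext_iff, hval]
    have hlt := (τ x).isLt
    have hxl := x.isLt
    have hmod : ((τ x).val + 1) % q = if (τ x).val + 1 = q then 0 else (τ x).val + 1 := by
      split
      · rename_i h; rw [h, Nat.mod_self]
      · exact Nat.mod_eq_of_lt (by omega)
    rw [hmod]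
    rcases Nat.eq_zero_or_pos x.val with h0 | h0
    · have := hz x h0; split <;> omega
    rcases Nat.lt_or_ge x.val b with h1 | h1
    · have := hlow x h0 h1; split <;> omega
    rcases hhigh x h1 with h | ⟨j, h⟩
    · split <;> omega
    · have hj2 : p ^ j ≠ 2 := by
        rcases Nat.eq_zero_or_pos j with rfl | hj
        · simp
        · have := le_trans hp3 (Nat.le_self_pow hj.ne' p); omega
      split <;> omega
  have hf : Nat.card {x // (finRotate q * τ) x = x} = b - 1 := by
    have e : {x // (finRotate q * τ) x = x} ≃ Fin (b - 1) :=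
      { toFun := fun x => ⟨x.1.val - 1, by have := (hfix x.1).1 x.2; omega⟩
        invFun := fun i => ⟨(⟨i.val + 1, by omega⟩ : Fin q), (hfix _).2 ⟨Nat.succ_pos _, by
          show i.val + 1 < b
          omega⟩⟩
        left_inv := fun x => Subtype.ext (Fin.ext (by
          have := (hfix x.1).1 x.2
          show x.1.val - 1 + 1 = x.1.val
          omega))
        right_inv := fun i => Fin.ext (show i.val + 1 - 1 = i.val by omega) }
    rw [Nat.card_congr e, Nat.card_fin]
  refine good_of_fixed hp hq (by omega) τ (by omega) ?_ ?_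
  · rw [hf]
    intro h
    have hpb' : p ∣ b := hb ▸ dvd_pow_self p hc.ne'
    have h1 : p ∣ b - (b - 1) := Nat.dvd_sub hpb' h
    rw [show b - (b - 1) = 1 by omega, Nat.dvd_one] at h1
    omega
  intro d hdq hd1 hdlt
  obtain ⟨j, hj, rfl⟩ := (Nat.dvd_prime_pow hp).1 (hq ▸ hdq)
  have hj0 : 0 < j := by
    rcases Nat.eq_zero_or_pos j with rfl | h
    · simp at hd1
    · exact h
  have hpd : p ∣ p ^ j := dvd_pow_self p hj0.ne'
  have hd3 : p * p ^ j ≤ q := by
    rw [hq, ← pow_succ']
    refine Nat.pow_le_pow_right hp.pos ?_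
    by_contra hh
    have := Nat.pow_le_pow_right hp.pos (show a ≤ j by omega)
    omega
  have h3d : 3 * p ^ j ≤ q := le_trans (Nat.mul_le_mul_right _ hp3) hd3
  set d := p ^ j with hd
  refine ⟨τ, Subgroup.subset_closure (Or.inr rfl), ⟨q - d + 1, by omega⟩, ⟨1, by omega⟩, ?_, ?_⟩
  · show (q - d + 1) % d = 1 % d
    rw [Nat.add_mod, Nat.mod_eq_zero_of_dvd (Nat.dvd_sub hdq dvd_rfl), zero_add, Nat.mod_mod]
  · have h1 := hlow ⟨1, by omega⟩ one_pos (show 1 < b by omega)
    simp only at h1
    rw [show (τ ⟨1, _⟩).val = 0 by omega, Nat.zero_mod]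
    intro h
    have hdvd : p ∣ (τ ⟨q - d + 1, by omega⟩).val := hpd.trans (Nat.dvd_of_mod_eq_zero h)
    have hqd : p ∣ q - d := hpd.trans (Nat.dvd_sub hdq dvd_rfl)
    have hno : ¬ p ∣ 2 := fun h2 => by have := Nat.le_of_dvd two_pos h2; omega
    apply hno
    rcases hhigh ⟨q - d + 1, by omega⟩ (show b ≤ q - d + 1 by omega) with e | ⟨i, e⟩
    · simp only at e
      rw [e, show q - d + 1 + 1 = q - d + 2 by omega] at hdvd
      exact (Nat.dvd_add_right hqd).1 hdvd
    · simp only at e
      rcases Nat.eq_zero_or_pos i with rfl | hi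
      · exfalso
        rw [pow_zero] at e
        have h1' : (τ ⟨q - d + 1, by omega⟩).val = q - d + 1 := by omega
        rw [h1'] at hdvd
        have := (Nat.dvd_add_right hqd).1 hdvd
        rw [Nat.dvd_one] at this
        omega
      · have : p ∣ q - d + 1 + 1 := e ▸ dvd_add hdvd (dvd_pow_self p hi.ne')
        rw [show q - d + 1 + 1 = q - d + 2 by omega] at this
        exact (Nat.dvd_add_right hqd).1 this

theorem good_few_moved {p a q : ℕ} (hp : p.Prime) (hp3 : 3 ≤ p) (hq : q = p ^ a) (hq5 : 5 ≤ q)
    (τ : Perm (Fin q)) (S : Finset ℕ) (hS : S ⊆ Finset.range 5)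
    (hfix : ∀ x : Fin q, (finRotate q * τ) x = x ↔ x.val ∉ S)
    (h1 : ∀ x : Fin q, x.val = 1 → 5 < q →
      ((finRotate q * τ) x).val = 0 ∨ ((finRotate q * τ) x).val = 3)
    (hf1 : q - S.card ≠ 1) (hfp : ¬ p ∣ q - S.card) :
    Good p (finRotate q) τ := by
  classical
  have hf : Nat.card {x // (finRotate q * τ) x = x} = q - S.card := by
    rw [Nat.card_eq_fintype_card, Fintype.card_subtype]
    have e : Finset.univ.filter (fun x => (finRotate q * τ) x = x) =
        (Finset.univ.filter fun x : Fin q => x.val ∈ S)ᶜ := by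
      ext x
      simp only [Finset.mem_compl, Finset.mem_filter, Finset.mem_univ, true_and]
      exact hfix x
    rw [e, Finset.card_compl, Fintype.card_fin]
    congr 1
    refine Finset.card_nbij (fun x => x.val) (fun x hx => (Finset.mem_filter.1 hx).2)
      (Fin.val_injective.injOn) (fun y hy => ?_)
    have := Finset.mem_range.1 (hS hy)
    exact ⟨⟨y, by omega⟩, by simpa using hy, rfl⟩
  refine good_of_fixed hp hq (by omega) τ (by omega) (by rwa [hf]) ?_
  intro d hdq hd1 hdlt
  obtain ⟨j, hj, rfl⟩ := (Nat.dvd_prime_pow hp).1 (hq ▸ hdq)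
  have hj0 : j ≠ 0 := by rintro rfl; simp at hd1
  have h3d : 3 * p ^ j ≤ q := by
    refine le_trans (Nat.mul_le_mul_right _ hp3) ?_
    rw [hq, ← pow_succ']
    refine Nat.pow_le_pow_right hp.pos ?_
    by_contra hh
    have := Nat.pow_le_pow_right hp.pos (show a ≤ j by omega)
    omega
  have hd3 : 3 ≤ p ^ j := le_trans hp3 (Nat.le_self_pow hj0 p)
  set d := p ^ j
  refine ⟨finRotate q * τ, Subgroup.mul_mem _ (Subgroup.subset_closure (Or.inl rfl))
    (Subgroup.subset_closure (Or.inr rfl)), ⟨1, by omega⟩, ⟨q - d + 1, by omega⟩, ?_, ?_⟩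
  · show 1 % d = (q - d + 1) % d
    rw [Nat.add_mod, Nat.mod_eq_zero_of_dvd (Nat.dvd_sub hdq dvd_rfl), zero_add, Nat.mod_mod]
  · have hj' : (finRotate q * τ) ⟨q - d + 1, by omega⟩ = ⟨q - d + 1, by omega⟩ :=
      (hfix _).2 fun h => by have := Finset.mem_range.1 (hS h); simp only at this; omega
    rw [hj']
    show _ ≠ (q - d + 1) % d
    rw [Nat.add_mod, Nat.mod_eq_zero_of_dvd (Nat.dvd_sub hdq dvd_rfl), zero_add, Nat.mod_mod,
      Nat.mod_eq_of_lt (show 1 < d by omega)]
    rcases h1 ⟨1, by omega⟩ rfl (by omega) with e | e <;> rw [e]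
    · simp
    · rcases Nat.lt_or_ge 3 d with h | h
      · rw [Nat.mod_eq_of_lt h]; omega
      · rw [show d = 3 by omega]; simp

theorem rotate_mul_conj {m : ℕ} (φ : Perm (Fin m)) :
    finRotate m * (φ * (finRotate m)⁻¹ * φ⁻¹) = (finRotate m * φ * (finRotate m)⁻¹) * φ⁻¹ := by
  group

/-- Pattern for two cycles of the same length `p ^ a`, with renumberings of both signs. -/
theorem good_equal {p a q : ℕ} (hp : p.Prime) (hp3 : 3 ≤ p) (hq : q = p ^ a) (hq5 : 5 ≤ q) :
    ∃ φ₁ φ₂ : Perm (Fin q), Perm.sign φ₁ = 1 ∧ Perm.sign φ₂ = -1 ∧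
      Good p (finRotate q) (φ₁ * (finRotate q)⁻¹ * φ₁⁻¹) ∧
      Good p (finRotate q) (φ₂ * (finRotate q)⁻¹ * φ₂⁻¹) := by
  classical
  haveI : NeZero q := ⟨by omega⟩
  let P : ℕ → Fin q := fun i => ⟨i % q, Nat.mod_lt _ (by omega)⟩
  have hval : ∀ i, i < q → (P i).val = i := fun i h => Nat.mod_eq_of_lt h
  have hR : ∀ i, i + 1 < q → finRotate q (P i) = P (i + 1) := fun i h => Fin.ext (by
    have := finRotate_pow_val 1 (P i)
    rw [pow_one, hval i (by omega)] at this
    rw [this, hval _ h, Nat.mod_eq_of_lt h])
  have hne : ∀ i j, i < q → j < q → i ≠ j → P i ≠ P j := fun i j hi hj h e => h (by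
    rw [← hval i hi, ← hval j hj, e])
  have hconj : ∀ i j, i + 1 < q → j + 1 < q →
      finRotate q * Equiv.swap (P i) (P j) * (finRotate q)⁻¹ = Equiv.swap (P (i + 1)) (P (j + 1)) :=
    fun i j hi hj => by rw [← hR i hi, ← hR j hj, swap_apply_apply]
  have hpq : p ∣ q := hq ▸ dvd_pow_self p (fun h => by rw [h, pow_zero] at hq; omega)
  have hnot : ∀ r, 0 < r → r < p → r ≤ q → ¬ p ∣ q - r := fun r h0 h1 h2 h => by
    have := Nat.dvd_sub hpq h
    rw [show q - (q - r) = r by omega] at this
    have := Nat.le_of_dvd h0 this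
    omega
  -- products of two transpositions
  have hmul : ∀ s t : Perm (Fin q), finRotate q * (s * t) * (finRotate q)⁻¹ =
      (finRotate q * s * (finRotate q)⁻¹) * (finRotate q * t * (finRotate q)⁻¹) := fun s t => by group
  have hx : ∀ (x : Fin q) i, i < q → (x = P i ↔ x.val = i) := fun x i hi => by
    rw [Fin.ext_iff, hval i hi]
  -- the even renumbering
  have hEven : ∃ φ : Perm (Fin q), Perm.sign φ = 1 ∧
      Good p (finRotate q) (φ * (finRotate q)⁻¹ * φ⁻¹) := by
    by_cases h3 : p = 3
    · have h9 : 9 ≤ q := by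
        subst h3
        rcases a with _ | _ | a
        · simp at hq; omega
        · simp at hq; omega
        · rw [hq, pow_succ, pow_succ]
          have := Nat.one_le_pow a 3 (by omega)
          omega
      refine ⟨Equiv.swap (P 0) (P 1) * Equiv.swap (P 1) (P 3), ?_, ?_⟩
      · rw [map_mul, Perm.sign_swap (hne _ _ (by omega) (by omega) (by omega)),
          Perm.sign_swap (hne _ _ (by omega) (by omega) (by omega))]
        decide
      · refine good_few_moved hp hp3 hq hq5 _ {0, 1, 2, 3, 4} (by decide) (fun x => ?_) (fun x h _ => ?_)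
          (by simp; omega) ?_
        · rw [rotate_mul_conj, hmul, hconj 0 1 (by omega) (by omega), hconj 1 3 (by omega) (by omega),
            mul_inv_rev, Equiv.swap_inv, Equiv.swap_inv]
          simp only [Perm.mul_apply, swap_apply_def]
          by_cases x0 : x.val < 5
          · rcases x with ⟨v, hv⟩
            simp only at x0
            interval_cases v <;> simp [hx, Fin.ext_iff, hval, show 4 < q by omega, show 3 < q by omega,
              show 2 < q by omega, show 1 < q by omega, show 0 < q by omega]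
          · have e : ∀ i, i < 5 → ¬ x = P i := fun i hi h => by
              rw [hx x i (by omega)] at h; omega
            simp only [e 0 (by omega), e 1 (by omega), e 2 (by omega), e 3 (by omega), e 4 (by omega), if_neg, not_false_eq_true, Finset.mem_insert, Finset.mem_singleton, if_false, true_iff]
            omega
        · rw [rotate_mul_conj, hmul, hconj 0 1 (by omega) (by omega), hconj 1 3 (by omega) (by omega),
            mul_inv_rev, Equiv.swap_inv, Equiv.swap_inv]
          left
          rw [(hx x 1 (by omega)).2 h]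
          simp [swap_apply_def, Fin.ext_iff, hval, show 4 < q by omega, show 3 < q by omega,
              show 2 < q by omega, show 1 < q by omega, show 0 < q by omega]
        · simp only [Finset.mem_insert, Finset.mem_singleton, not_false_eq_true, Finset.card_insert_of_notMem,
            Finset.card_singleton, OfNat.ofNat_ne_one, OfNat.zero_ne_ofNat, zero_ne_one, or_self,
            OfNat.one_ne_ofNat, Nat.reduceAdd, Nat.reduceEqDiff]
          subst h3
          omega
    · refine ⟨Equiv.swap (P 0) (P 1) * Equiv.swap (P 1) (P 2), ?_, ?_⟩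
      · rw [map_mul, Perm.sign_swap (hne _ _ (by omega) (by omega) (by omega)),
          Perm.sign_swap (hne _ _ (by omega) (by omega) (by omega))]
        decide
      · refine good_few_moved hp hp3 hq hq5 _ {0, 1, 3} (by decide) (fun x => ?_) (fun x h _ => ?_)
          (by simp; omega) (hnot 3 (by omega) (by omega) (by omega))
        · rw [rotate_mul_conj, hmul, hconj 0 1 (by omega) (by omega), hconj 1 2 (by omega) (by omega),
            mul_inv_rev, Equiv.swap_inv, Equiv.swap_inv]
          simp only [Perm.mul_apply, swap_apply_def]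
          by_cases x0 : x.val < 5
          · rcases x with ⟨v, hv⟩
            simp only at x0
            interval_cases v <;> simp [hx, Fin.ext_iff, hval, show 4 < q by omega, show 3 < q by omega,
              show 2 < q by omega, show 1 < q by omega, show 0 < q by omega]
          · have e : ∀ i, i < 5 → ¬ x = P i := fun i hi h => by
              rw [hx x i (by omega)] at h; omega
            simp only [e 0 (by omega), e 1 (by omega), e 2 (by omega), e 3 (by omega), e 4 (by omega), if_neg, not_false_eq_true, Finset.mem_insert, Finset.mem_singleton, if_false, true_iff]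
            omega
        · rw [rotate_mul_conj, hmul, hconj 0 1 (by omega) (by omega), hconj 1 2 (by omega) (by omega),
            mul_inv_rev, Equiv.swap_inv, Equiv.swap_inv]
          left
          rw [(hx x 1 (by omega)).2 h]
          simp [swap_apply_def, Fin.ext_iff, hval, show 4 < q by omega, show 3 < q by omega,
              show 2 < q by omega, show 1 < q by omega, show 0 < q by omega]
  have hOdd : ∃ φ : Perm (Fin q), Perm.sign φ = -1 ∧
      Good p (finRotate q) (φ * (finRotate q)⁻¹ * φ⁻¹) := by
    rcases Nat.lt_or_ge 5 q with h6 | h6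
    · refine ⟨Equiv.swap (P 0) (P 2), Perm.sign_swap (hne _ _ (by omega) (by omega) (by omega)), ?_⟩
      have hodd : q ≠ 6 := fun h => by
        rw [h] at hpq
        have hp6 := Nat.le_of_dvd (by omega) hpq
        have : Odd q := hq ▸ (hp.odd_of_ne_two (by omega)).pow
        rw [h] at this
        exact absurd this (by decide)
      refine good_few_moved hp hp3 hq hq5 _ {0, 1, 2, 3} (by decide) (fun x => ?_) (fun x h _ => ?_)
        (by simp; omega) ?_
      · rw [rotate_mul_conj, hconj 0 2 (by omega) (by omega), Equiv.swap_inv]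
        simp only [Perm.mul_apply, swap_apply_def]
        by_cases x0 : x.val < 5
        · rcases x with ⟨v, hv⟩
          simp only at x0
          interval_cases v <;> simp [hx, Fin.ext_iff, hval, show 4 < q by omega, show 3 < q by omega,
              show 2 < q by omega, show 1 < q by omega, show 0 < q by omega]
        · have e : ∀ i, i < 5 → ¬ x = P i := fun i hi h => by
            rw [hx x i (by omega)] at h; omega
          simp only [e 0 (by omega), e 1 (by omega), e 2 (by omega), e 3 (by omega), e 4 (by omega), if_neg, not_false_eq_true, Finset.mem_insert, Finset.mem_singleton, if_false, true_iff]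
          omega
      · rw [rotate_mul_conj, hconj 0 2 (by omega) (by omega), Equiv.swap_inv]
        right
        rw [(hx x 1 (by omega)).2 h]
        simp [swap_apply_def, Fin.ext_iff, hval, show 4 < q by omega, show 3 < q by omega,
              show 2 < q by omega, show 1 < q by omega, show 0 < q by omega]
      · show ¬ p ∣ q - 4
        intro h
        have := Nat.dvd_sub hpq h
        rw [show q - (q - 4) = 2 * 2 by omega] at this
        rcases hp.dvd_mul.1 this with h2 | h2 <;> · have := Nat.le_of_dvd two_pos h2; omega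
    · have h5 : q = 5 := by omega
      have hp5 : p = 5 := by
        have := Nat.le_of_dvd (by omega) hpq
        rw [h5] at hpq
        exact (Nat.prime_dvd_prime_iff_eq hp (by decide)).1 hpq
      refine ⟨Equiv.swap (P 0) (P 1), Perm.sign_swap (hne _ _ (by omega) (by omega) (by omega)), ?_⟩
      refine good_few_moved hp hp3 hq hq5 _ {0, 1, 2} (by decide) (fun x => ?_) (fun x h hh => absurd hh (by omega))
        (by simp; omega) (hnot 3 (by omega) (by omega) (by omega))
      rw [rotate_mul_conj, hconj 0 1 (by omega) (by omega), Equiv.swap_inv]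
      simp only [Perm.mul_apply, swap_apply_def]
      by_cases x0 : x.val < 5
      · rcases x with ⟨v, hv⟩
        simp only at x0
        interval_cases v <;> simp [hx, Fin.ext_iff, hval, show 4 < q by omega, show 3 < q by omega,
            show 2 < q by omega, show 1 < q by omega, show 0 < q by omega]
      · omega
  obtain ⟨φ₁, h1, h1'⟩ := hEven
  obtain ⟨φ₂, h2, h2'⟩ := hOdd
  exact ⟨φ₁, φ₂, h1, h2, h1', h2'⟩

/-- A solvable group generated by two elements of coprime orders, whose product has order coprime to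
both, is trivial. -/
theorem not_solvable_of_coprime_orders {G : Type*} [Group G] [Finite G] (H : Subgroup G) {a b : G}
    (ha : a ∈ H) (hb : b ∈ H) (hb1 : b ≠ 1) {r s t : ℕ} (har : a ^ r = 1) (hbs : b ^ s = 1)
    (habt : (a * b) ^ t = 1) (hrs : r.Coprime s) (hrt : r.Coprime t) (hst : s.Coprime t) :
    ¬ Group.IsSolvable H := by
  intro hs
  set K : Subgroup G := Subgroup.closure {a, b} with hK
  have hKH : K ≤ H := by
    rw [hK, Subgroup.closure_le]; rintro x (rfl | rfl); exacts [ha, hb]
  haveI : Group.IsSolvable K :=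
    solvable_of_solvable_injective (Subgroup.inclusion_injective hKH)
  set A : K := ⟨a, Subgroup.subset_closure (Or.inl rfl)⟩ with hA
  set B : K := ⟨b, Subgroup.subset_closure (Or.inr rfl)⟩ with hB
  haveI : Nontrivial K := ⟨⟨B, 1, fun h => hb1 (congrArg Subtype.val h)⟩⟩
  have hlt := (Group.IsSolvable.commutator_lt_top_of_nontrivial K)
  set π := Abelianization.of (G := K)
  have eA : π A ^ r = 1 := by rw [← map_pow, show A ^ r = 1 from Subtype.ext har, map_one]
  have eB : π B ^ s = 1 := by rw [← map_pow, show B ^ s = 1 from Subtype.ext hbs, map_one]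
  have eAB : (π A * π B) ^ t = 1 := by
    rw [← map_mul, ← map_pow, show (A * B) ^ t = 1 from Subtype.ext habt, map_one]
  have hB1 : π B = 1 := by
    have h1 : π B ^ (r * t) = 1 := by
      have h : (π A * π B) ^ (r * t) = 1 := by rw [mul_comm r t, pow_mul, eAB, one_pow]
      rwa [mul_pow, pow_mul (π A), eA, one_pow, one_mul] at h
    have h := pow_gcd_eq_one.2 ⟨eB, h1⟩
    rwa [(Nat.Coprime.mul_right hrs.symm hst).gcd_eq_one, pow_one] at h
  have hA1 : π A = 1 := by
    have h1 : π A ^ t = 1 := by rwa [hB1, mul_one] at eAB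
    have h := pow_gcd_eq_one.2 ⟨eA, h1⟩
    rwa [hrt.gcd_eq_one, pow_one] at h
  refine hlt.ne (eq_top_iff.2 ?_)
  rw [← Abelianization.ker_of]
  have htop : Subgroup.closure ({A, B} : Set K) = ⊤ := by
    apply Subgroup.map_injective K.subtype_injective
    rw [MonoidHom.map_closure, Set.image_pair, ← MonoidHom.range_eq_map, Subgroup.range_subtype]
    rfl
  rw [← htop, Subgroup.closure_le]
  rintro x (rfl | rfl)
  exacts [hA1, hB1]

/-- Two permutations of order three on six or five points: the first is `σ`. -/
theorem good_three {m : ℕ} (σ τ : Perm (Fin m)) (r : ℕ) (a : Perm (Fin m))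
    (ha : a ∈ Subgroup.closure ({σ, τ} : Set (Perm (Fin m)))) (hσ : σ ^ 3 = 1) (hσ1 : σ ≠ 1)
    (ha2 : a ^ 2 = 1) (has : (a * σ) ^ 5 = 1) (hr : (σ * τ) ^ r = 1) (hr3 : Nat.Coprime r 3)
    (hne : σ * τ ≠ 1) :
    Good 3 σ τ := by
  refine ⟨?_, not_solvable_of_coprime_orders _ ha (Subgroup.subset_closure (Or.inl rfl)) hσ1 ha2 hσ has
    (by decide) (by decide) (by decide)⟩
  rintro ⟨k, hk⟩
  have hd : orderOf (σ * τ) ∣ r := orderOf_dvd_of_pow_eq_one hr
  rw [hk] at hd
  have h : Nat.Coprime (3 ^ k) (3 ^ k) :=
    Nat.Coprime.coprime_dvd_left hd (Nat.Coprime.pow_right k hr3)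
  rw [Nat.coprime_self] at h
  exact hne (orderOf_eq_one_iff.1 (hk.trans h))

end Cfsg.Agent.H61.FreePair
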