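import Cfsg.Agent.H61.OddProductSteps

/-!
Any two involutions of one class of a symmetric group of degree at least five have a common
neighbour in the odd-product graph, or rather a third matching of the same size with both products
of odd order. Induction by contracting paths, squares and cycles.
-/

set_option autoImplicit false

namespace Cfsg.Agent.H61.OddProduct

open Equiv Finset

variable {α : Type*} [DecidableEq α] [Fintype α]

/-- Two different perfect matchings of a four-element set: the only exception. -/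
def Bad (S : Finset α) (x y : Perm α) : Prop :=
  S.card = 4 ∧ x.support = S ∧ y.support = S ∧ x ≠ y

/-- A square at `v`. -/
def SquareAt (x y : Perm α) (v : α) : Prop :=
  x v ≠ v ∧ y v ≠ v ∧ x v ≠ y v ∧ y (x v) = x (y v)

theorem Bad.square {S : Finset α} {x y : Perm α} (hx : Inv x) (hy : Inv y) (h : Bad S x y) {v : α}
    (hv : v ∈ S) : SquareAt x y v ∧ S = {v, x v, y v, x (y v)} := by
  obtain ⟨h4, hxS, hyS, hne⟩ := h
  have hxm : ∀ w ∈ S, x w ≠ w ∧ x w ∈ S := fun w hw =>
    ⟨Perm.mem_support.1 (hxS.symm ▸ hw), hx.sub_apply_mem hxS.le hw⟩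
  have hym : ∀ w ∈ S, y w ≠ w ∧ y w ∈ S := fun w hw =>
    ⟨Perm.mem_support.1 (hyS.symm ▸ hw), hy.sub_apply_mem hyS.le hw⟩
  have hne' : x v ≠ y v := by
    intro e
    apply hne
    ext w
    by_cases hw : w ∈ S
    swap
    · rw [Perm.notMem_support.1 (hxS.symm ▸ hw), Perm.notMem_support.1 (hyS.symm ▸ hw)]
    by_cases h1 : w = v
    · rw [h1, e]
    by_cases h2 : w = x v
    · rw [h2, hx v, e, hy v]
    have hT : ((S.erase v).erase (x v)).erase w = {x w} := by
      refine (Finset.eq_of_subset_of_card_le ?_ ?_).symm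
      · simp only [singleton_subset_iff, mem_erase]
        exact ⟨(hxm w hw).1, fun e' => h1 (x.injective e'), fun e' => h2 (by rw [← e', hx w]),
          (hxm w hw).2⟩
      · rw [card_singleton]
        have := card_erase_add_one hv
        have := card_erase_add_one (show x v ∈ S.erase v by simp [(hxm v hv).1, (hxm v hv).2])
        have := card_erase_add_one
          (show w ∈ (S.erase v).erase (x v) by simp [h1, h2, hw])
        omega
    have : y w ∈ ((S.erase v).erase (x v)).erase w := by
      simp only [mem_erase]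
      exact ⟨(hym w hw).1, fun e' => h1 (y.injective (e'.trans e)),
        fun e' => h2 (by rw [e, ← e', hy w]), (hym w hw).2⟩
    rw [hT, mem_singleton] at this
    rw [this]
  have hS : S = {v, x v, y v, x (y v)} := by
    refine (Finset.eq_of_subset_of_card_le ?_ ?_).symm
    · simp only [insert_subset_iff, singleton_subset_iff]
      exact ⟨hv, (hxm v hv).2, (hym v hv).2, (hxm _ (hym v hv).2).2⟩
    · rw [h4, card_insert_of_notMem, card_insert_of_notMem, card_insert_of_notMem, card_singleton] <;>
        simp only [mem_insert, mem_singleton] <;> grind [Inv]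
  refine ⟨⟨(hxm v hv).1, (hym v hv).1, hne', ?_⟩, hS⟩
  have := (hym _ (hxm v hv).2).2
  have h5 := (hym _ (hxm v hv).2).1
  rw [hS] at this
  simp only [mem_insert, mem_singleton] at this
  grind [Inv]

theorem cycle_case {S : Finset α} {x y : Perm α} (h : Inst S x y)
    (hsq : ∀ v, ¬ SquareAt x y v) (hsame : x.support = y.support) (hxy : ¬ x = y)
    (ih : ∀ (S' : Finset α) (x' y' : Perm α), S'.card < S.card → Inst S' x' y' → ¬ Bad S' x' y' →
      ∃ z, Sol S' x' y' z) : ∃ z, Sol S x y z := by
  obtain ⟨u, hu⟩ : ∃ u, x u ≠ y u := not_forall.1 fun e => hxy (Perm.ext e)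
  have hiff : ∀ w, x w = w ↔ y w = w := fun w => by
    rw [← Perm.notMem_support, hsame, Perm.notMem_support]
  have hxu : x u ≠ u := fun e => hu (by rw [e, (hiff u).1 e])
  set a := x u with ha
  set b := y a with hb
  set c := x b with hc
  set d := y c with hd
  set v := x d with hv
  have hxa : x a = u := h.hx u
  have dua : u ≠ a := hxu.symm
  have dab : a ≠ b := fun e => dua (by
    have := (hiff a).2 (by rw [← hb, ← e]); rw [hxa] at this; exact this)
  have dub : u ≠ b := fun e => hu (by rw [e, hb, h.hy a])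
  have hyb : y b = a := h.hy a
  have dbc : b ≠ c := fun e => dab (by
    have := (hiff b).1 (by rw [← hc, ← e]); rw [hyb] at this; exact this)
  have dac : a ≠ c := fun e => dub (x.injective e)
  have duc : u ≠ c := fun e => dab (by rw [ha, e, hc, h.hx b])
  have hxc : x c = b := h.hx b
  have dcd : c ≠ d := fun e => dbc (by
    have := (hiff c).2 (by rw [← hd, ← e]); rw [hxc] at this; exact this)
  have dbd : b ≠ d := fun e => dac (y.injective e)
  have dad : a ≠ d := fun e => dbc (by rw [hb, e, hd, h.hy c])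
  have hyd : y d = c := h.hy c
  have dud : u ≠ d := fun e => hsq u ⟨hxu, fun e' => hxu ((hiff u).2 e'), hu,
    by rw [← ha, ← hb, show y u = c by rw [e, hyd], hxc]⟩
  have ddv : d ≠ v := fun e => dcd (by
    have := (hiff d).1 (by rw [← hv, ← e]); rw [hyd] at this; exact this)
  have hxv : x v = d := h.hx d
  have duv : u ≠ v := fun e => dad (by rw [ha, e, hxv])
  have dav : a ≠ v := fun e => dud (x.injective e)
  have dbv : b ≠ v := fun e => dcd (by rw [hc, e, hxv])
  have dcv : c ≠ v := fun e => dbd (x.injective e)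
  have hmv : ∀ w, x w ≠ w → w ∈ S := fun w hw => h.xS (Perm.mem_support.2 hw)
  set T := (((S.erase a).erase b).erase c).erase d with hT
  have hlt : T.card < S.card := by
    have := card_erase_add_one (hmv a (by rw [hxa]; exact dua))
    have h2 : T.card ≤ (S.erase a).card := card_le_card fun w hw => by
      simp only [hT, mem_erase] at hw ⊢; tauto
    omega
  set x1 := rem (rem (rem x u) b) d with hx1
  have a1 : ∀ w, x1 w = if w = u ∨ w = a ∨ w = b ∨ w = c ∨ w = d ∨ w = v then w else x w := fun w => by
    rw [hx1, rem_apply ((h.hx.rem u).rem b), rem_apply (h.hx.rem u), rem_apply (h.hx.rem u),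
      rem_apply h.hx, rem_apply h.hx, rem_apply h.hx]
    grind
  have u1 : x1 u = u := by rw [a1]; simp
  have v1 : x1 v = v := by rw [a1]; simp
  set y1 := rem (rem y a) c with hy1
  have b1 : ∀ w, y1 w = if w = a ∨ w = b ∨ w = c ∨ w = d then w else y w := fun w => by
    rw [hy1, rem_apply (h.hy.rem a), rem_apply h.hy, rem_apply h.hy]
    grind
  have huS : u ∈ S := hmv u hxu
  have hvS : v ∈ S := hmv v (by rw [hxv]; exact ddv)
  have h' : Inst T (add x1 u v) y1 := by
    refine ⟨(((h.hx.rem u).rem b).rem d).add u1 v1, (h.hy.rem a).rem c, fun w hw => ?_, fun w hw => ?_, ?_⟩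
    · rw [Perm.mem_support, add_apply u1 v1, a1] at hw
      have : w ∈ S := by
        by_cases e1 : w = u
        · exact e1 ▸ huS
        by_cases e2 : w = v
        · exact e2 ▸ hvS
        exact hmv w (by grind)
      simp only [hT, mem_erase]; grind
    · rw [Perm.mem_support, b1] at hw
      have : w ∈ S := h.yS (Perm.mem_support.2 (by grind))
      simp only [hT, mem_erase]; grind
    · have c1 := card_rem h.hx (a := u) hxu
      have c2 := card_rem (h.hx.rem u) (a := b) (by rw [rem_apply h.hx]; grind)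
      have c3 := card_rem ((h.hx.rem u).rem b) (a := d) (by
        rw [rem_apply (h.hx.rem u), rem_apply h.hx, rem_apply h.hx]; grind)
      have c4 := card_add duv u1 v1
      have d1 := card_rem h.hy (a := a) dab.symm
      have d2 := card_rem (h.hy.rem a) (a := c) (by rw [rem_apply h.hy]; grind)
      have := h.card
      rw [← hx1] at c3; rw [← hy1] at d2
      omega
  by_cases hb' : Bad T (add x1 u v) y1
  · have hvT : v ∈ T := by simp [hT, hvS, dav.symm, dbv.symm, dcv.symm, ddv.symm]
    obtain ⟨⟨f1, f2, f3, f4⟩, hTe⟩ := hb'.square h'.hx h'.hy hvT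
    have hxv' : add x1 u v v = u := by rw [add_apply u1 v1]; simp [duv.symm]
    rw [hxv'] at f3 f4 hTe
    set e := y1 v with he
    have heT : e ∈ T := h'.hy.sub_apply_mem h'.yS hvT
    simp only [hT, mem_erase] at heT
    have hye : y v = e := by rw [he, b1]; simp [dav.symm, dbv.symm, dcv.symm, ddv.symm]
    have hxe : add x1 u v e = x e := by
      rw [add_apply u1 v1, a1]; grind
    rw [hxe] at f4 hTe
    have hyu : y u = x e := by rw [← f4, b1]; simp [dua, dub, duc, dud]
    have hfT : x e ∈ T := hxe ▸ h'.hx.sub_apply_mem h'.xS (h'.hy.sub_apply_mem h'.yS hvT)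
    simp only [hT, mem_erase] at hfT
    refine base_octagon h (u := u) (a := a) (b := b) (c := c) (d := d) (v := v) (e := e) (f := x e)
      ?_ ?_ rfl rfl rfl rfl rfl rfl hye (by rw [← hyu]; exact h.hy u)
    · simp only [List.nodup_cons, List.mem_cons, List.not_mem_nil, or_false, not_or, List.nodup_nil,
        and_true, not_false_eq_true]
      grind [Inv, h.hx, h.hy]
    · ext w
      have hw : w ∈ T ↔ (w = v ∨ w = u ∨ w = e ∨ w = x e) := by rw [hTe]; simp
      have := hmv a (by rw [hxa]; exact dua)
      have := hmv b dbc.symm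
      have := hmv c (by rw [hxc]; exact dbc)
      have := hmv d ddv.symm
      simp only [hT, mem_erase] at hw
      simp only [mem_insert, mem_singleton]
      grind
  obtain ⟨z, hz⟩ := ih T _ _ hlt h' hb'
  exact step_cycle h dua dub duc dud duv dab dac dad dav dbc dbd dbv dcd dcv ddv rfl rfl rfl rfl rfl hz

theorem pair_case {S : Finset α} {x y : Perm α} (h : Inst S x y) {a c : α}
    (hsq : ∀ v, ¬ SquareAt x y v) (hax : x a ≠ a) (hay : y a = a) (hcy : y c ≠ c) (hcx : x c = c)
    (hab : y (x a) = x a) (hcd : x (y c) = y c)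
    (ih : ∀ (S' : Finset α) (x' y' : Perm α), S'.card < S.card → Inst S' x' y' → ¬ Bad S' x' y' →
      ∃ z, Sol S' x' y' z) : ∃ z, Sol S x y z := by
  set b := x a with hb
  set d := y c with hd
  have hx' : x b = a := h.hx a
  have hy' : y d = c := h.hy c
  set T := (((S.erase a).erase b).erase c).erase d with hT
  have haS : a ∈ S := h.xS (Perm.mem_support.2 hax)
  have hlt : T.card < S.card := by
    have := card_erase_add_one haS
    have h2 : T.card ≤ (S.erase a).card := card_le_card fun w hw => by
      simp only [hT, mem_erase] at hw ⊢; tauto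
    omega
  have h' : Inst T (rem x a) (rem y c) := by
    refine ⟨h.hx.rem a, h.hy.rem c, fun w hw => ?_, fun w hw => ?_, ?_⟩
    · rw [Perm.mem_support, rem_apply h.hx] at hw
      have : w ∈ S := h.xS (Perm.mem_support.2 (by grind))
      simp only [hT, mem_erase]; grind
    · rw [Perm.mem_support, rem_apply h.hy] at hw
      have : w ∈ S := h.yS (Perm.mem_support.2 (by grind))
      simp only [hT, mem_erase]; grind
    · have := card_rem h.hx (a := a) hax
      have := card_rem h.hy (a := c) hcy
      have := h.card; omega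
  have hb' : ¬ Bad T (rem x a) (rem y c) := by
    intro hbd
    obtain ⟨w, hw⟩ : T.Nonempty := Finset.card_pos.1 (by rw [hbd.1]; norm_num)
    obtain ⟨⟨f1, f2, f3, f4⟩, -⟩ := hbd.square h'.hx h'.hy hw
    simp only [rem_apply h.hx, rem_apply h.hy] at f1 f2 f3 f4
    have hwx : w ≠ a ∧ w ≠ x a := not_or.1 fun e => f1 (by rw [if_pos e])
    have hwy : w ≠ c ∧ w ≠ y c := not_or.1 fun e => f2 (by rw [if_pos e])
    rw [if_neg (not_or.2 hwx)] at f1 f3 f4
    rw [if_neg (not_or.2 hwy)] at f2 f3 f4
    have hq := hsq w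
    simp only [SquareAt, not_and] at hq
    refine hq f1 f2 f3 ?_
    clear hq hsq ih
    grind [Inv, h.hx, h.hy]
  obtain ⟨z, hz⟩ := ih _ _ _ hlt h' hb'
  exact step_pair h rfl hax.symm rfl hcy.symm hay hab hcx hcd hz

theorem exists_sol_aux : ∀ (n : ℕ) (S : Finset α) (x y : Perm α), S.card ≤ n → Inst S x y →
    ¬ Bad S x y → ∃ z, Sol S x y z := by
  intro n
  induction n using Nat.strong_induction_on with
  | _ n ih =>
  intro S x y hn h hbad
  have hcS : ∀ {v}, v ∉ S → x v = v ∧ y v = v := fun hv =>
    ⟨Perm.notMem_support.1 fun e => hv (h.xS e), Perm.notMem_support.1 fun e => hv (h.yS e)⟩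
  by_cases hsq : ∃ v, SquareAt x y v
  · obtain ⟨v0, e1, e2, e3, e4⟩ := hsq
    set v1 := x v0 with hv1
    set v3 := y v0 with hv3
    set v2 := x v3 with hv2
    have d01 : v0 ≠ v1 := e1.symm
    have d03 : v0 ≠ v3 := e2.symm
    have d13 : v1 ≠ v3 := e3
    have d02 : v0 ≠ v2 := fun e => e3 (by rw [hv1, e, hv2, h.hx v3])
    have d12 : v1 ≠ v2 := fun e => d03 (x.injective e)
    have d23 : v2 ≠ v3 := fun e => d01 (y.injective ((show y v0 = y v1 by rw [e4, ← hv3, e])))
    have x2 : x v2 = v3 := h.hx v3
    have y1 : y v1 = v2 := e4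
    have y3 : y v3 = v0 := h.hy v0
    have hS4 : v0 ∈ S ∧ v1 ∈ S ∧ v2 ∈ S ∧ v3 ∈ S := by
      refine ⟨?_, ?_, ?_, ?_⟩ <;> by_contra hc <;> have := hcS hc <;> grind [Inv, h.hx, h.hy]
    set T := (((S.erase v0).erase v1).erase v2).erase v3 with hT
    set x' := rem (rem x v0) v2 with hx'
    set y' := rem (rem y v1) v3 with hy'
    have ax : ∀ w, x' w = if w = v2 ∨ w = v3 ∨ w = v0 ∨ w = v1 then w else x w := fun w => by
      rw [hx', rem_apply (h.hx.rem v0), rem_apply h.hx, rem_apply h.hx]; grind
    have ay : ∀ w, y' w = if w = v2 ∨ w = v3 ∨ w = v0 ∨ w = v1 then w else y w := fun w => by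
      rw [hy', rem_apply (h.hy.rem v1), rem_apply h.hy, rem_apply h.hy]; grind
    have hTc : T.card + 4 = S.card := by
      obtain ⟨m0, m1, m2, m3⟩ := hS4
      have := card_erase_add_one m0
      have := card_erase_add_one (show v1 ∈ S.erase v0 by simp [d01.symm, m1])
      have := card_erase_add_one (show v2 ∈ (S.erase v0).erase v1 by simp [d02.symm, d12.symm, m2])
      have := card_erase_add_one
        (show v3 ∈ ((S.erase v0).erase v1).erase v2 by simp [d03.symm, d13.symm, d23.symm, m3])
      rw [hT]; omega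
    have h' : Inst T x' y' := by
      refine ⟨(h.hx.rem v0).rem v2, (h.hy.rem v1).rem v3, fun w hw => ?_, fun w hw => ?_, ?_⟩
      · rw [Perm.mem_support, ax] at hw
        have : w ∈ S := h.xS (Perm.mem_support.2 (by grind))
        simp only [hT, mem_erase]; grind
      · rw [Perm.mem_support, ay] at hw
        have : w ∈ S := h.yS (Perm.mem_support.2 (by grind))
        simp only [hT, mem_erase]; grind
      · have a1 := card_rem h.hx (a := v0) e1
        have a2 := card_rem (h.hx.rem v0) (a := v2) (by rw [rem_apply h.hx]; grind)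
        have b1 := card_rem h.hy (a := v1) (by rw [y1]; exact d12.symm)
        have b2 := card_rem (h.hy.rem v1) (a := v3) (by rw [rem_apply h.hy]; grind)
        have := h.card
        rw [← hx'] at a2; rw [← hy'] at b2; omega
    by_cases hb : Bad T x' y'
    · obtain ⟨b0, hb0⟩ : T.Nonempty := Finset.card_pos.1 (by rw [hb.1]; norm_num)
      obtain ⟨⟨f1, f2, f3, f4⟩, hTe⟩ := hb.square h'.hx h'.hy hb0
      have hin : ∀ w ∈ T, w ≠ v0 ∧ w ≠ v1 ∧ w ≠ v2 ∧ w ≠ v3 ∧ w ∈ S := fun w hw => by
        simp only [hT, mem_erase] at hw; tauto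
      have hx0 : x' b0 ∈ T := h'.hx.sub_apply_mem h'.xS hb0
      have hy0 : y' b0 ∈ T := h'.hy.sub_apply_mem h'.yS hb0
      have hxy0 : x' (y' b0) ∈ T := h'.hx.sub_apply_mem h'.xS hy0
      have := hin _ hb0; have := hin _ hx0; have := hin _ hy0; have := hin _ hxy0
      have hS : S = {v0, v1, v2, v3, b0, x' b0, x' (y' b0), y' b0} := by
        ext w
        have hw : w ∈ T ↔ (w = b0 ∨ w = x' b0 ∨ w = y' b0 ∨ w = x' (y' b0)) := by
          rw [hTe]; simp
        simp only [hT, mem_erase] at hw
        simp only [mem_insert, mem_singleton]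
        grind
      refine base_squares h (a0 := v0) (a1 := v1) (a2 := v2) (a3 := v3) (b0 := b0) (b1 := x' b0)
        (b2 := x' (y' b0)) (b3 := y' b0) ?_ hS hv1.symm x2 ?_ ?_ y1 y3 ?_ ?_
      · simp only [List.nodup_cons, List.mem_cons, List.not_mem_nil, or_false, not_or, List.nodup_nil,
          and_true, not_false_eq_true]
        grind [Inv, h'.hx, h'.hy]
      all_goals grind [Inv, h'.hx, h'.hy]
    obtain ⟨z, hz⟩ := ih _ (by omega) T x' y' le_rfl h' hb
    by_cases hzu : ∃ u, z u ≠ u
    · obtain ⟨u, hu⟩ := hzu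
      exact step_square_edge h d01 d02 d03 d12 d13 d23 hv1.symm x2 y1 y3 hz hu
    push Not at hzu
    have hxT : x'.support = ∅ := by
      rw [← Finset.card_eq_zero, ← hz.card, Finset.card_eq_zero, Perm.support_eq_empty_iff]
      exact Perm.ext hzu
    obtain ⟨w, hw⟩ : T.Nonempty := by
      by_contra hTe
      rw [not_nonempty_iff_eq_empty] at hTe
      have hS : ∀ w ∈ S, w = v0 ∨ w = v1 ∨ w = v2 ∨ w = v3 := fun w hw => by
        have hwT : w ∉ T := by simp [hTe]
        simp only [hT, mem_erase] at hwT; tauto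
      refine hbad ⟨by rw [← hTc, hTe, card_empty], h.xS.antisymm ?_, h.yS.antisymm ?_,
        fun e => e3 (by rw [hv1, hv3, e])⟩ <;>
      · intro w hw
        rw [Perm.mem_support]
        have := hS w hw
        grind [Inv, h.hx, h.hy]
    simp only [hT, mem_erase] at hw
    exact step_square_point h d01 d02 d03 d12 d13 d23 hv1.symm x2 y1 y3 hz hw.2.2.2.2 (hzu w)
      hw.2.2.2.1 hw.2.2.1 hw.2.1 hw.1
  push Not at hsq
  have path : ∀ (x y : Perm α), Inst S x y → (∀ a, x a = a → y a ≠ a → x (y a) ≠ y a →
      ∃ z, Sol S x y z) := by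
    intro x y h a hxa hya hxb
    set b := y a with hb
    have hyb : y b = a := h.hy a
    have haS : a ∈ S := h.yS (Perm.mem_support.2 hya)
    have hbS : b ∈ S := h.hy.sub_apply_mem h.yS haS
    have h' : Inst ((S.erase a).erase b) (rem x b) (rem y a) := by
      refine ⟨h.hx.rem b, h.hy.rem a, fun w hw => ?_, fun w hw => ?_, ?_⟩
      · rw [Perm.mem_support, rem_apply h.hx] at hw
        have : w ∈ S := h.xS (Perm.mem_support.2 (by grind))
        simp only [mem_erase]; grind
      · rw [Perm.mem_support, rem_apply h.hy] at hw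
        have : w ∈ S := h.yS (Perm.mem_support.2 (by grind))
        simp only [mem_erase]; grind
      · have := card_rem h.hx (a := b) hxb
        have := card_rem h.hy (a := a) hya
        have := h.card; omega
    have hb' : ¬ Bad ((S.erase a).erase b) (rem x b) (rem y a) := by
      rintro ⟨-, hs, -, -⟩
      have hc : x b ∈ (S.erase a).erase b := by
        simp only [mem_erase]
        exact ⟨hxb, fun e => hya (by rw [← h.hx b, e, hxa]), h.hx.sub_apply_mem h.xS hbS⟩
      rw [← hs, Perm.mem_support, rem_apply h.hx] at hc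
      simp at hc
    have hlt : ((S.erase a).erase b).card < n := by
      have := card_erase_add_one haS
      have := card_erase_add_one (show b ∈ S.erase a by simp [hya, hbS])
      omega
    obtain ⟨z, hz⟩ := ih _ hlt _ _ _ le_rfl h' hb'
    exact step_path h hxa rfl hya rfl hxb hz
  by_cases hp : ∃ a, x a = a ∧ y a ≠ a ∧ x (y a) ≠ y a
  · obtain ⟨a, h1, h2, h3⟩ := hp
    exact path x y h a h1 h2 h3
  by_cases hp' : ∃ a, y a = a ∧ x a ≠ a ∧ y (x a) ≠ x a
  · obtain ⟨a, h1, h2, h3⟩ := hp'
    obtain ⟨z, hz⟩ := path y x h.symm a h1 h2 h3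
    exact ⟨z, hz.symm h.card.symm⟩
  push Not at hp hp'
  by_cases hsupp : x.support ⊆ y.support
  swap
  · obtain ⟨a, hax, hay⟩ := Finset.not_subset.1 hsupp
    obtain ⟨c, hcy, hcx⟩ : ∃ c ∈ y.support, c ∉ x.support := by
      by_contra hc
      push Not at hc
      exact hsupp (Finset.eq_of_subset_of_card_le hc h.card.le).ge
    simp only [Perm.mem_support, not_not] at hax hay hcy hcx
    exact pair_case h hsq hax hay hcy hcx (hp' a hay hax) (hp c hcx hcy)
      fun S' x' y' hlt h' hb' => ih _ (by omega) S' x' y' le_rfl h' hb'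
  have hsame : x.support = y.support := Finset.eq_of_subset_of_card_le hsupp h.card.ge
  by_cases hxy : x = y
  · refine ⟨x, h.hx, h.xS, rfl, ?_, ?_⟩ <;>
      [skip; rw [← hxy]] <;>
      exact fun v => ⟨1, odd_one, by simpa [Perm.mul_apply] using h.hx v⟩
  exact cycle_case h hsq hsame hxy fun S' x' y' hlt h' hb' => ih _ (by omega) S' x' y' le_rfl h' hb'

theorem exists_sol {x y : Perm α} (hα : 5 ≤ Fintype.card α) (hx : Inv x) (hy : Inv y)
    (hc : x.support.card = y.support.card) :
    ∃ z, Inv z ∧ z.support.card = x.support.card ∧ Odd (orderOf (x * z)) ∧ Odd (orderOf (y * z)) := by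
  obtain ⟨z, hz⟩ := exists_sol_aux _ Finset.univ x y le_rfl
    ⟨hx, hy, Finset.subset_univ _, Finset.subset_univ _, hc⟩
    fun hb => by have := hb.1; rw [Finset.card_univ] at this; omega
  exact ⟨z, hz.hz, hz.card, hz.ox.odd_orderOf, hz.oy.odd_orderOf⟩

end Cfsg.Agent.H61.OddProduct
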