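import Mathlib

/-!
Tools for the odd-product graph of involutions of a symmetric group: permutations all of whose orbits
have odd length, insertion of two points into an orbit, and adding or removing an edge of a matching.
-/

set_option autoImplicit false

namespace Cfsg.Agent.H61.OddProduct

open Equiv

variable {α : Type*} [DecidableEq α] [Fintype α]

/-- Every point returns after an odd number of steps. -/
def OddCyc (σ : Perm α) : Prop := ∀ v, ∃ j : ℕ, Odd j ∧ (σ ^ j) v = v

omit [DecidableEq α] in
theorem OddCyc.odd_orderOf {σ : Perm α} (h : OddCyc σ) : Odd (orderOf σ) := by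
  classical
  choose j hj hjv using h
  have hN : Odd (∏ v, j v) := Finset.prod_induction j Odd (fun a b => Odd.mul) odd_one fun v _ => hj v
  refine hN.of_dvd_nat (orderOf_dvd_of_pow_eq_one (Perm.ext fun v => ?_))
  obtain ⟨d, hd⟩ := Finset.dvd_prod_of_mem j (Finset.mem_univ v)
  rw [hd, pow_mul, Perm.one_apply]
  exact Perm.pow_apply_eq_self_of_apply_eq_self (hjv v) d

omit [DecidableEq α] [Fintype α] in
theorem OddCyc.one : OddCyc (1 : Perm α) := fun v => ⟨1, odd_one, rfl⟩

omit [DecidableEq α] [Fintype α] in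
theorem oddCyc_of_pow_three {σ : Perm α} (h : ∀ v, σ (σ (σ v)) = v) : OddCyc σ := fun v =>
  ⟨3, ⟨1, rfl⟩, by simpa [pow_succ, Perm.mul_apply] using h v⟩

omit [DecidableEq α] [Fintype α] in
/-- Inserting two fixed points `a`, `b` after `c`. -/
theorem OddCyc.insert {σ τ : Perm α} (hσ : OddCyc σ) {a b c : α} (ha : σ a = a) (hb : σ b = b)
    (hca : c ≠ a) (hcb : c ≠ b) (h1 : τ c = a) (h2 : τ a = b) (h3 : τ b = σ c)
    (h : ∀ v, v ≠ a → v ≠ b → v ≠ c → τ v = σ v) : OddCyc τ := by
  classical
  intro v
  have hfix : ∀ (i : ℕ) (w : α), σ w = w → (σ ^ i) w = w := fun i w hw =>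
    Perm.pow_apply_eq_self_of_apply_eq_self hw i
  obtain ⟨m₀, hm₀o, hm₀⟩ := hσ c
  have hmem : ∀ i, (σ ^ i) c ≠ a ∧ (σ ^ i) c ≠ b := fun i =>
    ⟨fun e => hca ((σ ^ i).injective (e.trans (hfix i a ha).symm)),
      fun e => hcb ((σ ^ i).injective (e.trans (hfix i b hb).symm))⟩
  -- the first return time of `c` is odd
  have hex : ∃ i, (σ ^ (i + 1)) c = c := ⟨m₀ - 1, by rwa [Nat.sub_add_cancel hm₀o.pos]⟩
  set m := Nat.find hex + 1 with hm
  have hmc : (σ ^ m) c = c := Nat.find_spec hex
  have hmin : ∀ i, 0 < i → i < m → (σ ^ i) c ≠ c := by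
    intro i hi him e
    obtain ⟨k, rfl⟩ : ∃ k, i = k + 1 := ⟨i - 1, by omega⟩
    exact Nat.find_min hex (show k < Nat.find hex by omega) e
  have hmo : Odd m := by
    refine hm₀o.of_dvd_nat (Nat.dvd_of_mod_eq_zero ?_)
    by_contra hne
    refine hmin (m₀ % m) (Nat.pos_of_ne_zero hne) (Nat.mod_lt _ (by omega)) ?_
    conv_rhs => rw [← hm₀]
    conv_rhs => rw [← Nat.mod_add_div m₀ m, pow_add, pow_mul, Perm.mul_apply,
      Perm.pow_apply_eq_self_of_apply_eq_self hmc]
  have hstep : ∀ i, 1 ≤ i → i ≤ m → (τ ^ (i + 2)) c = (σ ^ i) c := by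
    intro i hi him
    induction i with
    | zero => omega
    | succ i ih =>
      rw [pow_succ', Perm.mul_apply]
      rcases Nat.eq_zero_or_pos i with rfl | hi0
      · simp [pow_succ, Perm.mul_apply, h1, h2, h3]
      · rw [ih hi0 (by omega), h _ (hmem i).1 (hmem i).2 (hmin i hi0 (by omega)), pow_succ' σ,
          Perm.mul_apply]
  have hc : (τ ^ (m + 2)) c = c := by rw [hstep m (by omega) le_rfl, hmc]
  by_cases hv : ∃ i, (τ ^ i) c = v
  · obtain ⟨i, rfl⟩ := hv
    refine ⟨m + 2, by obtain ⟨k, hk⟩ := hmo; exact ⟨k + 1, by omega⟩, ?_⟩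
    rw [← Perm.mul_apply, ← pow_add, add_comm, pow_add, Perm.mul_apply, hc]
  · push Not at hv
    have hav : v ≠ a := fun e => hv 1 (by rw [pow_one, h1, e])
    have hbv : v ≠ b := fun e => hv 2 (by rw [pow_two, Perm.mul_apply, h1, h2, e])
    have horb : ∀ i, (σ ^ i) v ≠ c := by
      intro i e
      obtain ⟨j, hjo, hj⟩ := hσ v
      -- `v` is in the orbit of `c` under `σ`, hence under `τ`
      have : ∃ k, 1 ≤ k ∧ (σ ^ k) c = v := by
        refine ⟨(i + 1) * j - i, ?_, ?_⟩
        · have : 0 < j := hjo.pos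
          have := Nat.le_mul_of_pos_right (i + 1) this; omega
        · rw [← e, ← Perm.mul_apply, ← pow_add, Nat.sub_add_cancel, mul_comm, pow_mul,
            Perm.pow_apply_eq_self_of_apply_eq_self hj]
          have : 0 < j := hjo.pos
          have := Nat.le_mul_of_pos_right (i + 1) this; omega
      obtain ⟨k, hk1, hk⟩ := this
      have hred : ∃ k', 1 ≤ k' ∧ k' ≤ m ∧ (σ ^ k') c = v := by
        refine ⟨(k - 1) % m + 1, by omega, Nat.mod_lt _ (by omega), ?_⟩
        rw [← hk]
        conv_rhs => rw [show k = (k - 1) % m + 1 + m * ((k - 1) / m) by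
          have := Nat.mod_add_div (k - 1) m; omega, pow_add, Perm.mul_apply, pow_mul,
          Perm.pow_apply_eq_self_of_apply_eq_self hmc]
      obtain ⟨k', hk'1, hk'm, hk'⟩ := hred
      exact hv (k' + 2) ((hstep k' hk'1 hk'm).trans hk')
    have hsame : ∀ i, (τ ^ i) v = (σ ^ i) v := by
      intro i
      induction i with
      | zero => rfl
      | succ i ih =>
        rw [pow_succ', Perm.mul_apply, ih, pow_succ' σ, Perm.mul_apply]
        exact h _ (fun e => hav ((σ ^ i).injective (e.trans (hfix i a ha).symm)))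
          (fun e => hbv ((σ ^ i).injective (e.trans (hfix i b hb).symm))) (horb i)
    obtain ⟨j, hjo, hj⟩ := hσ v
    exact ⟨j, hjo, (hsame j).trans hj⟩

/-- An involutive permutation, seen as a matching. -/
def Inv (f : Perm α) : Prop := ∀ v, f (f v) = v

omit [DecidableEq α] [Fintype α] in
theorem Inv.eq_iff {f : Perm α} (hf : Inv f) {u v : α} : f u = v ↔ u = f v :=
  ⟨fun h => h ▸ (hf u).symm, fun h => h ▸ hf v⟩

omit [Fintype α] in
/-- `f` with the edge at `a` removed. -/
def rem (f : Perm α) (a : α) : Perm α := f * swap a (f a)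

omit [Fintype α] in
/-- `f` with the edge `a b` added. -/
def add (f : Perm α) (a b : α) : Perm α := f * swap a b

omit [Fintype α] in
theorem rem_apply {f : Perm α} (hf : Inv f) (a v : α) :
    rem f a v = if v = a ∨ v = f a then v else f v := by
  simp only [rem, Perm.mul_apply]
  by_cases h1 : v = a
  · subst h1; simp [hf v]
  · by_cases h2 : v = f a
    · subst h2; simp
    · simp [h1, h2, swap_apply_of_ne_of_ne]

omit [Fintype α] in
theorem add_apply {f : Perm α} {a b : α} (ha : f a = a) (hb : f b = b) (v : α) :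
    add f a b v = if v = a then b else if v = b then a else f v := by
  simp only [add, Perm.mul_apply]
  by_cases h1 : v = a
  · subst h1; simp [hb]
  · by_cases h2 : v = b
    · subst h2; simp [ha, h1]
    · simp [h1, h2, swap_apply_of_ne_of_ne]

omit [Fintype α] in
theorem Inv.rem {f : Perm α} (hf : Inv f) (a : α) : Inv (rem f a) := by
  intro v
  rw [rem_apply hf, rem_apply hf]
  grind [Inv]

omit [Fintype α] in
theorem Inv.add {f : Perm α} (hf : Inv f) {a b : α} (ha : f a = a) (hb : f b = b) :
    Inv (add f a b) := by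
  intro v
  rw [add_apply ha hb, add_apply ha hb]
  grind [Inv]

theorem support_rem {f : Perm α} (hf : Inv f) (a : α) :
    (rem f a).support = (f.support.erase a).erase (f a) := by
  ext v
  simp only [Perm.mem_support, Finset.mem_erase, rem_apply hf]
  grind

theorem support_add {f : Perm α} {a b : α} (hab : a ≠ b) (ha : f a = a) (hb : f b = b) :
    (add f a b).support = insert a (insert b f.support) := by
  ext v
  simp only [Perm.mem_support, Finset.mem_insert, add_apply ha hb]
  grind

theorem card_rem {f : Perm α} (hf : Inv f) {a : α} (ha : f a ≠ a) :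
    (rem f a).support.card + 2 = f.support.card := by
  have h1 : a ∈ f.support := Perm.mem_support.2 ha
  have h2 : f a ∈ f.support.erase a := by
    simp only [Finset.mem_erase, Perm.mem_support, hf a]; exact ⟨ha, Ne.symm ha⟩
  have e1 := Finset.card_erase_add_one h1
  have e2 := Finset.card_erase_add_one h2
  rw [support_rem hf]; omega

theorem card_add {f : Perm α} {a b : α} (hab : a ≠ b) (ha : f a = a) (hb : f b = b) :
    (add f a b).support.card = f.support.card + 2 := by
  rw [support_add hab ha hb, Finset.card_insert_of_notMem, Finset.card_insert_of_notMem]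
  · simp [Perm.mem_support, hb]
  · simp [Perm.mem_support, ha, hab]

omit [DecidableEq α] [Fintype α] in
theorem Inv.sub_apply_mem {f : Perm α} [DecidableEq α] [Fintype α] (hf : Inv f) {S : Finset α}
    (h : f.support ⊆ S) {v : α} (hv : v ∈ S) : f v ∈ S := by
  by_cases e : f v = v
  · rwa [e]
  · exact h (Perm.mem_support.2 (by rw [hf v]; exact Ne.symm e))

end Cfsg.Agent.H61.OddProduct
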