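import Cfsg.Agent.H61.OddProduct

/-!
The odd-product graph on a class of involutions of `S_n`, `n ≥ 5`, is connected of diameter two.
-/

set_option autoImplicit false

namespace Cfsg.Agent.H61.OddProduct

open Equiv Finset

variable {α : Type*} [DecidableEq α] [Fintype α]

omit [DecidableEq α] [Fintype α] in
theorem inv_of_orderOf_two {t : Perm α} (ht : orderOf t = 2) : Inv t := fun v => by
  have := Equiv.congr_fun (show t * t = 1 by rw [← pow_two, ← ht]; exact pow_orderOf_eq_one t) v
  simpa [Perm.mul_apply] using this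

theorem isConj_of_card {x z : Perm α} (hx : Inv x) (hz : Inv z) (h : z.support.card = x.support.card) :
    IsConj x z := by
  have key : ∀ f : Perm α, Inv f → f.cycleType = Multiset.replicate (f.support.card / 2) 2 := by
    intro f hf
    by_cases h1 : f = 1
    · simp [h1]
    have h2 : orderOf f = 2 := by
      refine orderOf_eq_prime ?_ h1
      ext v; simpa [pow_two, Perm.mul_apply] using hf v
    obtain ⟨k, hk⟩ := Perm.cycleType_prime_order (σ := f) (h2 ▸ Nat.prime_two)
    rw [h2] at hk
    have := Perm.sum_cycleType f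
    rw [hk, Multiset.sum_replicate, smul_eq_mul] at this
    rw [hk, show f.support.card / 2 = k + 1 by omega]
  rw [Perm.isConj_iff_cycleType_eq, key x hx, key z hz, h]

theorem card_support_of_isConj {x z : Perm α} (h : IsConj x z) : z.support.card = x.support.card := by
  rw [← Perm.sum_cycleType z, ← Perm.sum_cycleType x, Perm.isConj_iff_cycleType_eq.1 h]

/-- Two commuting distinct conjugates. -/
theorem exists_commuting {t : Perm α} (hα : 5 ≤ Fintype.card α) (ht : orderOf t = 2) :
    ∃ y : Perm α, IsConj t y ∧ y ≠ t ∧ y * t = t * y ∧ orderOf (t * y) = 2 := by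
  have hi := inv_of_orderOf_two ht
  have ht1 : t ≠ 1 := fun e => by simp [e] at ht
  obtain ⟨a, ha⟩ : ∃ a, t a ≠ a := not_forall.1 fun e => ht1 (Perm.ext e)
  suffices h : ∃ y : Perm α, Inv y ∧ y.support.card = t.support.card ∧ y ≠ t ∧ ∀ v, t (y v) = y (t v) by
    obtain ⟨y, hy, hc, hne, hcomm⟩ := h
    refine ⟨y, isConj_of_card hi hy hc, hne, Perm.ext fun v => (hcomm v).symm, orderOf_eq_prime ?_ ?_⟩
    · ext v
      simp only [pow_two, Perm.mul_apply, Perm.one_apply]
      rw [← hcomm (y v), hy v, hi v]
    · intro e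
      exact hne (Perm.ext fun v => (hi.eq_iff.1 (show t (y v) = v by
        simpa [Perm.mul_apply] using Equiv.congr_fun e v)))
  by_cases hfix : ∃ c d, c ≠ d ∧ t c = c ∧ t d = d
  · obtain ⟨c, d, hcd, hc, hd⟩ := hfix
    have r1 : rem t a c = c := by rw [rem_apply hi]; simp [hc]
    have r2 : rem t a d = d := by rw [rem_apply hi]; simp [hd]
    refine ⟨add (rem t a) c d, (hi.rem a).add r1 r2, ?_, fun e => ?_, fun v => ?_⟩
    · rw [card_add hcd r1 r2, card_rem hi ha]
    · have := Equiv.congr_fun e c
      rw [add_apply r1 r2, if_pos rfl, hc] at this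
      exact hcd this.symm
    · simp only [add_apply r1 r2, rem_apply hi]
      grind [Inv]
  · push Not at hfix
    obtain ⟨b, hb, hba, hbta⟩ : ∃ b, t b ≠ b ∧ b ≠ a ∧ b ≠ t a := by
      by_contra hcon
      push Not at hcon
      have h2 : t.support ⊆ {a, t a} := fun v hv => by
        simp only [mem_insert, mem_singleton]
        by_contra h
        push Not at h
        exact h.2 (hcon v (Perm.mem_support.1 hv) h.1)
      have h3 : t.supportᶜ.card ≤ 1 := Finset.card_le_one.2 fun c hc d hd => by
        simp only [mem_compl, Perm.mem_support, not_not] at hc hd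
        by_contra hcd
        exact hfix c d hcd hc hd
      rw [Finset.card_compl] at h3
      have := (Finset.card_le_card h2).trans Finset.card_le_two
      omega
    -- replace the edges `a (t a)`, `b (t b)` by `a b`, `(t a) (t b)`
    set r := rem (rem t a) b with hr
    have r_ap : ∀ v, r v = if v = b ∨ v = t b then v else if v = a ∨ v = t a then v else t v := by
      intro v
      rw [hr, rem_apply (hi.rem a), rem_apply hi, rem_apply hi]
      grind [Inv]
    have ra : r a = a := by rw [r_ap]; simp
    have rb : r b = b := by rw [r_ap]; simp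
    set p := add r a b with hp
    have p1 : p (t a) = t a := by rw [hp, add_apply ra rb, r_ap]; grind
    have p2 : p (t b) = t b := by rw [hp, add_apply ra rb, r_ap]; grind [Inv]
    have hne : t a ≠ t b := fun e => hba (t.injective e).symm
    have q_ap : ∀ v, add p (t a) (t b) v = if v = t a then t b else if v = t b then t a
        else if v = a then b else if v = b then a else t v := by
      intro v
      rw [add_apply p1 p2, hp, add_apply ra rb, r_ap]
      grind
    refine ⟨add p (t a) (t b), (((hi.rem a).rem b).add ra rb).add p1 p2, ?_, fun e => ?_, fun v => ?_⟩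
    · rw [card_add hne p1 p2, hp, card_add hba.symm ra rb, hr]
      have := card_rem hi ha
      have := card_rem (hi.rem a) (a := b) (by rw [rem_apply hi]; simp [hba, hbta, hb])
      omega
    · have := Equiv.congr_fun e a
      rw [add_apply p1 p2, hp, add_apply ra rb] at this
      grind [Inv]
    · clear hfix
      have hv : v = a ∨ v = t a ∨ v = b ∨ v = t b ∨
          (v ≠ a ∧ v ≠ t a ∧ v ≠ b ∧ v ≠ t b) := by tauto
      rcases hv with rfl | rfl | rfl | rfl | ⟨c1, c2, c3, c4⟩ <;>
        simp only [q_ap] <;> grind [Inv]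

theorem connected_and_diam {t : Perm α} (hα : 5 ≤ Fintype.card α) (ht : orderOf t = 2) :
    (SimpleGraph.fromRel fun x y : {x : Perm α // IsConj t x} => Odd (orderOf (x.1 * y.1))).Connected ∧
      (SimpleGraph.fromRel fun x y : {x : Perm α // IsConj t x} => Odd (orderOf (x.1 * y.1))).diam = 2 := by
  set Γ := SimpleGraph.fromRel fun x y : {x : Perm α // IsConj t x} => Odd (orderOf (x.1 * y.1)) with hΓ
  have hinv : ∀ x : {x : Perm α // IsConj t x}, Inv x.1 := fun x =>
    inv_of_orderOf_two (by rw [← Perm.lcm_cycleType, ← Perm.isConj_iff_cycleType_eq.1 x.2,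
      Perm.lcm_cycleType, ht])
  have hstep : ∀ u v : {x : Perm α // IsConj t x}, Γ.edist u v ≤ 2 := by
    intro u v
    obtain ⟨z, hz, hzc, h1, h2⟩ := exists_sol hα (hinv u) (hinv v)
      ((card_support_of_isConj u.2).trans (card_support_of_isConj v.2).symm)
    set w : {x : Perm α // IsConj t x} := ⟨z, u.2.trans (isConj_of_card (hinv u) hz hzc)⟩ with hw
    have e1 : Γ.edist u w ≤ 1 := by
      by_cases e : u = w
      · simp [e]
      · exact (SimpleGraph.edist_eq_one_iff_adj.2
          (by rw [hΓ, SimpleGraph.fromRel_adj]; exact ⟨e, Or.inl h1⟩)).le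
    have e2 : Γ.edist w v ≤ 1 := by
      by_cases e : w = v
      · simp [e]
      · exact (SimpleGraph.edist_eq_one_iff_adj.2
          (by rw [hΓ, SimpleGraph.fromRel_adj]; exact ⟨e, Or.inr h2⟩)).le
    exact (SimpleGraph.edist_triangle).trans ((add_le_add e1 e2).trans (by norm_num))
  have hconn : Γ.Connected := by
    have : Nonempty {x : Perm α // IsConj t x} := ⟨⟨t, IsConj.refl t⟩⟩
    exact ⟨fun u v => SimpleGraph.reachable_of_edist_ne_top
      (ne_top_of_le_ne_top (by simp) (hstep u v))⟩
  refine ⟨hconn, ?_⟩
  obtain ⟨y, hy, hne, hcm, hord⟩ := exists_commuting hα ht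
  set a : {x : Perm α // IsConj t x} := ⟨t, IsConj.refl t⟩
  set b : {x : Perm α // IsConj t x} := ⟨y, hy⟩
  have hadj : ¬ Γ.Adj a b := by
    rw [hΓ, SimpleGraph.fromRel_adj]
    rintro ⟨-, h | h⟩
    · change Odd (orderOf (t * y)) at h
      rw [hord] at h
      exact absurd h (by decide)
    · change Odd (orderOf (y * t)) at h
      rw [hcm, hord] at h
      exact absurd h (by decide)
  have htop : Γ.ediam ≠ ⊤ := ne_top_of_le_ne_top (by simp) (SimpleGraph.ediam_le_of_edist_le hstep)
  refine le_antisymm ?_ ?_
  · exact ENat.toNat_le_of_le_natCast (SimpleGraph.ediam_le_of_edist_le hstep)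
  · refine le_trans ?_ (SimpleGraph.dist_le_diam htop (u := a) (v := b))
    have h0 : Γ.dist a b ≠ 0 := (hconn a b).dist_eq_zero_iff.not.2 fun e =>
      hne (congrArg Subtype.val e).symm
    have h1 : Γ.dist a b ≠ 1 := fun e => hadj (SimpleGraph.dist_eq_one_iff_adj.1 e)
    omega

end Cfsg.Agent.H61.OddProduct
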