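import Cfsg.Agent.H61.OddProductBasic

/-!
The contraction steps for the midpoint of two matchings in the odd-product graph.
-/

set_option autoImplicit false

namespace Cfsg.Agent.H61.OddProduct

open Equiv Finset

variable {α : Type*} [DecidableEq α] [Fintype α]

omit [Fintype α] in
theorem OddCyc.insert_two {σ τ : Perm α} (hσ : OddCyc σ) {a b p c d q : α} (ha : σ a = a) (hb : σ b = b)
    (hc : σ c = c) (hd : σ d = d) (hpa : p ≠ a) (hpb : p ≠ b) (hqc : q ≠ c) (hqd : q ≠ d)
    (hab : a ≠ b) (hca : c ≠ a) (hcb : c ≠ b) (hda : d ≠ a) (hdb : d ≠ b) (hpc : p ≠ c) (hpd : p ≠ d)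
    (hqp : q ≠ p) (hqa : q ≠ a) (hqb : q ≠ b)
    (h1 : τ p = a) (h2 : τ a = b) (h3 : τ b = σ p) (h4 : τ q = c) (h5 : τ c = d) (h6 : τ d = σ q)
    (h : ∀ v, v ≠ a → v ≠ b → v ≠ p → v ≠ c → v ≠ d → v ≠ q → τ v = σ v) : OddCyc τ := by
  set μ := σ * (swap p a * swap a b) with hμ
  have hval : ∀ v, v ≠ a → v ≠ b → v ≠ p → μ v = σ v := fun v e1 e2 e3 => by
    simp [μ, Perm.mul_apply, swap_apply_of_ne_of_ne, e1, e2, e3]
  have hμp : μ p = a := by simp [μ, Perm.mul_apply, swap_apply_of_ne_of_ne, hpa, hpb, ha]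
  have hμa : μ a = b := by
    simp [μ, Perm.mul_apply, swap_apply_of_ne_of_ne, hpb.symm, hab.symm, hb]
  have hμb : μ b = σ p := by simp [μ, Perm.mul_apply]
  have hμo : OddCyc μ := hσ.insert ha hb hpa hpb hμp hμa hμb hval
  refine hμo.insert ((hval c hca hcb hpc.symm).trans hc) ((hval d hda hdb hpd.symm).trans hd) hqc hqd h4 h5
    (h6.trans (hval q hqa hqb hqp).symm) fun v e1 e2 e3 => ?_
  by_cases f1 : v = a
  · rw [f1, h2, hμa]
  by_cases f2 : v = b
  · rw [f2, h3, hμb]
  by_cases f3 : v = p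
  · rw [f3, h1, hμp]
  rw [h v f1 f2 f3 e1 e2 e3, hval v f1 f2 f3]

omit [Fintype α] in
theorem OddCyc.insert_four {σ τ : Perm α} (hσ : OddCyc σ) {a b c d p : α} (ha : σ a = a) (hb : σ b = b)
    (hc : σ c = c) (hd : σ d = d) (hpa : p ≠ a) (hpb : p ≠ b) (hpc : p ≠ c) (hpd : p ≠ d)
    (hab : a ≠ b) (hca : c ≠ a) (hcb : c ≠ b) (hda : d ≠ a) (hdb : d ≠ b)
    (h1 : τ p = a) (h2 : τ a = b) (h3 : τ b = c) (h4 : τ c = d) (h5 : τ d = σ p)
    (h : ∀ v, v ≠ a → v ≠ b → v ≠ p → v ≠ c → v ≠ d → τ v = σ v) : OddCyc τ := by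
  set μ := σ * (swap p a * swap a b) with hμ
  have hval : ∀ v, v ≠ a → v ≠ b → v ≠ p → μ v = σ v := fun v e1 e2 e3 => by
    simp [μ, Perm.mul_apply, swap_apply_of_ne_of_ne, e1, e2, e3]
  have hμp : μ p = a := by simp [μ, Perm.mul_apply, swap_apply_of_ne_of_ne, hpa, hpb, ha]
  have hμa : μ a = b := by
    simp [μ, Perm.mul_apply, swap_apply_of_ne_of_ne, hpb.symm, hab.symm, hb]
  have hμb : μ b = σ p := by simp [μ, Perm.mul_apply]
  have hμo : OddCyc μ := hσ.insert ha hb hpa hpb hμp hμa hμb hval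
  refine hμo.insert ((hval c hca hcb hpc.symm).trans hc) ((hval d hda hdb hpd.symm).trans hd) hcb.symm
    hdb.symm h3 h4 (h5.trans hμb.symm) fun v e1 e2 e3 => ?_
  by_cases f1 : v = a
  · rw [f1, h2, hμa]
  by_cases f3 : v = p
  · rw [f3, h1, hμp]
  rw [h v f1 e3 f3 e1 e2, hval v f1 e3 f3]

/-- Two matchings of the same size inside `S`. -/
structure Inst (S : Finset α) (x y : Perm α) : Prop where
  hx : Inv x
  hy : Inv y
  xS : x.support ⊆ S
  yS : y.support ⊆ S
  card : x.support.card = y.support.card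

/-- A common neighbour inside `S`. -/
structure Sol (S : Finset α) (x y z : Perm α) : Prop where
  hz : Inv z
  zS : z.support ⊆ S
  card : z.support.card = x.support.card
  ox : OddCyc (x * z)
  oy : OddCyc (y * z)

theorem Sol.fixed {S : Finset α} {x y z : Perm α} (h : Sol S x y z) {v : α} (hv : v ∉ S) : z v = v :=
  Perm.notMem_support.1 fun e => hv (h.zS e)

theorem Inst.symm {S : Finset α} {x y : Perm α} (h : Inst S x y) : Inst S y x :=
  ⟨h.hy, h.hx, h.yS, h.xS, h.card.symm⟩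

theorem Sol.symm {S : Finset α} {x y z : Perm α} (h : Sol S x y z) (hc : x.support.card = y.support.card) :
    Sol S y x z := ⟨h.hz, h.zS, h.card.trans hc, h.oy, h.ox⟩

theorem Sol.of_add {S S' : Finset α} {z : Perm α} (hS : z.support ⊆ S') (hSS : S' ⊆ S) {a b : α}
    (hab : a ≠ b) (ha : z a = a) (hb : z b = b) (haS : a ∈ S) (hbS : b ∈ S) :
    (add z a b).support ⊆ S := by
  rw [support_add hab ha hb]
  exact insert_subset haS (insert_subset hbS (hS.trans hSS))

/-- Path step: `a` is fixed by `x`, `b = y a`, `c = x b`. -/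
theorem step_path {S : Finset α} {x y : Perm α} (h : Inst S x y) {a b c : α} (hxa : x a = a)
    (hya : y a = b) (hba : b ≠ a) (hxb : x b = c) (hcb : c ≠ b) {z : Perm α}
    (hz : Sol ((S.erase a).erase b) (rem x b) (rem y a) z) : ∃ z', Sol S x y z' := by
  have hyb : y b = a := by rw [← hya]; exact h.hy a
  have hxc : x c = b := by rw [← hxb]; exact h.hx b
  have hca : c ≠ a := by rintro rfl; exact hba (by rw [← hxc, hxa])
  have hza : z a = a := hz.fixed (by simp)
  have hzb : z b = b := hz.fixed (by simp)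
  have haS : a ∈ S := h.yS (Perm.mem_support.2 (hya ▸ hba))
  have hbS : b ∈ S := h.yS (Perm.mem_support.2 (hyb ▸ hba.symm))
  have hcS : c ∈ S := h.xS (Perm.mem_support.2 (hxc ▸ hcb.symm))
  have hsub : (S.erase a).erase b ⊆ S := (erase_subset _ _).trans (erase_subset _ _)
  have hcard := card_rem h.hx (a := b) (hxb ▸ hcb)
  by_cases hzc : z c = c
  · refine ⟨add z b c, hz.hz.add hzb hzc, Sol.of_add hz.zS hsub hcb.symm hzb hzc hbS hcS, ?_, ?_, ?_⟩
    · rw [card_add hcb.symm hzb hzc, hz.card]; omega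
    · convert hz.ox using 1
      ext v
      simp only [Perm.mul_apply, add_apply hzb hzc, rem_apply h.hx]
      grind [Inv, h.hx, hz.hz]
    · refine hz.oy.insert (a := a) (b := b) (c := c) ?_ ?_ hca hcb ?_ ?_ ?_ fun v e1 e2 e3 => ?_ <;>
        simp only [Perm.mul_apply, add_apply hzb hzc, rem_apply h.hy] <;> grind [Inv, h.hy, hz.hz]
  · refine ⟨add z a b, hz.hz.add hza hzb, Sol.of_add hz.zS hsub hba.symm hza hzb haS hbS, ?_, ?_, ?_⟩
    · rw [card_add hba.symm hza hzb, hz.card]; omega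
    · refine hz.ox.insert (a := b) (b := a) (c := z c) ?_ ?_ ?_ ?_ ?_ ?_ ?_ fun v e1 e2 e3 => ?_ <;>
        (try simp only [Perm.mul_apply, add_apply hza hzb, rem_apply h.hx]) <;> grind [Inv, h.hx, hz.hz]
    · convert hz.oy using 1
      ext v
      simp only [Perm.mul_apply, add_apply hza hzb, rem_apply h.hy]
      grind [Inv, h.hy, hz.hz]

/-- Pair step: isolated edges `a b` of `x` and `c d` of `y`. -/
theorem step_pair {S : Finset α} {x y : Perm α} (h : Inst S x y) {a b c d : α} (hxa : x a = b)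
    (hab : a ≠ b) (hyc : y c = d) (hcd : c ≠ d) (hya : y a = a) (hyb : y b = b) (hxc : x c = c)
    (hxd : x d = d) {z : Perm α}
    (hz : Sol ((((S.erase a).erase b).erase c).erase d) (rem x a) (rem y c) z) :
    ∃ z', Sol S x y z' := by
  have hxb : x b = a := by rw [← hxa]; exact h.hx a
  have hyd : y d = c := by rw [← hyc]; exact h.hy c
  have hac : a ≠ c := by rintro rfl; exact hab (hxc ▸ hxa)
  have hza : z a = a := hz.fixed (by simp)
  have hzc : z c = c := hz.fixed (by simp)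
  have hzb : z b = b := hz.fixed (by simp)
  have hzd : z d = d := hz.fixed (by simp)
  have haS : a ∈ S := h.xS (Perm.mem_support.2 (hxa ▸ hab.symm))
  have hcS : c ∈ S := h.yS (Perm.mem_support.2 (hyc ▸ hcd.symm))
  have hsub : (((S.erase a).erase b).erase c).erase d ⊆ S := fun v hv => by
    simp only [mem_erase] at hv; exact hv.2.2.2.2
  have hcard := card_rem h.hx (a := a) (hxa ▸ hab.symm)
  refine ⟨add z a c, hz.hz.add hza hzc, Sol.of_add hz.zS hsub hac hza hzc haS hcS, ?_, ?_, ?_⟩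
  · rw [card_add hac hza hzc, hz.card]; omega
  · refine hz.ox.insert (a := c) (b := b) (c := a) ?_ ?_ hac hab ?_ ?_ ?_ fun v e1 e2 e3 => ?_ <;>
      simp only [Perm.mul_apply, add_apply hza hzc, rem_apply h.hx] <;> grind [Inv, h.hx, hz.hz]
  · refine hz.oy.insert (a := a) (b := d) (c := c) ?_ ?_ hac.symm hcd ?_ ?_ ?_ fun v e1 e2 e3 => ?_ <;>
      simp only [Perm.mul_apply, add_apply hza hzc, rem_apply h.hy] <;> grind [Inv, h.hy, hz.hz]

/-- Absorbing a square `v₀ v₁ v₂ v₃` into an edge `u v` of the solution on the rest. -/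
theorem step_square_edge {S : Finset α} {x y : Perm α} (h : Inst S x y) {v0 v1 v2 v3 : α}
    (d01 : v0 ≠ v1) (d02 : v0 ≠ v2) (d03 : v0 ≠ v3) (d12 : v1 ≠ v2) (d13 : v1 ≠ v3) (d23 : v2 ≠ v3)
    (x0 : x v0 = v1) (x2 : x v2 = v3) (y1 : y v1 = v2) (y3 : y v3 = v0) {z : Perm α}
    (hz : Sol ((((S.erase v0).erase v1).erase v2).erase v3) (rem (rem x v0) v2) (rem (rem y v1) v3) z)
    {u : α} (hu : z u ≠ u) : ∃ z', Sol S x y z' := by
  obtain ⟨v, hv⟩ : ∃ v, z u = v := ⟨_, rfl⟩
  rw [hv] at hu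
  have zv : z v = u := by rw [← hv]; exact hz.hz u
  have x1 : x v1 = v0 := by rw [← x0]; exact h.hx v0
  have x3 : x v3 = v2 := by rw [← x2]; exact h.hx v2
  have y2 : y v2 = v1 := by rw [← y1]; exact h.hy v1
  have y0 : y v0 = v3 := by rw [← y3]; exact h.hy v3
  have z0 : z v0 = v0 := hz.fixed (by simp)
  have z1 : z v1 = v1 := hz.fixed (by simp)
  have z2 : z v2 = v2 := hz.fixed (by simp)
  have z3 : z v3 = v3 := hz.fixed (by simp)
  have hne : ∀ w, z w = w → w ≠ u ∧ w ≠ v :=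
    fun w hw => ⟨fun e => hu (by rw [← hv, ← e, hw, e]), fun e => hu (by rw [← zv, ← e, hw, e])⟩
  have hsub : (((S.erase v0).erase v1).erase v2).erase v3 ⊆ S := fun w hw => by
    simp only [mem_erase] at hw; exact hw.2.2.2.2
  have huS : u ∈ S := hsub (hz.zS (Perm.mem_support.2 (hv ▸ hu)))
  have hvS : v ∈ S := hsub (hz.zS (Perm.mem_support.2 (zv ▸ hu.symm)))
  have h0S : v0 ∈ S := h.xS (Perm.mem_support.2 (x0 ▸ d01.symm))
  have h1S : v1 ∈ S := h.xS (Perm.mem_support.2 (x1 ▸ d01))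
  have h2S : v2 ∈ S := h.xS (Perm.mem_support.2 (x2 ▸ d23.symm))
  have h3S : v3 ∈ S := h.xS (Perm.mem_support.2 (x3 ▸ d23))
  set r := rem z u with hr
  have hri : Inv r := hz.hz.rem u
  have r_ap : ∀ w, r w = if w = u ∨ w = v then w else z w := fun w => by rw [hr, rem_apply hz.hz, hv]
  have ru : r u = u := by simp [r_ap]
  have r1 : r v1 = v1 := by simp [r_ap, z1]
  set p := add r u v1 with hp
  have p_ap : ∀ w, p w = if w = u then v1 else if w = v1 then u else r w := add_apply ru r1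
  have pv : p v = v := by rw [p_ap, r_ap]; grind
  have p3 : p v3 = v3 := by rw [p_ap, r_ap]; grind
  set q := add p v v3 with hq
  have q_ap : ∀ w, q w = if w = v then v3 else if w = v3 then v else p w := add_apply pv p3
  have q0 : q v0 = v0 := by rw [q_ap, p_ap, r_ap]; grind
  have q2 : q v2 = v2 := by rw [q_ap, p_ap, r_ap]; grind
  have hz' : Inv (add q v0 v2) := ((hri.add ru r1).add pv p3).add q0 q2
  have hu1 : u ≠ v1 := ((hne v1 z1).1).symm
  have hv3 : v ≠ v3 := ((hne v3 z3).2).symm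
  have rS : r.support ⊆ S := by
    rw [hr, support_rem hz.hz]
    exact ((erase_subset _ _).trans (erase_subset _ _)).trans (hz.zS.trans hsub)
  have hc1 := card_rem h.hx (a := v0) (x0 ▸ d01.symm)
  have hc2 := card_rem (h.hx.rem v0) (a := v2) (by rw [rem_apply h.hx]; grind)
  have hc3 := card_rem hz.hz (a := u) (hv ▸ hu)
  refine ⟨add q v0 v2, hz', ?_, ?_, ?_, ?_⟩
  · rw [support_add d02 q0 q2, hq, support_add hv3 pv p3, hp, support_add hu1 ru r1]
    exact insert_subset h0S (insert_subset h2S (insert_subset hvS (insert_subset h3S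
      (insert_subset huS (insert_subset h1S rS)))))
  · rw [card_add d02 q0 q2, hq, card_add hv3 pv p3, hp, card_add hu1 ru r1]
    have := hz.card
    rw [← hr] at hc3; omega
  · refine hz.ox.insert_two (a := v0) (b := v3) (p := u) (c := v2) (d := v1) (q := v)
      ?_ ?_ ?_ ?_ ?_ ?_ ?_ ?_ ?_ ?_ ?_ ?_ ?_ ?_ ?_ ?_ ?_ ?_ ?_ ?_ ?_ ?_ ?_ ?_
      fun w e1 e2 e3 e4 e5 e6 => ?_ <;>
      (try simp only [Perm.mul_apply, add_apply q0 q2, q_ap, p_ap, r_ap, rem_apply (h.hx.rem v0),
        rem_apply h.hx]) <;> grind [Inv, h.hx, hz.hz]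
  · refine hz.oy.insert_two (a := v2) (b := v3) (p := u) (c := v0) (d := v1) (q := v)
      ?_ ?_ ?_ ?_ ?_ ?_ ?_ ?_ ?_ ?_ ?_ ?_ ?_ ?_ ?_ ?_ ?_ ?_ ?_ ?_ ?_ ?_ ?_ ?_
      fun w e1 e2 e3 e4 e5 e6 => ?_ <;>
      (try simp only [Perm.mul_apply, add_apply q0 q2, q_ap, p_ap, r_ap, rem_apply (h.hy.rem v1),
        rem_apply h.hy]) <;> grind [Inv, h.hy, hz.hz]

/-- Absorbing a square with a spare point `w`. -/
theorem step_square_point {S : Finset α} {x y : Perm α} (h : Inst S x y) {v0 v1 v2 v3 : α}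
    (d01 : v0 ≠ v1) (d02 : v0 ≠ v2) (d03 : v0 ≠ v3) (d12 : v1 ≠ v2) (d13 : v1 ≠ v3) (d23 : v2 ≠ v3)
    (x0 : x v0 = v1) (x2 : x v2 = v3) (y1 : y v1 = v2) (y3 : y v3 = v0) {z : Perm α}
    (hz : Sol ((((S.erase v0).erase v1).erase v2).erase v3) (rem (rem x v0) v2) (rem (rem y v1) v3) z)
    {w : α} (hw : w ∈ S) (zw : z w = w) (w0 : w ≠ v0) (w1 : w ≠ v1) (w2 : w ≠ v2) (w3 : w ≠ v3) :
    ∃ z', Sol S x y z' := by
  have x1 : x v1 = v0 := by rw [← x0]; exact h.hx v0
  have x3 : x v3 = v2 := by rw [← x2]; exact h.hx v2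
  have y2 : y v2 = v1 := by rw [← y1]; exact h.hy v1
  have y0 : y v0 = v3 := by rw [← y3]; exact h.hy v3
  have z0 : z v0 = v0 := hz.fixed (by simp)
  have z1 : z v1 = v1 := hz.fixed (by simp)
  have z2 : z v2 = v2 := hz.fixed (by simp)
  have z3 : z v3 = v3 := hz.fixed (by simp)
  have hsub : (((S.erase v0).erase v1).erase v2).erase v3 ⊆ S := fun u hu => by
    simp only [mem_erase] at hu; exact hu.2.2.2.2
  have h1S : v1 ∈ S := h.xS (Perm.mem_support.2 (x1 ▸ d01))
  have h2S : v2 ∈ S := h.xS (Perm.mem_support.2 (x2 ▸ d23.symm))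
  have h3S : v3 ∈ S := h.xS (Perm.mem_support.2 (x3 ▸ d23))
  set p := add z w v1 with hp
  have p_ap : ∀ u, p u = if u = w then v1 else if u = v1 then w else z u := add_apply zw z1
  have p2 : p v2 = v2 := by rw [p_ap]; grind
  have p3 : p v3 = v3 := by rw [p_ap]; grind
  have hc1 := card_rem h.hx (a := v0) (x0 ▸ d01.symm)
  have hc2 := card_rem (h.hx.rem v0) (a := v2) (by rw [rem_apply h.hx]; grind)
  refine ⟨add p v2 v3, (hz.hz.add zw z1).add p2 p3, ?_, ?_, ?_, ?_⟩
  · rw [support_add d23 p2 p3, hp, support_add w1 zw z1]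
    exact insert_subset h2S (insert_subset h3S (insert_subset hw (insert_subset h1S (hz.zS.trans hsub))))
  · rw [card_add d23 p2 p3, hp, card_add w1 zw z1]
    have := hz.card; omega
  · refine hz.ox.insert (a := v0) (b := v1) (c := w) ?_ ?_ w0 w1 ?_ ?_ ?_ fun u e1 e2 e3 => ?_ <;>
      (try simp only [Perm.mul_apply, add_apply p2 p3, p_ap, rem_apply (h.hx.rem v0),
        rem_apply h.hx]) <;> grind [Inv, h.hx, hz.hz]
  · refine hz.oy.insert_four (a := v2) (b := v0) (c := v3) (d := v1) (p := w)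
      ?_ ?_ ?_ ?_ ?_ ?_ ?_ ?_ ?_ ?_ ?_ ?_ ?_ ?_ ?_ ?_ ?_ ?_ fun u e1 e2 e3 e4 e5 => ?_ <;>
      (try simp only [Perm.mul_apply, add_apply p2 p3, p_ap, rem_apply (h.hy.rem v1),
        rem_apply h.hy]) <;> grind [Inv, h.hy, hz.hz]

/-- Cycle step along `u -x- a -y- b -x- c -y- d -x- v`. -/
theorem step_cycle {S : Finset α} {x y : Perm α} (h : Inst S x y) {u a b c d v : α}
    (dua : u ≠ a) (dub : u ≠ b) (duc : u ≠ c) (dud : u ≠ d) (duv : u ≠ v) (dab : a ≠ b) (dac : a ≠ c)
    (dad : a ≠ d) (dav : a ≠ v) (dbc : b ≠ c) (dbd : b ≠ d) (dbv : b ≠ v) (dcd : c ≠ d) (dcv : c ≠ v)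
    (ddv : d ≠ v) (xu : x u = a) (xb : x b = c) (xd : x d = v) (ya : y a = b) (yc : y c = d) {z : Perm α}
    (hz : Sol ((((S.erase a).erase b).erase c).erase d) (add (rem (rem (rem x u) b) d) u v)
      (rem (rem y a) c) z) : ∃ z', Sol S x y z' := by
  have xa : x a = u := by rw [← xu]; exact h.hx u
  have xc : x c = b := by rw [← xb]; exact h.hx b
  have xv : x v = d := by rw [← xd]; exact h.hx d
  have yb : y b = a := by rw [← ya]; exact h.hy a
  have yd : y d = c := by rw [← yc]; exact h.hy c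
  have za : z a = a := hz.fixed (by simp)
  have zb : z b = b := hz.fixed (by simp)
  have zc : z c = c := hz.fixed (by simp)
  have zd : z d = d := hz.fixed (by simp)
  have hsub : (((S.erase a).erase b).erase c).erase d ⊆ S := fun w hw => by
    simp only [mem_erase] at hw; exact hw.2.2.2.2
  have haS : a ∈ S := h.xS (Perm.mem_support.2 (xa ▸ dua))
  have hbS : b ∈ S := h.xS (Perm.mem_support.2 (xb ▸ dbc.symm))
  have hcS : c ∈ S := h.xS (Perm.mem_support.2 (xc ▸ dbc))
  have hdS : d ∈ S := h.xS (Perm.mem_support.2 (xd ▸ ddv.symm))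
  set x1 := rem x u with hx1
  set x2 := rem x1 b with hx2
  set x3 := rem x2 d with hx3
  have i1 : Inv x1 := h.hx.rem u
  have i2 : Inv x2 := i1.rem b
  have a1 : ∀ w, x1 w = if w = u ∨ w = a then w else x w := fun w => by rw [hx1, rem_apply h.hx, xu]
  have a2 : ∀ w, x2 w = if w = b ∨ w = c then w else x1 w := fun w => by
    rw [hx2, rem_apply i1, show x1 b = c by rw [a1]; grind]
  have a3 : ∀ w, x3 w = if w = d ∨ w = v then w else x2 w := fun w => by
    rw [hx3, rem_apply i2, show x2 d = v by rw [a2, a1]; grind]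
  have u3 : x3 u = u := by rw [a3, a2, a1]; grind
  have v3 : x3 v = v := by rw [a3, a2, a1]; grind
  have hc1 := card_rem h.hx (a := u) (xu ▸ dua.symm)
  have hc2 := card_rem i1 (a := b) (by rw [a1]; grind)
  have hc3 := card_rem i2 (a := d) (by rw [a2, a1]; grind)
  have hc4 := card_add duv u3 v3
  set p := add z a b with hp
  have p_ap : ∀ w, p w = if w = a then b else if w = b then a else z w := add_apply za zb
  have pc : p c = c := by rw [p_ap]; grind
  have pd : p d = d := by rw [p_ap]; grind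
  refine ⟨add p c d, (hz.hz.add za zb).add pc pd, ?_, ?_, ?_, ?_⟩
  · rw [support_add dcd pc pd, hp, support_add dab za zb]
    exact insert_subset hcS (insert_subset hdS (insert_subset haS (insert_subset hbS (hz.zS.trans hsub))))
  · rw [card_add dcd pc pd, hp, card_add dab za zb]
    have := hz.card
    rw [← hx1, ← hx2, ← hx3] at *
    omega
  · refine hz.ox.insert_two (a := a) (b := c) (p := z u) (c := d) (d := b) (q := z v)
      ?_ ?_ ?_ ?_ ?_ ?_ ?_ ?_ ?_ ?_ ?_ ?_ ?_ ?_ ?_ ?_ ?_ ?_ ?_ ?_ ?_ ?_ ?_ ?_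
      fun w e1 e2 e3 e4 e5 e6 => ?_ <;>
      (try simp only [Perm.mul_apply, add_apply pc pd, p_ap, add_apply u3 v3, a3, a2, a1]) <;>
      grind [Inv, h.hx, hz.hz]
  · convert hz.oy using 1
    ext w
    simp only [Perm.mul_apply, add_apply pc pd, p_ap, rem_apply (h.hy.rem a), rem_apply h.hy]
    grind [Inv, h.hy, hz.hz]

/-- Base case: a single cycle on eight points. -/
theorem base_octagon {S : Finset α} {x y : Perm α} (h : Inst S x y) {u a b c d v e f : α}
    (hnd : [u, a, b, c, d, v, e, f].Nodup) (hS : S = {u, a, b, c, d, v, e, f})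
    (xu : x u = a) (xb : x b = c) (xd : x d = v) (xe : x e = f) (ya : y a = b) (yc : y c = d)
    (yv : y v = e) (yf : y f = u) : ∃ z', Sol S x y z' := by
  simp only [List.nodup_cons, List.mem_cons, List.not_mem_nil, or_false, not_or, List.nodup_nil,
    and_true, not_false_eq_true] at hnd
  obtain ⟨⟨dua, dub, duc, dud, duv, due, duf⟩, ⟨dab, dac, dad, dav, dae, daf⟩, ⟨dbc, dbd, dbv, dbe, dbf⟩,
    ⟨dcd, dcv, dce, dcf⟩, ⟨ddv, dde, ddf⟩, ⟨dve, dvf⟩, def'⟩ := hnd
  have xa : x a = u := by rw [← xu]; exact h.hx u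
  have xc : x c = b := by rw [← xb]; exact h.hx b
  have xv : x v = d := by rw [← xd]; exact h.hx d
  have xf : x f = e := by rw [← xe]; exact h.hx e
  have yb : y b = a := by rw [← ya]; exact h.hy a
  have ydd : y d = c := by rw [← yc]; exact h.hy c
  have ye : y e = v := by rw [← yv]; exact h.hy v
  have yu : y u = f := by rw [← yf]; exact h.hy f
  have hmem : ∀ w, w ∉ S → x w = w ∧ y w = w := fun w hw =>
    ⟨Perm.notMem_support.1 fun e => hw (h.xS e), Perm.notMem_support.1 fun e => hw (h.yS e)⟩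
  set z1 := add (1 : Perm α) b c with hz1
  have a1 : ∀ w, z1 w = if w = b then c else if w = c then b else w := add_apply rfl rfl
  have i1 : Inv z1 := (show Inv (1 : Perm α) from fun _ => rfl).add rfl rfl
  have v1 : z1 v = v := by rw [a1]; grind
  have e1 : z1 e = e := by rw [a1]; grind
  set z2 := add z1 v e with hz2
  have a2 : ∀ w, z2 w = if w = v then e else if w = e then v else z1 w := add_apply v1 e1
  have u2 : z2 u = u := by rw [a2, a1]; grind
  have d2 : z2 d = d := by rw [a2, a1]; grind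
  set z3 := add z2 u d with hz3
  have a3 : ∀ w, z3 w = if w = u then d else if w = d then u else z2 w := add_apply u2 d2
  have p3 : z3 a = a := by rw [a3, a2, a1]; grind
  have f3 : z3 f = f := by rw [a3, a2, a1]; grind
  refine ⟨add z3 a f, (((i1.add v1 e1).add u2 d2)).add p3 f3, ?_, ?_, ?_, ?_⟩
  · rw [support_add daf p3 f3, hz3, support_add dud u2 d2, hz2, support_add dve v1 e1, hz1,
      support_add dbc rfl rfl, Perm.support_one, hS]
    intro w hw
    simp only [mem_insert, notMem_empty, or_false, mem_singleton] at hw ⊢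
    tauto
  · rw [card_add daf p3 f3, hz3, card_add dud u2 d2, hz2, card_add dve v1 e1, hz1,
      card_add dbc rfl rfl, Perm.support_one]
    have hx8 : x.support = S := by
      refine h.xS.antisymm fun w hw => Perm.mem_support.2 ?_
      rw [hS] at hw; grind
    rw [hx8, hS]
    simp [Finset.card_insert_of_notMem, *]
  · refine oddCyc_of_pow_three fun w => ?_
    by_cases hw : w ∈ S
    · rw [hS] at hw
      simp only [Perm.mul_apply, add_apply p3 f3, a3, a2, a1]
      grind
    · have := hmem w hw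
      rw [hS] at hw
      simp only [Perm.mul_apply, add_apply p3 f3, a3, a2, a1]
      grind
  · refine oddCyc_of_pow_three fun w => ?_
    by_cases hw : w ∈ S
    · rw [hS] at hw
      simp only [Perm.mul_apply, add_apply p3 f3, a3, a2, a1]
      grind
    · have := hmem w hw
      rw [hS] at hw
      simp only [Perm.mul_apply, add_apply p3 f3, a3, a2, a1]
      grind

/-- Base case: two squares. -/
theorem base_squares {S : Finset α} {x y : Perm α} (h : Inst S x y) {a0 a1 a2 a3 b0 b1 b2 b3 : α}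
    (hnd : [a0, a1, a2, a3, b0, b1, b2, b3].Nodup) (hS : S = {a0, a1, a2, a3, b0, b1, b2, b3})
    (xa0 : x a0 = a1) (xa2 : x a2 = a3) (xb0 : x b0 = b1) (xb2 : x b2 = b3) (ya1 : y a1 = a2)
    (ya3 : y a3 = a0) (yb1 : y b1 = b2) (yb3 : y b3 = b0) : ∃ z', Sol S x y z' := by
  simp only [List.nodup_cons, List.mem_cons, List.not_mem_nil, or_false, not_or, List.nodup_nil,
    and_true, not_false_eq_true] at hnd
  obtain ⟨⟨c1, c2, c3, c4, c5, c6, c7⟩, ⟨c8, c9, c10, c11, c12, c13⟩, ⟨c14, c15, c16, c17, c18⟩,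
    ⟨c19, c20, c21, c22⟩, ⟨c23, c24, c25⟩, ⟨c26, c27⟩, c28⟩ := hnd
  have xa1 : x a1 = a0 := by rw [← xa0]; exact h.hx a0
  have xa3 : x a3 = a2 := by rw [← xa2]; exact h.hx a2
  have xb1 : x b1 = b0 := by rw [← xb0]; exact h.hx b0
  have xb3 : x b3 = b2 := by rw [← xb2]; exact h.hx b2
  have ya2 : y a2 = a1 := by rw [← ya1]; exact h.hy a1
  have ya0 : y a0 = a3 := by rw [← ya3]; exact h.hy a3
  have yb2 : y b2 = b1 := by rw [← yb1]; exact h.hy b1
  have yb0 : y b0 = b3 := by rw [← yb3]; exact h.hy b3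
  have hmem : ∀ w, w ∉ S → x w = w ∧ y w = w := fun w hw =>
    ⟨Perm.notMem_support.1 fun e => hw (h.xS e), Perm.notMem_support.1 fun e => hw (h.yS e)⟩
  set z1 := add (1 : Perm α) a1 a2 with hz1
  have p1 : ∀ w, z1 w = if w = a1 then a2 else if w = a2 then a1 else w := add_apply rfl rfl
  have i1 : Inv z1 := (show Inv (1 : Perm α) from fun _ => rfl).add rfl rfl
  have u1 : z1 b0 = b0 := by rw [p1]; grind
  have u1' : z1 b1 = b1 := by rw [p1]; grind
  set z2 := add z1 b0 b1 with hz2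
  have p2 : ∀ w, z2 w = if w = b0 then b1 else if w = b1 then b0 else z1 w := add_apply u1 u1'
  have u2 : z2 a0 = a0 := by rw [p2, p1]; grind
  have u2' : z2 b2 = b2 := by rw [p2, p1]; grind
  set z3 := add z2 a0 b2 with hz3
  have p3 : ∀ w, z3 w = if w = a0 then b2 else if w = b2 then a0 else z2 w := add_apply u2 u2'
  have u3 : z3 a3 = a3 := by rw [p3, p2, p1]; grind
  have u3' : z3 b3 = b3 := by rw [p3, p2, p1]; grind
  refine ⟨add z3 a3 b3, ((i1.add u1 u1').add u2 u2').add u3 u3', ?_, ?_, ?_, ?_⟩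
  · rw [support_add c22 u3 u3', hz3, support_add c6 u2 u2', hz2, support_add c23 u1 u1', hz1,
      support_add c8 rfl rfl, Perm.support_one, hS]
    intro w hw
    simp only [mem_insert, notMem_empty, or_false, mem_singleton] at hw ⊢
    tauto
  · rw [card_add c22 u3 u3', hz3, card_add c6 u2 u2', hz2, card_add c23 u1 u1', hz1,
      card_add c8 rfl rfl, Perm.support_one]
    have hx8 : x.support = S := by
      refine h.xS.antisymm fun w hw => Perm.mem_support.2 ?_
      rw [hS] at hw; grind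
    rw [hx8, hS]
    simp [Finset.card_insert_of_notMem, *]
  · refine oddCyc_of_pow_three fun w => ?_
    by_cases hw : w ∈ S
    · rw [hS] at hw
      simp only [Perm.mul_apply, add_apply u3 u3', p3, p2, p1]
      grind
    · have := hmem w hw
      rw [hS] at hw
      simp only [Perm.mul_apply, add_apply u3 u3', p3, p2, p1]
      grind
  · refine oddCyc_of_pow_three fun w => ?_
    by_cases hw : w ∈ S
    · rw [hS] at hw
      simp only [Perm.mul_apply, add_apply u3 u3', p3, p2, p1]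
      grind
    · have := hmem w hw
      rw [hS] at hw
      simp only [Perm.mul_apply, add_apply u3 u3', p3, p2, p1]
      grind

end Cfsg.Agent.H61.OddProduct
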