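import Cfsg.Agent.H61.PlusOneCount
import Cfsg.Agent.H32.PermModule

/-!
Blocks of the stabiliser of a point `a` of a doubly transitive group of degree `p ^ 2 + 1` on the
remaining points, the exclusion of two such blocks exchanged by an element interchanging `a` and `b`,
fixed point sets of subgroups of the pair stabiliser, and Burnside's dichotomy in the form needed.
-/

set_option autoImplicit false

namespace Cfsg.Agent.H61.PlusOne

open MulAction
open scoped Pointwise

variable {G Ω : Type*} [Group G] [MulAction G Ω] [Fintype Ω] [DecidableEq Ω]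

variable (G) in
/-- A block containing `b` of the stabiliser of `a` on the points other than `a`. -/
structure Blk (a b : Ω) (B : Finset Ω) : Prop where
  mem : b ∈ B
  notMem : a ∉ B
  block : ∀ h : G, h • a = a → ∀ x ∈ B, h • x ∈ B → h • B = B

variable (G) in
open Classical in
/-- The translate through `x` of the block `B`. -/
noncomputable def cl (a : Ω) (B : Finset Ω) (x : Ω) : Finset Ω :=
  Finset.univ.filter fun y => ∃ h : G, h • a = a ∧ x ∈ h • B ∧ y ∈ h • B

theorem Blk.eq_of_mem {a b : Ω} {B : Finset Ω} (hB : Blk G a b B) {h k : G} (ha : h • a = a)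
    (ka : k • a = a) {x : Ω} (hx : x ∈ h • B) (kx : x ∈ k • B) : h • B = k • B := by
  rw [← Finset.inv_smul_mem_iff] at hx kx
  have := hB.block (k⁻¹ * h) (by rw [mul_smul, ha, inv_smul_eq_iff, ka]) _ hx
    (by rwa [mul_smul, smul_inv_smul])
  rw [mul_smul, inv_smul_eq_iff] at this
  exact this

theorem Blk.cl_eq {a b : Ω} {B : Finset Ω} (hB : Blk G a b B) {h : G} (ha : h • a = a) {x : Ω}
    (hx : x ∈ h • B) : cl G a B x = h • B := by
  classical
  ext y
  simp only [cl, Finset.mem_filter, Finset.mem_univ, true_and]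
  constructor
  · rintro ⟨k, ka, kx, ky⟩
    rwa [hB.eq_of_mem ha ka hx kx]
  · exact fun hy => ⟨h, ha, hx, hy⟩

theorem Blk.cl_self {a b : Ω} {B : Finset Ω} (hB : Blk G a b B) {x : Ω} (hx : x ∈ B) :
    cl G a B x = B := by
  rw [hB.cl_eq (one_smul G a) (by rwa [one_smul]), one_smul]

theorem cl_smul (a : Ω) (B : Finset Ω) {g : G} (hg : g • a = a) (x : Ω) :
    cl G a B (g • x) = g • cl G a B x := by
  classical
  ext y
  rw [← Finset.inv_smul_mem_iff]
  simp only [cl, Finset.mem_filter, Finset.mem_univ, true_and]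
  constructor
  · rintro ⟨h, ha, hx, hy⟩
    exact ⟨g⁻¹ * h, by rw [mul_smul, ha, inv_smul_eq_iff, hg],
      by rwa [mul_smul, ← Finset.inv_smul_mem_iff, inv_inv], by rwa [mul_smul, Finset.smul_mem_smul_finset_iff]⟩
  · rintro ⟨h, ha, hx, hy⟩
    exact ⟨g * h, by rw [mul_smul, ha, hg], by rwa [mul_smul, Finset.smul_mem_smul_finset_iff],
      by rwa [mul_smul, ← Finset.inv_smul_mem_iff]⟩

theorem Blk.cl_spec {a b : Ω} {B : Finset Ω} (hB : Blk G a b B)
    (h2 : IsMultiplyPretransitive G Ω 2) {x : Ω} (hx : x ≠ a) :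
    ∃ h : G, h • a = a ∧ h • b = x ∧ cl G a B x = h • B := by
  have hab : a ≠ b := fun h => hB.notMem (h ▸ hB.mem)
  obtain ⟨h, ha, hb⟩ := exists_pair h2 hab (Ne.symm hx)
  exact ⟨h, ha, hb, hB.cl_eq ha (hb ▸ Finset.smul_mem_smul_finset hB.mem)⟩

theorem Blk.mem_cl {a b : Ω} {B : Finset Ω} (hB : Blk G a b B) (h2 : IsMultiplyPretransitive G Ω 2)
    {x : Ω} (hx : x ≠ a) : x ∈ cl G a B x := by
  obtain ⟨h, -, hb, e⟩ := hB.cl_spec h2 hx
  rw [e, ← hb]
  exact Finset.smul_mem_smul_finset hB.mem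

theorem Blk.cl_eq_of_mem {a b : Ω} {B : Finset Ω} (hB : Blk G a b B)
    (h2 : IsMultiplyPretransitive G Ω 2) {x y : Ω} (hx : x ≠ a) (hy : y ∈ cl G a B x) :
    cl G a B y = cl G a B x := by
  obtain ⟨h, ha, -, e⟩ := hB.cl_spec h2 hx
  rw [e] at hy ⊢
  exact hB.cl_eq ha hy

theorem Blk.card_cl {a b : Ω} {B : Finset Ω} (hB : Blk G a b B) (h2 : IsMultiplyPretransitive G Ω 2)
    {x : Ω} (hx : x ≠ a) : (cl G a B x).card = B.card := by
  obtain ⟨h, -, -, e⟩ := hB.cl_spec h2 hx
  rw [e, Finset.card_smul_finset]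

theorem Blk.notMem_cl {a b : Ω} {B : Finset Ω} (hB : Blk G a b B) (h2 : IsMultiplyPretransitive G Ω 2)
    {x : Ω} (hx : x ≠ a) : a ∉ cl G a B x := by
  obtain ⟨h, ha, -, e⟩ := hB.cl_spec h2 hx
  rw [e]
  intro hm
  rw [← ha, Finset.smul_mem_smul_finset_iff] at hm
  exact hB.notMem hm

theorem Blk.card_mul {a b : Ω} {B : Finset Ω} (hB : Blk G a b B)
    (h2 : IsMultiplyPretransitive G Ω 2) :
    ((Finset.univ.erase a).image (cl G a B)).card * B.card = Fintype.card Ω - 1 := by
  classical
  rw [← Finset.card_univ, ← Finset.card_erase_of_mem (Finset.mem_univ a),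
    Finset.card_eq_sum_card_image (cl G a B) (Finset.univ.erase a)]
  rw [eq_comm, ← smul_eq_mul]
  refine Finset.sum_const_nat fun S hS => ?_
  obtain ⟨x, hx, rfl⟩ := Finset.mem_image.1 hS
  have hx' := (Finset.mem_erase.1 hx).1
  rw [← hB.card_cl h2 hx']
  congr 1
  ext y
  simp only [Finset.mem_filter, Finset.mem_erase, Finset.mem_univ, and_true]
  constructor
  · rintro ⟨hy, e⟩; exact e ▸ hB.mem_cl h2 hy
  · exact fun hy => ⟨fun e => hB.notMem_cl h2 hx' (e ▸ hy), hB.cl_eq_of_mem h2 hx' hy⟩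

variable {p : ℕ}

/-- Two blocks of size `p` are never exchanged, with their base point, by a swap of `a` and `b`. -/
theorem Blk.no_exchange {a b : Ω} {B B' : Finset Ω} (hB : Blk G a b B) (hB' : Blk G a b B')
    (h2 : IsMultiplyPretransitive G Ω 2) (hp : 2 ≤ p) (hn : Fintype.card Ω = p ^ 2 + 1)
    (hBc : B.card = p) (hB'c : B'.card = p) {w : G} (hwa : w • a = b) (hwb : w • b = a)
    (hw : w • insert a B = insert a B') : False := by
  classical
  have hab : a ≠ b := fun h => hB.notMem (h ▸ hB.mem)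
  have hins : ∀ {C : Finset Ω} {h : G}, h • a = a → h • C = C → h • insert a C = insert a C :=
    fun {C h} ha hC => by rw [Finset.smul_finset_insert, ha, hC]
  have hww : (w * w) • insert a B = insert a B := by
    have h1 : (w * w) • a = a := by rw [mul_smul, hwa, hwb]
    exact hins h1 (hB.block _ h1 b hB.mem (by rw [mul_smul, hwb, hwa]; exact hB.mem))
  rw [mul_smul, hw] at hww
  obtain ⟨c, hc, hcb⟩ := Finset.exists_mem_ne (by omega : 1 < B'.card) b
  obtain ⟨k, hka, hkb⟩ := exists_pair h2 hab (fun h => hB'.notMem (h ▸ hc) : a ≠ c)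
  have hk : k • insert a B' = insert a B' :=
    hins hka (hB'.block k hka b hB'.mem (hkb.symm ▸ hc))
  set m := w * k * w⁻¹ with hm
  have hmF : m • insert a B = insert a B := by
    rw [hm, mul_smul, mul_smul, inv_smul_eq_iff.2 hww.symm, hk, hww]
  have hma : m • a ≠ a := by
    rw [hm, mul_smul, mul_smul, inv_smul_eq_iff.2 hwb.symm, hkb]
    exact fun h => hcb (smul_left_cancel w (h.trans hwb.symm))
  refine no_design h2 hp hn (insert a B) (by rw [Finset.card_insert_of_notMem hB.notMem, hBc]) hab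
    (Finset.mem_insert_self _ _) (Finset.mem_insert_of_mem hB.mem) fun g hga hgb => ?_
  obtain ⟨g₀, hg₀F, hg₀a⟩ : ∃ g₀ : G, g₀ • insert a B = insert a B ∧ g₀ • a = g • a := by
    rcases eq_or_ne (g • a) a with e | e
    · exact ⟨1, one_smul _ _, by rw [one_smul, e]⟩
    · have hmB : m • a ∈ B :=
        (Finset.mem_insert.1 (hmF ▸ Finset.smul_mem_smul_finset (Finset.mem_insert_self a B))).resolve_left hma
      have hgB : g • a ∈ B := (Finset.mem_insert.1 hga).resolve_left e
      obtain ⟨h, hha, hhm⟩ := exists_pair h2 (Ne.symm hma) (Ne.symm e)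
      exact ⟨h * m, by rw [mul_smul, hmF, hins hha (hB.block h hha _ hmB (hhm.symm ▸ hgB))],
        by rw [mul_smul, hhm]⟩
  have h1 : (g₀⁻¹ * g) • a = a := by rw [mul_smul, ← hg₀a, inv_smul_smul]
  have hne : (g₀⁻¹ * g) • b ≠ a := fun h => hab (smul_left_cancel (g₀⁻¹ * g) (h1.trans h.symm))
  have hmem : (g₀⁻¹ * g) • b ∈ insert a B := by
    rw [mul_smul, Finset.inv_smul_mem_iff, hg₀F]; exact hgb
  have h3 := hins h1 (hB.block _ h1 b hB.mem ((Finset.mem_insert.1 hmem).resolve_left hne))
  rw [mul_smul, inv_smul_eq_iff] at h3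
  rw [h3, hg₀F]

variable (G) in
open Classical in
/-- The points other than `a` fixed by `K`. -/
noncomputable def fixSet (K : Subgroup G) (a : Ω) : Finset Ω :=
  (Finset.univ.erase a).filter fun x => ∀ k ∈ K, k • x = x

omit [MulAction G Ω] [Fintype Ω] [DecidableEq Ω] in
theorem normalizes_of_le [Finite G] {K : Subgroup G} {h : G}
    (hh : ∀ k ∈ K, h⁻¹ * k * h ∈ K) : h ∈ Subgroup.normalizer (K : Set G) := by
  have e : K.map (MulAut.conj h⁻¹).toMonoidHom = K := by
    refine Subgroup.eq_of_le_of_card_ge ?_ (le_of_eq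
      (Subgroup.card_map_of_injective (MulAut.conj h⁻¹).injective).symm)
    rintro _ ⟨k, hk, rfl⟩
    simpa [MulAut.conj_apply] using hh k hk
  rw [Subgroup.mem_normalizer_iff]
  intro k
  constructor
  · intro hk
    obtain ⟨k', hk', rfl⟩ : k ∈ K.map (MulAut.conj h⁻¹).toMonoidHom := e.symm ▸ hk
    simpa [MulAut.conj_apply, mul_assoc] using hk'
  · intro hk
    have := hh _ hk
    simpa [mul_assoc] using this

/-- The fixed point set of a suitable subgroup of the pair stabiliser is a block. -/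
theorem blk_fixSet [Finite G] (h2 : IsMultiplyPretransitive G Ω 2) {a b : Ω} (hab : a ≠ b)
    (K : Subgroup G) (hK : ∀ k ∈ K, k • a = a ∧ k • b = b)
    (hmono : ∀ h : G, h • a = a → (∀ k ∈ K, k • (h • b) = h • b) → ∀ k ∈ K, h⁻¹ * k * h ∈ K) :
    Blk G a b (fixSet G K a) := by
  classical
  have hmem : ∀ x, x ∈ fixSet G K a ↔ x ≠ a ∧ ∀ k ∈ K, k • x = x := fun x => by simp [fixSet]
  refine ⟨(hmem b).2 ⟨hab.symm, fun k hk => (hK k hk).2⟩, fun h => ((hmem a).1 h).1 rfl,
    fun h ha x hx hhx => ?_⟩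
  obtain ⟨u, hua, hub⟩ := exists_pair h2 hab (Ne.symm ((hmem x).1 hx).1)
  have hu : u ∈ Subgroup.normalizer (K : Set G) :=
    normalizes_of_le (hmono u hua (hub.symm ▸ ((hmem x).1 hx).2))
  have hhu : h * u ∈ Subgroup.normalizer (K : Set G) :=
    normalizes_of_le (hmono (h * u) (by rw [mul_smul, hua, ha])
      (by rw [mul_smul, hub]; exact ((hmem _).1 hhx).2))
  have hh : h ∈ Subgroup.normalizer (K : Set G) := by
    simpa using mul_mem hhu (inv_mem hu)
  refine Finset.eq_of_subset_of_card_le (fun y hy => ?_) (by rw [Finset.card_smul_finset])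
  obtain ⟨y', hy', rfl⟩ := Finset.mem_smul_finset.1 hy
  refine (hmem _).2 ⟨fun e => ((hmem y').1 hy').1 (smul_left_cancel h (e.trans ha.symm)), fun k hk => ?_⟩
  have hk' : h⁻¹ * k * h ∈ K := (Subgroup.mem_normalizer_iff''.1 hh k).1 hk
  have := ((hmem y').1 hy').2 _ hk'
  rw [mul_smul, mul_smul, inv_smul_eq_iff] at this
  exact this

/-- An element of order dividing `p` fixes every point of an invariant set of fewer than `p` points. -/
theorem fixed_of_pow_prime [Fact p.Prime] {y : G} (hy : y ^ p = 1) {S : Finset Ω} (hS : S.card < p)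
    (hinv : ∀ x ∈ S, y • x ∈ S) {x : Ω} (hx : x ∈ S) : y • x = x := by
  by_contra hne
  have hper : period y x = p := by
    have hd : period y x ∣ p := pow_smul_eq_iff_period_dvd.1 (by rw [hy, one_smul])
    refine ((Nat.dvd_prime Fact.out).1 hd).resolve_left fun h1 => hne ?_
    have := pow_period_smul y x
    rwa [h1, pow_one] at this
  have hmem : ∀ i : ℕ, y ^ i • x ∈ S := by
    intro i
    induction i with
    | zero => rwa [pow_zero, one_smul]
    | succ i ih => rw [pow_succ', mul_smul]; exact hinv _ ih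
  have : (Finset.range p).card ≤ S.card := by
    refine Finset.card_le_card_of_injOn (fun i => y ^ i • x) (fun i _ => hmem i) fun i hi j hj h => ?_
    simp only [Finset.coe_range, Set.mem_Iio] at hi hj
    simp only at h
    rcases le_total i j with hle | hle
    · have h' : y ^ (j - i) • x = x := by
        apply smul_left_cancel (y ^ i)
        rw [smul_smul, ← pow_add, Nat.add_sub_cancel' hle, h]
      have := Nat.eq_zero_of_dvd_of_lt (hper ▸ pow_smul_eq_iff_period_dvd.1 h') (by omega)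
      omega
    · have h' : y ^ (i - j) • x = x := by
        apply smul_left_cancel (y ^ j)
        rw [smul_smul, ← pow_add, Nat.add_sub_cancel' hle, h]
      have := Nat.eq_zero_of_dvd_of_lt (hper ▸ pow_smul_eq_iff_period_dvd.1 h') (by omega)
      omega
  rw [Finset.card_range] at this
  omega

omit [MulAction G Ω] [Fintype Ω] [DecidableEq Ω] in
/-- Burnside's dichotomy for an action on `p` points with a given element `z` inducing a `p`-cycle. -/
theorem affine_or_transitive {β : Type*} [Fintype β] [DecidableEq β] [Fact p.Prime]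
    (hβ : Fintype.card β = p) (φ : G →* Equiv.Perm β) {z : G} (hz : φ z ^ p = 1) (b : β)
    (hzb : φ z b ≠ b) :
    (∀ g : G, φ g b = b → ∃ μ : ℕ, ∀ j : ℕ, φ g (φ (z ^ j) b) = φ (z ^ (μ * j)) b) ∨
      (∀ c d : β, c ≠ b → d ≠ b → ∃ g : G, φ g b = b ∧ φ g c = d) := by
  classical
  let z' : φ.range := ⟨φ z, z, rfl⟩
  have hord : orderOf z' = p := by
    rw [← Subgroup.orderOf_coe]
    exact orderOf_eq_prime hz (fun h => hzb (by have h' : φ z = 1 := h; rw [h']; rfl))
  obtain ⟨C, hC⟩ := H32.exists_coords_of_order hβ z' hord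
  haveI : IsPretransitive φ.range β := by
    constructor
    intro x y
    obtain ⟨i, rfl⟩ := C.coord.surjective x
    obtain ⟨j, rfl⟩ := C.coord.surjective y
    refine ⟨C.gen ^ (j - i).val, ?_⟩
    rw [C.pow_smul, ZMod.natCast_val, ZMod.cast_id, add_sub_cancel]
  have hpow : ∀ (n : ℕ) (j : ZMod p), φ (z ^ n) (C.coord j) = C.coord (j + n) := fun n j => by
    rw [← C.pow_smul n j, hC, map_pow]
    rfl
  rcases C.allAffine_or_two_transitive hβ with h | h
  · left
    intro g hg
    obtain ⟨μ, c, hμ⟩ := h ⟨φ g, g, rfl⟩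
    refine ⟨μ.val, fun j => ?_⟩
    obtain ⟨i, rfl⟩ := C.coord.surjective b
    have hμ' : ∀ j, φ g (C.coord j) = C.coord (μ * j + c) := hμ
    have h0 : μ * i + c = i := C.coord.injective ((hμ' i).symm.trans hg)
    rw [hpow, hμ', hpow]
    congr 1
    push_cast
    rw [ZMod.natCast_val, ZMod.cast_id]
    linear_combination h0
  · right
    intro c d hc hd
    obtain ⟨⟨_, g, rfl⟩, h1, h3⟩ := exists_pair h (Ne.symm hc) (Ne.symm hd)
    exact ⟨g, h1, h3⟩

end Cfsg.Agent.H61.PlusOne
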