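import Cfsg.Agent.H61.PlusOneSetup

/-!
Elements preserving every cell: they are determined by their action on the block `B`.
-/

set_option autoImplicit false

namespace Cfsg.Agent.H61.PlusOne

open MulAction
open scoped Pointwise

variable {G Ω : Type*} [Group G] [MulAction G Ω] [Fintype Ω] [DecidableEq Ω]

variable (G) in
/-- Elements fixing `a` and preserving each translate of `B`. -/
def cellFix (a : Ω) (B : Finset Ω) : Subgroup G where
  carrier := {g | g • a = a ∧ ∀ x, x ≠ a → cl G a B (g • x) = cl G a B x}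
  one_mem' := ⟨one_smul _ _, fun x _ => by rw [one_smul]⟩
  mul_mem' := by
    rintro g h ⟨ga, gx⟩ ⟨ha, hx⟩
    refine ⟨by rw [mul_smul, ha, ga], fun x x_ne => ?_⟩
    rw [mul_smul, gx _ (fun e => x_ne (smul_left_cancel h (e.trans ha.symm))), hx x x_ne]
  inv_mem' := by
    rintro g ⟨ga, gx⟩
    have ga' : g⁻¹ • a = a := by rw [inv_smul_eq_iff, ga]
    refine ⟨ga', fun x x_ne => ?_⟩
    have := gx (g⁻¹ • x) (fun e => x_ne (smul_left_cancel g⁻¹ (e.trans ga'.symm)))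
    rwa [smul_inv_smul, eq_comm] at this

theorem mem_cellFix {a : Ω} {B : Finset Ω} {g : G} :
    g ∈ cellFix G a B ↔ g • a = a ∧ ∀ x, x ≠ a → cl G a B (g • x) = cl G a B x := Iff.rfl

theorem conj_mem_cellFix {a : Ω} {B : Finset Ω} {h g : G} (ha : h • a = a)
    (hg : g ∈ cellFix G a B) : h⁻¹ * g * h ∈ cellFix G a B := by
  obtain ⟨ga, gx⟩ := hg
  have ha' : h⁻¹ • a = a := by rw [inv_smul_eq_iff, ha]
  refine ⟨by rw [mul_smul, mul_smul, ha, ga, ha'], fun x hx => ?_⟩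
  rw [mul_smul, mul_smul, cl_smul a B ha', gx _ (fun e => hx (smul_left_cancel h (e.trans ha.symm))),
    ← cl_smul a B ha', inv_smul_smul]

theorem conj_mem_cellFix' {a : Ω} {B : Finset Ω} {h g : G} (ha : h • a = a)
    (hg : g ∈ cellFix G a B) : h * g * h⁻¹ ∈ cellFix G a B := by
  simpa using conj_mem_cellFix (h := h⁻¹) (by rw [inv_smul_eq_iff, ha]) hg

variable {p : ℕ} {a b d : Ω} {B : Finset Ω} {P : Subgroup G} {z σ : G}

namespace Cfg

theorem ne_a (c : Cfg p a b d B P z σ) {u : G} (hu : u ∈ P) {x : Ω} (hx : x ≠ a) : u • x ≠ a :=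
  fun e => hx (smul_left_cancel u (e.trans (c.fixa u hu).symm))

theorem bne (c : Cfg p a b d B P z σ) : b ≠ a := fun h => c.blk.notMem (h ▸ c.blk.mem)

theorem cl_P (c : Cfg p a b d B P z σ) {u : G} (hu : u ∈ P) : cl G a B (u • b) = u • B :=
  c.blk.cl_eq (c.fixa u hu) (Finset.smul_mem_smul_finset c.blk.mem)

theorem pow_mem (c : Cfg p a b d B P z σ) (i : ℕ) : z ^ i ∈ P := P.pow_mem c.zmem i

theorem exists_pow (c : Cfg p a b d B P z σ) [Fact p.Prime] {u : G} (hu : u ∈ Subgroup.zpowers z) :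
    ∃ i : ℕ, i < p ∧ z ^ i = u := by
  have hfo : IsOfFinOrder z := orderOf_pos_iff.1 (c.zord ▸ (Fact.out : p.Prime).pos)
  classical
  rw [hfo.mem_zpowers_iff_mem_range_orderOf] at hu
  obtain ⟨i, hi, e⟩ := Finset.mem_image.1 hu
  exact ⟨i, c.zord ▸ Finset.mem_range.1 hi, e⟩

theorem zpow_mem_cellFix (c : Cfg p a b d B P z σ) {u : G} (hu : u ∈ Subgroup.zpowers z) :
    u ∈ cellFix G a B := by
  have huP : u ∈ P := Subgroup.zpowers_le.2 c.zmem hu
  refine ⟨c.fixa u huP, fun x hx => ?_⟩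
  obtain ⟨v, hv, rfl⟩ := c.surj x hx
  rw [← mul_smul, c.cl_P (P.mul_mem huP hv), c.cl_P hv, c.comm u huP v hv, mul_smul,
    c.blk.block u (c.fixa u huP) b c.blk.mem ((c.inB u huP).2 hu)]

theorem cl_trans (c : Cfg p a b d B P z σ) [Fact p.Prime] {x y : Ω} (hx : x ≠ a)
    (hy : y ∈ cl G a B x) : ∃ i : ℕ, i < p ∧ y = z ^ i • x := by
  obtain ⟨u, hu, rfl⟩ := c.surj x hx
  rw [c.cl_P hu, ← Finset.inv_smul_mem_iff] at hy
  have hne : y ≠ a := fun h => c.blk.notMem (by rw [h, inv_smul_eq_iff.2 (c.fixa u hu).symm] at hy; exact hy)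
  obtain ⟨v, hv, rfl⟩ := c.surj y hne
  rw [← mul_smul] at hy
  have hm := (c.inB _ (P.mul_mem (P.inv_mem hu) hv)).1 hy
  obtain ⟨i, hi, e⟩ := c.exists_pow hm
  refine ⟨i, hi, ?_⟩
  rw [← mul_smul, e, c.comm _ (P.mul_mem (P.inv_mem hu) hv) u hu, mul_inv_cancel_left]

theorem pow_smul_mem_cl (c : Cfg p a b d B P z σ) {x : Ω} (hx : x ≠ a) (i : ℕ) :
    z ^ i • x ∈ cl G a B x := by
  have := c.blk.mem_cl c.h2 (c.ne_a (c.pow_mem i) hx)
  rwa [(c.zpow_mem_cellFix (Subgroup.npow_mem_zpowers z i)).2 x hx] at this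

theorem cell_inv (c : Cfg p a b d B P z σ) {g : G} (hg : g ∈ cellFix G a B) {x y : Ω} (hx : x ≠ a)
    (hy : y ∈ cl G a B x) : g • y ∈ cl G a B x := by
  have hne : y ≠ a := fun h => c.blk.notMem_cl c.h2 hx (h ▸ hy)
  have hgy : g • y ≠ a := fun e => hne (smul_left_cancel g (e.trans hg.1.symm))
  rw [← c.blk.cl_eq_of_mem c.h2 hx hy, ← hg.2 y hne]
  exact c.blk.mem_cl c.h2 hgy

theorem smul_B (c : Cfg p a b d B P z σ) {g : G} (hg : g ∈ cellFix G a B) {x : Ω} (hx : x ∈ B) :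
    g • x ∈ B := by
  have := c.cell_inv hg c.bne (y := x) (by rwa [c.blk.cl_self c.blk.mem])
  rwa [c.blk.cl_self c.blk.mem] at this

/-- An element preserving every cell is determined by its action on `B`. -/
theorem eq_one_of_fix_B (c : Cfg p a b d B P z σ) [Finite G] [FaithfulSMul G Ω] [Fact p.Prime]
    {g : G} (hg : g ∈ cellFix G a B) (hfix : ∀ x ∈ B, g • x = x) : g = 1 := by
  classical
  have hp : p.Prime := Fact.out
  let K : Subgroup G := cellFix G a B ⊓ fixingSubgroup G (B : Set Ω)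
  have hK : ∀ k, k ∈ K ↔ k ∈ cellFix G a B ∧ ∀ x ∈ B, k • x = x := fun k => by
    simp [K, mem_fixingSubgroup_iff]
  have hKH : K ≤ stabilizer G a ⊓ stabilizer G b :=
    fun k hk => ⟨((hK k).1 hk).1.1, ((hK k).1 hk).2 b c.blk.mem⟩
  refine FaithfulSMul.eq_of_smul_eq_smul (α := Ω) fun x => ?_
  rw [one_smul]
  rcases eq_or_ne x a with rfl | hx
  · exact hg.1
  by_contra hmove
  have hgcl : g • x ∈ cl G a B x := c.cell_inv hg hx (c.blk.mem_cl c.h2 hx)
  obtain ⟨j, hj, hjx⟩ := c.cl_trans hx hgcl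
  have hj0 : j ≠ 0 := fun h => hmove (by rw [hjx, h, pow_zero, one_smul])
  let O : Set Ω := orbit K x
  have hnormal : ∀ k ∈ K, z ^ j * k * (z ^ j)⁻¹ ∈ K := by
    intro k hk
    rw [hK] at hk ⊢
    refine ⟨conj_mem_cellFix' (c.fixa _ (c.pow_mem j)) hk.1, fun y hy => ?_⟩
    rw [mul_smul, mul_smul, hk.2 ((z ^ j)⁻¹ • y) (c.smul_B (Subgroup.inv_mem _
      (c.zpow_mem_cellFix (Subgroup.npow_mem_zpowers z j))) hy), smul_inv_smul]
  have hstep : ∀ y ∈ O, z ^ j • y ∈ O := by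
    rintro _ ⟨⟨k, hk⟩, rfl⟩
    refine ⟨⟨z ^ j * k * (z ^ j)⁻¹ * g, K.mul_mem (hnormal k hk) ((hK g).2 ⟨hg, hfix⟩)⟩, ?_⟩
    show (z ^ j * k * (z ^ j)⁻¹ * g) • x = z ^ j • k • x
    rw [mul_smul, hjx, ← mul_smul, inv_mul_cancel_right, mul_smul]
  have hiter : ∀ m : ℕ, (z ^ j) ^ m • x ∈ O := by
    intro m
    induction m with
    | zero => rw [pow_zero, one_smul]; exact mem_orbit_self x
    | succ m ih => rw [pow_succ', mul_smul]; exact hstep _ ih
  have hO : O = (cl G a B x : Set Ω) := by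
    ext y
    constructor
    · rintro ⟨⟨k, hk⟩, rfl⟩
      exact c.cell_inv ((hK k).1 hk).1 hx (c.blk.mem_cl c.h2 hx)
    · intro hy
      obtain ⟨i, hi, rfl⟩ := c.cl_trans hx hy
      have hcop : Nat.Coprime j p :=
        (hp.coprime_iff_not_dvd.2 fun h => hj0 (Nat.eq_zero_of_dvd_of_lt h hj)).symm
      obtain ⟨m, hm⟩ := exists_pow_eq_self_of_coprime (x := z) (by rw [c.zord]; exact hcop)
      have := hiter (m * i)
      rwa [pow_mul, hm] at this
  apply c.coprime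
  refine dvd_trans ?_ (Subgroup.card_dvd_of_le hKH)
  have h1 := Subgroup.index_dvd_card (stabilizer K x)
  rw [index_stabilizer] at h1
  rwa [show orbit K x = (cl G a B x : Set Ω) from hO, Set.ncard_coe_finset, c.blk.card_cl c.h2 hx,
    c.card] at h1

end Cfg

end Cfsg.Agent.H61.PlusOne
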