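import Mathlib

/-!
Counting lemmas for doubly transitive groups of degree `p ^ 2 + 1`: no invariant design with lines of
`p + 1` points, the bound of Wielandt type on the pair stabiliser containing an involution that fixes
two points, and the parity argument when the point stabiliser has odd order.
-/

set_option autoImplicit false

namespace Cfsg.Agent.H61.PlusOne

open MulAction
open scoped Pointwise

variable {G Ω : Type*} [Group G] [MulAction G Ω]

theorem exists_pair (h2 : IsMultiplyPretransitive G Ω 2) {a b c d : Ω} (hab : a ≠ b) (hcd : c ≠ d) :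
    ∃ g : G, g • a = c ∧ g • b = d :=
  (is_two_pretransitive_iff.1 h2) hab hcd

/-- There is no set of `p + 1` points whose translates cover every pair of points exactly once. -/
theorem no_design [Fintype Ω] [DecidableEq Ω] (h2 : IsMultiplyPretransitive G Ω 2) {p : ℕ}
    (hp : 2 ≤ p) (hn : Fintype.card Ω = p ^ 2 + 1) (F : Finset Ω) (hF : F.card = p + 1) {a b : Ω}
    (hab : a ≠ b) (ha : a ∈ F) (hb : b ∈ F)
    (huniq : ∀ g : G, g • a ∈ F → g • b ∈ F → g • F = F) : False := by
  classical
  let L : Finset (Finset Ω) := Finset.univ.filter fun S => ∃ g : G, S = g • F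
  have hLcard : ∀ S ∈ L, S.offDiag.card = (p + 1) * p := by
    intro S hS
    obtain ⟨g, rfl⟩ := (Finset.mem_filter.1 hS).2
    rw [Finset.offDiag_card, Finset.card_smul_finset, hF, ← Nat.mul_sub_one, Nat.add_sub_cancel]
  have hdisj : (L : Set (Finset Ω)).PairwiseDisjoint fun S => S.offDiag := by
    intro S hS T hT hST
    rw [Function.onFun, Finset.disjoint_left]
    intro x hxS hxT
    apply hST
    obtain ⟨g, rfl⟩ := (Finset.mem_filter.1 hS).2
    obtain ⟨k, rfl⟩ := (Finset.mem_filter.1 hT).2
    obtain ⟨x1, x2, xne⟩ := Finset.mem_offDiag.1 hxS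
    obtain ⟨y1, y2, -⟩ := Finset.mem_offDiag.1 hxT
    obtain ⟨h, ha', hb'⟩ := exists_pair h2 hab xne
    have key : ∀ g : G, x.1 ∈ g • F → x.2 ∈ g • F → g • F = h • F := by
      intro g u v
      rw [← Finset.inv_smul_mem_iff] at u v
      have := huniq (g⁻¹ * h) (by rwa [mul_smul, ha']) (by rwa [mul_smul, hb'])
      rw [mul_smul, inv_smul_eq_iff] at this
      exact this.symm
    rw [key g x1 x2, key k y1 y2]
  have hcover : L.biUnion (fun S => S.offDiag) = (Finset.univ : Finset Ω).offDiag := by
    ext x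
    simp only [Finset.mem_biUnion, Finset.mem_offDiag, Finset.mem_univ, true_and]
    constructor
    · rintro ⟨S, -, -, -, h⟩; exact h
    · intro h
      obtain ⟨g, hga, hgb⟩ := exists_pair h2 hab h
      exact ⟨g • F, Finset.mem_filter.2 ⟨Finset.mem_univ _, g, rfl⟩,
        hga ▸ Finset.smul_mem_smul_finset ha, hgb ▸ Finset.smul_mem_smul_finset hb, h⟩
  have hsum := congrArg Finset.card hcover
  rw [Finset.card_biUnion hdisj, Finset.sum_congr rfl hLcard, Finset.sum_const, smul_eq_mul,
    Finset.offDiag_card, Finset.card_univ, hn] at hsum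
  rw [← Nat.mul_sub_one, Nat.add_sub_cancel] at hsum
  have h3 : L.card * (p + 1) = (p ^ 2 + 1) * p := by
    apply Nat.eq_of_mul_eq_mul_right (show 0 < p by omega)
    rw [mul_assoc, hsum]; ring
  have hc : ((p : ℤ) + 1) ∣ ((p : ℤ) ^ 2 + 1) * p := ⟨L.card, by exact_mod_cast (h3.symm.trans (mul_comm _ _))⟩
  have h4 : ((p : ℤ) + 1) ∣ 2 := by
    have e : (2 : ℤ) = ((p : ℤ) + 1) * (p ^ 2 - p + 2) - ((p : ℤ) ^ 2 + 1) * p := by ring
    rw [e]
    exact dvd_sub (dvd_mul_right _ _) hc
  have := Int.le_of_dvd (by norm_num) h4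
  omega

/-- An involution fixing exactly two points bounds the degree by twice the pair stabiliser. -/
theorem degree_le_of_involution [Finite G] [Fintype Ω] [DecidableEq Ω]
    (h2 : IsMultiplyPretransitive G Ω 2) {a b : Ω} (hab : a ≠ b) {t : G} (ht : t * t = 1)
    (hfix : ∀ x : Ω, t • x = x ↔ x = a ∨ x = b) :
    Fintype.card Ω ≤ 2 + 2 * Nat.card ↥(stabilizer G a ⊓ stabilizer G b) := by
  classical
  haveI := Fintype.ofFinite G
  set n := Fintype.card Ω with hn
  let S : Finset G := Finset.univ.filter fun s => ∃ g : G, s = g * t * g⁻¹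
  have hS2 : ∀ s ∈ S, s * s = 1 := by
    intro s hs
    obtain ⟨g, rfl⟩ := (Finset.mem_filter.1 hs).2
    rw [show g * t * g⁻¹ * (g * t * g⁻¹) = g * (t * t) * g⁻¹ by group, ht, mul_one, mul_inv_cancel]
  have hSfix : ∀ s ∈ S, (Finset.univ.filter fun x : Ω => s • x = x).card = 2 := by
    intro s hs
    obtain ⟨g, rfl⟩ := (Finset.mem_filter.1 hs).2
    have e : (Finset.univ.filter fun x : Ω => (g * t * g⁻¹) • x = x) = {g • a, g • b} := by
      ext x
      simp only [Finset.mem_filter, Finset.mem_univ, true_and, Finset.mem_insert, Finset.mem_singleton]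
      rw [mul_smul, mul_smul, smul_eq_iff_eq_inv_smul, hfix, inv_smul_eq_iff, inv_smul_eq_iff]
    rw [e, Finset.card_pair (fun h => hab (smul_left_cancel g h))]
  let Q := (Finset.univ : Finset Ω).offDiag
  have hQ : Q.card = n * (n - 1) := by
    rw [Finset.offDiag_card, Finset.card_univ, Nat.mul_sub_one]
  -- pairs fixed pointwise
  have h1 : Q.card ≤ 2 * S.card := by
    have hA : ∀ s ∈ S, (Q.filter fun x => s • x.1 = x.1 ∧ s • x.2 = x.2).card = 2 := by
      intro s hs
      have e : (Q.filter fun x => s • x.1 = x.1 ∧ s • x.2 = x.2) =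
          (Finset.univ.filter fun x : Ω => s • x = x).offDiag := by
        ext x; simp [Q]; tauto
      rw [e, Finset.offDiag_card, hSfix s hs]
    have := Finset.card_le_card (s := Q) (t := S.biUnion fun s => Q.filter fun x => s • x.1 = x.1 ∧ s • x.2 = x.2) (fun x hx => by
      obtain ⟨g, hga, hgb⟩ := exists_pair h2 hab (Finset.mem_offDiag.1 hx).2.2
      refine Finset.mem_biUnion.2 ⟨g * t * g⁻¹, Finset.mem_filter.2 ⟨Finset.mem_univ _, g, rfl⟩,
        Finset.mem_filter.2 ⟨hx, ?_, ?_⟩⟩
      · rw [← hga, mul_smul, inv_smul_smul, mul_smul, (hfix a).2 (Or.inl rfl)]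
      · rw [← hgb, mul_smul, inv_smul_smul, mul_smul, (hfix b).2 (Or.inr rfl)])
    refine this.trans (Finset.card_biUnion_le.trans ?_)
    rw [Finset.sum_congr rfl hA, Finset.sum_const, smul_eq_mul, mul_comm]
  -- pairs interchanged
  have h2' : S.card * (n - 2) ≤ Q.card * Nat.card ↥(stabilizer G a ⊓ stabilizer G b) := by
    have hA : ∀ s ∈ S, (Q.filter fun x => s • x.1 = x.2).card = n - 2 := by
      intro s hs
      rw [← hSfix s hs, show n = (Finset.univ : Finset Ω).card from (Finset.card_univ).symm,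
        ← Finset.card_sdiff_of_subset (Finset.subset_univ _)]
      refine Finset.card_nbij (fun x => x.1) (fun x hx => ?_) (fun x hx y hy h => ?_) (fun z hz => ?_)
      · obtain ⟨hx1, hx2⟩ := Finset.mem_filter.1 hx
        exact Finset.mem_sdiff.2 ⟨Finset.mem_univ _, fun h =>
          (Finset.mem_offDiag.1 hx1).2.2 ((Finset.mem_filter.1 h).2.symm.trans hx2)⟩
      · simp only [Finset.coe_filter, Set.mem_setOf_eq] at hx hy
        exact Prod.ext h (by rw [← hx.2, ← hy.2]; exact congrArg _ h)
      · have hz' : ¬ s • z = z := fun h =>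
          (Finset.mem_sdiff.1 hz).2 (Finset.mem_filter.2 ⟨Finset.mem_univ _, h⟩)
        exact ⟨(z, s • z), by simp [Q, Ne.symm hz'], rfl⟩
    have hB : ∀ x ∈ Q, (S.filter fun s => s • x.1 = x.2).card ≤
        Nat.card ↥(stabilizer G a ⊓ stabilizer G b) := by
      intro x hx
      obtain ⟨g, hga, hgb⟩ := exists_pair h2 hab (Finset.mem_offDiag.1 hx).2.2
      rcases Finset.eq_empty_or_nonempty (S.filter fun s => s • x.1 = x.2) with he | ⟨s₀, hs₀⟩
      · rw [he]; simp
      · rw [← Fintype.card_coe, ← Nat.card_eq_fintype_card]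
        refine Nat.card_le_card_of_injective (fun s => ⟨g⁻¹ * (s₀ * (s : G)) * g, ?_, ?_⟩) ?_
        · obtain ⟨hsS, hs⟩ := Finset.mem_filter.1 s.2
          obtain ⟨hS₀, h₀⟩ := Finset.mem_filter.1 hs₀
          show (g⁻¹ * (s₀ * (s : G)) * g) • a = a
          have h₀' : s₀ • x.2 = x.1 := by rw [← h₀, smul_smul, hS2 _ hS₀, one_smul]
          rw [mul_smul, hga, mul_smul, mul_smul, hs, h₀', ← hga, inv_smul_smul]
        · obtain ⟨hsS, hs⟩ := Finset.mem_filter.1 s.2
          obtain ⟨hS₀, h₀⟩ := Finset.mem_filter.1 hs₀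
          show (g⁻¹ * (s₀ * (s : G)) * g) • b = b
          have hs' : (s : G) • x.2 = x.1 := by
            have hh := congrArg (fun z => (s : G) • z) hs
            simp only [smul_smul, hS2 _ hsS, one_smul] at hh
            exact hh.symm
          rw [mul_smul, hgb, mul_smul, mul_smul, hs', h₀, ← hgb, inv_smul_smul]
        · intro u v huv
          have := congrArg Subtype.val huv
          simp only [mul_left_inj, mul_right_inj] at this
          exact Subtype.ext this
    calc S.card * (n - 2) = ∑ s ∈ S, (Q.filter fun x => s • x.1 = x.2).card := by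
          rw [Finset.sum_congr rfl hA, Finset.sum_const, smul_eq_mul]
      _ = ∑ x ∈ Q, (S.filter fun s => s • x.1 = x.2).card := by
          simp only [Finset.card_filter]; exact Finset.sum_comm
      _ ≤ Q.card * Nat.card ↥(stabilizer G a ⊓ stabilizer G b) := by
          refine (Finset.sum_le_card_nsmul _ _ _ hB).trans ?_
          rw [smul_eq_mul]
  have hpos : 0 < Q.card := Finset.card_pos.2 ⟨(a, b), by simp [Q, hab]⟩
  by_contra hcon
  have : Q.card * (n - 2) ≤ Q.card * (2 * Nat.card ↥(stabilizer G a ⊓ stabilizer G b)) := by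
    calc Q.card * (n - 2) ≤ 2 * S.card * (n - 2) := Nat.mul_le_mul_right _ h1
      _ ≤ 2 * (Q.card * Nat.card ↥(stabilizer G a ⊓ stabilizer G b)) := by
          rw [mul_assoc]; exact Nat.mul_le_mul_left _ h2'
      _ = _ := by ring
  have := Nat.le_of_mul_le_mul_left this hpos
  omega

/-- A doubly transitive group of degree twice an odd number has a point stabiliser of even order. -/
theorem stabilizer_even [Finite G] [Fintype Ω] [DecidableEq Ω] [FaithfulSMul G Ω]
    (h2 : IsMultiplyPretransitive G Ω 2) (hmod : Fintype.card Ω % 4 = 2) (h4 : 2 < Fintype.card Ω)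
    (a : Ω) : ¬ Odd (Nat.card (stabilizer G a)) := by
  classical
  haveI : IsPretransitive G Ω := ⟨fun x y => by
    by_cases hxy : x = y
    · exact ⟨1, by rw [one_smul, hxy]⟩
    · obtain ⟨g, hg, -⟩ := exists_pair h2 hxy (Ne.symm hxy)
      exact ⟨g, hg⟩⟩
  intro hodd
  have hindex : (stabilizer G a).index = Fintype.card Ω := by
    rw [index_stabilizer_of_transitive, Nat.card_eq_fintype_card]
  haveI : Fact (Nat.Prime 2) := ⟨Nat.prime_two⟩
  obtain ⟨t, ht⟩ := exists_prime_orderOf_dvd_card' (G := G) 2 (by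
    rw [← Subgroup.index_mul_card (stabilizer G a), hindex]
    exact dvd_mul_of_dvd_left (by omega) _)
  have hnofix : ∀ x : Ω, t • x ≠ x := by
    intro x hx
    obtain ⟨g, rfl⟩ := exists_smul_eq G a x
    have hmem : g⁻¹ * t * g ∈ stabilizer G a := by
      show (g⁻¹ * t * g) • a = a
      rw [mul_smul, mul_smul, hx, inv_smul_smul]
    have h1 : orderOf (g⁻¹ * t * g) = 2 := by
      rw [← ht]; simpa [MulAut.conj_apply] using MulEquiv.orderOf_eq (MulAut.conj g⁻¹) t
    exact (Nat.not_even_iff_odd.2 hodd) (even_iff_two_dvd.2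
      (h1 ▸ Subgroup.orderOf_dvd_natCard _ hmem))
  let ε : G →* ℤˣ := Equiv.Perm.sign.comp (toPermHom G Ω)
  have hε : ε t = -1 := by
    have hsupp : (toPermHom G Ω t).support = Finset.univ := by
      ext x; simpa using hnofix x
    have htt : (toPermHom G Ω t) ^ 2 = 1 := by rw [← map_pow, ← ht, pow_orderOf_eq_one, map_one]
    have hct : ∀ c ∈ (toPermHom G Ω t).cycleType, c = 2 :=
      (Equiv.Perm.pow_prime_eq_one_iff (p := 2)).1 htt
    have hsum : (toPermHom G Ω t).cycleType.sum = Fintype.card Ω := by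
      rw [Equiv.Perm.sum_cycleType, hsupp, Finset.card_univ]
    rw [Multiset.eq_replicate_card.2 hct, Multiset.sum_replicate, smul_eq_mul] at hsum
    show Equiv.Perm.sign (toPermHom G Ω t) = -1
    rw [Equiv.Perm.sign_of_cycleType, Multiset.eq_replicate_card.2 hct, Multiset.sum_replicate,
      Multiset.card_replicate, smul_eq_mul]
    exact Odd.neg_one_pow ⟨(((toPermHom G Ω t).cycleType.card) * 3 - 1) / 2, by omega⟩
  have hN : stabilizer G a ≤ ε.ker := by
    intro x hx
    have h1 : ε x ^ Nat.card (stabilizer G a) = 1 := by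
      rw [← map_pow]
      have : x ^ Nat.card (stabilizer G a) = 1 :=
        congrArg Subtype.val (pow_card_eq_one' (x := (⟨x, hx⟩ : stabilizer G a)))
      rw [this, map_one]
    rw [MonoidHom.mem_ker]
    rcases Int.units_eq_one_or (ε x) with h | h
    · exact h
    · exfalso
      rw [h, hodd.neg_one_pow] at h1
      exact absurd h1 (by decide)
  have hker : ∀ g ∈ ε.ker, g • a = a := by
    intro g hg
    by_contra hga
    have htop : t ∈ ε.ker := by
      obtain ⟨k, hka, hkb⟩ := exists_pair h2 (Ne.symm hga) (hnofix a).symm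
      have := ε.ker.mul_mem (hN (show k ∈ stabilizer G a from hka)) hg
      have h3 : (k * g)⁻¹ * t ∈ stabilizer G a := by
        show ((k * g)⁻¹ * t) • a = a
        rw [mul_smul, inv_smul_eq_iff, mul_smul, hkb]
      have h4 := ε.ker.mul_mem this (hN h3)
      rwa [mul_inv_cancel_left] at h4
    rw [MonoidHom.mem_ker, hε] at htop
    exact absurd htop (by decide)
  have hfix : ∀ g ∈ ε.ker, g = 1 := by
    intro g hg
    refine eq_of_smul_eq_smul fun x : Ω => ?_
    obtain ⟨k, rfl⟩ := exists_smul_eq G a x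
    rw [one_smul]
    have := hker _ (ε.normal_ker.conj_mem g hg k⁻¹)
    rwa [inv_inv, mul_smul, mul_smul, inv_smul_eq_iff] at this
  obtain ⟨c, hc⟩ : ∃ c, c ∉ ({a, t • a} : Finset Ω) := by
    by_contra! h
    have h1 := Finset.card_le_card (fun x _ => h x : (Finset.univ : Finset Ω) ⊆ {a, t • a})
    have h3 := Finset.card_le_two (a := a) (b := t • a)
    rw [Finset.card_univ] at h1
    omega
  simp only [Finset.mem_insert, Finset.mem_singleton, not_or] at hc
  obtain ⟨k, hka, hkc⟩ := exists_pair h2 (hnofix a).symm (Ne.symm hc.1)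
  have := hfix k (hN (show k ∈ stabilizer G a from hka))
  rw [this, one_smul] at hkc
  exact hc.2 hkc.symm

end Cfsg.Agent.H61.PlusOne
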