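import Cfsg.Agent.H61.PlusOneCells

/-!
The case where the elements preserving every cell and fixing `b` fix a point outside `B`.
-/

set_option autoImplicit false

namespace Cfsg.Agent.H61.PlusOne

open MulAction
open scoped Pointwise

variable {G Ω : Type*} [Group G] [MulAction G Ω] [Fintype Ω] [DecidableEq Ω]
variable {p : ℕ} {a b d : Ω} {B : Finset Ω} {P : Subgroup G} {z σ : G}

theorem Blk.inter {B' : Finset Ω} (hB : Blk G a b B) (hB' : Blk G a b B') :
    Blk G a b (B ∩ B') := by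
  refine ⟨Finset.mem_inter.2 ⟨hB.mem, hB'.mem⟩, fun h => hB.notMem (Finset.mem_inter.1 h).1,
    fun h ha x hx hhx => ?_⟩
  rw [Finset.smul_finset_inter, hB.block h ha x (Finset.mem_inter.1 hx).1 (Finset.mem_inter.1 hhx).1,
    hB'.block h ha x (Finset.mem_inter.1 hx).2 (Finset.mem_inter.1 hhx).2]

theorem Cfg.fixed_case (c : Cfg p a b d B P z σ) [Finite G] [FaithfulSMul G Ω] [Fact p.Prime]
    (hne : cellFix G a B ⊓ stabilizer G b ≠ ⊥) {e : Ω} (hea : e ≠ a) (heB : e ∉ B)
    (he : ∀ g ∈ cellFix G a B ⊓ stabilizer G b, g • e = e) : False := by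
  classical
  have hp : p.Prime := Fact.out
  have hab : a ≠ b := c.bne.symm
  set K : Subgroup G := cellFix G a B ⊓ stabilizer G b with hKdef
  have hKa : ∀ k ∈ K, k • a = a := fun k hk => hk.1.1
  set A := fixSet G K a with hAdef
  have hA : Blk G a b A := blk_fixSet c.h2 hab K (fun k hk => ⟨hk.1.1, hk.2⟩)
    fun h ha hfix k hk => ⟨conj_mem_cellFix ha hk.1, by
      show (h⁻¹ * k * h) • b = b
      rw [mul_smul, mul_smul, hfix k hk, inv_smul_smul]⟩
  have heA : e ∈ A := (Finset.mem_insert.1 ((mem_insert_fixSet hKa e).2 he)).resolve_left hea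
  have heb : e ≠ b := fun h => heB (h ▸ c.blk.mem)
  have hAc : A.card = p := card_fixSet c.h2 c.hn hKa hA heA heb hne
  have hint : ∀ y ∈ B ∩ A, y = b := by
    intro y hy
    by_contra hyb
    have hI := c.blk.inter hA
    have hle : (B ∩ A).card ≤ p := c.card ▸ Finset.card_le_card Finset.inter_subset_left
    have hIc : (B ∩ A).card = p := by
      refine hI.card_eq c.h2 c.hn (Finset.one_lt_card.2 ⟨y, hy, b, hI.mem, hyb⟩) fun h => ?_
      rw [h, Finset.card_erase_of_mem (Finset.mem_univ a), Finset.card_univ, c.hn] at hle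
      have : p < p ^ 2 := lt_self_pow₀ hp.one_lt (by norm_num)
      omega
    have h1 : B ∩ A = B := Finset.eq_of_subset_of_card_le Finset.inter_subset_left (by rw [hIc, c.card])
    have h2 : B ∩ A = A := Finset.eq_of_subset_of_card_le Finset.inter_subset_right (by rw [hIc, hAc])
    exact heB ((h1.symm.trans h2).symm ▸ heA)
  have huniq : ∀ y₁ y₂, y₁ ≠ a → y₂ ≠ a → cl G a B y₁ = cl G a B y₂ →
      cl G a A y₁ = cl G a A y₂ → y₁ = y₂ := by
    intro y₁ y₂ h₁ h₂ hB hA'
    obtain ⟨h, ha, hb, eB⟩ := c.blk.cl_spec c.h2 h₁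
    have eA : cl G a A y₁ = h • A := hA.cl_eq ha (hb ▸ Finset.smul_mem_smul_finset hA.mem)
    have m1 : y₂ ∈ h • B := eB ▸ hB ▸ c.blk.mem_cl c.h2 h₂
    have m2 : y₂ ∈ h • A := eA ▸ hA' ▸ hA.mem_cl c.h2 h₂
    rw [← Finset.inv_smul_mem_iff] at m1 m2
    rw [← hb, ← hint _ (Finset.mem_inter.2 ⟨m1, m2⟩), smul_inv_smul]
  have hexists : ∀ x x', x ≠ a → x' ≠ a →
      ∃ y, y ≠ a ∧ cl G a B y = cl G a B x ∧ cl G a A y = cl G a A x' := by
    intro x x' hx hx'
    have hne' : ∀ y ∈ cl G a A x', y ≠ a := fun y hy h => hA.notMem_cl c.h2 hx' (h ▸ hy)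
    have hsub : (cl G a A x').image (cl G a B) ⊆ (Finset.univ.erase a).image (cl G a B) := by
      intro C hC
      obtain ⟨y, hy, rfl⟩ := Finset.mem_image.1 hC
      exact Finset.mem_image_of_mem _ (Finset.mem_erase.2 ⟨hne' y hy, Finset.mem_univ _⟩)
    have hinj : Set.InjOn (cl G a B) (cl G a A x' : Set Ω) := fun y₁ hy₁ y₂ hy₂ h =>
      huniq y₁ y₂ (hne' _ hy₁) (hne' _ hy₂) h
        ((hA.cl_eq_of_mem c.h2 hx' hy₁).trans (hA.cl_eq_of_mem c.h2 hx' hy₂).symm)
    have hcells : ((Finset.univ.erase a).image (cl G a B)).card = p := by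
      have := c.blk.card_mul c.h2
      rw [c.hn, c.card, Nat.add_sub_cancel, sq] at this
      exact Nat.eq_of_mul_eq_mul_right hp.pos this
    have heq := Finset.eq_of_subset_of_card_le hsub
      (by rw [hcells, Finset.card_image_of_injOn hinj, hA.card_cl c.h2 hx', hAc])
    have hxm : cl G a B x ∈ (cl G a A x').image (cl G a B) :=
      heq ▸ Finset.mem_image_of_mem _ (Finset.mem_erase.2 ⟨hx, Finset.mem_univ _⟩)
    obtain ⟨y, hy, hyx⟩ := Finset.mem_image.1 hxm
    exact ⟨y, hne' y hy, hyx, hA.cl_eq_of_mem c.h2 hx' hy⟩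
  obtain ⟨w, hwa, hwb, -⟩ := c.swap
  let K' : Subgroup G := K.comap (MulAut.conj w⁻¹).toMonoidHom
  have hK' : ∀ k, k ∈ K' ↔ w⁻¹ * k * w ∈ K := fun k => by simp [K']
  have hK'a : ∀ k ∈ K', k • a = a := by
    intro k hk
    have h : (w⁻¹ * k * w) • b = b := ((hK' k).1 hk).2
    rw [mul_smul, mul_smul, inv_smul_eq_iff, hwb] at h
    exact h
  have hK'b : ∀ k ∈ K', k • b = b := by
    intro k hk
    have h := hKa _ ((hK' k).1 hk)
    rw [mul_smul, mul_smul, inv_smul_eq_iff, hwa] at h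
    exact h
  set S := fixSet G K' a with hSdef
  have hSw : insert a S = w • insert a A := insert_fixSet_smul hKa hK'a hK'
  have haS : a ∉ S := by simp [hSdef, fixSet]
  have hSa : ∀ y ∈ S, y ≠ a := fun y hy h => haS (h ▸ hy)
  have hSc : S.card = p := by
    have := congrArg Finset.card hSw
    rw [Finset.card_smul_finset, Finset.card_insert_of_notMem haS,
      Finset.card_insert_of_notMem hA.notMem, hAc] at this
    omega
  have hbS : b ∈ S :=
    (Finset.mem_insert.1 ((mem_insert_fixSet hK'a b).2 hK'b)).resolve_left hab.symm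
  have hprod : (S.image (cl G a B)).card * (S.image (cl G a A)).card = p := by
    rw [← Finset.card_product, ← hSc]
    symm
    refine Finset.card_nbij (fun y => (cl G a B y, cl G a A y)) (fun y hy => Finset.mem_product.2
      ⟨Finset.mem_image_of_mem _ hy, Finset.mem_image_of_mem _ hy⟩) (fun y₁ hy₁ y₂ hy₂ h =>
      huniq y₁ y₂ (hSa _ hy₁) (hSa _ hy₂) (congrArg Prod.fst h) (congrArg Prod.snd h)) ?_
    rintro ⟨C, C'⟩ hC
    simp only [Finset.coe_product, Set.mem_prod, Finset.coe_image, Set.mem_image, Finset.mem_coe] at hC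
    obtain ⟨⟨y₁, hy₁, rfl⟩, ⟨y₂, hy₂, rfl⟩⟩ := hC
    obtain ⟨y, hya, hyB, hyA⟩ := hexists y₁ y₂ (hSa _ hy₁) (hSa _ hy₂)
    refine ⟨y, (Finset.mem_insert.1 ((mem_insert_fixSet hK'a y).2 fun k hk => ?_)).resolve_left hya,
      Prod.ext hyB hyA⟩
    have hka := hK'a k hk
    have f1 : k • y₁ = y₁ := (mem_insert_fixSet hK'a y₁).1 (Finset.mem_insert_of_mem hy₁) k hk
    have f2 : k • y₂ = y₂ := (mem_insert_fixSet hK'a y₂).1 (Finset.mem_insert_of_mem hy₂) k hk
    refine huniq _ _ (fun h => hya (smul_left_cancel k (h.trans hka.symm))) hya ?_ ?_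
    · rw [cl_smul a B hka, hyB, ← cl_smul a B hka, f1]
    · rw [cl_smul a A hka, hyA, ← cl_smul a A hka, f2]
  have hone : ∀ {C : Finset Ω}, Blk G a b C → C.card = p → (S.image (cl G a C)).card = 1 → S = C := by
    intro C hC hCc h1
    refine Finset.eq_of_subset_of_card_le (fun y hy => ?_) (by rw [hSc, hCc])
    have e1 : cl G a C y = cl G a C b :=
      Finset.card_le_one.1 h1.le _ (Finset.mem_image_of_mem _ hy) _ (Finset.mem_image_of_mem _ hbS)
    rw [hC.cl_self hC.mem] at e1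
    exact e1 ▸ hC.mem_cl c.h2 (hSa y hy)
  rcases (Nat.dvd_prime hp).1 (Dvd.intro _ hprod) with h | h
  · have hS := hone c.blk c.card h
    exact hA.no_exchange c.blk c.h2 hp.two_le c.hn hAc c.card hwa hwb (hS ▸ hSw.symm)
  · have h' : (S.image (cl G a A)).card = 1 := by
      rw [h] at hprod
      exact Nat.eq_of_mul_eq_mul_left hp.pos (hprod.trans (mul_one p).symm)
    have hS := hone hA hAc h'
    exact hA.no_exchange hA c.h2 hp.two_le c.hn hAc hAc hwa hwb (hS ▸ hSw.symm)

end Cfsg.Agent.H61.PlusOne
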