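import Cfsg.Agent.H61.PlusOneNontriv

/-!
A doubly transitive group of degree `p ^ 2 + 1` is doubly primitive or is the group of order `20`.
-/

set_option autoImplicit false

namespace Cfsg.Agent.H61.PlusOne

open MulAction
open scoped Pointwise

variable {G Ω : Type*} [Group G] [MulAction G Ω] [Fintype Ω] [DecidableEq Ω]
variable {p : ℕ} {a b d : Ω} {B : Finset Ω} {P : Subgroup G} {z σ : G}

namespace Cfg

theorem mem_zpowers_of_cellFix (c : Cfg p a b d B P z σ) [Finite G] [FaithfulSMul G Ω] [Fact p.Prime]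
    {g : G} (hg : g ∈ cellFix G a B) : g ∈ Subgroup.zpowers z := by
  obtain ⟨i, -, hi⟩ := c.exists_pow_B (c.smul_B hg c.blk.mem)
  have h : (z ^ i)⁻¹ * g ∈ cellFix G a B ⊓ stabilizer G b :=
    ⟨Subgroup.mul_mem _ (Subgroup.inv_mem _ (c.zpow_mem_cellFix (Subgroup.npow_mem_zpowers z i))) hg,
      by show ((z ^ i)⁻¹ * g) • b = b; rw [mul_smul, hi, inv_smul_smul]⟩
  rw [c.cellFix_inf_eq_bot, Subgroup.mem_bot, inv_mul_eq_one] at h
  exact h ▸ Subgroup.npow_mem_zpowers z i

theorem pair_smul (c : Cfg p a b d B P z σ) [Finite G] [FaithfulSMul G Ω] [Fact p.Prime]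
    {h : G} (ha : h • a = a) (hb : h • b = b) :
    ∃ μ : ℕ, ∀ j : ℕ, h • (z ^ j • b) = z ^ (μ * j) • b := by
  obtain ⟨μ, -, hμ⟩ := c.exists_pow (c.mem_zpowers_of_cellFix
    (conj_mem_cellFix' ha (c.zpow_mem_cellFix (Subgroup.mem_zpowers z))))
  refine ⟨μ, fun j => ?_⟩
  have h1 : SemiconjBy h z (z ^ μ) := by
    show h * z = z ^ μ * h
    rw [hμ, inv_mul_cancel_right]
  rw [pow_mul, ← mul_smul, (h1.pow_right j).eq, mul_smul, hb]

/-- The point set of `B` is a base for the stabiliser of `a`. -/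
theorem base_B (c : Cfg p a b d B P z σ) [Finite G] [FaithfulSMul G Ω] [Fact p.Prime]
    {g : G} (hga : g • a = a) (hfix : ∀ x ∈ B, g • x = x) : g = 1 := by
  classical
  have hp : p.Prime := Fact.out
  obtain ⟨w, hwa, hwb, hwd⟩ := c.swap
  set g' : G := w * g * w⁻¹ with hg'
  suffices h : g' ∈ cellFix G a B ⊓ stabilizer G b by
    rw [c.cellFix_inf_eq_bot, Subgroup.mem_bot, hg', conj_eq_one_iff] at h
    exact h
  have hwinva : w⁻¹ • a = b := by rw [inv_smul_eq_iff, hwb]
  have hwinvb : w⁻¹ • b = a := by rw [inv_smul_eq_iff, hwa]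
  have hD : ∀ y, w⁻¹ • y ∈ B → g' • y = y := fun y hy => by
    rw [hg', mul_smul, mul_smul, hfix _ hy, smul_inv_smul]
  have ha' : g' • a = a := hD a (hwinva.symm ▸ c.blk.mem)
  have hb' : g' • b = b := by rw [hg', mul_smul, mul_smul, hwinvb, hga, hwa]
  refine ⟨⟨ha', fun x hx => ?_⟩, hb'⟩
  rw [cl_smul a B ha']
  -- the action of the stabiliser of `a` on the cells
  let β : Finset (Finset Ω) := (Finset.univ.erase a).image (cl G a B)
  have hmemβ : ∀ y, y ≠ a → cl G a B y ∈ β := fun y hy =>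
    Finset.mem_image_of_mem _ (Finset.mem_erase.2 ⟨hy, Finset.mem_univ _⟩)
  have hinvβ : ∀ (k : stabilizer G a) (C : Finset Ω), C ∈ β → (k : G) • C ∈ β := by
    intro k C hC
    obtain ⟨y, hy, rfl⟩ := Finset.mem_image.1 hC
    have hka : (k : G) • a = a := k.2
    rw [← cl_smul a B hka]
    exact hmemβ _ (fun h => (Finset.mem_erase.1 hy).1 (smul_left_cancel (k : G) (h.trans hka.symm)))
  letI : MulAction (stabilizer G a) β :=
    { smul := fun k C => ⟨(k : G) • (C : Finset Ω), hinvβ k _ C.2⟩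
      one_smul := fun C => Subtype.ext (one_smul G (C : Finset Ω))
      mul_smul := fun k l C => Subtype.ext (mul_smul (k : G) (l : G) (C : Finset Ω)) }
  let φ := toPermHom (stabilizer G a) β
  have happ : ∀ (k : stabilizer G a) (C : β), ((φ k C : β) : Finset Ω) = (k : G) • (C : Finset Ω) :=
    fun k C => rfl
  have hβ : Fintype.card β = p := by
    have := c.blk.card_mul c.h2
    rw [c.hn, c.card, Nat.add_sub_cancel, sq] at this
    rw [Fintype.card_coe]
    exact Nat.eq_of_mul_eq_mul_right hp.pos this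
  let σA : stabilizer G a := ⟨σ, c.fixa σ c.smem⟩
  have hσp : φ σA ^ p = 1 := by
    rw [← map_pow]
    ext C : 2
    obtain ⟨y, hy, hC⟩ := Finset.mem_image.1 C.2
    have hs := c.zpow_mem_cellFix c.sp
    rw [Equiv.Perm.one_apply, happ, ← hC, SubmonoidClass.coe_pow, ← cl_smul a B hs.1,
      hs.2 y (Finset.mem_erase.1 hy).1]
  let C₀ : β := ⟨B, by rw [← c.blk.cl_self c.blk.mem]; exact hmemβ b c.bne⟩
  have hσ0 : φ σA C₀ ≠ C₀ := fun h => c.dnot (by
    have h' : σ • B = B := congrArg Subtype.val h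
    rw [← h', ← c.cl_d]
    exact c.blk.mem_cl c.h2 c.dne)
  have hgB : g' • B = B := c.blk.block g' ha' b c.blk.mem (hb'.symm ▸ c.blk.mem)
  by_cases hxB : cl G a B x = B
  · rw [hxB, hgB]
  rcases affine_or_transitive hβ φ hσp C₀ hσ0 with h | h
  · obtain ⟨μ, hμ⟩ := h ⟨g', ha'⟩ (Subtype.ext hgB)
    have hμ' : ∀ j : ℕ, g' • (σ ^ j • B) = σ ^ (μ * j) • B := fun j => congrArg Subtype.val (hμ j)
    have h1 : σ ^ μ • B = σ • B := by
      have := hμ' 1
      rw [pow_one, mul_one] at this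
      rw [← this, ← c.cl_d, ← cl_smul a B ha', hD d hwd]
    have h2 : ∀ j : ℕ, σ ^ (μ * j) • B = σ ^ j • B := by
      intro j
      induction j with
      | zero => simp
      | succ j ih =>
        rw [Nat.mul_succ, Nat.add_comm, pow_add, mul_smul, ih, ← mul_smul, ← pow_add, Nat.add_comm,
          pow_add, mul_smul, h1, ← mul_smul, ← pow_succ]
    obtain ⟨u, hu, rfl⟩ := c.surj x hx
    obtain ⟨j, hj⟩ := c.gen u hu
    have hje : σ ^ j • B = u • B := by
      have hm := c.zpow_mem_cellFix hj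
      have e := c.blk.block (u⁻¹ * σ ^ j) hm.1 b c.blk.mem (c.smul_B hm c.blk.mem)
      rw [mul_smul, inv_smul_eq_iff] at e
      exact e
    rw [c.cl_P hu, ← hje, hμ', h2]
  · obtain ⟨k, hk0, hk1⟩ := h (φ σA C₀) ⟨cl G a B x, hmemβ x hx⟩ hσ0
      (fun e => hxB (congrArg Subtype.val e))
    have hkB : (k : G) • B = B := congrArg Subtype.val hk0
    have hkσ : (k : G) • σ • B = cl G a B x := congrArg Subtype.val hk1
    have hka : (k : G) • a = a := k.2
    obtain ⟨i, -, hi⟩ := c.exists_pow_B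
      (x := (k : G) • b) (hkB ▸ Finset.smul_mem_smul_finset c.blk.mem)
    set h := (z ^ i)⁻¹ * (k : G) with hh
    have hzi : (z ^ i)⁻¹ ∈ cellFix G a B :=
      Subgroup.inv_mem _ (c.zpow_mem_cellFix (Subgroup.npow_mem_zpowers z i))
    have hha : h • a = a := by rw [hh, mul_smul, hka, hzi.1]
    have hhb : h • b = b := by rw [hh, mul_smul, hi, inv_smul_smul]
    have hcl : cl G a B (h • d) = cl G a B x := by
      rw [cl_smul a B hha, c.cl_d, hh, mul_smul, hkσ, ← cl_smul a B hzi.1, hzi.2 x hx]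
    have hdy : g' • (h • d) = h • d := by
      refine hD _ ?_
      have e1 : (w⁻¹ * h * w) • a = a := by rw [mul_smul, mul_smul, hwa, hhb, hwinvb]
      have e2 : (w⁻¹ * h * w) • b = b := by rw [mul_smul, mul_smul, hwb, hha, hwinva]
      have := Finset.smul_mem_smul_finset (a := w⁻¹ * h * w) hwd
      rwa [c.blk.block _ e1 b c.blk.mem (e2.symm ▸ c.blk.mem), mul_smul, mul_smul, smul_inv_smul] at this
    rw [← hcl, ← cl_smul a B ha', hdy]

theorem contradiction (c : Cfg p a b d B P z σ) [Finite G] [FaithfulSMul G Ω] [Fact p.Prime] :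
    False := by
  classical
  have hp : p.Prime := Fact.out
  have hab : a ≠ b := c.bne.symm
  set H : Subgroup G := stabilizer G a ⊓ stabilizer G b with hHdef
  have hdet : ∀ g ∈ H, g • (z • b) = z • b → g = 1 := by
    intro g hg hgz
    obtain ⟨μ, hμ⟩ := c.pair_smul hg.1 hg.2
    refine c.base_B hg.1 fun x hx => ?_
    obtain ⟨j, -, rfl⟩ := c.exists_pow_B hx
    have h1 := hμ 1
    rw [pow_one, hgz, mul_one] at h1
    have h2 : z ^ μ = z :=
      c.inj _ (c.pow_mem μ) _ c.zmem h1.symm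
    rw [hμ j, pow_mul, h2]
  have hzb : z • b ≠ b := by
    intro e
    have := c.inj z c.zmem 1 P.one_mem (e.trans (one_smul G b).symm)
    exact hp.one_lt.ne' (by rw [← c.zord, this, orderOf_one])
  have hzB : z • b ∈ B := (c.inB z c.zmem).2 (Subgroup.mem_zpowers z)
  have hinjH : ∀ g ∈ H, ∀ g' ∈ H, g • (z • b) = g' • (z • b) → g = g' := fun g hg g' hg' e =>
    (inv_mul_eq_one.1 (hdet (g'⁻¹ * g) (H.mul_mem (H.inv_mem hg') hg)
      (by rw [mul_smul, e, inv_smul_smul]))).symm
  have hle : Nat.card H ≤ p - 1 := by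
    have hb' : ∀ g : H, (g : G) • (z • b) ∈ B.erase b := fun g => by
      have hgb : (g : G) • b = b := g.2.2
      refine Finset.mem_erase.2 ⟨fun e => hzb (smul_left_cancel (g : G) (e.trans hgb.symm)), ?_⟩
      rw [← c.blk.block (g : G) g.2.1 b c.blk.mem (hgb.symm ▸ c.blk.mem)]
      exact Finset.smul_mem_smul_finset hzB
    have := Nat.card_le_card_of_injective (fun g : H => (⟨_, hb' g⟩ : B.erase b))
      (fun g g' e => Subtype.ext (hinjH _ g.2 _ g'.2 (congrArg Subtype.val e)))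
    rwa [Nat.card_eq_fintype_card (α := B.erase b), Fintype.card_coe,
      Finset.card_erase_of_mem c.blk.mem, c.card] at this
  have hodd : Odd p := hp.odd_of_ne_two c.hp2
  by_cases hHodd : Odd (Nat.card H)
  · refine stabilizer_even c.h2 ?_ ?_ a ?_
    · rw [c.hn]
      obtain ⟨q, rfl⟩ := hodd
      ring_nf
      omega
    · rw [c.hn]
      have : 1 < p ^ 2 := Nat.one_lt_pow (by norm_num) hp.one_lt
      omega
    · rw [card_stabilizer_pair c.h2 hab, c.hn, Nat.add_sub_cancel]
      exact hodd.pow.mul hHodd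
  haveI : Fact (Nat.Prime 2) := ⟨Nat.prime_two⟩
  obtain ⟨t₀, ht₀⟩ := exists_prime_orderOf_dvd_card' (G := H) 2
    (even_iff_two_dvd.1 (Nat.not_odd_iff_even.1 hHodd))
  set t : G := (t₀ : G) with htdef
  have htH : t ∈ H := t₀.2
  have ht1 : t ≠ 1 := fun e => by
    have : t₀ = 1 := Subtype.ext e
    rw [this, orderOf_one] at ht₀
    omega
  have ht2 : t * t = 1 := by
    have := pow_orderOf_eq_one t₀
    rw [ht₀, sq] at this
    exact congrArg Subtype.val this
  have huniq : ∀ s ∈ H, s * s = 1 → s ≠ 1 → s = t := by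
    have hval : ∀ s ∈ H, s * s = 1 → s ≠ 1 → s • (z • b) = z ^ (p - 1) • b := by
      intro s hs hs2 hs1
      obtain ⟨μ, hμ⟩ := c.pair_smul hs.1 hs.2
      have h1 := hμ 1
      rw [pow_one, mul_one] at h1
      have h2 : z ^ (μ * μ) • b = z ^ 1 • b := by
        rw [← hμ μ, ← h1, ← mul_smul s s, hs2, one_smul, pow_one]
      have h3 := c.pow_smul_inj c.bne h2
      push_cast at h3
      rcases mul_self_eq_one_iff.1 h3 with e | e
      · refine absurd (hdet s hs ?_) hs1
        rw [h1, c.pow_eq_iff.2 (show (μ : ZMod p) = ((1 : ℕ) : ZMod p) by rw [e, Nat.cast_one]), pow_one]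
      · rw [h1, c.pow_eq_iff.2 (show (μ : ZMod p) = ((p - 1 : ℕ) : ZMod p) by
          rw [e, Nat.cast_sub hp.one_lt.le, ZMod.natCast_self]; simp)]
    intro s hs hs2 hs1
    exact hinjH s hs t htH (by rw [hval s hs hs2 hs1, hval t htH ht2 ht1])
  set K := Subgroup.zpowers t with hKdef
  have hKH : K ≤ H := Subgroup.zpowers_le.2 htH
  have hKa : ∀ k ∈ K, k • a = a := fun k hk => (hKH hk).1
  have htK : ∀ {g : G}, g⁻¹ * t * g = t → ∀ k ∈ K, g⁻¹ * k * g = k := by
    intro g hg k hk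
    obtain ⟨i, rfl⟩ := Subgroup.mem_zpowers_iff.1 hk
    have hc : Commute t g := by
      show t * g = g * t
      conv_rhs => rw [← hg]
      group
    rw [mul_assoc, (hc.zpow_left i).eq, inv_mul_cancel_left]
  have hinv' : ∀ g : G, (g⁻¹ * t * g) • a = a → (g⁻¹ * t * g) • b = b → g⁻¹ * t * g = t := by
    intro g h1 h2
    refine huniq _ ⟨h1, h2⟩ ?_ ?_
    · rw [show g⁻¹ * t * g * (g⁻¹ * t * g) = g⁻¹ * (t * t) * g by group, ht2, mul_one, inv_mul_cancel]
    · intro e
      apply ht1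
      rw [show t = g * (g⁻¹ * t * g) * g⁻¹ by group, e, mul_one, mul_inv_cancel]
  have hta : t • a = a := htH.1
  have htb : t • b = b := htH.2
  set S := fixSet G K a with hSdef
  have hS : Blk G a b S := blk_fixSet c.h2 hab K (fun k hk => ⟨(hKH hk).1, (hKH hk).2⟩)
    fun h ha hfix k hk => by
      rw [htK (hinv' h ?_ ?_) k hk]
      · exact hk
      · rw [mul_smul, mul_smul, ha, hta, inv_smul_eq_iff, ha]
      · rw [mul_smul, mul_smul, hfix t (Subgroup.mem_zpowers t), inv_smul_smul]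
  by_cases hx : ∃ x ∈ S, x ≠ b
  · obtain ⟨x, hx, hxb⟩ := hx
    have hne : K ≠ ⊥ := fun e => ht1 (by simpa [hKdef] using e)
    have hSc := card_fixSet c.h2 c.hn hKa hS hx hxb hne
    obtain ⟨w, hwa, hwb, -⟩ := c.swap
    have hwt : w⁻¹ * t * w = t := hinv' w
      (by rw [mul_smul, mul_smul, hwa, htb, inv_smul_eq_iff, hwa])
      (by rw [mul_smul, mul_smul, hwb, hta, inv_smul_eq_iff, hwb])
    refine hS.no_exchange hS c.h2 hp.two_le c.hn hSc hSc hwa hwb
      (insert_fixSet_smul (w := w) hKa hKa fun k => ⟨fun hk => by rw [htK hwt k hk]; exact hk, fun hk => ?_⟩).symm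
    have e : w * (w⁻¹ * k * w) * w⁻¹ = k := by group
    have hk' := htK hwt _ hk
    have : w⁻¹ * k * w = k := by
      calc w⁻¹ * k * w = w * (w⁻¹ * (w⁻¹ * k * w) * w) * w⁻¹ := by group
        _ = k := by rw [hk', e]
    rwa [this] at hk
  · push_neg at hx
    have hfix : ∀ y, t • y = y ↔ y = a ∨ y = b := by
      intro y
      refine ⟨fun hy => ?_, ?_⟩
      · have hm : y ∈ insert a S := (mem_insert_fixSet hKa y).2 fun k hk => by
          obtain ⟨i, rfl⟩ := Subgroup.mem_zpowers_iff.1 hk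
          exact (stabilizer G y).zpow_mem hy i
        rcases Finset.mem_insert.1 hm with h | h
        · exact Or.inl h
        · exact Or.inr (hx y h)
      · rintro (rfl | rfl)
        · exact hta
        · exact htb
    have hn := degree_le_of_involution c.h2 hab ht2 hfix
    rw [c.hn] at hn
    have h2 : Nat.card H + 1 ≤ p := by have := hp.one_lt; omega
    change p ^ 2 + 1 ≤ 2 + 2 * Nat.card H at hn
    nlinarith [hp.two_le]

end Cfg

end Cfsg.Agent.H61.PlusOne
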