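import Cfsg.Agent.H61.PlusOneFixed

/-!
The case where some non-trivial element fixing `a` and `b` preserves every cell.
-/

set_option autoImplicit false

namespace Cfsg.Agent.H61.PlusOne

open MulAction
open scoped Pointwise

variable {G Ω : Type*} [Group G] [MulAction G Ω] [Fintype Ω] [DecidableEq Ω]
variable {p : ℕ} {a b d : Ω} {B : Finset Ω} {P : Subgroup G} {z σ : G}

namespace Cfg

theorem pow_eq_iff (c : Cfg p a b d B P z σ) [Fact p.Prime] {m n : ℕ} :
    z ^ m = z ^ n ↔ (m : ZMod p) = (n : ZMod p) := by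
  have hfo : IsOfFinOrder z := orderOf_pos_iff.1 (c.zord ▸ (Fact.out : p.Prime).pos)
  rw [hfo.pow_eq_pow_iff_modEq, c.zord, ZMod.natCast_eq_natCast_iff]

theorem pow_smul_inj (c : Cfg p a b d B P z σ) [Fact p.Prime] {m n : ℕ} {x : Ω} (hx : x ≠ a)
    (h : z ^ m • x = z ^ n • x) : (m : ZMod p) = (n : ZMod p) := by
  obtain ⟨u, hu, rfl⟩ := c.surj x hx
  rw [← mul_smul, ← mul_smul] at h
  exact c.pow_eq_iff.1 (mul_right_cancel
    (c.inj _ (P.mul_mem (c.pow_mem m) hu) _ (P.mul_mem (c.pow_mem n) hu) h))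

theorem exists_pow_B (c : Cfg p a b d B P z σ) [Fact p.Prime] {x : Ω} (hx : x ∈ B) :
    ∃ i : ℕ, i < p ∧ x = z ^ i • b :=
  c.cl_trans c.bne (by rwa [c.blk.cl_self c.blk.mem])

theorem cl_d (c : Cfg p a b d B P z σ) : cl G a B d = σ • B := by
  rw [← c.sb, c.cl_P c.smem]

theorem notMem_of_mem_cl_d (c : Cfg p a b d B P z σ) {e : Ω} (he : e ∈ cl G a B d) : e ∉ B :=
  fun heB => c.dnot (by
    rw [← c.blk.cl_self heB, c.blk.cl_eq_of_mem c.h2 c.dne he]
    exact c.blk.mem_cl c.h2 c.dne)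

/-- If the action on `B` is affine, a point of the cell of `d` is fixed. -/
theorem affine_fixed (c : Cfg p a b d B P z σ) [Finite G] [FaithfulSMul G Ω] [Fact p.Prime]
    (hne : cellFix G a B ⊓ stabilizer G b ≠ ⊥)
    (haff : ∀ g ∈ cellFix G a B ⊓ stabilizer G b, ∃ μ : ℕ, ∀ j : ℕ,
      g • (z ^ j • b) = z ^ (μ * j) • b) :
    ∃ e, e ∈ cl G a B d ∧ ∀ g ∈ cellFix G a B ⊓ stabilizer G b, g • e = e := by
  classical
  set K : Subgroup G := cellFix G a B ⊓ stabilizer G b with hK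
  have hzC : ∀ n : ℕ, z ^ n ∈ cellFix G a B :=
    fun n => c.zpow_mem_cellFix (Subgroup.npow_mem_zpowers z n)
  have hext : ∀ g g' : G, g ∈ cellFix G a B → g' ∈ cellFix G a B →
      (∀ j : ℕ, g • (z ^ j • b) = g' • (z ^ j • b)) → g = g' := by
    intro g g' hg hg' h
    have := c.eq_one_of_fix_B (g := g'⁻¹ * g) (Subgroup.mul_mem _ (Subgroup.inv_mem _ hg') hg)
      fun x hx => by
        obtain ⟨i, -, rfl⟩ := c.exists_pow_B hx
        rw [mul_smul, h i, inv_smul_smul]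
    exact (inv_mul_eq_one.1 this).symm
  have hsemi : ∀ {g : G} {μ : ℕ}, g ∈ K → (∀ j : ℕ, g • (z ^ j • b) = z ^ (μ * j) • b) →
      ∀ j : ℕ, g * z ^ j = z ^ (μ * j) * g := by
    intro g μ hg h j
    have h1 : g * z = z ^ μ * g := by
      refine hext _ _ (Subgroup.mul_mem _ hg.1 (by simpa using hzC 1))
        (Subgroup.mul_mem _ (hzC μ) hg.1) fun i => ?_
      rw [mul_smul, mul_smul, h i, ← mul_smul z, ← pow_succ', h (i + 1), ← mul_smul (z ^ μ),
        ← pow_add, Nat.mul_succ, Nat.add_comm]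
    rw [pow_mul]
    exact (SemiconjBy.pow_right (a := g) (x := z) (y := z ^ μ) h1 j)
  have hcomm : ∀ g ∈ K, ∀ g' ∈ K, g * g' = g' * g := by
    intro g hg g' hg'
    obtain ⟨μ, hμ⟩ := haff g hg
    obtain ⟨μ', hμ'⟩ := haff g' hg'
    refine hext _ _ (Subgroup.mul_mem _ hg.1 hg'.1) (Subgroup.mul_mem _ hg'.1 hg.1) fun j => ?_
    rw [mul_smul, mul_smul, hμ' j, hμ, hμ j, hμ', mul_left_comm]
  obtain ⟨g₀, hg₀, hg₀1⟩ : ∃ g ∈ K, g ≠ 1 := by
    by_contra! h
    exact hne ((Subgroup.eq_bot_iff_forall _).2 h)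
  obtain ⟨μ, hμ⟩ := haff g₀ hg₀
  have hμ1 : (μ : ZMod p) ≠ 1 := by
    intro h
    refine hg₀1 (hext _ _ hg₀.1 (Subgroup.one_mem _) fun j => ?_)
    rw [hμ j, one_smul, c.pow_eq_iff.2 (by push_cast; rw [h, one_mul] : ((μ * j : ℕ) : ZMod p) = j)]
  obtain ⟨c₀, -, hc₀⟩ := c.cl_trans c.dne (c.cell_inv hg₀.1 c.dne (c.blk.mem_cl c.h2 c.dne))
  have hmove : ∀ j : ℕ, g₀ • (z ^ j • d) = z ^ (μ * j + c₀) • d := fun j => by
    rw [← mul_smul, hsemi hg₀ hμ j, mul_smul, hc₀, ← mul_smul, ← pow_add]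
  set j₀ : ℕ := ((c₀ : ZMod p) / (1 - (μ : ZMod p))).val with hj₀
  have h1μ : (1 : ZMod p) - μ ≠ 0 := sub_ne_zero.2 (Ne.symm hμ1)
  have hj : (j₀ : ZMod p) = c₀ / (1 - μ) := by rw [hj₀, ZMod.natCast_val, ZMod.cast_id]
  have hfix₀ : g₀ • (z ^ j₀ • d) = z ^ j₀ • d := by
    have hp' : ((μ * j₀ + c₀ : ℕ) : ZMod p) = (j₀ : ZMod p) := by
      push_cast
      rw [hj]
      field_simp
      ring
    rw [hmove, c.pow_eq_iff.2 hp']
  refine ⟨z ^ j₀ • d, c.pow_smul_mem_cl c.dne j₀, fun g hg => ?_⟩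
  have he : g • (z ^ j₀ • d) ∈ cl G a B d := c.cell_inv hg.1 c.dne (c.pow_smul_mem_cl c.dne j₀)
  obtain ⟨i, -, hi⟩ := c.cl_trans c.dne he
  have h2 : g₀ • (z ^ i • d) = z ^ i • d := by
    rw [← hi, ← mul_smul, hcomm g₀ hg₀ g hg, mul_smul, hfix₀]
  rw [hmove] at h2
  have h3 := c.pow_smul_inj c.dne h2
  have h4 : (i : ZMod p) = j₀ := by
    rw [hj, eq_div_iff h1μ]
    push_cast at h3
    linear_combination -h3
  rw [hi, c.pow_eq_iff.2 h4]

/-- If the action on `B` is transitive on the other points, a point of the cell of `d` is fixed. -/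
theorem transitive_fixed (c : Cfg p a b d B P z σ) [Finite G] [Fact p.Prime]
    (htr : ∀ x y, x ∈ B → y ∈ B → x ≠ b → y ≠ b →
      ∃ g ∈ cellFix G a B ⊓ stabilizer G b, g • x = y) :
    ∃ e, e ∈ cl G a B d ∧ ∀ g ∈ cellFix G a B ⊓ stabilizer G b, g • e = e := by
  classical
  have hp : p.Prime := Fact.out
  set K : Subgroup G := cellFix G a B ⊓ stabilizer G b with hK
  obtain ⟨w, hwa, hwb, hwd⟩ := c.swap
  set D₁ := (cl G a B d).filter fun y => w⁻¹ • y ∈ B with hD₁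
  have hmem : ∀ y, y ∈ D₁ ↔ y ∈ cl G a B d ∧ w⁻¹ • y ∈ B := fun y => by simp [hD₁]
  have hdD : d ∈ D₁ := (hmem d).2 ⟨c.blk.mem_cl c.h2 c.dne, hwd⟩
  have hinv : ∀ g ∈ K, ∀ y ∈ D₁, g • y ∈ D₁ := by
    intro g hg y hy
    rw [hmem] at hy ⊢
    refine ⟨c.cell_inv hg.1 c.dne hy.1, ?_⟩
    have hgb : g • b = b := hg.2
    have h1 : (w⁻¹ * g * w) • a = a := by
      rw [mul_smul, mul_smul, hwa, hgb, inv_smul_eq_iff, hwa]
    have h2 : (w⁻¹ * g * w) • b = b := by
      rw [mul_smul, mul_smul, hwb, hg.1.1, inv_smul_eq_iff, hwb]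
    have := Finset.smul_mem_smul_finset (a := w⁻¹ * g * w) hy.2
    rwa [c.blk.block _ h1 b c.blk.mem (h2.symm ▸ c.blk.mem), mul_smul, mul_smul, smul_inv_smul] at this
  have hle : D₁.card + 1 ≤ p := by
    have hsub : D₁ ⊆ (w • B).erase a := fun y hy => Finset.mem_erase.2
      ⟨fun h => c.blk.notMem_cl c.h2 c.dne (h ▸ ((hmem y).1 hy).1),
        by rw [← Finset.inv_smul_mem_iff]; exact ((hmem y).1 hy).2⟩
    have := Finset.card_le_card hsub
    rw [Finset.card_erase_of_mem (by rw [← hwb]; exact Finset.smul_mem_smul_finset c.blk.mem),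
      Finset.card_smul_finset, c.card] at this
    have := hp.two_le
    omega
  by_cases h1 : D₁.card = 1
  · refine ⟨d, c.blk.mem_cl c.h2 c.dne, fun g hg => ?_⟩
    exact Finset.card_le_one.1 h1.le _ (hinv g hg d hdD) _ hdD
  by_cases h2 : D₁.card + 1 = p
  · have hC : (cl G a B d \ D₁).card = 1 := by
      have hs : D₁ ⊆ cl G a B d := fun y hy => ((hmem y).1 hy).1
      have h5 : (cl G a B d).card = p := (c.blk.card_cl c.h2 c.dne).trans c.card
      rw [Finset.card_sdiff_of_subset hs]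
      omega
    obtain ⟨e, he⟩ := Finset.card_eq_one.1 hC
    have he' : e ∈ cl G a B d \ D₁ := by rw [he]; exact Finset.mem_singleton_self e
    refine ⟨e, (Finset.mem_sdiff.1 he').1, fun g hg => ?_⟩
    have : g • e ∈ cl G a B d \ D₁ := Finset.mem_sdiff.2
      ⟨c.cell_inv hg.1 c.dne (Finset.mem_sdiff.1 he').1, fun hge => (Finset.mem_sdiff.1 he').2 (by
        simpa using hinv g⁻¹ (K.inv_mem hg) _ hge)⟩
    rw [he, Finset.mem_singleton] at this
    exact this
  exfalso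
  letI : CommGroup P :=
    { (inferInstance : Group P) with mul_comm := fun u v => Subtype.ext (c.comm _ u.2 _ v.2) }
  haveI := Fintype.ofFinite P
  let T : Finset P := Finset.univ.filter fun u : P => (u : G) • b ∈ D₁
  have hTc : T.card = D₁.card := by
    refine Finset.card_nbij (fun u => (u : G) • b) (fun u hu => (Finset.mem_filter.1 hu).2)
      (fun u _ v _ h => Subtype.ext (c.inj _ u.2 _ v.2 h)) fun y hy => ?_
    obtain ⟨u, hu, hub⟩ := c.surj y (fun h => c.blk.notMem_cl c.h2 c.dne (h ▸ ((hmem y).1 hy).1))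
    exact ⟨⟨u, hu⟩, Finset.mem_filter.2 ⟨Finset.mem_univ _, by rw [hub]; exact hy⟩, hub⟩
  have h3 : 0 < D₁.card := Finset.card_pos.2 ⟨d, hdD⟩
  have hzs : ∀ u : P, (u : G) ∈ Subgroup.zpowers z → u ∈ Subgroup.zpowers (⟨z, c.zmem⟩ : P) := by
    intro u hu
    obtain ⟨k, hk⟩ := Subgroup.mem_zpowers_iff.1 hu
    exact Subgroup.mem_zpowers_iff.2 ⟨k, Subtype.ext (by simpa using hk)⟩
  have hsz : ∀ u : P, u ∈ Subgroup.zpowers (⟨z, c.zmem⟩ : P) → (u : G) ∈ Subgroup.zpowers z := by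
    intro u hu
    obtain ⟨k, hk⟩ := Subgroup.mem_zpowers_iff.1 hu
    exact Subgroup.mem_zpowers_iff.2 ⟨k, by simp [← hk]⟩
  refine no_coset_element (P := P) c.hp2 (z := ⟨z, c.zmem⟩) (σ := ⟨σ, c.smem⟩)
    (by rw [← Subgroup.orderOf_coe]; exact c.zord) (hzs _ (by simpa using c.sp)) T (fun u hu => ?_)
    (by omega) (by omega) fun x y hx hy hx1 hy1 => ?_
  · refine hzs _ ((c.inB _ ((⟨σ, c.smem⟩ : P)⁻¹ * u).2).1 ?_)
    have := ((hmem _).1 (Finset.mem_filter.1 hu).2).1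
    rw [c.cl_d, ← Finset.inv_smul_mem_iff] at this
    simpa [mul_smul] using this
  have key : ∀ g ∈ K, ∀ (k : ℕ) (u₁ u₂ : P), g • ((u₁ : G) • b) = (u₂ : G) • b →
      ((∑ u ∈ T, MonoidAlgebra.single u (1 : ℤ)) ^ k).coeff u₁ =
      ((∑ u ∈ T, MonoidAlgebra.single u (1 : ℤ)) ^ k).coeff u₂ := by
    intro g hg k
    induction k generalizing g with
    | zero =>
      intro u₁ u₂ h
      have hiff : u₁ = 1 ↔ u₂ = 1 := by
        constructor
        · rintro rfl
          apply Subtype.ext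
          refine c.inj _ u₂.2 _ P.one_mem (h.symm.trans ?_)
          simpa using (hg.2 : g • b = b)
        · rintro rfl
          apply Subtype.ext
          refine c.inj _ u₁.2 _ P.one_mem (smul_left_cancel g (h.trans ?_))
          simpa using (hg.2 : g • b = b).symm
      simp [MonoidAlgebra.one_def, Finsupp.single_apply, eq_comm (a := (1 : P)), hiff]
    | succ k ih =>
      intro u₁ u₂ h
      have hex : ∀ u : P, u ∈ T → ∃ u' : P, u' ∈ T ∧ g • ((u : G) • b) = (u' : G) • b := by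
        intro u hu
        have h' := hinv g hg _ (Finset.mem_filter.1 hu).2
        obtain ⟨v, hv, hvb⟩ := c.surj (g • ((u : G) • b))
          (fun e => c.blk.notMem_cl c.h2 c.dne (e ▸ ((hmem _).1 h').1))
        exact ⟨⟨v, hv⟩, Finset.mem_filter.2 ⟨Finset.mem_univ _, by rw [hvb]; exact h'⟩, hvb.symm⟩
      choose f hfT hf using hex
      simp only [pow_succ', Finset.sum_mul, MonoidAlgebra.coeff_sum, Finsupp.coe_finset_sum,
        Finset.sum_apply]
      refine Finset.sum_bij f hfT (fun u hu v hv e => Subtype.ext (c.inj _ u.2 _ v.2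
        (smul_left_cancel g (((hf u hu).trans (by rw [e])).trans (hf v hv).symm)))) ?_ fun u hu => ?_
      · intro u' hu'
        have hu'' := hinv g⁻¹ (K.inv_mem hg) _ (Finset.mem_filter.1 hu').2
        obtain ⟨v, hv, hvb⟩ := c.surj (g⁻¹ • ((u' : G) • b))
          (fun e => c.blk.notMem_cl c.h2 c.dne (e ▸ ((hmem _).1 hu'').1))
        have hvT : (⟨v, hv⟩ : P) ∈ T :=
          Finset.mem_filter.2 ⟨Finset.mem_univ _, by rw [hvb]; exact hu''⟩
        refine ⟨⟨v, hv⟩, hvT, Subtype.ext (c.inj _ (f _ hvT).2 _ u'.2 ?_)⟩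
        rw [← hf _ hvT, hvb, smul_inv_smul]
      · rw [MonoidAlgebra.coeff_single_mul_eq_mul_coeff (u⁻¹ * u₁)
          (fun m _ => eq_inv_mul_iff_mul_eq.symm),
          MonoidAlgebra.coeff_single_mul_eq_mul_coeff ((f u hu)⁻¹ * u₂)
          (fun m _ => eq_inv_mul_iff_mul_eq.symm), one_mul, one_mul]
        set u' := f u hu with hu'def
        have hmz : (u' : G)⁻¹ * u ∈ Subgroup.zpowers z := by
          refine (c.inB _ (P.mul_mem (P.inv_mem u'.2) u.2)).1 ?_
          have e1 := ((hmem _).1 (Finset.mem_filter.1 hu).2).1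
          have e2 := ((hmem _).1 (Finset.mem_filter.1 (hfT u hu)).2).1
          have e3 : cl G a B ((u' : G) • b) = cl G a B d := c.blk.cl_eq_of_mem c.h2 c.dne e2
          rw [← e3, c.cl_P u'.2, ← Finset.inv_smul_mem_iff] at e1
          rwa [mul_smul]
        have hs : ((u' : G)⁻¹ * g * u) ∈ K := by
          refine ⟨?_, ?_⟩
          · have : (u' : G)⁻¹ * g * u = ((u' : G)⁻¹ * g * u') * ((u' : G)⁻¹ * u) := by group
            rw [this]
            exact Subgroup.mul_mem _ (conj_mem_cellFix (c.fixa _ u'.2) hg.1) (c.zpow_mem_cellFix hmz)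
          · show ((u' : G)⁻¹ * g * u) • b = b
            rw [mul_smul, mul_smul, hf u hu, inv_smul_smul]
        refine ih _ hs _ _ ?_
        simp only [Subgroup.coe_mul, Subgroup.coe_inv, mul_smul, smul_inv_smul]
        rw [h]
  have hB : ∀ v : P, v ∈ Subgroup.zpowers (⟨z, c.zmem⟩ : P) → v ≠ 1 →
      (v : G) • b ∈ B ∧ (v : G) • b ≠ b := fun v hv hv1 =>
    ⟨(c.inB _ v.2).2 (hsz v hv), fun e => hv1 (Subtype.ext
      (c.inj _ v.2 _ P.one_mem (e.trans (one_smul G b).symm)))⟩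
  obtain ⟨g, hg, hgxy⟩ := htr _ _ (hB x hx hx1).1 (hB y hy hy1).1 (hB x hx hx1).2 (hB y hy hy1).2
  exact key g hg p x y hgxy

/-- No non-trivial element fixing `a` and `b` preserves every cell. -/
theorem cellFix_inf_eq_bot (c : Cfg p a b d B P z σ) [Finite G] [FaithfulSMul G Ω] [Fact p.Prime] :
    cellFix G a B ⊓ stabilizer G b = ⊥ := by
  classical
  by_contra hne
  suffices h : ∃ e, e ∈ cl G a B d ∧ ∀ g ∈ cellFix G a B ⊓ stabilizer G b, g • e = e by
    obtain ⟨e, he, hfix⟩ := h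
    exact c.fixed_case hne (fun h => c.blk.notMem_cl c.h2 c.dne (by rwa [h] at he)) (c.notMem_of_mem_cl_d he) hfix
  letI : MulAction (cellFix G a B) B :=
    { smul := fun g x => ⟨(g : G) • (x : Ω), c.smul_B g.2 x.2⟩
      one_smul := fun x => Subtype.ext (one_smul G (x : Ω))
      mul_smul := fun g h x => Subtype.ext (mul_smul (g : G) (h : G) (x : Ω)) }
  let φ := toPermHom (cellFix G a B) B
  let zC : cellFix G a B := ⟨z, c.zpow_mem_cellFix (Subgroup.mem_zpowers z)⟩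
  have happ : ∀ (g : cellFix G a B) (x : B), ((φ g x : B) : Ω) = (g : G) • (x : Ω) := fun g x => rfl
  have hz : φ zC ^ p = 1 := by
    have h : zC ^ p = 1 := Subtype.ext (by simpa [zC, c.zord] using pow_orderOf_eq_one z)
    rw [← map_pow, h, map_one]
  have hzb : φ zC ⟨b, c.blk.mem⟩ ≠ ⟨b, c.blk.mem⟩ := by
    intro h
    have h' := congrArg Subtype.val h
    rw [happ] at h'
    have := c.inj z c.zmem 1 P.one_mem (h'.trans (one_smul G b).symm)
    exact (Fact.out : p.Prime).one_lt.ne' (by rw [← c.zord, this, orderOf_one])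
  rcases affine_or_transitive (by rw [Fintype.card_coe, c.card]) φ hz ⟨b, c.blk.mem⟩ hzb with h | h
  · refine c.affine_fixed hne fun g hg => ?_
    obtain ⟨μ, hμ⟩ := h ⟨g, hg.1⟩ (Subtype.ext hg.2)
    refine ⟨μ, fun j => ?_⟩
    have := congrArg Subtype.val (hμ j)
    simpa [happ, zC] using this
  · refine c.transitive_fixed fun x y hx hy hxb hyb => ?_
    obtain ⟨g, hgb, hgxy⟩ := h ⟨x, hx⟩ ⟨y, hy⟩ (fun e => hxb (congrArg Subtype.val e))
      (fun e => hyb (congrArg Subtype.val e))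
    exact ⟨g, ⟨g.2, congrArg Subtype.val hgb⟩, congrArg Subtype.val hgxy⟩

end Cfg

end Cfsg.Agent.H61.PlusOne
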