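import Mathlib

/-!
A Schur ring argument on an abelian group containing an element `z` of odd prime order `p`: an element
`T` of a coset of `⟨z⟩` whose `p`-th power has equal coefficients at all nontrivial powers of `z` has
at most one or at least `p - 1` terms.
-/

set_option autoImplicit false

namespace Cfsg.Agent.H61.PlusOne

open Polynomial

variable {p : ℕ} [hp : Fact p.Prime]

theorem const_of_sum_eq_zero {ζ : ℂ} (hζ : IsPrimitiveRoot ζ p) (c : ZMod p → ℤ)
    (h : ∑ j : ZMod p, (c j : ℂ) * ζ ^ j.val = 0) : ∀ i j : ZMod p, c i = c j := by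
  have hp0 : 0 < p := hp.out.pos
  set Q : ℤ[X] := ∑ j : ZMod p, monomial j.val (c j) with hQ
  have hev : aeval ζ Q = 0 := by
    rw [← h, hQ, map_sum]
    refine Finset.sum_congr rfl fun j _ => ?_
    simp [aeval_monomial]
  have hdvd : cyclotomic p ℤ ∣ Q := by
    rw [cyclotomic_eq_minpoly hζ hp0]
    exact minpoly.isIntegrallyClosed_dvd (hζ.isIntegral hp0) hev
  have hcoeff : ∀ j : ZMod p, Q.coeff j.val = c j := fun j => by
    rw [hQ, finsetSum_coeff, Finset.sum_eq_single j]
    · simp
    · intro i _ hij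
      rw [coeff_monomial, if_neg fun e => hij (ZMod.val_injective p e)]
    · intro h; exact absurd (Finset.mem_univ j) h
  have hdeg : Q.natDegree < p := by
    refine lt_of_le_of_lt (natDegree_sum_le_of_forall_le _ _ (n := p - 1) fun j _ => ?_) (by omega)
    exact (natDegree_monomial_le _).trans (by have := j.val_lt; omega)
  obtain ⟨R, hR⟩ := hdvd
  obtain ⟨r, rfl⟩ : ∃ r, R = C r := by
    refine ⟨R.coeff 0, eq_C_of_natDegree_le_zero ?_⟩
    rcases eq_or_ne R 0 with h0 | h0
    · simp [h0]
    · have := natDegree_mul (cyclotomic_ne_zero p ℤ) h0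
      rw [← hR, natDegree_cyclotomic, Nat.totient_prime hp.out] at this
      omega
  intro i j
  have hval : ∀ k : ZMod p, c k = r := fun k => by
    rw [← hcoeff k, hR, coeff_mul_C, cyclotomic_prime, finsetSum_coeff,
      Finset.sum_eq_single k.val (fun b _ hb => by rw [coeff_X_pow, if_neg (Ne.symm hb)])
        (fun h => absurd (Finset.mem_range.2 k.val_lt) h), coeff_X_pow, if_pos rfl, one_mul]
  rw [hval i, hval j]

theorem zmod_case (hp2 : p ≠ 2) (J : Finset (ZMod p)) (s : ZMod p) (h2 : 2 ≤ J.card) (h2' : J.card + 2 ≤ p)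
    (hconst : ∀ x y : ZMod p, x ≠ 0 → y ≠ 0 →
      (AddMonoidAlgebra.single s 1 * (∑ j ∈ J, AddMonoidAlgebra.single j 1) ^ p : AddMonoidAlgebra ℤ (ZMod p)).coeff x =
      (AddMonoidAlgebra.single s 1 * (∑ j ∈ J, AddMonoidAlgebra.single j 1) ^ p : AddMonoidAlgebra ℤ (ZMod p)).coeff y) :
    False := by
  classical
  set F : AddMonoidAlgebra ℤ (ZMod p) :=
    AddMonoidAlgebra.single s 1 * (∑ j ∈ J, AddMonoidAlgebra.single j 1) ^ p with hF
  have hp3 : 3 ≤ p := by have := hp.out.two_le; omega
  by_cases hs : s = 0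
  swap
  · -- reduce modulo `p`
    let red := AddMonoidAlgebra.mapRingHom (ZMod p) (Int.castRingHom (ZMod p))
    haveI : CharP (AddMonoidAlgebra (ZMod p) (ZMod p)) p := charP_of_injective_ringHom
      (f := AddMonoidAlgebra.singleZeroRingHom) (fun x y h => by
        simpa using congrArg (fun u : AddMonoidAlgebra (ZMod p) (ZMod p) => u.coeff 0) h) p
    haveI : ExpChar (AddMonoidAlgebra (ZMod p) (ZMod p)) p := ExpChar.prime hp.out
    have hred : red F = AddMonoidAlgebra.single s (J.card : ZMod p) := by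
      rw [hF, map_mul, map_pow, map_sum]
      have e : ∀ x : ZMod p, red (AddMonoidAlgebra.single x 1) = AddMonoidAlgebra.single x 1 := fun x => by
        simp [red]
      simp only [e]
      rw [sum_pow_char]
      simp only [AddMonoidAlgebra.single_pow, one_pow, nsmul_eq_mul, ZMod.natCast_self, zero_mul]
      rw [Finset.sum_const, AddMonoidAlgebra.smul_single, AddMonoidAlgebra.single_mul_single, add_zero,
        one_mul, nsmul_one]
    have hval : ∀ x, ((F.coeff x : ℤ) : ZMod p) = if x = s then (J.card : ZMod p) else 0 := fun x => by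
      have := congrArg (fun u : AddMonoidAlgebra (ZMod p) (ZMod p) => u.coeff x) hred
      simpa [red, Finsupp.single_apply, eq_comm] using this
    obtain ⟨y, hy0, hys⟩ : ∃ y : ZMod p, y ≠ 0 ∧ y ≠ s := by
      refine ⟨-s, neg_ne_zero.2 hs, fun h => hs ?_⟩
      have h2' : ((2 : ℕ) : ZMod p) * s = 0 := by push_cast; linear_combination -h
      refine (mul_eq_zero.1 h2').resolve_left fun h0 => ?_
      rw [ZMod.natCast_eq_zero_iff] at h0
      have := Nat.le_of_dvd two_pos h0
      omega
    have h := hconst s y hs hy0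
    have h3 := congrArg (fun u : ℤ => (u : ZMod p)) h
    simp only [hval, if_true, if_neg hys, ZMod.natCast_eq_zero_iff] at h3
    have := Nat.le_of_dvd (by omega) h3
    omega
  subst hs
  set ζ : ℂ := Complex.exp (2 * Real.pi * Complex.I / p) with hζdef
  have hζ : IsPrimitiveRoot ζ p := Complex.isPrimitiveRoot_exp p hp.out.ne_zero
  let χ : AddChar (ZMod p) ℂ := AddChar.zmodChar p hζ.pow_eq_one
  have hχ : ∀ x, χ x = ζ ^ x.val := fun x => rfl
  let E : ZMod p → ℂ := fun m => ∑ j ∈ J, χ (m * j)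
  -- evaluation at the nontrivial characters
  obtain ⟨α, hα⟩ : ∃ α : ℤ, ∀ m : ZMod p, m ≠ 0 → E m ^ p = α := by
    refine ⟨F.coeff 0 - F.coeff 1, fun m hm => ?_⟩
    let ev : AddMonoidAlgebra ℤ (ZMod p) →ₐ[ℤ] ℂ :=
      AddMonoidAlgebra.lift ℤ ℂ (ZMod p) (χ.mulShift m).toMonoidHom
    have hev : ∀ x (r : ℤ), ev (AddMonoidAlgebra.single x r) = r * χ (m * x) := fun x r => by
      simp [ev, AddMonoidAlgebra.lift_single, AddChar.mulShift_apply]
    have h1 : ev F = E m ^ p := by
      rw [hF, map_mul, map_pow, map_sum, hev, mul_zero, AddChar.map_zero_eq_one]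
      simp [hev, E]
    have h2 : ev F = ∑ x : ZMod p, (F.coeff x : ℂ) * χ (m * x) := by
      conv_lhs => rw [show F = ∑ x : ZMod p, AddMonoidAlgebra.single x (F.coeff x) from
        by ext y; simp [Finsupp.single_apply]]
      simp [hev]
    have hsum : ∑ x : ZMod p, χ (m * x) = 0 := by
      have := AddChar.sum_eq_zero_of_ne_one (ψ := χ.mulShift m) ?_
      · simpa [AddChar.mulShift_apply] using this
      · intro h
        have h1' : χ m = 1 := by simpa [AddChar.mulShift_apply] using AddChar.ext_iff.1 h 1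
        rw [hχ, hζ.pow_eq_one_iff_dvd] at h1'
        exact hm ((ZMod.val_eq_zero m).1 (Nat.eq_zero_of_dvd_of_lt h1' m.val_lt))
    have h3 : ∀ x : ZMod p, (F.coeff x : ℂ) * χ (m * x) =
        (F.coeff 1 : ℂ) * χ (m * x) + if x = 0 then ((F.coeff 0 : ℂ) - F.coeff 1) else 0 := by
      intro x
      split
      · subst x; simp
      · rename_i hx; rw [hconst x 1 hx one_ne_zero, add_zero]
    rw [← h1, h2, Finset.sum_congr rfl fun x _ => h3 x, Finset.sum_add_distrib, ← Finset.mul_sum, hsum]
    simp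
  -- a translate gives a real value
  have hne : E 1 ≠ 0 := by
    intro h
    have hc := const_of_sum_eq_zero hζ (fun j => if j ∈ J then 1 else 0) (by
      rw [← h]
      simp only [E, hχ, one_mul, Int.cast_ite, Int.cast_one, Int.cast_zero, ite_mul, zero_mul]
      rw [Finset.sum_ite_mem, Finset.univ_inter])
    obtain ⟨j, hj⟩ : J.Nonempty := Finset.card_pos.1 (by omega)
    have : J = Finset.univ := Finset.eq_univ_iff_forall.2 fun i => by
      have := hc i j; simp only [if_pos hj] at this; by_contra hi; simp [hi] at this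
    rw [this, Finset.card_univ, ZMod.card] at h2'
    omega
  have hne' : E (-1) ≠ 0 := fun h => by
    have := hα (-1) (by simp)
    rw [h, zero_pow hp.out.ne_zero, ← hα 1 one_ne_zero] at this
    exact hne (eq_zero_of_pow_eq_zero this.symm)
  obtain ⟨i, -, hi⟩ := hζ.eq_pow_of_pow_eq_one (ξ := E 1 / E (-1))
    (by rw [div_pow, hα 1 one_ne_zero, hα (-1) (by simp), div_self]
        rw [← hα 1 one_ne_zero]; exact pow_ne_zero _ hne)
  have hi' : E 1 = χ (i : ZMod p) * E (-1) := by
    have hmod : ζ ^ (i % p) = ζ ^ i := by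
      conv_rhs => rw [← Nat.mod_add_div i p, pow_add, pow_mul, hζ.pow_eq_one, one_pow, mul_one]
    rw [hχ, ZMod.val_natCast, hmod, hi, div_mul_cancel₀ _ hne']
  have htwo : (2 : ZMod p) ≠ 0 := by
    intro h
    have h' : ((2 : ℕ) : ZMod p) = 0 := by exact_mod_cast h
    rw [ZMod.natCast_eq_zero_iff] at h'
    have := Nat.le_of_dvd two_pos h'
    omega
  set i₀ : ZMod p := (i : ZMod p) / 2 with hi₀
  let c : ZMod p → ℤ := fun j => if j + i₀ ∈ J then 1 else 0
  let E' : ZMod p → ℂ := fun m => ∑ j, (c j : ℂ) * χ (m * j)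
  have hE' : ∀ m, E' m = χ (-(m * i₀)) * E m := fun m => by
    simp only [E', E, Finset.mul_sum, c, Int.cast_ite, Int.cast_one, Int.cast_zero, ite_mul, zero_mul, one_mul]
    rw [← Finset.sum_filter]
    refine Finset.sum_nbij' (fun j => j + i₀) (fun j => j - i₀) (fun j hj => (Finset.mem_filter.1 hj).2)
      (fun j hj => Finset.mem_filter.2 ⟨Finset.mem_univ _, by simpa using hj⟩) (fun j _ => by simp)
      (fun j _ => by simp) (fun j _ => ?_)
    rw [← AddChar.map_add_eq_mul]
    congr 1
    ring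
  have hα' : ∀ m : ZMod p, m ≠ 0 → E' m ^ p = α := fun m hm => by
    rw [hE', mul_pow, hα m hm, ← AddChar.map_nsmul_eq_pow]
    simp
  have hsym1 : E' 1 = E' (-1) := by
    rw [hE', hE', hi', ← mul_assoc, ← AddChar.map_add_eq_mul]
    congr 2
    rw [hi₀]
    field_simp
    ring
  have hcsym : ∀ j, c (-j) = c j := by
    have h := const_of_sum_eq_zero hζ (fun j => c j - c (-j)) (by
      have e : E' (-1) = ∑ j, (c (-j) : ℂ) * χ j := by
        simp only [E']
        exact Fintype.sum_equiv (Equiv.neg _) _ _ fun j => by simp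
      have e1 : E' 1 = ∑ j, (c j : ℂ) * χ j := by simp [E']
      rw [hsym1, e] at e1
      simp only [Int.cast_sub, sub_mul, Finset.sum_sub_distrib, ← hχ]
      rw [← e1, sub_self])
    intro j
    have := h j 0
    simp only [neg_zero, sub_self, sub_eq_zero] at this
    exact this.symm
  have hconj : ∀ m, (starRingEnd ℂ) (E' m) = E' m := fun m => by
    simp only [E', map_sum, map_mul, map_intCast]
    refine Fintype.sum_equiv (Equiv.neg _) _ _ fun j => ?_
    rw [← AddChar.map_neg_eq_conj, Equiv.neg_apply, hcsym, mul_neg]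
  have heq : ∀ m : ZMod p, m ≠ 0 → E' m = E' 1 := fun m hm => by
    obtain ⟨r, hr⟩ := Complex.conj_eq_iff_real.1 (hconj m)
    obtain ⟨r', hr'⟩ := Complex.conj_eq_iff_real.1 (hconj 1)
    rw [hr, hr', Complex.ofReal_inj]
    refine (hp.out.odd_of_ne_two hp2).strictMono_pow.injective ?_
    have := (hα' m hm).trans (hα' 1 one_ne_zero).symm
    rw [hr, hr'] at this
    exact_mod_cast this
  have hc1 : ∀ m : ZMod p, m ≠ 0 → c m = c 1 := by
    intro m hm
    have hm' : m⁻¹ ≠ 0 := inv_ne_zero hm
    have h := const_of_sum_eq_zero hζ (fun j => c (j * m) - c j) (by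
      have e : E' m⁻¹ = ∑ j, (c (j * m) : ℂ) * χ j := by
        simp only [E']
        refine (Fintype.sum_equiv (Equiv.mulRight₀ m hm) _ _ fun j => ?_).symm
        show _ = (c (j * m) : ℂ) * χ (m⁻¹ * (j * m)) 
        rw [mul_comm m⁻¹, mul_assoc, mul_inv_cancel₀ hm, mul_one]
      have e1 : E' 1 = ∑ j, (c j : ℂ) * χ j := by simp [E']
      rw [heq _ hm', e1] at e
      simp only [Int.cast_sub, sub_mul, Finset.sum_sub_distrib, ← hχ]
      rw [← e, sub_self])
    have := h 1 0
    simp only [zero_mul, sub_self, one_mul, sub_eq_zero] at this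
    exact this
  by_cases h1 : 1 + i₀ ∈ J
  · have hsub : ({i₀} : Finset (ZMod p))ᶜ ⊆ J := fun j hj => by
      have hj' : j - i₀ ≠ 0 := sub_ne_zero.2 (by simpa using hj)
      have := hc1 _ hj'
      simp only [c, sub_add_cancel, if_pos h1] at this
      by_contra hj2
      simp [hj2] at this
    have := Finset.card_le_card hsub
    rw [Finset.card_compl, ZMod.card, Finset.card_singleton] at this
    omega
  · have hsub : J ⊆ {i₀} := fun j hj => by
      rw [Finset.mem_singleton]
      by_contra hj'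
      have := hc1 _ (sub_ne_zero.2 hj')
      simp [c, if_pos hj, if_neg h1] at this
    have := Finset.card_le_card hsub
    rw [Finset.card_singleton] at this
    omega

/-- The coset lemma. -/
theorem no_coset_element {P : Type*} [CommGroup P] [DecidableEq P] (hp2 : p ≠ 2) {z σ : P}
    (hz : orderOf z = p) (hσ : σ ^ p ∈ Subgroup.zpowers z) (T : Finset P)
    (hT : ∀ y ∈ T, σ⁻¹ * y ∈ Subgroup.zpowers z) (h2 : 2 ≤ T.card) (h2' : T.card + 2 ≤ p)
    (hconst : ∀ x y : P, x ∈ Subgroup.zpowers z → y ∈ Subgroup.zpowers z → x ≠ 1 → y ≠ 1 →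
      ((∑ u ∈ T, MonoidAlgebra.single u 1) ^ p : MonoidAlgebra ℤ P).coeff x =
      ((∑ u ∈ T, MonoidAlgebra.single u 1) ^ p : MonoidAlgebra ℤ P).coeff y) : False := by
  classical
  let φ : ZMod p → P := fun i => z ^ i.val
  have hzp : z ^ p = 1 := hz ▸ pow_orderOf_eq_one z
  have hφadd : ∀ i j, φ (i + j) = φ i * φ j := fun i j => by
    simp only [φ, ← pow_add, ZMod.val_add]
    conv_rhs => rw [← Nat.mod_add_div (i.val + j.val) p, pow_add, pow_mul, hzp, one_pow, mul_one]
  have hφinj : Function.Injective φ := fun i j h => by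
    apply ZMod.val_injective
    refine pow_injOn_Iio_orderOf ?_ ?_ h
    · rw [Set.mem_Iio, hz]; exact i.val_lt
    · rw [Set.mem_Iio, hz]; exact j.val_lt
  have hφsurj : ∀ x ∈ Subgroup.zpowers z, ∃ i, φ i = x := by
    intro x hx
    obtain ⟨k, rfl⟩ := Subgroup.mem_zpowers_iff.1 hx
    refine ⟨(k : ZMod p), ?_⟩
    simp only [φ]
    rw [← zpow_natCast, ZMod.val_intCast, ← zpow_mod_orderOf z k, hz]
  obtain ⟨s, hs⟩ := hφsurj _ hσ
  let f : Multiplicative (ZMod p) →* P :=
    { toFun := fun i => φ i.toAdd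
      map_one' := by simp [φ]
      map_mul' := fun i j => hφadd _ _ }
  let J : Finset (ZMod p) := Finset.univ.filter fun i => σ * φ i ∈ T
  have hTJ : T = J.image fun i => σ * φ i := by
    ext y
    simp only [J, Finset.mem_image, Finset.mem_filter, Finset.mem_univ, true_and]
    constructor
    · intro hy
      obtain ⟨i, hi⟩ := hφsurj _ (hT y hy)
      exact ⟨i, by rw [hi, mul_inv_cancel_left]; exact hy, by rw [hi, mul_inv_cancel_left]⟩
    · rintro ⟨i, hi, rfl⟩; exact hi
  have hinj : Function.Injective fun i => σ * φ i := fun i j h => hφinj (mul_left_cancel h)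
  have hcard : J.card = T.card := by rw [hTJ, Finset.card_image_of_injective _ hinj]
  let F : AddMonoidAlgebra ℤ (ZMod p) :=
    AddMonoidAlgebra.single s 1 * (∑ j ∈ J, AddMonoidAlgebra.single j 1) ^ p
  let M : AddMonoidAlgebra ℤ (ZMod p) →+* MonoidAlgebra ℤ P :=
    AddMonoidAlgebra.liftNCRingHom (algebraMap ℤ _)
      ((MonoidAlgebra.of ℤ P).comp f) (fun _ _ => mul_comm _ _)
  have hM : ∀ x (r : ℤ), M (AddMonoidAlgebra.single x r) = MonoidAlgebra.single (φ x) r := fun x r => by
    simp [M, f, AddMonoidAlgebra.liftNCRingHom, MonoidAlgebra.intCast_def, MonoidAlgebra.single_mul_single]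
  have hMF : M F = (∑ u ∈ T, MonoidAlgebra.single u 1) ^ p := by
    have e : (∑ u ∈ T, MonoidAlgebra.single u (1 : ℤ)) =
        MonoidAlgebra.single σ 1 * ∑ j ∈ J, MonoidAlgebra.single (φ j) 1 := by
      rw [hTJ, Finset.sum_image fun a _ b _ h => hinj h, Finset.mul_sum]
      exact Finset.sum_congr rfl fun j _ => by rw [MonoidAlgebra.single_mul_single, one_mul]
    rw [e, mul_pow, MonoidAlgebra.single_pow, one_pow, ← hs]
    simp [F, hM, map_sum]
  have hcoeff : ∀ x, (M F).coeff (φ x) = F.coeff x := by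
    intro x
    conv_lhs => rw [show F = ∑ u : ZMod p, AddMonoidAlgebra.single u (F.coeff u) from
      by ext y; simp [Finsupp.single_apply]]
    rw [map_sum]
    simp [hM, Finsupp.single_apply, hφinj.eq_iff]
  refine zmod_case hp2 J s (by omega) (by omega) fun x y hx hy => ?_
  show F.coeff x = F.coeff y
  rw [← hcoeff x, ← hcoeff y, hMF]
  have hmem : ∀ i, φ i ∈ Subgroup.zpowers z := fun i => Subgroup.npow_mem_zpowers z _
  have h0 : φ 0 = 1 := by simp [φ]
  exact hconst _ _ (hmem x) (hmem y) (fun h => hx (hφinj (h.trans h0.symm)))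
    (fun h => hy (hφinj (h.trans h0.symm)))

end Cfsg.Agent.H61.PlusOne
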