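import Cfsg.Agent.H61.PlusOneBlocks
import Cfsg.Agent.H61.PlusOneSchur

/-!
Orders of stabilisers, fixed point blocks exchanged by a swap, and the regular subgroup of order
`p ^ 2` of a point stabiliser, for doubly transitive groups of degree `p ^ 2 + 1`.
-/

set_option autoImplicit false

namespace Cfsg.Agent.H61.PlusOne

open MulAction
open scoped Pointwise

variable {G Ω : Type*} [Group G] [MulAction G Ω] [Fintype Ω] [DecidableEq Ω]

theorem mem_insert_fixSet {K : Subgroup G} {a : Ω} (hK : ∀ k ∈ K, k • a = a) (x : Ω) :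
    x ∈ insert a (fixSet G K a) ↔ ∀ k ∈ K, k • x = x := by
  classical
  simp only [fixSet, Finset.mem_insert, Finset.mem_filter, Finset.mem_erase, Finset.mem_univ, and_true]
  constructor
  · rintro (rfl | h)
    · exact hK
    · exact h.2
  · intro h
    by_cases hx : x = a
    · exact Or.inl hx
    · exact Or.inr ⟨hx, h⟩

/-- Conjugation moves the fixed point sets. -/
theorem insert_fixSet_smul {K K' : Subgroup G} {a : Ω} (hK : ∀ k ∈ K, k • a = a)
    (hK' : ∀ k ∈ K', k • a = a) {w : G} (h : ∀ k, k ∈ K' ↔ w⁻¹ * k * w ∈ K) :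
    insert a (fixSet G K' a) = w • insert a (fixSet G K a) := by
  ext x
  rw [← Finset.inv_smul_mem_iff, mem_insert_fixSet hK', mem_insert_fixSet hK]
  constructor
  · intro hx k hk
    have := hx (w * k * w⁻¹) ((h _).2 (by simpa [mul_assoc] using hk))
    rw [mul_smul, mul_smul] at this
    rw [eq_inv_smul_iff, this]
  · intro hx k hk
    have := hx _ ((h k).1 hk)
    rw [mul_smul, mul_smul, smul_inv_smul] at this
    exact smul_left_cancel w⁻¹ this

variable {p : ℕ}

theorem Blk.card_eq [Fact p.Prime] {a b : Ω} {S : Finset Ω} (hS : Blk G a b S)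
    (h2 : IsMultiplyPretransitive G Ω 2) (hn : Fintype.card Ω = p ^ 2 + 1) (h1 : 1 < S.card)
    (hne : S ≠ Finset.univ.erase a) : S.card = p := by
  classical
  have hd : S.card ∣ p ^ 2 := by
    have := hS.card_mul h2
    rw [hn, Nat.add_sub_cancel] at this
    exact Dvd.intro_left _ this
  obtain ⟨i, hi, e⟩ := (Nat.dvd_prime_pow Fact.out).1 hd
  interval_cases i
  · simp at e; omega
  · simpa using e
  · refine absurd ?_ hne
    refine Finset.eq_of_subset_of_card_le (fun x hx => Finset.mem_erase.2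
      ⟨fun h => hS.notMem (h ▸ hx), Finset.mem_univ _⟩) ?_
    rw [Finset.card_erase_of_mem (Finset.mem_univ a), Finset.card_univ, hn, e]
    omega

/-- A non-trivial group of pair-fixing elements with a second fixed point besides `b` fixes exactly
`p` points other than `a`. -/
theorem card_fixSet [FaithfulSMul G Ω] [Fact p.Prime] (h2 : IsMultiplyPretransitive G Ω 2)
    (hn : Fintype.card Ω = p ^ 2 + 1) {a b : Ω} {K : Subgroup G} (hK : ∀ k ∈ K, k • a = a)
    (hS : Blk G a b (fixSet G K a)) {x : Ω} (hx : x ∈ fixSet G K a) (hxb : x ≠ b)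
    (hne : K ≠ ⊥) : (fixSet G K a).card = p := by
  classical
  refine hS.card_eq h2 hn (Finset.one_lt_card.2 ⟨x, hx, b, hS.mem, hxb⟩) fun h => hne ?_
  rw [Subgroup.eq_bot_iff_forall]
  intro k hk
  refine FaithfulSMul.eq_of_smul_eq_smul (α := Ω) fun y => ?_
  rw [one_smul]
  refine (mem_insert_fixSet hK y).1 ?_ k hk
  rw [h, Finset.insert_erase (Finset.mem_univ a)]
  exact Finset.mem_univ y

omit [DecidableEq Ω] in
theorem card_stabilizer_pair (h2 : IsMultiplyPretransitive G Ω 2) {a b : Ω} (hab : a ≠ b) :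
    Nat.card (stabilizer G a) =
      (Fintype.card Ω - 1) * Nat.card ↥(stabilizer G a ⊓ stabilizer G b) := by
  classical
  have horb : orbit (stabilizer G a) b = {x | x ≠ a} := by
    ext x
    simp only [Set.mem_setOf_eq, mem_orbit_iff]
    constructor
    · rintro ⟨g, rfl⟩ h
      exact hab (smul_left_cancel (g : G) ((mem_stabilizer_iff.1 g.2).trans h.symm))
    · intro hx
      obtain ⟨g, ha, hb⟩ := exists_pair h2 hab (Ne.symm hx)
      exact ⟨⟨g, ha⟩, hb⟩
  have h1 := Subgroup.index_mul_card (stabilizer (stabilizer G a) b)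
  rw [index_stabilizer, horb] at h1
  rw [← h1]
  congr 1
  · rw [Set.ncard_eq_toFinset_card', Set.toFinset_setOf, Finset.filter_ne',
      Finset.card_erase_of_mem (Finset.mem_univ a), Finset.card_univ]
  · exact Nat.card_congr
      { toFun := fun g => ⟨g.1.1, g.1.2, g.2⟩
        invFun := fun g => ⟨⟨g.1, g.2.1⟩, g.2.2⟩
        left_inv := fun _ => rfl
        right_inv := fun _ => rfl }

omit [DecidableEq Ω] in
theorem card_eq_mul (h2 : IsMultiplyPretransitive G Ω 2) (a : Ω) :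
    Nat.card G = Fintype.card Ω * Nat.card (stabilizer G a) := by
  haveI : IsPretransitive G Ω := ⟨fun x y => by
    by_cases hxy : x = y
    · exact ⟨1, by rw [one_smul, hxy]⟩
    · obtain ⟨g, hg, -⟩ := exists_pair h2 hxy (Ne.symm hxy)
      exact ⟨g, hg⟩⟩
  rw [← Subgroup.index_mul_card (stabilizer G a), index_stabilizer_of_transitive,
    Nat.card_eq_fintype_card]

/-- The data of the case of odd `p`. -/
structure Cfg (p : ℕ) (a b d : Ω) (B : Finset Ω) (P : Subgroup G) (z σ : G) : Prop where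
  h2 : IsMultiplyPretransitive G Ω 2
  hn : Fintype.card Ω = p ^ 2 + 1
  hp2 : p ≠ 2
  blk : Blk G a b B
  card : B.card = p
  fixa : ∀ u ∈ P, u • a = a
  comm : ∀ u ∈ P, ∀ v ∈ P, u * v = v * u
  surj : ∀ x, x ≠ a → ∃ u ∈ P, u • b = x
  inj : ∀ u ∈ P, ∀ v ∈ P, u • b = v • b → u = v
  zmem : z ∈ P
  zord : orderOf z = p
  inB : ∀ u ∈ P, (u • b ∈ B ↔ u ∈ Subgroup.zpowers z)
  smem : σ ∈ P
  sb : σ • b = d
  sp : σ ^ p ∈ Subgroup.zpowers z
  gen : ∀ u ∈ P, ∃ j : ℕ, u⁻¹ * σ ^ j ∈ Subgroup.zpowers z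
  coprime : ¬ p ∣ Nat.card ↥(stabilizer G a ⊓ stabilizer G b)
  dne : d ≠ a
  dnot : d ∉ B
  swap : ∃ w : G, w • a = b ∧ w • b = a ∧ w⁻¹ • d ∈ B

/-- The regular subgroup and its standard elements. -/
theorem exists_cfg [Finite G] [Fact p.Prime] (h2 : IsMultiplyPretransitive G Ω 2)
    (hn : Fintype.card Ω = p ^ 2 + 1) (hp2 : p ≠ 2) {a b d : Ω} {B : Finset Ω} (hB : Blk G a b B)
    (hBc : B.card = p) (hH : ¬ p ∣ Nat.card ↥(stabilizer G a ⊓ stabilizer G b)) (hda : d ≠ a)
    (hdB : d ∉ B) (hw : ∃ w : G, w • a = b ∧ w • b = a ∧ w⁻¹ • d ∈ B) :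
    ∃ (P : Subgroup G) (z σ : G), Cfg p a b d B P z σ := by
  classical
  have hp : p.Prime := Fact.out
  have hab : a ≠ b := fun h => hB.notMem (h ▸ hB.mem)
  have hA : Nat.card (stabilizer G a) = p ^ 2 * Nat.card ↥(stabilizer G a ⊓ stabilizer G b) := by
    rw [card_stabilizer_pair h2 hab, hn, Nat.add_sub_cancel]
  obtain ⟨P', hP'⟩ := Sylow.exists_subgroup_card_pow_prime (G := stabilizer G a) p (n := 2)
    (by rw [hA]; exact dvd_mul_right _ _)
  let P : Subgroup G := P'.map (stabilizer G a).subtype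
  have hP : Nat.card P = p ^ 2 := by
    rw [Subgroup.card_map_of_injective (Subgroup.subtype_injective _), hP']
  have fixa : ∀ u ∈ P, u • a = a := by
    rintro _ ⟨u, -, rfl⟩
    exact u.2
  have comm : ∀ u ∈ P, ∀ v ∈ P, u * v = v * u := fun u hu v hv => congrArg Subtype.val
    ((IsPGroup.isMulCommutative_of_card_eq_prime_sq (G := P) hP).is_comm.comm ⟨u, hu⟩ ⟨v, hv⟩)
  have hbot : P ⊓ (stabilizer G a ⊓ stabilizer G b) = ⊥ := by
    apply Subgroup.inf_eq_bot_of_coprime
    rw [hP]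
    exact Nat.Coprime.pow_left 2 (hp.coprime_iff_not_dvd.2 hH)
  have inj : ∀ u ∈ P, ∀ v ∈ P, u • b = v • b → u = v := by
    intro u hu v hv h
    have hm : v⁻¹ * u ∈ P ⊓ (stabilizer G a ⊓ stabilizer G b) := by
      have hvu : v⁻¹ * u ∈ P := mul_mem (inv_mem hv) hu
      exact ⟨hvu, fixa _ hvu, by show (v⁻¹ * u) • b = b; rw [mul_smul, h, inv_smul_smul]⟩
    rw [hbot, Subgroup.mem_bot, inv_mul_eq_one] at hm
    exact hm.symm
  have hne : ∀ u ∈ P, u • b ≠ a := fun u hu h =>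
    hab (smul_left_cancel u ((fixa u hu).trans h.symm))
  have surj : ∀ x, x ≠ a → ∃ u ∈ P, u • b = x := by
    let f : P → {x : Ω // x ≠ a} := fun u => ⟨(u : G) • b, hne _ u.2⟩
    have hf : Function.Bijective f := by
      rw [Nat.bijective_iff_injective_and_card]
      refine ⟨fun u v h => Subtype.ext (inj _ u.2 _ v.2 (congrArg Subtype.val h)), ?_⟩
      rw [hP, Nat.card_eq_fintype_card, Fintype.card_subtype, Finset.filter_ne',
        Finset.card_erase_of_mem (Finset.mem_univ a), Finset.card_univ, hn, Nat.add_sub_cancel]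
    intro x hx
    obtain ⟨u, hu⟩ := hf.2 ⟨x, hx⟩
    exact ⟨u, u.2, congrArg Subtype.val hu⟩
  have hstab : ∀ u ∈ P, (u • b ∈ B ↔ u • B = B) := fun u hu =>
    ⟨hB.block u (fixa u hu) b hB.mem, fun h => h ▸ Finset.smul_mem_smul_finset hB.mem⟩
  let P0 : Subgroup G := P ⊓ stabilizer G B
  have hP0 : Nat.card P0 = p := by
    let f : P0 → B := fun u => ⟨(u : G) • b, (hstab _ u.2.1).2 u.2.2⟩
    have hf : Function.Bijective f := by
      refine ⟨fun u v h => Subtype.ext (inj _ u.2.1 _ v.2.1 (congrArg Subtype.val h)), fun x => ?_⟩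
      obtain ⟨u, hu, hux⟩ := surj x (fun h => hB.notMem (h ▸ x.2))
      exact ⟨⟨u, hu, (hstab u hu).1 (hux.symm ▸ x.2)⟩, Subtype.ext hux⟩
    rw [Nat.card_congr (Equiv.ofBijective f hf), Nat.card_eq_fintype_card, Fintype.card_coe, hBc]
  haveI : Nontrivial P0 := Finite.one_lt_card_iff_nontrivial.1 (hP0 ▸ hp.one_lt)
  obtain ⟨z', hz'⟩ := exists_ne (1 : P0)
  have zord : orderOf (z' : G) = p := by
    rw [Subgroup.orderOf_coe]
    exact ((Nat.dvd_prime hp).1 (hP0 ▸ orderOf_dvd_natCard z')).resolve_left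
      (fun h => hz' (orderOf_eq_one_iff.1 h))
  have hzp : Subgroup.zpowers (z' : G) = P0 :=
    Subgroup.eq_of_le_of_card_ge (Subgroup.zpowers_le.2 z'.2) (by rw [Nat.card_zpowers, zord, hP0])
  obtain ⟨σ, hσ, hσb⟩ := surj d hda
  let N : Subgroup P := P0.subgroupOf P
  haveI hN : N.Normal := ⟨fun n hn g => by
    have : g * n * g⁻¹ = n := Subtype.ext (by
      simp only [Subgroup.coe_mul, Subgroup.coe_inv]
      rw [comm _ g.2 _ n.2, mul_inv_cancel_right])
    rwa [this]⟩
  have hQ : Nat.card (P ⧸ N) = p := by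
    have h1 := Subgroup.card_eq_card_quotient_mul_card_subgroup N
    rw [hP, Nat.card_congr (Subgroup.subgroupOfEquivOfLe (inf_le_left : P0 ≤ P)).toEquiv, hP0, sq] at h1
    exact (Nat.eq_of_mul_eq_mul_right hp.pos h1).symm
  have hσN : (QuotientGroup.mk ⟨σ, hσ⟩ : P ⧸ N) ≠ 1 := fun h => by
    rw [QuotientGroup.eq_one_iff] at h
    exact hdB (hσb ▸ (hstab σ hσ).2 h.2)
  have gen : ∀ u ∈ P, ∃ j : ℕ, u⁻¹ * σ ^ j ∈ Subgroup.zpowers (z' : G) := by
    intro u hu
    obtain ⟨j, hj⟩ := mem_powers_of_prime_card hQ hσN (g' := QuotientGroup.mk ⟨u, hu⟩)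
    refine ⟨j, ?_⟩
    rw [hzp]
    have := (QuotientGroup.eq (s := N)).1 (hj.symm.trans (QuotientGroup.mk_pow N _ j).symm)
    exact this
  have sp : σ ^ p ∈ Subgroup.zpowers (z' : G) := by
    have := N.pow_index_mem (⟨σ, hσ⟩ : P)
    rw [Subgroup.index, hQ] at this
    rw [hzp]
    exact this
  exact ⟨P, z', σ, ⟨h2, hn, hp2, hB, hBc, fixa, comm, surj, inj, z'.2.1, zord, fun u hu => by
    rw [hzp, hstab u hu]; exact ⟨fun h => ⟨hu, h⟩, fun h => h.2⟩, hσ, hσb, sp, gen, hH, hda, hdB, hw⟩⟩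

end Cfsg.Agent.H61.PlusOne
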