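import Cfsg.Agent.H61.PlusOneMain

/-!
Reduction of double primitivity in degree `p ^ 2 + 1` to the two cases `p = 2` and `p` odd.
-/

set_option autoImplicit false

namespace Cfsg.Agent.H61.PlusOne

open MulAction
open scoped Pointwise

variable {G Ω : Type*} [Group G] [MulAction G Ω] [Fintype Ω] [DecidableEq Ω]
variable {p : ℕ}

omit [Fintype Ω] [DecidableEq Ω] in
theorem conj_pair_mem {a b : Ω} {w h : G} (hwa : w • a = b) (hwb : w • b = a)
    (hh : h ∈ stabilizer G a ⊓ stabilizer G b) : w⁻¹ * h * w ∈ stabilizer G a ⊓ stabilizer G b := by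
  have ha : h • a = a := hh.1
  have hb : h • b = b := hh.2
  refine ⟨?_, ?_⟩
  · show (w⁻¹ * h * w) • a = a
    rw [mul_smul, mul_smul, hwa, hb, inv_smul_eq_iff, hwa]
  · show (w⁻¹ * h * w) • b = b
    rw [mul_smul, mul_smul, hwb, ha, inv_smul_eq_iff, hwb]

theorem two_case [Finite G] [FaithfulSMul G Ω] [Fact (Nat.Prime 2)]
    (h2 : IsMultiplyPretransitive G Ω 2) (hn : Fintype.card Ω = 2 ^ 2 + 1) {a b : Ω} {B : Finset Ω}
    (hB : Blk G a b B) (hBc : B.card = 2) : Nat.card G = 20 := by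
  classical
  have hab : a ≠ b := fun h => hB.notMem (h ▸ hB.mem)
  set H : Subgroup G := stabilizer G a ⊓ stabilizer G b with hHdef
  suffices hbot : H = ⊥ by
    rw [card_eq_mul h2 a, card_stabilizer_pair h2 hab, ← hHdef, hbot, Subgroup.card_bot, hn]
    norm_num
  by_contra hne
  have hKa : ∀ k ∈ H, k • a = a := fun k hk => hk.1
  have hS : Blk G a b (fixSet G H a) := blk_fixSet h2 hab H (fun k hk => ⟨hk.1, hk.2⟩)
    fun h ha hfix k hk => by
      refine ⟨?_, ?_⟩
      · show (h⁻¹ * k * h) • a = a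
        rw [mul_smul, mul_smul, ha, hKa k hk, inv_smul_eq_iff, ha]
      · show (h⁻¹ * k * h) • b = b
        rw [mul_smul, mul_smul, hfix k hk, inv_smul_smul]
  obtain ⟨x, hx, hxb⟩ := Finset.exists_mem_ne (by omega : 1 < B.card) b
  have hxa : x ≠ a := fun h => hB.notMem (h ▸ hx)
  have hBx : (B.erase b).card ≤ 1 := by rw [Finset.card_erase_of_mem hB.mem, hBc]
  have hxS : x ∈ fixSet G H a := by
    refine (Finset.mem_insert.1 ((mem_insert_fixSet hKa x).2 fun k hk => ?_)).resolve_left hxa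
    have hkb : k • b = b := hk.2
    refine Finset.card_le_one.1 hBx _ (Finset.mem_erase.2 ⟨fun e => hxb ?_, ?_⟩) _
      (Finset.mem_erase.2 ⟨hxb, hx⟩)
    · exact smul_left_cancel k (e.trans hkb.symm)
    · rw [← hB.block k hk.1 b hB.mem (hkb.symm ▸ hB.mem)]
      exact Finset.smul_mem_smul_finset hx
  have hSc := card_fixSet h2 hn hKa hS hxS hxb hne
  obtain ⟨w, hwa, hwb⟩ := exists_pair h2 hab hab.symm
  refine hS.no_exchange hS h2 le_rfl hn hSc hSc hwa hwb
    (insert_fixSet_smul (w := w) hKa hKa fun k => ⟨fun hk => conj_pair_mem hwa hwb hk, fun hk => ?_⟩).symm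
  have hwa' : w⁻¹ • a = b := by rw [inv_smul_eq_iff, hwb]
  have hwb' : w⁻¹ • b = a := by rw [inv_smul_eq_iff, hwa]
  have := conj_pair_mem hwa' hwb' hk
  rwa [show (w⁻¹)⁻¹ * (w⁻¹ * k * w) * w⁻¹ = k by group] at this

/-- For odd `p` there is no block of size `p`. -/
theorem odd_case [Finite G] [FaithfulSMul G Ω] [Fact p.Prime] (hp2 : p ≠ 2)
    (h2 : IsMultiplyPretransitive G Ω 2) (hn : Fintype.card Ω = p ^ 2 + 1) {a b : Ω} {B : Finset Ω}
    (hB : Blk G a b B) (hBc : B.card = p) : False := by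
  classical
  have hp : p.Prime := Fact.out
  have hab : a ≠ b := fun h => hB.notMem (h ▸ hB.mem)
  set H : Subgroup G := stabilizer G a ⊓ stabilizer G b with hHdef
  obtain ⟨w, hwa, hwb⟩ := exists_pair h2 hab hab.symm
  obtain ⟨d, hda, hdw, hdB⟩ : ∃ d, d ≠ a ∧ w⁻¹ • d ∈ B ∧ d ∉ B := by
    by_contra! hcon
    refine hB.no_exchange hB h2 hp.two_le hn hBc hBc hwa hwb ?_
    refine Finset.eq_of_subset_of_card_le (fun y hy => ?_) (by rw [Finset.card_smul_finset])
    rcases eq_or_ne y a with rfl | hya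
    · exact Finset.mem_insert_self _ _
    rw [← Finset.inv_smul_mem_iff] at hy
    rcases Finset.mem_insert.1 hy with h | h
    · rw [inv_smul_eq_iff, hwa] at h
      exact h ▸ Finset.mem_insert_of_mem hB.mem
    · exact Finset.mem_insert_of_mem (hcon y hya h)
  have hH : ¬ p ∣ Nat.card H := by
    intro hdvd
    let R : Subgroup G := Subgroup.closure {y | y ∈ H ∧ y ^ p = 1}
    have hRH : R ≤ H := by
      rw [Subgroup.closure_le]
      exact fun y hy => hy.1
    have hRa : ∀ k ∈ R, k • a = a := fun k hk => (hRH hk).1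
    have hne : R ≠ ⊥ := by
      intro e
      obtain ⟨y, hy⟩ := exists_prime_orderOf_dvd_card' (G := H) p hdvd
      have hm : (y : G) ∈ R := Subgroup.subset_closure ⟨y.2, by
        rw [← Subgroup.coe_pow, ← hy, pow_orderOf_eq_one, Subgroup.coe_one]⟩
      rw [e, Subgroup.mem_bot] at hm
      have : y = 1 := Subtype.ext hm
      rw [this, orderOf_one] at hy
      exact hp.one_lt.ne hy
    have hfix : ∀ x, (x ∈ B.erase b ∨ x ∈ (w • B).erase a) → ∀ k ∈ R, k • x = x := by
      intro x hx k hk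
      suffices h : R ≤ stabilizer G x from h hk
      rw [Subgroup.closure_le]
      rintro y ⟨hyH, hyp⟩
      have hya : y • a = a := hyH.1
      have hyb : y • b = b := hyH.2
      have hyB : y • B = B := hB.block y hya b hB.mem (hyb.symm ▸ hB.mem)
      rcases hx with hx | hx
      · refine fixed_of_pow_prime hyp ?_ (fun z hz => ?_) hx
        · rw [Finset.card_erase_of_mem hB.mem, hBc]; exact Nat.sub_lt hp.pos Nat.one_pos
        · refine Finset.mem_erase.2 ⟨fun e => (Finset.mem_erase.1 hz).1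
            (smul_left_cancel y (e.trans hyb.symm)), ?_⟩
          rw [← hyB]
          exact Finset.smul_mem_smul_finset (Finset.mem_erase.1 hz).2
      · have haw : a ∈ w • B := hwb ▸ Finset.smul_mem_smul_finset hB.mem
        refine fixed_of_pow_prime hyp ?_ (fun z hz => ?_) hx
        · rw [Finset.card_erase_of_mem haw, Finset.card_smul_finset, hBc]
          exact Nat.sub_lt hp.pos Nat.one_pos
        · refine Finset.mem_erase.2 ⟨fun e => (Finset.mem_erase.1 hz).1
            (smul_left_cancel y (e.trans hya.symm)), ?_⟩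
          have hz' := (Finset.mem_erase.1 hz).2
          rw [← Finset.inv_smul_mem_iff] at hz' ⊢
          have hc := conj_pair_mem hwa hwb hyH
          have hc1 : (w⁻¹ * y * w) • a = a := hc.1
          have hc2 : (w⁻¹ * y * w) • b = b := hc.2
          have := Finset.smul_mem_smul_finset (a := w⁻¹ * y * w) hz'
          rwa [hB.block _ hc1 b hB.mem (hc2.symm ▸ hB.mem), mul_smul, mul_smul, smul_inv_smul] at this
    have hS : Blk G a b (fixSet G R a) :=
      blk_fixSet h2 hab R (fun k hk => ⟨(hRH hk).1, (hRH hk).2⟩) fun h ha hfx k hk => by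
        have hle : R ≤ R.comap (MulAut.conj h⁻¹).toMonoidHom := by
          rw [Subgroup.closure_le]
          rintro y ⟨hyH, hyp⟩
          have hyR : y ∈ R := Subgroup.subset_closure ⟨hyH, hyp⟩
          have hya : y • a = a := hyH.1
          refine Subgroup.subset_closure ?_
          refine ⟨⟨?_, ?_⟩, ?_⟩
          · show (MulAut.conj h⁻¹ y) • a = a
            simp only [MulAut.conj_apply, inv_inv]
            rw [mul_smul, mul_smul, ha, hya, inv_smul_eq_iff, ha]
          · show (MulAut.conj h⁻¹ y) • b = b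
            simp only [MulAut.conj_apply, inv_inv]
            rw [mul_smul, mul_smul, hfx y hyR, inv_smul_smul]
          · rw [← map_pow, hyp, map_one]
        simpa using hle hk
    have hmem : ∀ x, x ≠ a → (x ∈ B.erase b ∨ x ∈ (w • B).erase a) → x ∈ fixSet G R a := fun x hxa hx =>
      (Finset.mem_insert.1 ((mem_insert_fixSet hRa x).2 (hfix x hx))).resolve_left hxa
    have hdS : d ∈ fixSet G R a := hmem d hda (Or.inr (Finset.mem_erase.2
      ⟨hda, by rw [← Finset.inv_smul_mem_iff]; exact hdw⟩))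
    have hdb : d ≠ b := fun h => hdB (h ▸ hB.mem)
    have hSc := card_fixSet h2 hn hRa hS hdS hdb hne
    have hsub : insert d B ⊆ fixSet G R a := by
      intro x hx
      rcases Finset.mem_insert.1 hx with rfl | hx
      · exact hdS
      · rcases eq_or_ne x b with rfl | hxb
        · exact hS.mem
        · exact hmem x (fun h => hB.notMem (h ▸ hx)) (Or.inl (Finset.mem_erase.2 ⟨hxb, hx⟩))
    have := Finset.card_le_card hsub
    rw [Finset.card_insert_of_notMem hdB, hBc, hSc] at this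
    omega
  obtain ⟨P, z, σ, c⟩ := exists_cfg h2 hn hp2 hB hBc hH hda hdB ⟨w, hwa, hwb, hdw⟩
  exact c.contradiction

omit [DecidableEq Ω] in
/-- A failure of primitivity of a point stabiliser gives a block of size `p`. -/
theorem exists_blk [Fact p.Prime] (h2 : IsMultiplyPretransitive G Ω 2)
    (hn : Fintype.card Ω = p ^ 2 + 1) (a : Ω)
    (hnp : ¬ IsPreprimitive ↥(stabilizer G a) ↥(SubMulAction.ofStabilizer G a)) :
    ∃ (_ : DecidableEq Ω) (b : Ω) (B : Finset Ω), Blk G a b B ∧ B.card = p := by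
  classical
  refine ⟨inferInstance, ?_⟩
  have hp : p.Prime := Fact.out
  have hne : ∀ x : SubMulAction.ofStabilizer G a, (x : Ω) ≠ a := fun x =>
    (SubMulAction.mem_ofStabilizer_iff G a).1 x.2
  haveI : IsPretransitive (stabilizer G a) (SubMulAction.ofStabilizer G a) := ⟨fun x y => by
    obtain ⟨g, hga, hgx⟩ := exists_pair h2 (hne x).symm (hne y).symm
    exact ⟨⟨g, hga⟩, Subtype.ext hgx⟩⟩
  obtain ⟨b₀, hb₀⟩ : ∃ b₀ : Ω, b₀ ≠ a := Fintype.exists_ne_of_one_lt_card (by
    rw [hn]; have : 1 ≤ p ^ 2 := Nat.one_le_pow _ _ hp.pos; omega) a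
  by_contra hcon
  apply hnp
  refine IsPreprimitive.of_isTrivialBlock_base
    (⟨b₀, (SubMulAction.mem_ofStabilizer_iff G a).2 hb₀⟩ : SubMulAction.ofStabilizer G a) ?_
  intro C hb hC
  by_contra htriv
  rw [IsTrivialBlock, not_or] at htriv
  apply hcon
  let B : Finset Ω := Finset.univ.filter fun x =>
    ∃ h : x ∈ SubMulAction.ofStabilizer G a, (⟨x, h⟩ : SubMulAction.ofStabilizer G a) ∈ C
  have hmem : ∀ y : SubMulAction.ofStabilizer G a, (y : Ω) ∈ B ↔ y ∈ C := fun y => by
    simp only [B, Finset.mem_filter, Finset.mem_univ, true_and]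
    exact ⟨fun ⟨_, h⟩ => h, fun h => ⟨y.2, h⟩⟩
  have hBne : ∀ x ∈ B, x ≠ a := fun x hx =>
    (SubMulAction.mem_ofStabilizer_iff G a).1 (Finset.mem_filter.1 hx).2.1
  have hB : Blk G a b₀ B := by
    refine ⟨(hmem ⟨b₀, (SubMulAction.mem_ofStabilizer_iff G a).2 hb₀⟩).2 hb,
      fun h => hBne a h rfl, fun h ha x hx hhx => ?_⟩
    obtain ⟨hx', hxC⟩ := (Finset.mem_filter.1 hx).2
    obtain ⟨hhx', hhxC⟩ := (Finset.mem_filter.1 hhx).2
    let h' : stabilizer G a := ⟨h, ha⟩
    have e : h' • C = C := by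
      have := isBlock_iff_smul_eq_smul_of_nonempty.1 hC (g₁ := h') (g₂ := 1)
        ⟨⟨h • x, hhx'⟩, ⟨_, hxC, Subtype.ext rfl⟩, by rw [one_smul]; exact hhxC⟩
      rwa [one_smul] at this
    refine Finset.eq_of_subset_of_card_le (fun y hy => ?_) (by rw [Finset.card_smul_finset])
    obtain ⟨y', hy', rfl⟩ := Finset.mem_smul_finset.1 hy
    obtain ⟨hy'', hyC⟩ := (Finset.mem_filter.1 hy').2
    exact (hmem (h' • ⟨y', hy''⟩)).2 (e ▸ Set.smul_mem_smul_set hyC)
  refine ⟨b₀, B, hB, hB.card_eq h2 hn ?_ ?_⟩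
  · obtain ⟨x, hx, y, hy, hxy⟩ : ∃ x ∈ C, ∃ y ∈ C, x ≠ y := by
      by_contra! hh
      exact htriv.1 fun x hx y hy => hh x hx y hy
    exact Finset.one_lt_card.2 ⟨x, (hmem x).2 hx, y, (hmem y).2 hy, fun e => hxy (Subtype.ext e)⟩
  · intro e
    refine htriv.2 (Set.eq_univ_of_forall fun y => (hmem y).1 ?_)
    rw [e]
    exact Finset.mem_erase.2 ⟨hne y, Finset.mem_univ _⟩

omit [DecidableEq Ω] in
theorem main [Finite G] [FaithfulSMul G Ω] (hp : p.Prime) (hn : Fintype.card Ω = p ^ 2 + 1)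
    (h2 : IsMultiplyPretransitive G Ω 2) (a : Ω) :
    IsPreprimitive ↥(stabilizer G a) ↥(SubMulAction.ofStabilizer G a) ∨ (p = 2 ∧ Nat.card G = 20) := by
  haveI := Fact.mk hp
  refine or_iff_not_imp_left.2 fun hnp => ?_
  obtain ⟨_, b, B, hB, hBc⟩ := exists_blk h2 hn a hnp
  by_cases hp2 : p = 2
  · subst hp2
    exact ⟨rfl, two_case h2 hn hB hBc⟩
  · exact (odd_case hp2 h2 hn hB hBc).elim

end Cfsg.Agent.H61.PlusOne
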