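import Cfsg.Agent.H41.NormalElementary
import Cfsg.Prelude.Def_Transfer

/-!
For odd `p`, a `p`-group with an elementary abelian subgroup of order `p ^ 4` has a normal one.
-/

set_option autoImplicit false

namespace Cfsg.Agent.H61.RankFour

open Subgroup
open scoped commutatorElement

universe u

variable {G : Type u} [Group G] [Finite G] {p : ℕ} [Fact p.Prime]

/-- If the commutators `⁅x, a⁆`, `x ∈ X`, lie in an abelian subgroup `T` centralized by `X`, then
`|X| ≤ |C_X(a)| |T|`. -/
theorem card_le_of_commutator {X T : Subgroup G} (a : G) (hT : IsMulCommutative T)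
    (hXT : X ≤ centralizer (T : Set G)) (hval : ∀ x ∈ X, ⁅x, a⁆ ∈ T) :
    Nat.card X ≤ Nat.card ↥(X ⊓ centralizer ({a} : Set G)) * Nat.card T := by
  let f : X →* G := MonoidHom.mk' (fun x => ⁅(x : G), a⁆) fun x y => by
    rw [Subgroup.coe_mul, commutatorElement_mul_left_eq_conj_mul,
      PGroups.comm_of_isMulCommutative hT (hval x x.2) (hval y y.2)]
    congr 1
    have := mem_centralizer_iff.1 (hXT x.2) _ (hval y y.2)
    rw [← this, mul_inv_cancel_right]
  have h1 : Nat.card f.range ≤ Nat.card T := by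
    refine Nat.le_of_dvd Nat.card_pos (card_dvd_of_le ?_)
    rintro _ ⟨x, rfl⟩
    exact hval x x.2
  have h2 : Nat.card f.ker ≤ Nat.card ↥(X ⊓ centralizer ({a} : Set G)) := by
    refine Nat.card_le_card_of_injective (fun v => ⟨(v.1 : G), v.1.2, mem_centralizer_singleton_iff.2
      (commutatorElement_eq_one_iff_mul_comm.1 (MonoidHom.mem_ker.1 v.2))⟩) fun v w h =>
      Subtype.ext (Subtype.ext (congrArg (fun t : ↥(X ⊓ centralizer ({a} : Set G)) => (t : G)) h))
  rw [← f.ker.card_mul_index, Subgroup.index_ker]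
  exact Nat.mul_le_mul h2 h1

theorem le_centralizer_of_two {A H : Subgroup G} {a x : G} (hHA : H ≤ A)
    (hA : Nat.card A = p * Nat.card H) (haA : a ∈ A) (haH : a ∉ H)
    (hxH : x ∈ centralizer (H : Set G)) (hxa : x * a = a * x) : x ∈ centralizer (A : Set G) := by
  have hK : H ⊔ zpowers a = A := by
    obtain ⟨k, hk⟩ := card_dvd_of_le (le_sup_left : H ≤ H ⊔ zpowers a)
    have hle : H ⊔ zpowers a ≤ A := sup_le hHA (zpowers_le.2 haA)
    have h1 : k ∣ p := by
      have h := card_dvd_of_le hle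
      rw [hk, hA, mul_comm p] at h
      exact Nat.dvd_of_mul_dvd_mul_left Nat.card_pos h
    rcases (Nat.dvd_prime (Fact.out : p.Prime)).1 h1 with h | h
    · exfalso
      subst h
      rw [mul_one] at hk
      exact haH (eq_of_le_of_card_ge le_sup_left hk.le ▸ mem_sup_right (mem_zpowers a))
    · subst h
      exact eq_of_le_of_card_ge hle (by rw [hA, hk, mul_comm])
  refine mem_centralizer_iff.2 fun v hv => ?_
  have h2 : A ≤ centralizer ({x} : Set G) := hK ▸ sup_le
    (fun h hh => mem_centralizer_singleton_iff.2 (mem_centralizer_iff.1 hxH h hh))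
    (zpowers_le.2 (mem_centralizer_singleton_iff.2 hxa.symm))
  exact mem_centralizer_singleton_iff.1 (h2 hv)

variable {A : Subgroup G}

/-- The position of an elementary abelian subgroup of order `p ^ 4` relative to a maximal normal
elementary abelian subgroup of order at most `p ^ 3`. -/
theorem position (hG : IsPGroup p G) [A.Normal] (hAc : IsMulCommutative A)
    (hA : ∀ E : Subgroup G, IsMulCommutative E → (∀ e ∈ E, e ^ p = 1) → E ⊓ centralizer (A : Set G) ≤ A)
    (hA4 : Nat.card A < p ^ 4) {E : Subgroup G} (hE : Cfsg.IsElementaryAbelian p E)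
    (hE4 : Nat.card E = p ^ 4) :
    Nat.card A = p ^ 3 ∧
      ∀ H : Subgroup G, H.Normal → H ≤ A → Nat.card H = p ^ 2 → E ⊓ centralizer (A : Set G) = H := by
  have hpr : p.Prime := Fact.out
  set B := E ⊓ centralizer (A : Set G) with hB
  have hBA : B ≤ A := hA E hE.1 hE.2
  obtain ⟨a, ha⟩ := IsPGroup.iff_card.mp (hG.to_subgroup A)
  obtain ⟨b, hb⟩ := IsPGroup.iff_card.mp (hG.to_subgroup B)
  have hba : b ≤ a := by
    have := Nat.le_of_dvd Nat.card_pos (card_dvd_of_le hBA)
    rwa [ha, hb, Nat.pow_le_pow_iff_right hpr.one_lt] at this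
  have ha3 : a ≤ 3 := Nat.le_of_lt_succ ((Nat.pow_lt_pow_iff_right hpr.one_lt).mp (ha ▸ hA4))
  have hAC : A ≤ centralizer (A : Set G) := fun x hx => mem_centralizer_iff.2 fun y hy =>
    PGroups.comm_of_isMulCommutative hAc hy hx
  have hne : B ≠ A := fun h => by
    have hAE : A ≤ E := h ▸ inf_le_left
    have hEA : E ≤ A := fun e he => hBA ⟨he, mem_centralizer_iff.2 fun y hy =>
      PGroups.comm_of_isMulCommutative hE.1 (hAE hy) he⟩
    exact absurd (Nat.le_of_dvd Nat.card_pos (card_dvd_of_le hEA)) (not_le.2 (hE4 ▸ hA4))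
  have hba' : b < a := lt_of_le_of_ne hba fun h => hne (eq_of_le_of_card_ge hBA (by rw [ha, hb, h]))
  have hbound : ∀ n ≤ a, ∀ N : Subgroup G, N.Normal → Nat.card N = p ^ n → ∀ X : Subgroup G,
      Nat.card X ≤ p ^ n.choose 2 * Nat.card ↥(X ⊓ centralizer (N : Set G)) := by
    intro n _ N hN hn X
    have h1 := PGroups.index_centralizer_le hG n N hn
    have h2 : Nat.card X = Nat.card ↥(X ⊓ centralizer (N : Set G)) * (centralizer (N : Set G)).relIndex X := by
      rw [← inf_relIndex_right, inf_comm]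
      rw [← relIndex_bot_left, ← relIndex_bot_left, relIndex_mul_relIndex _ _ _ bot_le inf_le_right]
    rw [h2, mul_comm (p ^ _)]
    refine Nat.mul_le_mul_left _ (le_trans ?_ h1)
    exact Nat.le_of_dvd (Nat.pos_of_ne_zero Subgroup.index_ne_zero_of_finite)
      (relIndex_dvd_index_of_normal _ _)
  have h4 : p ^ 4 ≤ p ^ (a.choose 2 + b) := by
    have := hbound a le_rfl A inferInstance ha E
    rwa [hE4, ← hB, hb, ← pow_add] at this
  rw [Nat.pow_le_pow_iff_right hpr.one_lt] at h4
  have ha' : a = 3 := by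
    interval_cases a <;> simp_all [Nat.choose] <;> omega
  subst ha'
  refine ⟨ha, fun H hH hHA hH2 => ?_⟩
  have hAH : Nat.card A = p * Nat.card H := by rw [ha, hH2]; ring
  have hEt : ∀ {T : Subgroup G}, T ≤ B → E ≤ centralizer (T : Set G) := fun hT e he =>
    mem_centralizer_iff.2 fun t ht => PGroups.comm_of_isMulCommutative hE.1 (hT ht).1 he
  have hTc : ∀ {T : Subgroup G}, T ≤ A → IsMulCommutative T := fun hT =>
    PGroups.isMulCommutative_of_comm fun x hx y hy => PGroups.comm_of_isMulCommutative hAc (hT hx) (hT hy)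
  have := hH
  obtain ⟨L, hL, hLH, hLcard⟩ := PGroups.exists_normal_card_le hG H 1
    (by rw [hH2]; exact Nat.pow_le_pow_right hpr.pos (by norm_num))
  rw [pow_one] at hLcard
  haveI := hL
  have hLz : L ≤ center G := PGroups.le_center_of_card_eq hG L hLcard
  have hHL : Nat.card H = p * Nat.card L := by rw [hH2, hLcard]; ring
  have hb2 : b = 2 := by
    by_contra hb2
    have hb1 : Nat.card B ≤ p := by
      rw [hb]; exact (Nat.pow_le_pow_right hpr.pos (by omega : b ≤ 1)).trans (pow_one p).le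
    obtain ⟨v, hvA, hvH⟩ : ∃ v ∈ A, v ∉ H := by
      by_contra h
      push Not at h
      have := Nat.le_of_dvd Nat.card_pos (card_dvd_of_le (show A ≤ H from h))
      rw [ha, hH2, Nat.pow_le_pow_iff_right hpr.one_lt] at this
      omega
    have hval : ∀ x : G, ⁅x, v⁆ ∈ H := fun x =>
      PGroups.commutatorElement_mem_of_card hG hHA hAH hvA x
    have hBv : ∀ X : Subgroup G, X ≤ E → X ≤ centralizer (H : Set G) →
        Nat.card ↥(X ⊓ centralizer ({v} : Set G)) ≤ p := fun X hXE hXH =>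
      (Nat.le_of_dvd Nat.card_pos (card_dvd_of_le
        (show X ⊓ centralizer ({v} : Set G) ≤ B from fun x hx =>
        ⟨hXE hx.1, le_centralizer_of_two hHA hAH hvA hvH (hXH hx.1)
          (mem_centralizer_singleton_iff.1 hx.2)⟩))).trans hb1
    set E1 := E ⊓ centralizer (H : Set G) with hE1
    have hE1c : p ^ 4 ≤ p * Nat.card E1 := by
      have := hbound 2 (by norm_num) H hH hH2 E
      rwa [hE4, Nat.choose_self, pow_one] at this
    by_cases hEH : E ≤ centralizer (H : Set G)
    · have := (card_le_of_commutator v (hTc hHA) hEH fun x _ => hval x).trans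
        (Nat.mul_le_mul (hBv E le_rfl hEH) le_rfl)
      rw [hE4, hH2, ← pow_succ', Nat.pow_le_pow_iff_right hpr.one_lt] at this
      omega
    · obtain ⟨e0, he0, he0H⟩ := SetLike.not_le_iff_exists.1 hEH
      set T := H ⊓ centralizer ({e0} : Set G) with hT
      have hTcard : Nat.card T ≤ p := by
        obtain ⟨k, hk⟩ := IsPGroup.iff_card.mp (hG.to_subgroup T)
        have hlt : k < 2 := by
          have hle := Nat.le_of_dvd Nat.card_pos (card_dvd_of_le (inf_le_left : T ≤ H))
          rw [hk, hH2, Nat.pow_le_pow_iff_right hpr.one_lt] at hle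
          refine lt_of_le_of_ne hle fun h => he0H (mem_centralizer_iff.2 fun y hy => ?_)
          have heq : T = H := eq_of_le_of_card_ge inf_le_left (by rw [hk, hH2, h])
          exact mem_centralizer_singleton_iff.1 (heq.symm ▸ hy : y ∈ T).2
        rw [hk]; exact (Nat.pow_le_pow_right hpr.pos (by omega : k ≤ 1)).trans (pow_one p).le
      have hvalT : ∀ x ∈ E1, ⁅x, v⁆ ∈ T := by
        intro x hx
        refine ⟨hval x, mem_centralizer_singleton_iff.2 ?_⟩
        have hxe : x * e0 = e0 * x := PGroups.comm_of_isMulCommutative hE.1 hx.1 he0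
        have hm : x * ⁅e0, v⁆ * x⁻¹ = ⁅e0, v⁆ := by
          rw [← mem_centralizer_iff.1 hx.2 _ (hval e0), mul_inv_cancel_right]
        have hcm : ⁅e0, v⁆ * ⁅x, v⁆ = ⁅x, v⁆ * ⁅e0, v⁆ :=
          PGroups.comm_of_isMulCommutative (hTc hHA) (hval e0) (hval x)
        have e1 : e0 * ⁅x, v⁆ * e0⁻¹ * ⁅e0, v⁆ = ⁅e0 * x, v⁆ := by
          rw [commutatorElement_mul_left_eq_conj_mul]
        have e2 : x * ⁅e0, v⁆ * x⁻¹ * ⁅x, v⁆ = ⁅x * e0, v⁆ := by
          rw [commutatorElement_mul_left_eq_conj_mul]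
        rw [hm, hxe, ← e1, hcm] at e2
        have := mul_right_cancel e2
        exact (mul_inv_eq_iff_eq_mul.1 this.symm).symm
      have := (card_le_of_commutator v (hTc (inf_le_left.trans hHA))
        (inf_le_right.trans (centralizer_le inf_le_left)) hvalT).trans
        (Nat.mul_le_mul (hBv E1 inf_le_left inf_le_right) hTcard)
      have h5 : p ^ 4 ≤ p ^ 3 := hE1c.trans ((Nat.mul_le_mul_left p this).trans_eq (by ring))
      rw [Nat.pow_le_pow_iff_right hpr.one_lt] at h5
      omega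
  subst hb2
  by_contra hBH
  obtain ⟨v, hvH, hvB⟩ : ∃ v ∈ H, v ∉ B := by
    by_contra h
    push Not at h
    exact hBH (eq_of_le_of_card_ge (show H ≤ B from h) (by rw [hb, hH2])).symm
  have hvA := hHA hvH
  have h1 := card_le_of_commutator (X := E) (T := L) v
    (hTc (hLH.trans hHA)) (fun e _ => mem_centralizer_iff.2 fun l hl => (mem_center_iff.1 (hLz hl) e).symm)
    (fun x _ => PGroups.commutatorElement_mem_of_card hG hLH hHL hvH x)
  have h2 : Nat.card ↥(E ⊓ centralizer ({v} : Set G)) ≤ p ^ 2 := by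
    rw [← hb]
    refine Nat.le_of_dvd Nat.card_pos (card_dvd_of_le fun x hx => ⟨hx.1, ?_⟩)
    exact le_centralizer_of_two hBA (by rw [ha, hb]; ring) hvA hvB (hEt le_rfl hx.1)
      (mem_centralizer_singleton_iff.1 hx.2)
  have h3 := h1.trans (Nat.mul_le_mul h2 hLcard.le)
  rw [hE4, ← pow_succ, Nat.pow_le_pow_iff_right hpr.one_lt] at h3
  omega

/-- The induction step: `E` is normal in a maximal subgroup. -/
theorem step (hp : p ≠ 2) (hG : IsPGroup p G) {E M : Subgroup G} (hE : Cfsg.IsElementaryAbelian p E)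
    (hE4 : Nat.card E = p ^ 4) [M.Normal] (hEM : E ≤ M) (hME : M ≤ normalizer (E : Set G)) :
    ∃ A : Subgroup G, A.Normal ∧ Cfsg.IsElementaryAbelian p A ∧ Nat.card A = p ^ 4 := by
  have hpr : p.Prime := Fact.out
  obtain ⟨A, hAn, hAc, hAe, hA⟩ := H41.exists_max_normal_elementary hp hG
  haveI := hAn
  by_cases hA4 : p ^ 4 ≤ Nat.card A
  · obtain ⟨N, hN, hNA, hNc⟩ := PGroups.exists_normal_card_le hG A 4 hA4
    exact ⟨N, hN, ⟨PGroups.isMulCommutative_of_comm fun x hx y hy =>
      PGroups.comm_of_isMulCommutative hAc (hNA hx) (hNA hy), fun x hx => hAe x (hNA hx)⟩, hNc⟩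
  push Not at hA4
  refine ⟨E, ⟨fun e he g => ?_⟩, hE, hE4⟩
  by_contra hge
  obtain ⟨hA3, hH⟩ := position hG hAc hA hA4 hE hE4
  obtain ⟨H, hHn, hHA, hH2⟩ := PGroups.exists_normal_card_le hG A 2
    (by rw [hA3]; exact Nat.pow_le_pow_right hpr.pos (by norm_num))
  set E' := E.map (MulAut.conj g).toMonoidHom with hE'
  have hE'4 : Nat.card E' = p ^ 4 := by
    rw [hE', card_map_of_injective (MulAut.conj g).injective, hE4]
  have hE'el : Cfsg.IsElementaryAbelian p E' := by
    refine ⟨PGroups.isMulCommutative_of_comm ?_, ?_⟩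
    · rintro _ ⟨x, hx, rfl⟩ _ ⟨y, hy, rfl⟩
      rw [← map_mul, ← map_mul, PGroups.comm_of_isMulCommutative hE.1 hx hy]
    · rintro _ ⟨x, hx, rfl⟩
      rw [← map_pow, hE.2 x hx, map_one]
  have hHE : H ≤ E := (hH H hHn hHA hH2) ▸ inf_le_left
  obtain ⟨-, hH'⟩ := position hG hAc hA hA4 hE'el hE'4
  have hHE' : H ≤ E' := (hH' H hHn hHA hH2) ▸ inf_le_left
  have hE'M : E' ≤ M := by
    rintro _ ⟨x, hx, rfl⟩
    exact (inferInstance : M.Normal).conj_mem x (hEM hx) g
  have hME' : M ≤ normalizer (E' : Set G) := by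
    refine le_trans (fun m hm => ?_) (le_normalizer_map _)
    exact ⟨g⁻¹ * m * g, hME (by simpa using (inferInstance : M.Normal).conj_mem m hm g⁻¹),
      by simp [mul_assoc]⟩
  set W := E ⊔ E' with hW
  set D := E ⊓ E' with hD
  have hcW : ∀ x ∈ E, ∀ y ∈ E', ⁅y, x⁆ ∈ D := by
    intro x hx y hy
    rw [commutatorElement_def]
    refine ⟨mul_mem ((mem_normalizer_iff.1 (hME (hE'M hy)) x).1 hx) (E.inv_mem hx), ?_⟩
    show _ ∈ E'
    have h1 := mul_mem hy ((mem_normalizer_iff.1 (hME' (hEM hx)) _).1 (inv_mem hy))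
    simpa only [mul_assoc] using h1
  have hDW : ∀ d ∈ D, ∀ w ∈ W, d * w = w * d := by
    intro d hd w hw
    have h1 : W ≤ centralizer ({d} : Set G) := sup_le
      (fun v hv => mem_centralizer_singleton_iff.2 (PGroups.comm_of_isMulCommutative hE.1 hv hd.1))
      (fun v hv => mem_centralizer_singleton_iff.2 (PGroups.comm_of_isMulCommutative hE'el.1 hv hd.2))
    exact (mem_centralizer_singleton_iff.1 (h1 hw)).symm
  have hexp : ∀ w ∈ W, w ^ p = 1 := by
    intro w hw
    rw [← SetLike.mem_coe, hW, coe_mul_of_right_le_normalizer_left E E' (hE'M.trans hME)] at hw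
    obtain ⟨x, hx, y, hy, rfl⟩ := hw
    have hc : (⟨⁅y, x⁆, mem_sup_left (hcW x hx y hy).1⟩ : W) ∈ center W := mem_center_iff.2 fun v =>
      Subtype.ext (hDW _ (hcW x hx y hy) v v.2).symm
    have hc' : ⁅(⟨y, mem_sup_right hy⟩ : W), (⟨x, mem_sup_left hx⟩ : W)⁆ ∈ center W := hc
    have h1 := congrArg Subtype.val (PGroups.mul_pow_of_commutator_mem_center hc' p)
    simp only [Subgroup.coe_mul, SubmonoidClass.coe_pow] at h1
    rw [h1, hE.2 x hx, hE'el.2 y hy, one_mul, one_mul]
    obtain ⟨k, hk⟩ : p ∣ p.choose 2 := hpr.dvd_choose_self two_ne_zero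
      (lt_of_le_of_ne hpr.two_le (Ne.symm hp))
    show ⁅y, x⁆ ^ p.choose 2 = 1
    rw [hk, pow_mul, hE.2 _ (hcW x hx y hy).1, one_pow]
  have hEW : E ≠ W := fun h => by
    have h1 : E' = E := eq_of_le_of_card_ge (le_sup_right.trans h.ge) (by rw [hE4, hE'4])
    exact hge (h1 ▸ mem_map_of_mem (MulAut.conj g).toMonoidHom he)
  have hW5 : p ^ 5 ≤ Nat.card W := by
    obtain ⟨k, hk⟩ := IsPGroup.iff_card.mp (hG.to_subgroup W)
    have hlt : Nat.card E < Nat.card W := lt_of_le_of_ne
      (Nat.le_of_dvd Nat.card_pos (card_dvd_of_le le_sup_left))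
      fun h => hEW (eq_of_le_of_card_ge le_sup_left h.ge)
    rw [hk, hE4, Nat.pow_lt_pow_iff_right hpr.one_lt] at hlt
    rw [hk]
    exact Nat.pow_le_pow_right hpr.pos hlt
  obtain ⟨v, hvA, hvH⟩ : ∃ v ∈ A, v ∉ H := by
    by_contra h
    push Not at h
    have := Nat.le_of_dvd Nat.card_pos (card_dvd_of_le (show A ≤ H from h))
    rw [hA3, hH2, Nat.pow_le_pow_iff_right hpr.one_lt] at this
    omega
  have hAH : Nat.card A = p * Nat.card H := by rw [hA3, hH2]; ring
  have hWH : W ≤ centralizer (H : Set G) := fun w hw => mem_centralizer_iff.2 fun h hh =>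
    hDW h ⟨hHE hh, hHE' hh⟩ w hw
  haveI := hHn
  have hHc : IsMulCommutative H := PGroups.isMulCommutative_of_comm fun x hx y hy =>
    PGroups.comm_of_isMulCommutative hAc (hHA hx) (hHA hy)
  have h1 := card_le_of_commutator (X := W) v hHc hWH fun x _ =>
    PGroups.commutatorElement_mem_of_card hG hHA hAH hvA x
  have hWA : W ⊓ centralizer ({v} : Set G) ≤ A := by
    intro x hx
    refine hA (zpowers x) (PGroups.isMulCommutative_of_comm fun a ha b hb => ?_) ?_
      ⟨mem_zpowers x, le_centralizer_of_two hHA hAH hvA hvH (hWH hx.1)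
        (mem_centralizer_singleton_iff.1 hx.2)⟩
    · obtain ⟨i, rfl⟩ := mem_zpowers_iff.1 ha
      obtain ⟨j, rfl⟩ := mem_zpowers_iff.1 hb
      exact ((Commute.refl x).zpow_zpow i j).eq
    · intro a ha
      obtain ⟨i, rfl⟩ := mem_zpowers_iff.1 ha
      rw [← zpow_natCast, ← zpow_mul, mul_comm, zpow_mul, zpow_natCast, hexp x hx.1, one_zpow]
  have hAW : W ⊓ centralizer ({v} : Set G) = A := by
    refine eq_of_le_of_card_ge hWA ?_
    rw [hA3]
    have := hW5.trans h1
    rw [hH2, show p ^ 5 = p ^ 3 * p ^ 2 by ring] at this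
    exact Nat.le_of_mul_le_mul_right this (pow_pos hpr.pos 2)
  have hWle : Nat.card W ≤ p ^ 5 := h1.trans_eq (by rw [hAW, hA3, hH2]; ring)
  have hAleW : A ≤ W := hAW ▸ inf_le_left
  have hDH : D ≤ H := by
    rw [← hH H hHn hHA hH2]
    exact fun d hd => ⟨hd.1, mem_centralizer_iff.2 fun a ha => (hDW d hd a (hAleW ha)).symm⟩
  have hD2 : Nat.card D ≤ p ^ 2 := hH2 ▸ Nat.le_of_dvd Nat.card_pos (card_dvd_of_le hDH)
  have hprod : p ^ 4 * p ^ 4 ≤ Nat.card W * Nat.card D := by
    have e1 : Nat.card E * (E.relIndex W) = Nat.card W := by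
      rw [← relIndex_bot_left, relIndex_mul_relIndex ⊥ E W bot_le le_sup_left, relIndex_bot_left]
    have e2 : Nat.card D * (E.relIndex E') = Nat.card E' := by
      rw [← inf_relIndex_right, ← hD, ← relIndex_bot_left,
        relIndex_mul_relIndex ⊥ D E' bot_le inf_le_right, relIndex_bot_left]
    haveI : (E.subgroupOf W).Normal := (normal_subgroupOf_iff_le_normalizer le_sup_left).2
      (sup_le le_normalizer (hE'M.trans hME))
    have e3 : E.relIndex E' ≤ E.relIndex W :=
      relIndex_le_of_le_right le_sup_right index_ne_zero_of_finite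
    rw [← e1, hE4]
    calc p ^ 4 * p ^ 4 = p ^ 4 * (Nat.card D * E.relIndex E') := by rw [e2, hE'4]
      _ ≤ p ^ 4 * (Nat.card D * E.relIndex W) := by gcongr
      _ = _ := by ring
  have h8 := hprod.trans (Nat.mul_le_mul hWle hD2)
  rw [← pow_add, ← pow_add, Nat.pow_le_pow_iff_right hpr.one_lt] at h8
  omega

theorem exists_normal : ∀ (n : ℕ) (G : Type u) [Group G] [Finite G], Nat.card G ≤ n → p ≠ 2 →
    IsPGroup p G → ∀ E : Subgroup G, Cfsg.IsElementaryAbelian p E → Nat.card E = p ^ 4 →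
    ∃ A : Subgroup G, A.Normal ∧ Cfsg.IsElementaryAbelian p A ∧ Nat.card A = p ^ 4
  | 0, G, _, _, hn, _, _, _, _, _ => absurd hn (not_le.2 Nat.card_pos)
  | n + 1, G, _, _, hn, hp, hG, E, hE, hE4 => by
    by_cases htop : E = ⊤
    · exact ⟨E, htop ▸ inferInstance, hE, hE4⟩
    obtain ⟨M, hM, hEM⟩ : ∃ M : Subgroup G, IsCoatom M ∧ E ≤ M :=
      (eq_top_or_exists_le_coatom E).resolve_left htop
    haveI := PGroups.normal_of_isCoatom hG hM
    have hlt : Nat.card M < Nat.card G := lt_of_le_of_ne (card_le_card_group M)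
      fun h => hM.1 (eq_top_of_card_eq M h)
    have hEel : Cfsg.IsElementaryAbelian p (E.subgroupOf M) :=
      ⟨PGroups.isMulCommutative_of_comm fun x hx y hy =>
        Subtype.ext (PGroups.comm_of_isMulCommutative hE.1 hx hy),
        fun x hx => Subtype.ext (by simpa using hE.2 x hx)⟩
    obtain ⟨A, hAn, hA, hA4⟩ := exists_normal n ↥M (by omega) hp (hG.to_subgroup M) (E.subgroupOf M)
      hEel (by rw [Nat.card_congr (subgroupOfEquivOfLe hEM).toEquiv, hE4])
    haveI := hAn
    refine step (M := M) hp hG (E := A.map M.subtype) ⟨PGroups.isMulCommutative_of_comm ?_, ?_⟩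
      (by rw [card_map_of_injective M.subtype_injective, hA4]) (map_subtype_le A) ?_
    · rintro _ ⟨x, hx, rfl⟩ _ ⟨y, hy, rfl⟩
      rw [← map_mul, ← map_mul, PGroups.comm_of_isMulCommutative hA.1 hx hy]
    · rintro _ ⟨x, hx, rfl⟩
      rw [← map_pow, hA.2 x hx, map_one]
    · refine le_trans ?_ (le_normalizer_map _)
      rw [normalizer_eq_top, ← MonoidHom.range_eq_map, Subgroup.range_subtype]

end Cfsg.Agent.H61.RankFour
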