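import Cfsg.Agent.H2.RelGraph.Components

/-!
# Distances inside the component of the relative degree graph prime to the index
-/

namespace Cfsg.Agent.H61.RelGraphTwo

open Cfsg.Agent Cfsg.Agent.CharInduce Finset MulAction
open Cfsg.Agent.H2.RelGraph

universe u

attribute [-instance] MonoidHom.instPow MonoidHom.mul MonoidHom.instDiv MonoidHom.instInv
  instOneMonoidHom

attribute [local instance] linAction

variable {G : Type u} [Group G]

/-- Two numbers share a divisor other than one. -/
def Share (a b : ℕ) : Prop := ∃ n, n ≠ 1 ∧ n ∣ a ∧ n ∣ b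

theorem Share.symm {a b : ℕ} : Share a b → Share b a := fun ⟨n, h1, h2, h3⟩ => ⟨n, h1, h3, h2⟩

variable (N : Subgroup G) [N.Normal] [Finite G] [Fintype G] [Fintype N]

theorem share_degOver (hNG : N ≤ commutator G) {l : N →* ℂˣ} {c a : ℕ} (hc : DegOver N l c)
    (h1 : (stabilizer G l).index ≠ 1) (hua : (stabilizer G l).index ∣ a) : Share a c :=
  ⟨_, h1, hua, index_dvd_of_degOver N hNG hc⟩

/-- A good element gives a neighbour of a degree whose determinant has trivial `s`-part. -/
theorem twist_share (hNG : N ≤ commutator G) {s : ℕ} [Fact s.Prime] (hNI : NoInv N s)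
    {χ : IrrCharacter G} {θ : IrrCharacter N} (hov : Over N χ θ)
    (hθ : (θ : N → ℂ) ≠ fun _ => 1) (ha : ¬ s ∣ charDegree (χ : G → ℂ))
    (hD : det N θ ^ coPow G s = 1) (hk1 : (θ : N → ℂ) 1 ≠ 1 ∨ (inertia N (θ : N → ℂ)).index ≠ 1)
    {l : N →* ℂˣ} (hl : IsS N s l) (hl1 : l ≠ 1) :
    ∃ c ∈ Cfsg.relCharDegrees N,
      Share (charDegree (χ : G → ℂ)) c ∧ (stabilizer G l).index ∣ c := by
  have hs : s.Prime := Fact.out
  obtain ⟨k, -, hk⟩ := CharBasic.IsIrr.exists_degree θ.2
  obtain ⟨j, hj, hij, hnorm⟩ := det_norm N hNG χ θ hov hk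
  obtain ⟨χ', hov'⟩ := S4813.exists_over N (twist N θ l)
  change Over N χ' (twist N θ l) at hov'
  have hk' : ((twist N θ l : IrrCharacter N) : N → ℂ) 1 = k := by simp [twist, hk]
  obtain ⟨j', hj', hij', hnorm'⟩ := det_norm N hNG χ' _ hov' hk'
  have hks : ¬ s ∣ k := fun h => ha (hj ▸ h.mul_left j)
  have hcop : Nat.Coprime (k * coPow G s) (sPow G s) :=
    (coprime_sPow hs hks).mul_left (coprime_coPow hs)
  have hD' : det N (twist N θ l) ^ coPow G s = l ^ (k * coPow G s) := by
    rw [det_twist N θ l hk, mul_pow, hD, pow_mul]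
    exact mul_one (M := N →* ℂˣ) _
  have hne' : det N (twist N θ l) ^ coPow G s ≠ 1 := fun e =>
    hl1 (eq_one_of_coprime N hcop hl (hD' ▸ e))
  have hθ' : ((twist N θ l : IrrCharacter N) : N → ℂ) ≠ fun _ => 1 := fun e =>
    hne' (by rw [det_of_eq_one N e, one_pow])
  have hTl : inertia N ((twist N θ l : IrrCharacter N) : N → ℂ) ≤ stabilizer G l := fun g hg => by
    refine stabilizer_pow_le N hcop hl ?_
    rw [← hD', mem_stabilizer_iff, smul_pow', smul_det_of_mem N hg]
  have hTθ : inertia N ((twist N θ l : IrrCharacter N) : N → ℂ) ≤ inertia N (θ : N → ℂ) :=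
    fun g hg => by
      have h1 : g⁻¹ • l = l := mem_stabilizer_iff.1 ((stabilizer G l).inv_mem (hTl hg))
      have h2 := congrArg (linFun N) h1
      rw [linFun_smul, inv_inv] at h2
      refine (mem_inertia N).2 (funext fun n => ?_)
      have h3 := congrFun ((mem_inertia N).1 hg) n
      have h4 := congrFun h2 n
      simp only [conjFun, linFun, twist] at h3 h4 ⊢
      rw [h4] at h3
      exact mul_left_cancel₀ (Units.ne_zero (l n)) h3
  refine ⟨charDegree (χ' : G → ℂ), mem_rel N hov' hθ', ?_,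
    hj' ▸ ((Subgroup.index_dvd_of_le hTl).trans hij').mul_right k⟩
  rcases hk1 with hk1 | ht
  · exact ⟨k, fun e => hk1 (by rw [hk, e, Nat.cast_one]), hj ▸ dvd_mul_left k j,
      hj' ▸ dvd_mul_left k j'⟩
  · exact ⟨_, ht, hj ▸ hij.mul_right k,
      hj' ▸ ((Subgroup.index_dvd_of_le hTθ).trans hij').mul_right k⟩

/-- The orbit of a product of two good elements is not prime to both orbits. -/
theorem coprime_orbits {s : ℕ} [Fact s.Prime] (hNI : NoInv N s) {a b : N →* ℂˣ}
    (ha : IsS N s a) (ha1 : a ≠ 1) (hb : IsS N s b) (hbs : ¬ s ∣ (stabilizer G b).index)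
    (hab : Nat.Coprime (stabilizer G a).index (stabilizer G b).index)
    (hac : Nat.Coprime (stabilizer G a).index (stabilizer G (a * b)).index) : False := by
  set A := stabilizer G a
  set B := stabilizer G b
  set C := stabilizer G (a * b)
  have hAB : A ⊓ B = A ⊓ C := by
    ext g
    simp only [Subgroup.mem_inf, A, B, C, mem_stabilizer_iff, smul_mul']
    exact ⟨fun h => ⟨h.1, by rw [h.1, h.2]⟩, fun h => ⟨h.1, by simpa [h.1] using h.2⟩⟩
  have e1 : ∀ {X : Subgroup G}, Nat.Coprime A.index X.index →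
      (A ⊓ X).index = A.index * X.index := fun {X} hX =>
    le_antisymm Subgroup.index_inf_le (Nat.le_of_dvd
      (Nat.pos_of_ne_zero Subgroup.index_ne_zero_of_finite)
      (hX.mul_dvd_of_dvd_of_dvd (Subgroup.index_dvd_of_le inf_le_left)
        (Subgroup.index_dvd_of_le inf_le_right)))
  have hBC : B.index = C.index := by
    have h1 := e1 hab
    rw [hAB, e1 hac] at h1
    exact (Nat.eq_of_mul_eq_mul_left (Nat.pos_of_ne_zero Subgroup.index_ne_zero_of_finite) h1).symm
  have hsurj : ∀ g : G, ∃ t ∈ A, g • b = t • b := by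
    have h1 : (orbit A b).ncard = (orbit G b).ncard := by
      rw [← index_stabilizer, ← index_stabilizer]
      have h2 : stabilizer A b = B.subgroupOf A := by
        ext t; simp [B, Subgroup.mem_subgroupOf, mem_stabilizer_iff]; rfl
      rw [h2]
      show B.relIndex A = B.index
      have h3 := Subgroup.relIndex_mul_index (inf_le_left : A ⊓ B ≤ A)
      rw [Subgroup.inf_relIndex_left, e1 hab, mul_comm A.index] at h3
      exact Nat.eq_of_mul_eq_mul_right (Nat.pos_of_ne_zero Subgroup.index_ne_zero_of_finite) h3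
    have hsub : orbit A b ⊆ orbit G b := by
      rintro _ ⟨t, rfl⟩
      exact mem_orbit b (t : G)
    have hfin : (orbit G b).Finite := Set.finite_range _
    have h4 := Set.eq_of_subset_of_ncard_le hsub h1.ge hfin
    intro g
    obtain ⟨t, ht⟩ := (h4.symm ▸ mem_orbit b g : g • b ∈ orbit A b)
    exact ⟨t, t.2, ht.symm⟩
  have hmap : (a * ·) '' orbit G b = orbit G (a * b) := by
    refine Set.eq_of_subset_of_ncard_le ?_ ?_ (Set.finite_range _)
    · rintro _ ⟨_, ⟨g, rfl⟩, rfl⟩
      obtain ⟨t, ht, he⟩ := hsurj g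
      refine ⟨t, ?_⟩
      show t • (a * b) = a * (g • b)
      rw [smul_mul', mem_stabilizer_iff.1 ht, he]
    · rw [Set.ncard_image_of_injective _ (mul_right_injective a), ← index_stabilizer,
        ← index_stabilizer]
      exact hBC.ge
  apply hNI a ha ha1
  rw [Subgroup.index_eq_one, eq_top_iff]
  intro h _
  rw [mem_stabilizer_iff]
  set O := (Set.finite_range fun g : G => g • b).toFinset
  have hmemO : ∀ y, y ∈ O ↔ y ∈ orbit G b := fun y => by simp [O, orbit]
  set d := a⁻¹ * (h • a)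
  have hd : ∀ y ∈ O, d * y ∈ O := fun y hy => by
    rw [hmemO] at hy ⊢
    have h1 : h⁻¹ • y ∈ orbit G b := (orbit_eq_iff.2 hy) ▸ mem_orbit y h⁻¹
    have h2 : a * (h⁻¹ • y) ∈ orbit G (a * b) := hmap ▸ Set.mem_image_of_mem _ h1
    have h3 : (h • a) * y ∈ orbit G (a * b) := by
      have := (orbit_eq_iff.2 h2) ▸ mem_orbit (a * (h⁻¹ • y)) h
      rwa [smul_mul', smul_inv_smul] at this
    rw [← hmap] at h3
    obtain ⟨z, hz, hz2⟩ := h3
    have : d * y = z := by
      simp only [d] at *
      rw [mul_assoc, ← hz2, inv_mul_cancel_left]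
    exact this ▸ hz
  have hprod : d ^ O.card * ∏ y ∈ O, y = ∏ y ∈ O, y := by
    classical
    rw [← prod_const, ← prod_mul_distrib]
    refine prod_nbij (d * ·) hd (mul_right_injective d).injOn ?_ (fun _ _ => rfl)
    have himg : O.image (d * ·) = O := eq_of_subset_of_card_le
      (image_subset_iff.2 hd) (card_image_of_injective O (mul_right_injective d)).ge
    intro y hy
    rw [mem_coe, ← himg, mem_image] at hy
    obtain ⟨z, hz, rfl⟩ := hy
    exact ⟨z, hz, rfl⟩
  have hcard : O.card = B.index := by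
    rw [index_stabilizer, Set.ncard_eq_toFinset_card (orbit G b) (Set.finite_range _)]
    exact congrArg Finset.card (Finset.ext fun y => by simp [O, orbit])
  have := eq_one_of_coprime N (coprime_sPow (hs := Fact.out) (hcard.symm ▸ hbs))
    ((IsS.inv N ha).mul N (IsS.smul N ha h)) (mul_eq_right.1 hprod)
  exact (inv_mul_eq_one.1 this).symm

/-- The determinant of an irreducible character of a non-linear or moved kind. -/
theorem one_or_linear (θ : IrrCharacter N) (h : (θ : N → ℂ) 1 = 1) :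
    ∃ φ : N →* ℂˣ, θ = linIrr N φ ∧ det N θ = φ := by
  obtain ⟨φ, hφ⟩ := CharInduce.IsChar.exists_hom_of_degree_one
    (CharBasic.IsIrr.isCharacter θ.2) h
  have he : θ = linIrr N φ := Subtype.ext (funext hφ)
  exact ⟨φ, he, by rw [he, det_linIrr]⟩

/-- The `s`-parts of a linear character determine it. -/
theorem eq_one_of_parts (φ : N →* ℂˣ)
    (h : ∀ r : ℕ, r.Prime → r ∣ ⁅N, N⁆.relIndex N → φ ^ coPow G r = 1) : φ = 1 := by
  by_contra hne
  obtain ⟨r, hr, hrd⟩ := Nat.exists_prime_and_dvd (fun e => hne (orderOf_eq_one_iff.1 e))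
  have := Fact.mk hr
  have hm : φ ^ (⁅N, N⁆.relIndex N) = 1 := by
    refine MonoidHom.ext fun n => ?_
    have hK : (⁅N, N⁆.subgroupOf N : Subgroup N) = _root_.commutator N := by
      rw [Subgroup.subgroupOf, ← Subgroup.map_subtype_commutator,
        Subgroup.comap_map_eq_self_of_injective N.subtype_injective]
    have hidx : ⁅N, N⁆.relIndex N = (_root_.commutator N).index := congrArg Subgroup.index hK
    show φ n ^ ⁅N, N⁆.relIndex N = 1
    rw [hidx, ← map_pow]
    exact Abelianization.commutator_subset_ker φ (Subgroup.pow_index_mem _ n)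
  have hrm : r ∣ ⁅N, N⁆.relIndex N := hrd.trans (orderOf_dvd_of_pow_eq_one hm)
  have h1 : orderOf φ ∣ coPow G r := orderOf_dvd_of_pow_eq_one (h r hr hrm)
  refine Nat.not_coprime_of_dvd_of_dvd hr.one_lt (hrd.trans h1) ?_ (coprime_coPow (G := G) hr)
  have hrG : r ∣ Nat.card G :=
    (hrm.trans (Subgroup.relIndex_dvd_card _ _)).trans N.card_subgroup_dvd_card
  exact dvd_pow_self r (hr.factorization_pos_of_dvd Nat.card_pos.ne' hrG).ne'

omit [N.Normal] [Fintype N] in
/-- A constituent of a character trivial on `M` is trivial on `M`. -/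
theorem trivial_of_over [Fintype N] {M : Subgroup G} [M.Normal] {χ : IrrCharacter G}
    {θ : IrrCharacter N} (hov : Over N χ θ)
    (hM : ∀ x ∈ M, (χ : G → ℂ) x = (χ : G → ℂ) 1) :
    ∀ y : N, (y : G) ∈ M → (θ : N → ℂ) y = (θ : N → ℂ) 1 := by
  intro y hy
  let M' : Subgroup N := M.subgroupOf N
  have : Fintype M' := Fintype.ofFinite _
  refine (constituent_one_iff M' θ.2).1 ?_ y hy
  have hθc := CharBasic.IsIrr.isCharacter θ.2
  obtain ⟨r, hr, hre⟩ := CharInduce.IsChar.exists_eq_add
    (CharInduce.IsChar.res (CharBasic.IsIrr.isCharacter χ.2) N) θ.2 hov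
  have h0 : (fun m : M' => (θ : N → ℂ) m) ≠ 0 := fun e =>
    CharBasic.IsIrr.one_ne_zero θ.2 (by simpa using congrFun e 1)
  obtain ⟨η, hη⟩ := exists_constituent (CharInduce.IsChar.res hθc M') h0
  by_cases he : (η : M' → ℂ) = fun _ => 1
  · rwa [he] at hη
  exfalso
  have hsum : (fun m : M' => (θ : N → ℂ) m) + (fun m : M' => r m) =
      (χ : G → ℂ) 1 • (fun _ : M' => (1 : ℂ)) := by
    funext m
    have h1 := congrFun hre (m : N)
    simp only [Pi.add_apply, Pi.smul_apply, smul_eq_mul, mul_one] at h1 ⊢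
    rw [← h1]
    exact hM _ m.2
  obtain ⟨a, ha⟩ := CharBasic.classInner_isChar_nat (CharInduce.IsChar.res hθc M')
    (CharBasic.IsIrr.isCharacter η.2)
  obtain ⟨b, hb⟩ := CharBasic.classInner_isChar_nat (CharInduce.IsChar.res hr M')
    (CharBasic.IsIrr.isCharacter η.2)
  have h2 := congrArg (fun f => classInner f (η : M' → ℂ)) hsum
  simp only [CharBasic.classInner_add_left, CharBasic.classInner_smul_left,
    CharBasic.classInner_irr CharBasic.isIrrCharacter_one η.2] at h2
  rw [ha, hb, if_neg (fun e => he e.symm), mul_zero] at h2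
  have h3 : a + b = 0 := by exact_mod_cast h2
  exact hη (by rw [ha, show a = 0 by omega, Nat.cast_zero])

omit [N.Normal] [Fintype G] [Fintype N] in
/-- In a non-abelian group with non-perfect derived subgroup some character moves it and has
degree sharing a prime with the index of the derived subgroup. -/
theorem exists_moving (H : Type u) [Group H] [Finite H] [Group.IsSolvable H]
    (hne : _root_.commutator H ≠ ⊥) :
    ∃ (θ : IrrCharacter H) (r n : ℕ), r.Prime ∧ r ∣ (_root_.commutator H).index ∧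
      (θ : H → ℂ) 1 = n ∧ r ∣ n ∧ ∃ y ∈ _root_.commutator H, (θ : H → ℂ) y ≠ (θ : H → ℂ) 1 := by
  classical
  cases nonempty_fintype H
  set K := _root_.commutator H with hKdef
  have : Fintype K := Fintype.ofFinite _
  have hKK : ⁅K, K⁆ < K := by
    refine lt_of_le_of_ne (Subgroup.commutator_le_left K K) fun e => hne ?_
    have hall : ∀ n, derivedSeries H (n + 1) = K := by
      intro n
      induction n with
      | zero => exact derivedSeries_one H
      | succ n ih => rw [derivedSeries_succ, ih, e]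
    obtain ⟨n, hn⟩ := (Group.isSolvable_def H).1 inferInstance
    rw [← hall n, derivedSeries_succ, hn, Subgroup.commutator_bot_left]
  obtain ⟨r, hr, hrd⟩ := Nat.exists_prime_and_dvd (n := ⁅K, K⁆.relIndex K)
    (fun e => hKK.not_ge (Subgroup.relIndex_eq_one.1 e))
  have := Fact.mk hr
  obtain ⟨φ, hφ1, hφr⟩ := exists_pow_prime_eq_one K hrd
  obtain ⟨θ, hθ⟩ := S4813.exists_over K (linIrr K φ)
  change Over K θ (linIrr K φ) at hθ
  obtain ⟨n, -, hn⟩ := CharBasic.IsIrr.exists_degree θ.2
  have hdeg : charDegree (θ : H → ℂ) = n := by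
    rw [charDegree, hn, Complex.natCast_re, Nat.floor_natCast]
  have hmove : ∃ y ∈ K, (θ : H → ℂ) y ≠ (θ : H → ℂ) 1 := by
    by_contra hc
    push Not at hc
    have h1 := (constituent_one_iff K θ.2).2 hc
    obtain ⟨x, hx⟩ := exists_conjFun_eq_of_constituent K θ.2 CharBasic.isIrrCharacter_one
      (linIrr K φ).2 h1 hθ
    refine hφ1 (linFun_injective K (funext fun k => ?_))
    rw [show linFun K φ = ((linIrr K φ : IrrCharacter K) : K → ℂ) from rfl, hx]
    simp [conjFun_one_char, linFun]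
  by_cases ht : (stabilizer H φ).index = 1
  · -- the character is invariant
    have hinv : ∀ h : H, h • φ = φ := fun h =>
      mem_stabilizer_iff.1 (Subgroup.index_eq_one.1 ht ▸ Subgroup.mem_top h)
    obtain ⟨e, he, hP⟩ := lorbit_prod K le_rfl hθ
    have horb : lorbit K φ = {φ} := by
      refine Finset.ext fun y => ?_
      rw [mem_lorbit, Finset.mem_singleton]
      exact ⟨fun ⟨g, hg⟩ => by rw [← hg, hinv g], fun h => ⟨1, by rw [h, one_smul]⟩⟩
    rw [horb, prod_singleton] at hP
    have hord : orderOf φ = r := orderOf_eq_prime hφr hφ1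
    refine ⟨θ, r, n, hr, ?_, hn, hdeg ▸ ((hord ▸ orderOf_dvd_of_pow_eq_one hP).trans he), hmove⟩
    -- `r` divides the index: the commutator form is bilinear
    have hmemK : ∀ x y : H, x * y * x⁻¹ * y⁻¹ ∈ K := fun x y =>
      Subgroup.commutator_mem_commutator (Subgroup.mem_top x) (Subgroup.mem_top y)
    have hconj : ∀ (x : H) (k : K) (hk : x * k * x⁻¹ ∈ K), φ ⟨_, hk⟩ = φ k := by
      intro x k hk
      have h1 := DFunLike.congr_fun (hinv x⁻¹) k
      rw [smul_lin_apply] at h1
      rw [← h1]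
      exact congrArg φ (Subtype.ext (by simp))
    let F : H → H → ℂˣ := fun x y => φ ⟨_, hmemK x y⟩
    have hFmul : ∀ x x' y : H, F (x * x') y = F x' y * F x y := by
      intro x x' y
      have hk : x * ((⟨_, hmemK x' y⟩ : K) : H) * x⁻¹ ∈ K :=
        (inferInstance : K.Normal).conj_mem _ (hmemK x' y) x
      show φ _ = _
      rw [show F x' y = φ ⟨_, hk⟩ from (hconj x ⟨_, hmemK x' y⟩ hk).symm,
        show F x y = φ ⟨_, hmemK x y⟩ from rfl, ← map_mul]
      refine congrArg φ (Subtype.ext ?_)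
      simp [mul_assoc]
    have hF1 : ∀ y : H, F 1 y = 1 := fun y => by
      show φ _ = 1
      rw [← map_one φ]
      exact congrArg φ (Subtype.ext (by simp))
    have hFpow : ∀ (x y : H) (i : ℕ), F (x ^ i) y = F x y ^ i := by
      intro x y i
      induction i with
      | zero => simp [hF1]
      | succ i ih => rw [pow_succ, hFmul, ih, pow_succ']
    have hFm : ∀ x y : H, F x y ^ K.index = 1 := by
      intro x y
      rw [← hFpow]
      have hz : x ^ K.index ∈ K := Subgroup.pow_index_mem K x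
      have hk : y * ((⟨_, K.inv_mem hz⟩ : K) : H) * y⁻¹ ∈ K :=
        (inferInstance : K.Normal).conj_mem _ (K.inv_mem hz) y
      show φ _ = 1
      rw [show φ ⟨_, hmemK (x ^ K.index) y⟩ = φ ⟨_, hz⟩ * φ ⟨_, hk⟩ from by
          rw [← map_mul]; exact congrArg φ (Subtype.ext (by simp [mul_assoc])),
        hconj y _ hk, ← map_mul, ← map_one φ]
      exact congrArg φ (Subtype.ext (by simp))
    have hφm : φ ^ K.index = 1 := by
      refine MonoidHom.ext fun k => ?_
      show φ k ^ K.index = 1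
      have hgen : ∀ (y : H) (hy : y ∈ Subgroup.closure (commutatorSet H)),
          ∃ hk : y ∈ K, φ ⟨y, hk⟩ ^ K.index = 1 := by
        intro y hy
        induction hy using Subgroup.closure_induction with
        | mem y hy =>
          obtain ⟨a, b, rfl⟩ := hy
          exact ⟨hmemK a b, hFm a b⟩
        | one => exact ⟨K.one_mem, by rw [show (⟨1, K.one_mem⟩ : K) = 1 from rfl, map_one, one_pow]⟩
        | mul a b _ _ iha ihb =>
          obtain ⟨ha, ea⟩ := iha; obtain ⟨hb, eb⟩ := ihb
          exact ⟨K.mul_mem ha hb, by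
            rw [show (⟨a * b, K.mul_mem ha hb⟩ : K) = ⟨a, ha⟩ * ⟨b, hb⟩ from rfl, map_mul, mul_pow,
              ea, eb, mul_one]⟩
        | inv a _ iha =>
          obtain ⟨ha, ea⟩ := iha
          exact ⟨K.inv_mem ha, by
            rw [show (⟨a⁻¹, K.inv_mem ha⟩ : K) = ⟨a, ha⟩⁻¹ from rfl, map_inv, inv_pow, ea, inv_one]⟩
      obtain ⟨hk, e⟩ := hgen (k : H) (by rw [← commutator_eq_closure]; exact k.2)
      exact e
    exact hord ▸ orderOf_dvd_of_pow_eq_one hφm
  · obtain ⟨q, hq, hqd⟩ := Nat.exists_prime_and_dvd ht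
    refine ⟨θ, q, n, hq, hqd.trans (Subgroup.index_dvd_of_le ?_), hn,
      hdeg ▸ hqd.trans (index_dvd_of_degOver K le_rfl ⟨θ, hθ, rfl⟩), hmove⟩
    intro k hk
    rw [mem_stabilizer_iff]
    refine MonoidHom.ext fun m => ?_
    rw [smul_lin_apply]
    have : ((MulAut.conjNormal k⁻¹) m : K) = (⟨k, hk⟩ : K)⁻¹ * m * ⟨k, hk⟩ :=
      Subtype.ext (by simp)
    rw [this, map_mul, map_mul, map_inv, mul_comm (φ ⟨k, hk⟩)⁻¹, inv_mul_cancel_right]

omit [N.Normal] [Fintype G] [Fintype N] in
theorem conn_mono {K N : Subgroup G} [K.Normal] [N.Normal] (hKN : K ≤ N) {a b : ℕ}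
    (h : Conn K a b) : Conn N a b := by
  obtain ⟨ha, hb, hr⟩ := h
  have hsub : ∀ {c}, c ∈ Cfsg.relCharDegrees K → c ∈ Cfsg.relCharDegrees N :=
    fun ⟨χ, ⟨x, hx, hne⟩, he⟩ => ⟨χ, ⟨x, hKN hx, hne⟩, he⟩
  exact ⟨hsub ha, hsub hb, hr.map
    ({ toFun := fun c => ⟨c.1, hsub c.2⟩, map_rel' := fun {_ _} h => h } :
      Cfsg.commonDivisorGraph.induce (Cfsg.relCharDegrees K) →g
        Cfsg.commonDivisorGraph.induce (Cfsg.relCharDegrees N))⟩

omit [N.Normal] [Fintype G] [Fintype N] in
theorem main : ∀ (n : ℕ) (N : Subgroup G) [N.Normal], Nat.card N = n → Group.IsSolvable N →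
    N ≤ _root_.commutator G → ∀ a b x : ℕ, a ∈ Cfsg.relCharDegrees N →
    b ∈ Cfsg.relCharDegrees N → x ∈ Cfsg.relCharDegrees N → ¬ Conn N a x → ¬ Conn N b x →
    Share a b ∨ ∃ d ∈ Cfsg.relCharDegrees N, Share a d ∧ Share d b := by
  intro n
  induction n using Nat.strong_induction_on with
  | _ n ih => ?_
  intro N _ hn hsol hNG a b x ha hb hx hax hbx
  classical
  cases nonempty_fintype G
  have : Fintype N := Fintype.ofFinite _
  set K := ⁅N, N⁆ with hKdef
  have hKN : K ≤ N := Subgroup.commutator_le_left N N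
  set K' := _root_.commutator N with hK'def
  have hK' : K.subgroupOf N = K' := by
    rw [Subgroup.subgroupOf, hKdef, ← Subgroup.map_subtype_commutator,
      Subgroup.comap_map_eq_self_of_injective N.subtype_injective]
  have hmK : K.relIndex N = K'.index := congrArg Subgroup.index hK'
  have hdiag : ∀ {r : ℕ}, r.Prime → r ∣ a → r ∣ b → Share a b :=
    fun hr h h' => ⟨_, hr.ne_one, h, h'⟩
  by_cases hsh : Share a b
  · exact Or.inl hsh
  refine Or.inr ?_
  have hsplit : ∀ r : ℕ, r.Prime → r ∣ K.relIndex N →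
      r ∣ x ∧ ¬ r ∣ a ∧ ¬ r ∣ b ∧ NoInv N r := by
    intro r hr hrm
    have := Fact.mk hr
    obtain ⟨ha1, ha2⟩ := conn_prime N hNG hrm ha hx
    obtain ⟨hb1, -⟩ := conn_prime N hNG hrm hb hx
    by_cases hrx : r ∣ x
    · exact ⟨hrx, fun h => hax (ha1 ⟨fun _ => hrx, fun _ => h⟩),
        fun h => hbx (hb1 ⟨fun _ => hrx, fun _ => h⟩), by_contra fun h => hax (ha2 h)⟩
    · have h1 : r ∣ a := by_contra fun h => hax (ha1 ⟨fun h' => absurd h' h, fun h' => absurd h' hrx⟩)
      have h2 : r ∣ b := by_contra fun h => hbx (hb1 ⟨fun h' => absurd h' h, fun h' => absurd h' hrx⟩)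
      exact absurd (hdiag hr h1 h2) hsh
  obtain ⟨χa, θa, hova, hθa, rfl⟩ := exists_of_mem N ha
  obtain ⟨χb, θb, hovb, hθb, rfl⟩ := exists_of_mem N hb
  by_cases hall : ∀ r : ℕ, r.Prime → r ∣ K.relIndex N →
      det N θa ^ coPow G r = 1 ∧ det N θb ^ coPow G r = 1
  · -- both are non-linear with trivial determinant: descend to the derived subgroup
    have hnonlin : ∀ {θ : IrrCharacter N}, (θ : N → ℂ) ≠ (fun _ => 1) →
        (∀ r : ℕ, r.Prime → r ∣ K.relIndex N → det N θ ^ coPow G r = 1) → (θ : N → ℂ) 1 ≠ 1 := by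
      intro θ hθ hd h1
      obtain ⟨φ, he, hdet⟩ := one_or_linear N θ h1
      have hφ : φ = 1 := eq_one_of_parts N φ fun r hr hrm => hdet ▸ hd r hr hrm
      refine hθ ?_
      rw [he, hφ]
      funext k; simp [linIrr, linFun]
    have hka := hnonlin hθa fun r hr hrm => (hall r hr hrm).1
    have hkb := hnonlin hθb fun r hr hrm => (hall r hr hrm).2
    have hmemK : ∀ {χ : IrrCharacter G} {θ : IrrCharacter N}, Over N χ θ →
        (θ : N → ℂ) 1 ≠ 1 → charDegree (χ : G → ℂ) ∈ Cfsg.relCharDegrees K := by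
      intro χ θ hov h1
      refine ⟨χ, ?_, rfl⟩
      by_contra hc
      push Not at hc
      refine h1 ?_
      have hlin : ∀ y : N, y ∈ K' → (θ : N → ℂ) y = (θ : N → ℂ) 1 := fun y hy =>
        trivial_of_over N hov hc y (by rw [← hK'] at hy; exact hy)
      obtain ⟨ψ, hψ, hval, hirr⟩ := CharInduce.IsChar.exists_deflate
        (CharBasic.IsIrr.isCharacter θ.2) K' hlin
      have hcomm : ∀ u v : N ⧸ K', u * v = v * u := by
        intro u v
        obtain ⟨a, rfl⟩ := QuotientGroup.mk_surjective u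
        obtain ⟨b, rfl⟩ := QuotientGroup.mk_surjective v
        rw [← QuotientGroup.mk_mul, ← QuotientGroup.mk_mul, QuotientGroup.eq]
        have e : (a * b)⁻¹ * (b * a) = b⁻¹ * a⁻¹ * b⁻¹⁻¹ * a⁻¹⁻¹ := by group
        rw [e]
        exact Subgroup.commutator_mem_commutator (Subgroup.mem_top _) (Subgroup.mem_top _)
      rw [hval 1, QuotientGroup.mk_one]
      exact CharBasic.commutative_iff_forall_linear.1 hcomm ⟨ψ, hirr θ.2⟩
    have hKne : K ≠ ⊥ := by
      intro e
      obtain ⟨χ, ⟨y, hy, hne⟩, -⟩ := hmemK hova hka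
      rw [e, Subgroup.mem_bot] at hy
      exact hne (by rw [hy])
    have hK'ne : K' ≠ ⊥ := fun e => hKne (by
      rw [eq_bot_iff]
      intro y hy
      have : (⟨y, hKN hy⟩ : N) ∈ K' := hK' ▸ hy
      rw [e, Subgroup.mem_bot] at this
      exact congrArg Subtype.val this)
    obtain ⟨θ, r, k, hr, hrm, hk, hrk, y, hy, hyne⟩ := exists_moving N hK'ne
    obtain ⟨χ, hov⟩ := S4813.exists_over N θ
    change Over N χ θ at hov
    obtain ⟨j, hj, -, -⟩ := det_norm N hNG χ θ hov hk
    have hxK : charDegree (χ : G → ℂ) ∈ Cfsg.relCharDegrees K := by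
      refine ⟨χ, ?_, rfl⟩
      by_contra hc
      push Not at hc
      exact hyne (trivial_of_over N hov hc y (hK'.ge hy))
    have hrm' : r ∣ K.relIndex N := hmK ▸ hrm
    have hconn : Conn N (charDegree (χ : G → ℂ)) x := conn_of_dvd N
      (by obtain ⟨χ', ⟨z, hz, hne⟩, he⟩ := hxK; exact ⟨χ', ⟨z, hKN hz, hne⟩, he⟩) hx
      (mem_ne_zero K hxK) hr.ne_one (hj ▸ hrk.mul_left j) (hsplit r hr hrm').1
    have hlt : Nat.card K < n := by
      subst hn
      refine lt_of_le_of_ne (Subgroup.card_le_of_le hKN) fun e => ?_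
      have hKeq : K = N := SetLike.coe_injective (Set.eq_of_subset_of_ncard_le hKN
        (by rw [← Nat.card_coe_set_eq, ← Nat.card_coe_set_eq]; exact e.ge) (Set.toFinite _))
      have : r ∣ 1 := by
        rwa [hKeq, Subgroup.relIndex_self] at hrm'
      exact hr.ne_one (Nat.dvd_one.1 this)
    have hsolK : Group.IsSolvable K :=
      Group.isSolvable_of_isSolvable_injective (Subgroup.inclusion_injective hKN)
    rcases ih _ hlt K rfl hsolK (hKN.trans hNG) _ _ _ (hmemK hova hka) (hmemK hovb hkb) hxK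
      (fun h => hax ((conn_mono hKN h).trans N hconn))
      (fun h => hbx ((conn_mono hKN h).trans N hconn)) with h | ⟨d, ⟨χd, ⟨z, hz, hne⟩, he⟩, h⟩
    · exact absurd h hsh
    · exact ⟨d, ⟨χd, ⟨z, hKN hz, hne⟩, he⟩, h⟩
  · push Not at hall
    obtain ⟨r, hr, hrm, hne⟩ := hall
    have := Fact.mk hr
    obtain ⟨-, hra, hrb, hNI⟩ := hsplit r hr hrm
    have hone : ∀ {θ : IrrCharacter N}, (θ : N → ℂ) ≠ (fun _ => 1) →
        (θ : N → ℂ) 1 ≠ 1 ∨ (inertia N (θ : N → ℂ)).index ≠ 1 := by
      intro θ hθ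
      by_contra hc
      push Not at hc
      obtain ⟨φ, he, hdet⟩ := one_or_linear N θ hc.1
      have hφ : φ ≠ 1 := fun e => hθ (by rw [he, e]; funext k; simp [linIrr, linFun])
      refine hφ (eq_one_of_parts N φ fun q hq hqm => ?_)
      have := Fact.mk hq
      by_contra hne
      refine (hsplit q hq hqm).2.2.2 _ (isS_pow_coPow N q φ) hne ?_
      rw [Subgroup.index_eq_one, eq_top_iff]
      intro g _
      rw [mem_stabilizer_iff, smul_pow', ← hdet,
        smul_det_of_mem N (Subgroup.index_eq_one.1 hc.2 ▸ Subgroup.mem_top g)]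
    by_cases hDa : det N θa ^ coPow G r = 1
    · have hDb : det N θb ^ coPow G r ≠ 1 := hne hDa
      obtain ⟨hu, hub⟩ := det_part N hNG hr hovb hrb hDb
      obtain ⟨c, hc, hsh', huc⟩ := twist_share N hNG hNI hova hθa hra hDa (hone hθa)
        (isS_pow_coPow N r _) hDb
      exact ⟨c, hc, hsh', ⟨_, hu, huc, hub⟩⟩
    · obtain ⟨hu, hua⟩ := det_part N hNG hr hova hra hDa
      by_cases hDb : det N θb ^ coPow G r = 1
      · obtain ⟨c, hc, hsh', huc⟩ := twist_share N hNG hNI hovb hθb hrb hDb (hone hθb)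
          (isS_pow_coPow N r _) hDa
        exact ⟨c, hc, ⟨_, hu, hua, huc⟩, hsh'.symm⟩
      · obtain ⟨hv, hvb⟩ := det_part N hNG hr hovb hrb hDb
        set l := det N θa ^ coPow G r
        set m := det N θb ^ coPow G r
        have hcop : Nat.Coprime (stabilizer G l).index (stabilizer G m).index :=
          Nat.coprime_of_dvd fun q hq h1 h2 => hsh ⟨q, hq.ne_one, h1.trans hua, h2.trans hvb⟩
        have hlm : l * m ≠ 1 := fun e => hu (by
          have heq : stabilizer G l = stabilizer G m := by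
            ext g
            rw [mem_stabilizer_iff, mem_stabilizer_iff,
              show m = l⁻¹ from eq_inv_of_mul_eq_one_right e, smul_inv']
            exact ⟨fun h => by rw [h], fun h => inv_injective h⟩
          rw [← heq] at hcop
          exact (Nat.coprime_self _).1 hcop)
        obtain ⟨c, hc⟩ := exists_degOver N (l * m)
        have hw := index_dvd_of_degOver N hNG hc
        have hl : IsS N r l := isS_pow_coPow N r _
        have hm : IsS N r m := isS_pow_coPow N r _
        have sh : ∀ {p q : ℕ}, ¬ Nat.Coprime p (stabilizer G (l * m)).index → p ∣ q →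
            Share q c := by
          intro p q hnc hpq
          obtain ⟨t, ht, h1, h2⟩ := Nat.Prime.not_coprime_iff_dvd.1 hnc
          exact ⟨t, ht.ne_one, h1.trans hpq, h2.trans hw⟩
        refine ⟨c, degOver_mem N hlm hc,
          sh (fun h => coprime_orbits N hNI hl hDa hm (fun h' => hrb (h'.trans hvb)) hcop h) hua,
          (sh (fun h => ?_) hvb).symm⟩
        exact coprime_orbits N hNI hm hDb hl (fun h' => hra (h'.trans hua)) hcop.symm
          (by rwa [mul_comm m l])

end Cfsg.Agent.H61.RelGraphTwo
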