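import Mathlib
import Cfsg.Agent.H61.Basic

/-!
Three-cycles in a permutation group and the sets on which it contains the alternating group.
-/

set_option autoImplicit false

namespace Cfsg.Agent.H61

open Equiv

variable {α : Type*} [DecidableEq α]

/-- The three-cycle `a ↦ b ↦ c ↦ a`. -/
def cyc (a b c : α) : Perm α := swap a b * swap b c

theorem cyc_apply_fst {a b c : α} (hab : a ≠ b) (hac : a ≠ c) : cyc a b c a = b := by
  rw [cyc, Perm.mul_apply, swap_apply_of_ne_of_ne hab hac, swap_apply_left]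

theorem cyc_apply_snd {a b c : α} (hac : a ≠ c) (hbc : b ≠ c) : cyc a b c b = c := by
  rw [cyc, Perm.mul_apply, swap_apply_left, swap_apply_of_ne_of_ne hac.symm hbc.symm]

theorem cyc_apply_thd (a b c : α) : cyc a b c c = a := by
  rw [cyc, Perm.mul_apply, swap_apply_right, swap_apply_right]

theorem cyc_apply_other {a b c x : α} (ha : x ≠ a) (hb : x ≠ b) (hc : x ≠ c) : cyc a b c x = x := by
  rw [cyc, Perm.mul_apply, swap_apply_of_ne_of_ne hb hc, swap_apply_of_ne_of_ne ha hb]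

theorem cyc_rotate {a b c : α} (hab : a ≠ b) (hbc : b ≠ c) (hac : a ≠ c) :
    cyc b c a = cyc a b c := by
  ext x
  by_cases ha : x = a
  · subst ha; rw [cyc_apply_thd, cyc_apply_fst hab hac]
  by_cases hb : x = b
  · subst hb; rw [cyc_apply_fst hbc hab.symm, cyc_apply_snd hac hbc]
  by_cases hc : x = c
  · subst hc; rw [cyc_apply_snd hab.symm hac.symm, cyc_apply_thd]
  rw [cyc_apply_other hb hc ha, cyc_apply_other ha hb hc]

theorem cyc_inv (a b c : α) : (cyc a b c)⁻¹ = cyc c b a := by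
  rw [cyc, cyc, mul_inv_rev, swap_inv, swap_inv, swap_comm b c, swap_comm a b]

theorem conj_cyc (g : Perm α) (a b c : α) : g * cyc a b c * g⁻¹ = cyc (g a) (g b) (g c) := by
  rw [cyc, cyc, swap_apply_apply, swap_apply_apply]; group

theorem cyc_conj_eq {g : Perm α} {a b c a' b' c' : α} (ha : g a = a') (hb : g b = b')
    (hc : g c = c') : g * cyc a b c * g⁻¹ = cyc a' b' c' := by rw [conj_cyc, ha, hb, hc]

theorem cyc_ne_one {a b c : α} (hab : a ≠ b) (hac : a ≠ c) : cyc a b c ≠ 1 := fun h =>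
  hab.symm (by rw [← cyc_apply_fst hab hac, h, Perm.one_apply])

theorem cyc_pow_three {a b c : α} (hab : a ≠ b) (hbc : b ≠ c) (hac : a ≠ c) :
    cyc a b c ^ 3 = 1 := by
  ext x
  simp only [pow_succ, pow_zero, one_mul, Perm.mul_apply, Perm.one_apply]
  by_cases ha : x = a
  · subst ha; rw [cyc_apply_fst hab hac, cyc_apply_snd hac hbc, cyc_apply_thd]
  by_cases hb : x = b
  · subst hb; rw [cyc_apply_snd hac hbc, cyc_apply_thd, cyc_apply_fst hab hac]
  by_cases hc : x = c
  · subst hc; rw [cyc_apply_thd, cyc_apply_fst hab hac, cyc_apply_snd hac hbc]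
  simp [cyc_apply_other ha hb hc]

theorem cyc_commute_of_disjoint {a b c d e f : α}
    (h : ∀ x, (x = a ∨ x = b ∨ x = c) → (x = d ∨ x = e ∨ x = f) → False) :
    Commute (cyc a b c) (cyc d e f) := by
  refine Perm.Disjoint.commute fun x => ?_
  by_cases hx : x = a ∨ x = b ∨ x = c
  · have := h x hx
    simp only [imp_false, not_or] at this
    exact Or.inr (cyc_apply_other this.1 this.2.1 this.2.2)
  · push Not at hx
    exact Or.inl (cyc_apply_other hx.1 hx.2.1 hx.2.2)

theorem exists_cyc_of_isThreeCycle [Fintype α] {g : Perm α} (hg : g.IsThreeCycle) :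
    ∃ a b c, a ≠ b ∧ b ≠ c ∧ a ≠ c ∧ g = cyc a b c := by
  have hcard := hg.card_support
  obtain ⟨a, ha⟩ := Finset.card_pos.mp (by omega : 0 < g.support.card)
  have hg3 : g ^ 3 = 1 := hg.orderOf ▸ pow_orderOf_eq_one g
  have h1 : g a ≠ a := Perm.mem_support.mp ha
  have h3 : g (g (g a)) = a := by simpa [pow_succ] using congrArg (fun f : Perm α => f a) hg3
  have h2 : g (g a) ≠ a := fun h => by rw [h] at h3; exact h1 h3
  have h12 : g a ≠ g (g a) := fun h => h1 (g.injective h.symm)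
  refine ⟨a, g a, g (g a), h1.symm, h12, h2.symm, ?_⟩
  ext x
  by_cases hxa : x = a
  · subst hxa; rw [cyc_apply_fst h1.symm h2.symm]
  by_cases hxb : x = g a
  · subst hxb; rw [cyc_apply_snd h2.symm h12]
  by_cases hxc : x = g (g a)
  · subst hxc; rw [cyc_apply_thd, h3]
  rw [cyc_apply_other hxa hxb hxc]
  by_contra hx
  have hs : ({x, a, g a, g (g a)} : Finset α) ⊆ g.support := by
    simp only [Finset.insert_subset_iff, Finset.singleton_subset_iff, Perm.apply_mem_support]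
    exact ⟨Perm.mem_support.mpr hx, ha, ha, ha⟩
  have := Finset.card_le_card hs
  rw [Finset.card_insert_of_notMem (by simp [hxa, hxb, hxc]), Finset.card_insert_of_notMem
    (by simp [h1.symm, h2.symm]), Finset.card_pair h12, hcard] at this
  omega

variable (H : Subgroup (Perm α))

/-- `H` contains all three-cycles on `U`. -/
def AltOn (U : Finset α) : Prop :=
  ∀ a ∈ U, ∀ b ∈ U, ∀ c ∈ U, a ≠ b → b ≠ c → a ≠ c → cyc a b c ∈ H

variable {H}

theorem cyc_mem_rotate {a b c : α} (hab : a ≠ b) (hbc : b ≠ c) (hac : a ≠ c)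
    (h : cyc a b c ∈ H) : cyc b c a ∈ H := by rwa [cyc_rotate hab hbc hac]

theorem cyc_mem_rotate' {a b c : α} (hab : a ≠ b) (hbc : b ≠ c) (hac : a ≠ c)
    (h : cyc a b c ∈ H) : cyc c a b ∈ H :=
  cyc_mem_rotate hbc hac.symm hab.symm (cyc_mem_rotate hab hbc hac h)

theorem cyc_mem_rev {a b c : α} (h : cyc a b c ∈ H) : cyc c b a ∈ H :=
  cyc_inv a b c ▸ H.inv_mem h

theorem cyc_mem_swap12 {a b c : α} (hab : a ≠ b) (hbc : b ≠ c) (hac : a ≠ c)
    (h : cyc a b c ∈ H) : cyc b a c ∈ H :=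
  cyc_mem_rotate hbc.symm hab.symm hac.symm (cyc_mem_rev h)

theorem cyc_mem_swap23 {a b c : α} (hab : a ≠ b) (hbc : b ≠ c) (hac : a ≠ c)
    (h : cyc a b c ∈ H) : cyc a c b ∈ H :=
  cyc_mem_rotate' hbc.symm hab.symm hac.symm (cyc_mem_rev h)

theorem altOn_of_pair {U : Finset α} {s t : α} (hst : s ≠ t)
    (h : ∀ u ∈ U, u ≠ s → u ≠ t → cyc s t u ∈ H) : AltOn H U := by
  have hT : ∀ u ∈ U, ∀ v ∈ U, u ≠ v → u ≠ s → u ≠ t → v ≠ s → v ≠ t → cyc t v u ∈ H := by
    intro u hu v hv huv us ut vs vt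
    have := H.mul_mem (H.mul_mem (h v hv vs vt) (h u hu us ut)) (H.inv_mem (h v hv vs vt))
    rwa [cyc_conj_eq (cyc_apply_fst hst vs.symm) (cyc_apply_snd vs.symm vt.symm)
      (cyc_apply_other us ut huv)] at this
  have hS : ∀ b ∈ U, ∀ c ∈ U, b ≠ c → b ≠ s → c ≠ s → cyc s b c ∈ H := by
    intro b hb c hc hbc bs cs
    by_cases bt : b = t
    · subst bt; exact h c hc cs hbc.symm
    by_cases ct : c = t
    · subst ct; exact cyc_mem_swap23 hst (Ne.symm bt) bs.symm (h b hb bs bt)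
    have := H.mul_mem (H.mul_mem (H.inv_mem (h b hb bs bt)) (h c hc cs ct))
      (H.inv_mem (H.inv_mem (h b hb bs bt)))
    rw [cyc_inv] at this
    rw [cyc_conj_eq (a' := b) (b' := s) (c' := c) (cyc_apply_thd b t s) (cyc_apply_snd bs hst.symm)
      (cyc_apply_other hbc.symm ct cs)] at this
    exact cyc_mem_swap12 bs cs.symm hbc this
  have hT' : ∀ b ∈ U, ∀ c ∈ U, b ≠ c → b ≠ s → c ≠ s → b ≠ t → c ≠ t → cyc t b c ∈ H :=
    fun b hb c hc hbc bs cs bt ct => hT c hc b hb hbc.symm cs ct bs bt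
  intro a ha b hb c hc hab hbc hac
  by_cases as : a = s
  · subst as; exact hS b hb c hc hbc hab.symm hac.symm
  by_cases bs : b = s
  · subst bs; exact cyc_mem_swap12 hab.symm hac hbc (hS a ha c hc hac hab hbc.symm)
  by_cases cs : c = s
  · subst cs; exact cyc_mem_rotate hac.symm hab hbc.symm (hS a ha b hb hab hac hbc)
  by_cases at' : a = t
  · subst at'; exact hT' b hb c hc hbc bs cs hab.symm hac.symm
  by_cases bt : b = t
  · subst bt; exact cyc_mem_swap12 hab.symm hac hbc (hT' a ha c hc hac as cs hab hbc.symm)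
  by_cases ct : c = t
  · subst ct; exact cyc_mem_rotate hac.symm hab hbc.symm (hT' a ha b hb hab as bs hac hbc)
  have := H.mul_mem (H.mul_mem (h a ha as at') (hT c hc b hb hbc.symm cs ct bs bt))
    (H.inv_mem (h a ha as at'))
  rwa [cyc_conj_eq (cyc_apply_snd (Ne.symm as) (Ne.symm at')) (cyc_apply_other bs bt hab.symm)
    (cyc_apply_other cs ct hac.symm)] at this

theorem AltOn.mono {U V : Finset α} (h : AltOn H V) (hUV : U ⊆ V) : AltOn H U :=
  fun a ha b hb c hc => h a (hUV ha) b (hUV hb) c (hUV hc)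

/-- A three-cycle in `H` meeting `U` enlarges `U`. -/
theorem AltOn.extend {U : Finset α} (h : AltOn H U) (hU : 3 ≤ U.card) {a b c : α} (ha : a ∈ U)
    (hab : a ≠ b) (hbc : b ≠ c) (hac : a ≠ c) (hcyc : cyc a b c ∈ H) :
    AltOn H (insert b (insert c U)) := by
  by_cases hb : b ∈ U
  · refine altOn_of_pair hab fun u hu ua ub => ?_
    simp only [Finset.mem_insert] at hu
    rcases hu with rfl | rfl | hu
    · exact absurd rfl ub
    · exact hcyc
    · exact h a ha b hb u hu hab (Ne.symm ub) (Ne.symm ua)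
  by_cases hc : c ∈ U
  · refine altOn_of_pair hac.symm fun u hu uc ua => ?_
    simp only [Finset.mem_insert] at hu
    rcases hu with rfl | rfl | hu
    · exact cyc_mem_rotate' hab hbc hac hcyc
    · exact absurd rfl uc
    · exact h c hc a ha u hu hac.symm (Ne.symm ua) (Ne.symm uc)
  obtain ⟨s, t, hs, ht, hst⟩ := Finset.one_lt_card_iff.mp
    (show 1 < (U.erase a).card by rw [Finset.card_erase_of_mem ha]; omega)
  rw [Finset.mem_erase] at hs ht
  have sb : s ≠ b := fun e => hb (e ▸ hs.2)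
  have sc : s ≠ c := fun e => hc (e ▸ hs.2)
  have tb : t ≠ b := fun e => hb (e ▸ ht.2)
  have tc : t ≠ c := fun e => hc (e ▸ ht.2)
  refine altOn_of_pair hst fun u hu us ut => ?_
  simp only [Finset.mem_insert] at hu
  have h1 := h a ha s hs.2 t ht.2 hs.1.symm hst ht.1.symm
  have h2 : cyc b s t ∈ H := by
    have := H.mul_mem (H.mul_mem hcyc h1) (H.inv_mem hcyc)
    rwa [cyc_conj_eq (cyc_apply_fst hab hac) (cyc_apply_other hs.1 sb sc)
      (cyc_apply_other ht.1 tb tc)] at this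
  rcases hu with rfl | rfl | hu
  · exact cyc_mem_rotate sb.symm hst tb.symm h2
  · have := H.mul_mem (H.mul_mem hcyc h2) (H.inv_mem hcyc)
    rw [cyc_conj_eq (cyc_apply_snd hac hbc) (cyc_apply_other hs.1 sb sc)
      (cyc_apply_other ht.1 tb tc)] at this
    exact cyc_mem_rotate sc.symm hst tc.symm this
  · exact h s hs.2 t ht.2 u hu hst (Ne.symm ut) (Ne.symm us)

variable (H) in
/-- A maximal set on which `H` contains the alternating group. -/
def IsBlk (U : Finset α) : Prop :=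
  3 ≤ U.card ∧ AltOn H U ∧ ∀ V, AltOn H V → U ⊆ V → V ⊆ U

theorem exists_isBlk [Fintype α] {a b c : α} (hab : a ≠ b) (hbc : b ≠ c) (hac : a ≠ c)
    (h : cyc a b c ∈ H) : ∃ U, IsBlk H U ∧ a ∈ U ∧ b ∈ U ∧ c ∈ U := by
  classical
  have h0 : AltOn H {a, b, c} := altOn_of_pair hab fun u hu ua ub => by
    simp only [Finset.mem_insert, Finset.mem_singleton] at hu
    rcases hu with rfl | rfl | rfl
    · exact absurd rfl ua
    · exact absurd rfl ub
    · exact h
  obtain ⟨U, hU, hmax⟩ := ((Finset.univ : Finset (Finset α)).filter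
    (fun U => AltOn H U ∧ {a, b, c} ⊆ U)).exists_max_image Finset.card
    ⟨{a, b, c}, by simp [h0]⟩
  rw [Finset.mem_filter] at hU
  have h3 : ({a, b, c} : Finset α).card = 3 := by
    rw [Finset.card_insert_of_notMem (by simp [hab, hac]), Finset.card_pair hbc]
  refine ⟨U, ⟨h3 ▸ Finset.card_le_card hU.2.2, hU.2.1, fun V hV hUV => ?_⟩,
    hU.2.2 (by simp), hU.2.2 (by simp), hU.2.2 (by simp)⟩
  have := hmax V (Finset.mem_filter.mpr ⟨Finset.mem_univ _, hV, hU.2.2.trans hUV⟩)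
  exact (Finset.eq_of_subset_of_card_le hUV this).ge

theorem IsBlk.mem_of_cyc {U : Finset α} (hU : IsBlk H U) {a b c : α}
    (hab : a ≠ b) (hbc : b ≠ c) (hac : a ≠ c) (h : cyc a b c ∈ H) (ha : a ∈ U) :
    b ∈ U ∧ c ∈ U := by
  have := hU.2.2 _ (hU.2.1.extend hU.1 ha hab hbc hac h)
    ((Finset.subset_insert _ _).trans (Finset.subset_insert _ _))
  exact ⟨this (by simp), this (by simp)⟩

theorem IsBlk.dichotomy {U : Finset α} (hU : IsBlk H U) {a b c : α}
    (hab : a ≠ b) (hbc : b ≠ c) (hac : a ≠ c) (h : cyc a b c ∈ H) :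
    (a ∈ U ∧ b ∈ U ∧ c ∈ U) ∨ (a ∉ U ∧ b ∉ U ∧ c ∉ U) := by
  by_cases ha : a ∈ U
  · exact Or.inl ⟨ha, hU.mem_of_cyc hab hbc hac h ha⟩
  refine Or.inr ⟨ha, fun hb => ha ?_, fun hc => ha ?_⟩
  · exact (hU.mem_of_cyc hbc hac.symm hab.symm (cyc_mem_rotate hab hbc hac h) hb).2
  · exact (hU.mem_of_cyc hac.symm hab hbc.symm (cyc_mem_rotate' hab hbc hac h) hc).1

theorem IsBlk.eq_of_inter {U W : Finset α} (hU : IsBlk H U) (hW : IsBlk H W) {x : α}
    (hxU : x ∈ U) (hxW : x ∈ W) : U = W := by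
  have key : ∀ {U W : Finset α}, IsBlk H U → IsBlk H W → x ∈ U → x ∈ W → W ⊆ U := by
    intro U W hU hW hxU hxW b hb
    by_cases hbx : b = x
    · exact hbx ▸ hxU
    obtain ⟨c, hc⟩ := Finset.card_pos.mp (show 0 < ((W.erase x).erase b).card by
      rw [Finset.card_erase_of_mem (Finset.mem_erase.mpr ⟨hbx, hb⟩), Finset.card_erase_of_mem hxW]
      have := hW.1; omega)
    simp only [Finset.mem_erase] at hc
    exact (hU.mem_of_cyc (Ne.symm hbx) (Ne.symm hc.1) (Ne.symm hc.2.1)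
      (hW.2.1 x hxW b hb c hc.2.2 (Ne.symm hbx) (Ne.symm hc.1) (Ne.symm hc.2.1)) hxU).1
  exact le_antisymm (key hW hU hxW hxU) (key hU hW hxU hxW)

/-- The alternating group on `U`, inside the symmetric group of `α`. -/
def altSub [Fintype α] (U : Finset α) : Subgroup (Perm α) :=
  (alternatingGroup {x // x ∈ U}).map
    (Perm.ofSubtype : Perm {x // x ∈ U} →* Perm α)

theorem altSub_le [Fintype α] {U : Finset α} (h : AltOn H U) : altSub U ≤ H := by
  rw [altSub, ← Perm.closure_three_cycles_eq_alternating, MonoidHom.map_closure,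
    Subgroup.closure_le]
  rintro _ ⟨g, hg, rfl⟩
  obtain ⟨a, b, c, hab, hbc, hac, rfl⟩ := exists_cyc_of_isThreeCycle hg
  rw [cyc, map_mul, Perm.ofSubtype_swap_eq, Perm.ofSubtype_swap_eq]
  exact h a a.2 b b.2 c c.2 (Subtype.coe_injective.ne hab) (Subtype.coe_injective.ne hbc)
    (Subtype.coe_injective.ne hac)

theorem cyc_mem_altSub [Fintype α] {U : Finset α} {a b c : α} (ha : a ∈ U) (hb : b ∈ U)
    (hc : c ∈ U) (hab : a ≠ b) (hbc : b ≠ c) : cyc a b c ∈ altSub U := by
  refine ⟨swap ⟨a, ha⟩ ⟨b, hb⟩ * swap ⟨b, hb⟩ ⟨c, hc⟩, ?_, ?_⟩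
  · rw [SetLike.mem_coe, Perm.mem_alternatingGroup, map_mul, Perm.sign_swap (by simpa using hab),
      Perm.sign_swap (by simpa using hbc)]
    simp
  · rw [map_mul, Perm.ofSubtype_swap_eq, Perm.ofSubtype_swap_eq, cyc]

theorem apply_of_mem_altSub [Fintype α] {U : Finset α} {g : Perm α} (hg : g ∈ altSub U) {x : α}
    (hx : x ∉ U) : g x = x := by
  obtain ⟨f, _, rfl⟩ := hg
  exact Perm.ofSubtype_apply_of_not_mem f hx

theorem altSub_inf_eq_bot [Fintype α] {U W : Finset α} (h : ∀ x ∈ U, x ∉ W) :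
    altSub U ⊓ altSub W = ⊥ := by
  rw [eq_bot_iff]
  rintro g ⟨hgU, hgW⟩
  rw [Subgroup.mem_bot]
  ext x
  by_cases hx : x ∈ U
  · exact apply_of_mem_altSub hgW (h x hx)
  · exact apply_of_mem_altSub hgU hx

/-- The three-cycle subgroup of `H`. -/
def threeCycleSub (H : Subgroup (Perm α)) : Subgroup (Perm α) :=
  Subgroup.closure {g | ∃ a b c, a ≠ b ∧ b ≠ c ∧ a ≠ c ∧ g = cyc a b c ∧ g ∈ H}

theorem threeCycleSub_le : threeCycleSub H ≤ H :=
  (Subgroup.closure_le _).mpr fun g ⟨_, _, _, _, _, _, _, hg⟩ => hg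

theorem le_normalizer_threeCycleSub [Fintype α] :
    H ≤ Subgroup.normalizer ((threeCycleSub H : Subgroup (Perm α)) : Set (Perm α)) := by
  intro h hh
  refine mem_normalizer_of_conj_mem fun g hg => ?_
  induction hg using Subgroup.closure_induction with
  | mem g hg =>
    obtain ⟨a, b, c, hab, hbc, hac, rfl, hgH⟩ := hg
    exact Subgroup.subset_closure ⟨h a, h b, h c, h.injective.ne hab, h.injective.ne hbc,
      h.injective.ne hac, conj_cyc h a b c, H.mul_mem (H.mul_mem hh hgH) (H.inv_mem hh)⟩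
  | one => simp
  | mul x y _ _ hx hy =>
    have : h * (x * y) * h⁻¹ = (h * x * h⁻¹) * (h * y * h⁻¹) := by group
    rw [this]; exact Subgroup.mul_mem _ hx hy
  | inv x _ hx =>
    have : h * x⁻¹ * h⁻¹ = (h * x * h⁻¹)⁻¹ := by group
    rw [this]; exact Subgroup.inv_mem _ hx

theorem IsBlk.threeCycleSub_le_normalizer [Fintype α] {U : Finset α} (hU : IsBlk H U) :
    threeCycleSub H ≤ Subgroup.normalizer ((altSub U : Subgroup (Perm α)) : Set (Perm α)) := by
  refine (Subgroup.closure_le _).mpr ?_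
  rintro _ ⟨a, b, c, hab, hbc, hac, rfl, hg⟩
  rcases hU.dichotomy hab hbc hac hg with ⟨ha, hb, hc⟩ | ⟨ha, hb, hc⟩
  · exact Subgroup.le_normalizer (cyc_mem_altSub ha hb hc hab hbc)
  · refine mem_normalizer_of_conj_mem fun f hf => ?_
    have hd : Perm.Disjoint (cyc a b c) f := fun x => by
      by_cases hx : x ∈ U
      · exact Or.inl (cyc_apply_other (fun e => ha (e ▸ hx)) (fun e => hb (e ▸ hx))
          (fun e => hc (e ▸ hx)))
      · exact Or.inr (apply_of_mem_altSub hf hx)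
    rw [hd.commute.eq, mul_inv_cancel_right]
    exact hf

end Cfsg.Agent.H61
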