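import Cfsg.Agent.H61.TwoCleanBasic
import Cfsg.Agent.Thompson.PStable

/-!
An unstable quadratic element gives a `q`-subgroup, normalised by a given abelian `q`-group, with a
`2`-element acting non-trivially on it.
-/

set_option autoImplicit false
set_option linter.unusedSectionVars false

namespace Cfsg.Agent.H61

open Subgroup Thompson
open H48 (cj IsSylowIn)
open scoped commutatorElement Matrix IsMulCommutative

universe u

section Algebra

variable {H R : Type*} [Group H] [Finite H] [Ring R]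

/-- In the algebra spanned by two quadratic elements every image of an involution commutes with both. -/
theorem quadPair_involution_commute (ρ : H →* R) (a b : H) (h2 : ∀ x : R, x + x = 0 → x = 0)
    (ha : (ρ a - 1) * (ρ a - 1) = 0) (hb : (ρ b - 1) * (ρ b - 1) = 0) {s : H}
    (hs : s ∈ closure ({a, b} : Set H)) (hss : ρ s * ρ s = 1) : Commute (ρ s) (ρ a) := by
  obtain ⟨α, hα⟩ : ∃ x, x = ρ a - 1 := ⟨_, rfl⟩
  obtain ⟨β, hβ⟩ : ∃ x, x = ρ b - 1 := ⟨_, rfl⟩
  rw [← hα] at ha
  rw [← hβ] at hb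
  obtain ⟨c, hc⟩ : ∃ x, x = α * β + β * α := ⟨_, rfl⟩
  have hXa : ρ a = 1 + α := by rw [hα]; abel
  have hXb : ρ b = 1 + β := by rw [hβ]; abel
  have hXa' : ρ a⁻¹ = 1 - α := by
    have h1 : ρ a * (1 - α) = 1 := by rw [hXa, add_mul, one_mul, mul_sub, mul_one, ha]; abel
    calc ρ a⁻¹ = ρ a⁻¹ * (ρ a * (1 - α)) := by rw [h1, mul_one]
      _ = 1 - α := by rw [← mul_assoc, ← map_mul, inv_mul_cancel, map_one, one_mul]
  have hXb' : ρ b⁻¹ = 1 - β := by
    have h1 : ρ b * (1 - β) = 1 := by rw [hXb, add_mul, one_mul, mul_sub, mul_one, hb]; abel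
    calc ρ b⁻¹ = ρ b⁻¹ * (ρ b * (1 - β)) := by rw [h1, mul_one]
      _ = 1 - β := by rw [← mul_assoc, ← map_mul, inv_mul_cancel, map_one, one_mul]
  have hcα : Commute c α := by
    show c * α = α * c
    rw [hc]
    rw [add_mul, mul_add, mul_assoc β, ha, mul_zero, add_zero, ← mul_assoc α α, ha, zero_mul, zero_add,
      mul_assoc]
  have hcβ : Commute c β := by
    show c * β = β * c
    rw [hc]
    rw [add_mul, mul_add, mul_assoc α, hb, mul_zero, zero_add, ← mul_assoc β β, hb, zero_mul, add_zero,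
      mul_assoc]
  have mvA : ∀ e, Commute e α → ∀ x, α * (e * x) = e * (α * x) := fun e he x => by
    rw [← mul_assoc, ← he.eq, mul_assoc]
  have mvB : ∀ e, Commute e β → ∀ x, β * (e * x) = e * (β * x) := fun e he x => by
    rw [← mul_assoc, ← he.eq, mul_assoc]
  let Cm : R → Prop := fun e => Commute e α ∧ Commute e β
  let Rel : H → Prop := fun h => ∃ e0 e1 e2 e3, Cm e0 ∧ Cm e1 ∧ Cm e2 ∧ Cm e3 ∧
    ρ h = e0 + e1 * α + e2 * β + e3 * (α * β) ∧ ρ h⁻¹ = e0 - e1 * α - e2 * β + e3 * (β * α)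
  have hba : β * α = c - α * β := by rw [hc]; abel
  have hab : α * β = c - β * α := by rw [hc]; abel
  have haba : α * (β * α) = c * α := by
    rw [hba, mul_sub, ← mul_assoc α α, ha, zero_mul, sub_zero, hcα.eq]
  have stepA : ∀ h, Rel h → Rel (h * a) := by
    rintro h ⟨e0, e1, e2, e3, c0, c1, c2, c3, eq1, eq2⟩
    refine ⟨e0 + e2 * c, e1 + e0 + e3 * c, e2, e3 - e2,
      ⟨c0.1.add_left (c2.1.mul_left hcα), c0.2.add_left (c2.2.mul_left hcβ)⟩,
      ⟨(c1.1.add_left c0.1).add_left (c3.1.mul_left hcα), (c1.2.add_left c0.2).add_left (c3.2.mul_left hcβ)⟩,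
      c2, ⟨c3.1.sub_left c2.1, c3.2.sub_left c2.2⟩, ?_, ?_⟩
    · rw [map_mul, eq1, hXa, mul_add, mul_one, add_mul, add_mul, add_mul, mul_assoc e1, ha, mul_zero,
        mul_assoc e2 β α, hba, mul_assoc e3 (α * β) α, mul_assoc α β α, haba]
      noncomm_ring
    · rw [mul_inv_rev, map_mul, eq2, hXa', sub_mul, one_mul, mul_add α, mul_sub α, mul_sub α,
        mvA e1 c1.1, mvA e2 c2.1, mvA e3 c3.1, ← c0.1.eq, ha, mul_zero, haba, hab]
      noncomm_ring
  have stepB : ∀ h, Rel h → Rel (h * b) := by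
    rintro h ⟨e0, e1, e2, e3, c0, c1, c2, c3, eq1, eq2⟩
    refine ⟨e0, e1, e2 + e0, e3 + e1, c0, c1, ⟨c2.1.add_left c0.1, c2.2.add_left c0.2⟩,
      ⟨c3.1.add_left c1.1, c3.2.add_left c1.2⟩, ?_, ?_⟩
    · rw [map_mul, eq1, hXb, mul_add, mul_one, add_mul, add_mul, add_mul, mul_assoc e1, mul_assoc e2, hb,
        mul_zero, mul_assoc e3 (α * β) β, mul_assoc α β β, hb, mul_zero, mul_zero]
      noncomm_ring
    · rw [mul_inv_rev, map_mul, eq2, hXb', sub_mul, one_mul, mul_add β, mul_sub β, mul_sub β,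
        mvB e1 c1.2, mvB e2 c2.2, mvB e3 c3.2, ← c0.2.eq, ← mul_assoc β β α, hb, zero_mul, mul_zero,
        mul_zero]
      noncomm_ring
  have hall : ∀ x ∈ closure ({a, b} : Set H), ∀ h, Rel h → Rel (h * x) := by
    intro x hx
    have hx' : x ∈ Submonoid.closure ({a, b} : Set H) := by
      rw [← Subgroup.closure_toSubmonoid_of_finite]
      exact hx
    induction hx' using Submonoid.closure_induction with
    | mem y hy =>
      rcases hy with rfl | rfl
      · exact stepA
      · exact stepB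
    | one => intro h hh; rwa [mul_one]
    | mul y z hy hz ihy ihz =>
      intro h hh
      have hy' : y ∈ closure ({a, b} : Set H) := by
        rw [← SetLike.mem_coe, ← Subgroup.coe_toSubmonoid, Subgroup.closure_toSubmonoid_of_finite]
        exact hy
      have hz' : z ∈ closure ({a, b} : Set H) := by
        rw [← SetLike.mem_coe, ← Subgroup.coe_toSubmonoid, Subgroup.closure_toSubmonoid_of_finite]
        exact hz
      rw [← mul_assoc]
      exact ihz hz' _ (ihy hy' h hh)
  have hone : Rel 1 := ⟨1, 0, 0, 0, ⟨Commute.one_left _, Commute.one_left _⟩,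
    ⟨Commute.zero_left _, Commute.zero_left _⟩, ⟨Commute.zero_left _, Commute.zero_left _⟩,
    ⟨Commute.zero_left _, Commute.zero_left _⟩, by simp, by simp⟩
  have hrel := hall s hs 1 hone
  rw [one_mul] at hrel
  obtain ⟨e0, e1, e2, e3, c0, c1, c2, c3, eq1, eq2⟩ := hrel
  have hinv : ρ s⁻¹ = ρ s := by
    calc ρ s⁻¹ = ρ s⁻¹ * (ρ s * ρ s) := by rw [hss, mul_one]
      _ = ρ s := by rw [← mul_assoc, ← map_mul, inv_mul_cancel, map_one, one_mul]
  rw [hinv] at eq2
  have hsum : ρ s + ρ s = e0 + e0 + e3 * c := by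
    nth_rw 1 [eq1]
    rw [eq2, hc]
    noncomm_ring
  have hc2 : Commute (ρ s + ρ s) α := hsum ▸ (c0.1.add_left c0.1).add_left (c3.1.mul_left hcα)
  have hd : ρ s * α - α * ρ s = 0 := h2 _ (by
    have := hc2.eq
    rw [add_mul, mul_add, ← sub_eq_zero] at this
    rw [← this]
    abel)
  have hcomm : Commute (ρ s) α := sub_eq_zero.mp hd
  rw [hXa]
  exact (Commute.one_right _).add_right hcomm

end Algebra

/-- The conclusion: a non-normal `q`-subgroup normalised by `A` on which some `2`-element of its normalizer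
acts non-trivially. -/
def BadPair (q : ℕ) {G : Type u} [Group G] (A : Subgroup G) : Prop :=
  ∃ U : Subgroup G, IsPGroup q U ∧ ¬ U.Normal ∧ A ≤ normalizer (U : Set G) ∧
    ∃ t : G, IsTwoEl t ∧ t ∈ normalizer (U : Set G) ∧ t ∉ centralizer (U : Set G)

variable {q : ℕ}

theorem badPair_elementary {G : Type u} [Group G] [Finite G] [Fact q.Prime] (hq : q ≠ 2) (V : Subgroup G)
    [V.Normal] (hVc : IsMulCommutative V) (hVp : ∀ v ∈ V, v ^ q = 1) {A : Subgroup G} (hA : IsPGroup q A)
    (hAc : IsMulCommutative A) {a : G} (haA : a ∈ A) (hqd : ⁅⁅V, zpowers a⁆, zpowers a⁆ = ⊥)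
    (hna : a ∉ stabPre q V) : BadPair q A := by
  have hqo : Odd q := (Fact.out : q.Prime).odd_of_ne_two hq
  have hN : ∀ g : G, g ∈ normalizer (V : Set G) := fun g => (normalizer_eq_top (H := V)).ge (mem_top g)
  set C := centralizer (V : Set G) with hC
  set π := QuotientGroup.mk' C with hπ
  by_cases hall : ∀ g : G, IsPGroup q (closure ({π a, π g * π a * (π g)⁻¹} : Set (G ⧸ C)))
  · refine absurd ?_ hna
    obtain ⟨N, hN1, hN2, haN⟩ := baer_suzuki (x := π a) (p := q) (fun y => by
      obtain ⟨g, rfl⟩ := QuotientGroup.mk'_surjective _ y; exact hall g)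
    exact Cores.le_pCore (hN := hN1) hN2 haN
  push Not at hall
  obtain ⟨g, hg⟩ := hall
  set b := g * a * g⁻¹ with hbdef
  have hqb : ⁅⁅V, zpowers b⁆, zpowers b⁆ = ⊥ := by
    have h := congrArg (Subgroup.map (MulAut.conj g).toMonoidHom) hqd
    rw [map_commutator, map_commutator, MonoidHom.map_zpowers, map_conj_of_mem_normalizer (hN g),
      Subgroup.map_bot] at h
    exact h
  obtain ⟨M, φ, f, hMle, hφ, hf, hfV, hconj⟩ := exists_natural_section hq hVc hVp (hN a) (hN _) hqd hqb (by
    intro h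
    apply hg
    rintro ⟨y, hy⟩
    have hy' : y ∈ (closure ({a, g * a * g⁻¹} : Set G)).map π := by
      rw [MonoidHom.map_closure, Set.image_pair, map_mul, map_mul, map_inv]
      exact hy
    obtain ⟨z, hz, rfl⟩ := hy'
    obtain ⟨n, hn⟩ := h z hz
    exact ⟨n, Subtype.ext ((map_pow π z _).symm.trans ((QuotientGroup.eq_one_iff _).mpr hn))⟩)
  -- a `2`-element of `⟨a, b⟩` inverting a subgroup of `V`
  obtain ⟨m0, hm0⟩ := hφ (-1)
  obtain ⟨b0, hb0, hb02⟩ := exists_odd_pow_isTwoEl (m0 : G)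
  set t : G := (m0 : G) ^ b0 with ht
  have htC : t ∉ C := by
    intro h
    let v : Fin 2 → ZMod q := ![1, 0]
    have h1 := hconj (m0 ^ b0) v
    have h2 : φ (m0 ^ b0) = -1 := by rw [map_pow, hm0, hb0.neg_one_pow]
    rw [h2] at h1
    have h3 : t * f (Multiplicative.ofAdd v) * t⁻¹ = f (Multiplicative.ofAdd v) := by
      rw [← mem_centralizer_iff.mp h _ (hfV ⟨_, rfl⟩), mul_inv_cancel_right]
    have h4 := congrArg Multiplicative.toAdd (hf (h3.symm.trans h1))
    simp only [toAdd_ofAdd, Matrix.SpecialLinearGroup.coe_neg, Matrix.SpecialLinearGroup.coe_one,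
      Matrix.neg_mulVec, Matrix.one_mulVec] at h4
    have h5 : (1 : ZMod q) = -1 := by simpa [v] using congrFun h4 0
    have h6 : ((2 : ℕ) : ZMod q) = 0 := by push_cast; linear_combination h5
    rw [ZMod.natCast_eq_zero_iff] at h6 <;> try exact h6
    exact hq ((Nat.prime_dvd_prime_iff_eq Fact.out Nat.prime_two).mp h6)
  have hex : ∃ j : ℕ, t ^ 2 ^ j ∈ C := by
    obtain ⟨k, hk⟩ := hb02
    exact ⟨k, by rw [hk]; exact one_mem _⟩
  classical
  set j := Nat.find hex with hj
  have hj0 : j ≠ 0 := fun h => htC (by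
    have := Nat.find_spec hex
    rwa [← hj, h, pow_zero, pow_one] at this)
  set s : G := t ^ 2 ^ (j - 1) with hs
  have hsC : s ∉ C := Nat.find_min hex (by omega)
  have hssC : s * s ∈ C := by
    rw [hs, ← pow_add, ← two_mul, ← pow_succ', show j - 1 + 1 = j by omega]
    exact Nat.find_spec hex
  have hs2 : IsTwoEl s := hb02.pow _
  have hsH : s ∈ closure ({a, b} : Set G) := pow_mem (pow_mem (hMle m0.2) _) _
  -- it commutes with `a` modulo `C`
  have := hVc
  set H := closure ({a, b} : Set G) with hH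
  have hHV : H ≤ normalizer (V : Set G) := fun x _ => hN x
  let a' : H := ⟨a, subset_closure (Set.mem_insert _ _)⟩
  let b' : H := ⟨b, subset_closure (Set.mem_insert_of_mem _ rfl)⟩
  have htop : Subgroup.closure ({a', b'} : Set H) = ⊤ := by
    refine (Subgroup.map_injective H.subtype_injective) ?_
    rw [MonoidHom.map_closure, ← MonoidHom.range_eq_map, range_subtype]
    show _ = Subgroup.closure ({a, b} : Set G)
    congr 1
    simp [Set.image_pair, a', b']
  have hEnd2 : ∀ x : AddMonoid.End (Additive V), x + x = 0 → x = 0 := fun x hx => AddMonoidHom.ext fun v => by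
      have h1 : x v + x v = 0 := congrArg (fun F : AddMonoid.End (Additive V) => F v) hx
      have hp' : (Additive.toMul (x v) : V) ^ q = 1 := Subtype.ext (hVp _ (Additive.toMul (x v) : V).2)
      have h2' : (Additive.toMul (x v) : V) * (Additive.toMul (x v) : V) = 1 := congrArg Additive.toMul h1
      have h3 : (Additive.toMul (x v) : V) = 1 := eq_one_of_qEl_of_pow_two
        (w := (Additive.toMul (x v) : V)) (i := 1) (k := 1) hqo (by rwa [pow_one]) (by rwa [pow_one, pow_two])
      exact congrArg Additive.ofMul h3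
  have hcomm := quadPair_involution_commute (conjEnd hHV) a' b' hEnd2
    (conjEnd_quadratic hHV a' hqd) (conjEnd_quadratic hHV b' hqb)
    (htop ▸ mem_top (⟨s, hsH⟩ : H))
    (by rw [← map_mul, conjEnd_eq_one_iff]; exact hssC)
  have hsa : s * a * s⁻¹ * a⁻¹ ∈ C := by
    have h1 : conjEnd hHV (⟨s, hsH⟩ * a' * (⟨s, hsH⟩ : H)⁻¹ * a'⁻¹) = 1 := by
      rw [map_mul, map_mul, map_mul, hcomm.eq, mul_assoc (conjEnd hHV a'), ← map_mul _ (⟨s, hsH⟩ : H),
        mul_inv_cancel, map_one, mul_one, ← map_mul, mul_inv_cancel, map_one]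
    exact (conjEnd_eq_one_iff hHV _).mp h1
  -- the subgroup
  set Mu := C ⊔ zpowers a with hMu
  have hnormMu : ∀ x : G, x * a * x⁻¹ * a⁻¹ ∈ C → x ∈ normalizer (Mu : Set G) := by
    intro x hx
    refine H48.mem_normalizer_of_cj_eq (H48.cj_eq_self_of_le ?_)
    rw [hMu, cj, Subgroup.map_sup, sup_le_iff, MonoidHom.map_zpowers, zpowers_le]
    refine ⟨le_trans ?_ le_sup_left, ?_⟩
    · exact (map_conj_of_mem_normalizer ((normalizer_eq_top (H := C)).ge (mem_top x))).le
    · have := Subgroup.mul_mem _ (mem_sup_left (T := zpowers a) hx) (mem_sup_right (S := C) (mem_zpowers a))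
      simpa using this
  have hAN : A ≤ normalizer (Mu : Set G) := fun x hx => hnormMu x (by
    rw [(isMulCommutative_iff_forall.mp hAc) x hx a haA, mul_inv_cancel_right, mul_inv_cancel]
    exact one_mem _)
  have hsN : s ∈ normalizer (Mu : Set G) := hnormMu s hsa
  obtain ⟨SA, hSA, hASA⟩ := H48.exists_isSylowIn_ge hA hAN
  set U := SA ⊓ Mu with hU
  have hUp : IsPGroup q U := hSA.isPGroup.to_le inf_le_left
  obtain ⟨U0, hU0, -⟩ := H48.exists_isSylowIn_ge (H := Mu) (IsPGroup.of_bot (p := q) (G := G)) bot_le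
  have hUsyl : IsSylowIn q U Mu := by
    obtain ⟨x, hx, hxle⟩ := hSA.exists_cj_le hU0.isPGroup (hU0.le.trans le_normalizer)
    refine hU0.of_card inf_le_right hUp ((H48.card_cj x U0).symm.trans_le (Subgroup.card_le_of_le ?_))
    exact le_inf hxle ((H48.cj_mono hU0.le).trans (H48.cj_eq_of_mem_normalizer hx).le)
  have hVU : V ≤ U := by
    have hVp' : IsPGroup q V := fun v => ⟨1, Subtype.ext (by rw [pow_one]; exact hVp v v.2)⟩
    have hVM : V ≤ Mu := (show V ≤ C from V.le_centralizer).trans le_sup_left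
    have h := hUsyl.eq_of_le (hVp'.to_sup_of_normal_left hUp) (sup_le hVM hUsyl.le) le_sup_right
    exact h ▸ le_sup_left
  have haq : IsPGroup q (zpowers a) := hA.to_le (zpowers_le.mpr haA)
  refine ⟨U, hUp, fun hUn => hna ?_, fun x hx => ?_, ?_⟩
  · obtain ⟨x, -, hxle⟩ := hUsyl.exists_cj_le haq le_sup_right
    have haU : a ∈ U := by
      have h1 := hxle (H48.conj_mem_cj (mem_zpowers a))
      have := hUn.conj_mem _ h1 x⁻¹
      simpa [mul_assoc] using this
    have : (U.map π).Normal := hUn.map π (QuotientGroup.mk'_surjective _)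
    exact Cores.le_pCore (hUp.map π) ⟨a, haU, rfl⟩
  · have h1 := le_normalizer (hASA hx)
    have h2 := hAN hx
    rw [mem_normalizer_iff] at h1 h2 ⊢
    intro y
    exact and_congr (h1 y) (h2 y)
  obtain ⟨m, hm, hmn⟩ := exists_mul_mem_normalizer hUsyl hsN
  obtain ⟨b1, hb1, hb12⟩ := exists_odd_pow_isTwoEl (m * s)
  refine ⟨(m * s) ^ b1, hb12, pow_mem hmn b1, fun hcU => hsC ?_⟩
  have hcV : (m * s) ^ b1 ∈ C := centralizer_le hVU hcU
  have hMuπ : π m ∈ zpowers (π a) := by
    have h1 : π m ∈ Mu.map π := ⟨m, hm, rfl⟩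
    rw [hMu, Subgroup.map_sup, (Subgroup.map_eq_bot_iff C).mpr (le_of_eq (QuotientGroup.ker_mk' C).symm),
      bot_sup_eq, MonoidHom.map_zpowers] at h1
    exact h1
  have hsπ : Commute (π s) (π a) := by
    have h1 : π (s * a * s⁻¹ * a⁻¹) = 1 := (QuotientGroup.eq_one_iff _).mpr hsa
    rw [map_mul, map_mul, map_mul, map_inv, map_inv, mul_inv_eq_one, mul_inv_eq_iff_eq_mul] at h1
    exact h1
  obtain ⟨n, hn⟩ := hMuπ
  have hcm : Commute (π m) (π s) := by rw [← hn]; exact (hsπ.zpow_right n).symm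
  have h1 : (π m) ^ b1 * (π s) ^ b1 = 1 := by
    rw [← hcm.mul_pow, ← map_mul, ← map_pow]
    exact (QuotientGroup.eq_one_iff _).mpr hcV
  have hπs2 : π s * π s = 1 := by rw [← map_mul]; exact (QuotientGroup.eq_one_iff _).mpr hssC
  obtain ⟨l, hl⟩ := hb1
  have h2 : (π s) ^ b1 = π s := by rw [hl, pow_succ, pow_mul, pow_two, hπs2, one_pow, one_mul]
  rw [h2] at h1
  have h3 : π s ∈ zpowers (π a) := by
    rw [eq_inv_of_mul_eq_one_right h1]
    exact inv_mem (pow_mem (show π m ∈ zpowers (π a) from ⟨n, hn⟩) _)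
  obtain ⟨i, hi⟩ := exists_qPow (haq.map π) (show π s ∈ (zpowers a).map π by rwa [MonoidHom.map_zpowers])
  have h4 : π s = 1 := eq_one_of_qEl_of_pow_two (k := 1) hqo hi (by rw [pow_one, pow_two, hπs2])
  exact (QuotientGroup.eq_one_iff _).mp h4

theorem badPair_of_map {G : Type u} [Group G] [Finite G] [Fact q.Prime] (N : Subgroup G) [N.Normal]
    (hN : IsPGroup q N) {A : Subgroup G} (h : BadPair q (A.map (QuotientGroup.mk' N))) : BadPair q A := by
  obtain ⟨U, hU, hUn, hAU, t, ht, htN, htC⟩ := h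
  set π := QuotientGroup.mk' N with hπ
  have hsurj : Function.Surjective π := QuotientGroup.mk'_surjective N
  have hnorm : ∀ x, π x ∈ normalizer (U : Set (G ⧸ N)) → x ∈ normalizer ((U.comap π : Subgroup G) : Set G) := by
    intro x hx
    rw [← comap_normalizer_eq_of_surjective _ hsurj]
    exact hx
  obtain ⟨x, rfl⟩ := hsurj t
  obtain ⟨b, hb, hb2⟩ := exists_odd_pow_isTwoEl x
  refine ⟨U.comap π, hU.comap_of_ker_isPGroup _ (by rw [hπ, QuotientGroup.ker_mk']; exact hN), fun hn => hUn ?_,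
    fun a ha => hnorm a (hAU ⟨a, ha, rfl⟩), x ^ b, hb2, pow_mem (hnorm x htN) b, fun hc => htC ?_⟩
  · have := hn.map π hsurj
    rwa [map_comap_eq_self_of_surjective hsurj] at this
  · refine ht.mem_of_pow_mem hb (mem_centralizer_iff.mpr fun u hu => ?_)
    obtain ⟨v, rfl⟩ := hsurj u
    rw [← map_pow, ← map_mul, ← map_mul, mem_centralizer_iff.mp hc v hu]

theorem badPair_of_unstable (hq : q ≠ 2) [Fact q.Prime] :
    ∀ (n : ℕ) (G : Type u) [Group G] [Finite G], Nat.card G ≤ n → ∀ (B : Subgroup G) [B.Normal],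
      IsPGroup q B → ∀ A : Subgroup G, IsPGroup q A → IsMulCommutative A → ∀ a ∈ A,
      ⁅⁅B, zpowers a⁆, zpowers a⁆ = ⊥ → a ∉ stabPre q B → BadPair q A := by
  intro n
  induction n with
  | zero => intro G _ _ hc; exact absurd hc (Nat.not_le.mpr Nat.card_pos)
  | succ n ih =>
    intro G _ _ hcard B hBn hB A hA hAc a haA hqd hna
    by_contra hno
    apply hna
    show a ∈ stabPre q B
    by_cases hB0 : B = ⊥
    · refine centralizer_le_stabPre B ?_
      subst hB0
      exact mem_centralizer_iff.mpr fun v hv => by rw [mem_bot.mp hv, one_mul, mul_one]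
    set V := Thompson.omegaCenterOf q B
    have hVc : IsMulCommutative V := isMulCommutative_iff_forall.mpr fun x hx y hy =>
      (mem_centralizer_iff.mp hy.2.1 x hx.1)
    have hVB : V ≤ B := fun x hx => hx.1
    have hqV : ⁅⁅V, zpowers a⁆, zpowers a⁆ = ⊥ :=
      eq_bot_iff.mpr (le_trans (commutator_mono (commutator_mono hVB le_rfl) le_rfl) hqd.le)
    have h1 : a ∈ stabPre q V := by
      by_contra h
      exact hno (badPair_elementary hq V hVc (fun v hv => hv.2.2) hA hAc haA hqV h)
    set π := QuotientGroup.mk' V with hπ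
    have : (B.map π).Normal := hBn.map π (QuotientGroup.mk'_surjective _)
    have hcardlt : Nat.card (G ⧸ V) ≤ n := by
      have hV0 : V ≠ ⊥ := by
        have : Nontrivial B := B.nontrivial_iff_ne_bot.mpr hB0
        have hc : Nontrivial (Subgroup.center B) := hB.center_nontrivial
        obtain ⟨m, hm0, hm⟩ := (hB.to_subgroup (Subgroup.center B)).nontrivial_iff_card.mp hc
        obtain ⟨y, hy⟩ := exists_prime_orderOf_dvd_card' q (G := Subgroup.center B) (hm ▸ dvd_pow_self q hm0.ne')
        intro hV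
        have hyV : ((y : B) : G) ∈ V := ⟨(y : B).2, mem_centralizer_iff.mpr fun z hz =>
            congrArg Subtype.val (mem_center_iff.mp y.2 ⟨z, hz⟩), by
          rw [← SubgroupClass.coe_pow, ← SubgroupClass.coe_pow, ← hy, pow_orderOf_eq_one]; rfl⟩
        rw [hV, mem_bot] at hyV
        rw [show y = 1 from Subtype.ext (Subtype.ext hyV), orderOf_one] at hy
        exact (Fact.out : q.Prime).one_lt.ne hy
      have hindex := V.card_mul_index
      rw [index_eq_card] at hindex
      have hV1 : 2 ≤ Nat.card V := (V.one_lt_card_iff_ne_bot).mpr hV0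
      have hq0 : 0 < Nat.card (G ⧸ V) := Nat.card_pos
      nlinarith
    have h2 : π a ∈ stabPre q (B.map π) := by
      by_contra h
      refine hno (badPair_of_map V (hB.to_le hVB) (ih (G ⧸ V) hcardlt (B.map π) (hB.map π) (A.map π) (hA.map π)
        ?_ (π a) ⟨a, haA, rfl⟩ ?_ h))
      · refine isMulCommutative_iff_forall.mpr ?_
        rintro _ ⟨x, hx, rfl⟩ _ ⟨y, hy, rfl⟩
        rw [← map_mul, ← map_mul, isMulCommutative_iff_forall.mp hAc x hx y hy]
      · have := congrArg (Subgroup.map π) hqd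
        rw [map_commutator, map_commutator, MonoidHom.map_zpowers, Subgroup.map_bot] at this
        exact this
    set D := stabPre q V ⊓ (stabPre q (B.map π)).comap π with hD
    suffices hD' : D ≤ stabPre q B from hD' ⟨h1, h2⟩
    set σ := QuotientGroup.mk' (centralizer (B : Set G))
    have : (D.map σ).Normal := Normal.map inferInstance σ (QuotientGroup.mk'_surjective _)
    rw [stabPre, ← map_le_iff_le_comap]
    refine Cores.le_pCore ?_
    rintro ⟨_, d, hd, rfl⟩
    obtain ⟨i, hi⟩ := Cores.pCore_isPGroup (p := q) ⟨_, hd.1⟩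
    have hdi : d ^ q ^ i ∈ centralizer (V : Set G) :=
      (QuotientGroup.eq_one_iff _).mp (congrArg Subtype.val hi)
    obtain ⟨j, hj⟩ := Cores.pCore_isPGroup (p := q) ⟨_, hd.2⟩
    have hdj : π d ^ q ^ j ∈ centralizer ((B.map π : Subgroup (G ⧸ V)) : Set (G ⧸ V)) :=
      (QuotientGroup.eq_one_iff _).mp (congrArg Subtype.val hj)
    obtain ⟨k, hk⟩ := Cfsg.Agent.Fusion.exists_pow_coprime (p := q) (d ^ q ^ (i + j))
    set g := (d ^ q ^ (i + j)) ^ q ^ k with hg
    have hgV : g ∈ centralizer (V : Set G) := by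
      rw [hg, pow_add, pow_mul]; exact pow_mem (pow_mem hdi _) _
    have hgB : π g ∈ centralizer ((B.map π : Subgroup (G ⧸ V)) : Set (G ⧸ V)) := by
      rw [hg, map_pow, map_pow, pow_add, mul_comm, pow_mul]; exact pow_mem (pow_mem hdj _) _
    have hgc : g ∈ centralizer (B : Set G) := by
      refine mem_centralizer_iff.mpr fun b hb => ?_
      set c := b⁻¹ * (g * b * g⁻¹) with hc
      have hcV : c ∈ V := by
        refine (QuotientGroup.eq_one_iff (N := V) _).mp ?_
        show π c = 1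
        rw [hc, map_mul, map_inv, map_mul, map_mul, map_inv,
          ← mem_centralizer_iff.mp hgB _ ⟨b, hb, rfl⟩, mul_inv_cancel_right, inv_mul_cancel]
      have hgc : Commute g c := (mem_centralizer_iff.mp hgV c hcV).symm
      have hgb : g * b = b * (c * g) := by rw [hc]; group
      have hn : ∀ m : ℕ, g ^ m * b = b * (c ^ m * g ^ m) := by
        intro m
        induction m with
        | zero => simp
        | succ m ihm =>
          calc g ^ (m + 1) * b = g * (g ^ m * b) := by rw [pow_succ', mul_assoc]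
            _ = (g * b) * (c ^ m * g ^ m) := by rw [ihm, mul_assoc]
            _ = b * (c * ((g * c ^ m) * g ^ m)) := by rw [hgb]; simp only [mul_assoc]
            _ = _ := by
              rw [(hgc.pow_right m).eq, pow_succ' c, pow_succ' g]
              simp only [mul_assoc]
      have h := hn (orderOf g)
      rw [pow_orderOf_eq_one, one_mul, mul_one] at h
      have hc1 : c = 1 := orderOf_eq_one_iff.mp (Nat.eq_one_of_dvd_coprimes hk
        (orderOf_dvd_of_pow_eq_one (left_eq_mul.mp h)) (orderOf_dvd_of_pow_eq_one hcV.2.2))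
      rw [hgb, hc1, one_mul]
    refine ⟨i + j + k, Subtype.ext ?_⟩
    show σ d ^ q ^ (i + j + k) = 1
    rw [← map_pow, pow_add, pow_mul]
    exact (QuotientGroup.eq_one_iff _).mpr hgc

end Cfsg.Agent.H61
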