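import Cfsg.Agent.Thompson.ZJ

/-!
A form of Glauberman's ZJ-theorem which exhibits the unstable action when `Z(J(S))` is not normal.
-/

set_option autoImplicit false

namespace Cfsg.Agent.H61

open Subgroup Thompson
open scoped commutatorElement

variable {G : Type*} [Group G] [Finite G] {p : ℕ} [Fact p.Prime]

/-- Every member of `maxIn 0 S` acting quadratically on a normal `p`-subgroup `E` contained in the normal
closure of `Z(J(S))` acts as a `p`-element radical. -/
def StableRel (p : ℕ) (S : Subgroup G) : Prop :=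
  ∀ (E : Subgroup G) [E.Normal], IsPGroup p E → E ≤ normalClosure (zjay 0 S : Set G) →
    ∀ A ∈ maxIn 0 S, ⁅⁅E, A⁆, A⁆ = ⊥ → A ≤ stabPre p E

theorem zjay_normal_of_generated (hp : p ≠ 2) (S : Sylow p G) (hst : StableRel p (S : Subgroup G))
    (B W : Subgroup G) [B.Normal] (hB : IsPGroup p B)
    (hWB : W ≤ B) (hWZ : W ≤ zjay 0 (S : Subgroup G)) (hSW : (S : Subgroup G) ≤ normalizer (W : Set G))
    (hJW : normalizer (jay 0 (S : Subgroup G) : Set G) ≤ normalizer (W : Set G))
    (hgen : normalClosure (W : Set G) = B) (hclass : ⁅⁅B, B⁆, B⁆ = ⊥)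
    (hBA : ∀ A ∈ maxIn 0 (S : Subgroup G), ⁅B, B⁆ ≤ A) : W.Normal := by
  have hWJ : W ≤ centralizer (jay 0 (S : Subgroup G) : Set G) := fun x hx => (hWZ hx).2
  set L := (normalizer (W : Set G)).normalCore with hL
  have hLW : L ≤ normalizer (W : Set G) := normalCore_le _
  have hCB : centralizer (B : Set G) ≤ L := by
    rw [hL, normal_le_normalCore]
    exact le_trans (centralizer_le hWB) (centralizer_le_normalizer _)
  have hBS : B ≤ (S : Subgroup G) := IsPGroup.le_sylow_of_normal hB S
  have hBL : B ≤ L := normal_le_normalCore.mpr (hBS.trans hSW)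
  set Q := (S : Subgroup G) ⊓ L with hQ
  have hfr := frattini_inf S L
  rw [← hQ] at hfr
  by_cases hall : ∀ A ∈ maxIn 0 (S : Subgroup G), A ≤ L
  · have hJ : jay 0 (S : Subgroup G) ≤ Q := le_inf jay_le (sSup_le hall)
    have hNQ : normalizer (Q : Set G) ≤ normalizer (W : Set G) := by
      refine le_trans ?_ hJW
      rw [← jay_eq_of_le hJ inf_le_left]
      exact normalizer_le_normalizer_jay 0 Q
    exact normalizer_eq_top_iff.mp (top_le_iff.mp (hfr ▸ sup_le hNQ hLW))
  exfalso
  push Not at hall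
  obtain ⟨A, ⟨hA, hAL⟩, hmax⟩ := Set.exists_max_image {A | A ∈ maxIn 0 (S : Subgroup G) ∧ ¬ A ≤ L}
    (fun A => Nat.card ↥(A ⊓ B)) (Set.toFinite _) hall
  have hBA' : B ≤ normalizer (A : Set G) := by
    by_contra hBn
    obtain ⟨A', hA'S, hA'e, hA'c, hlt, hA'N, -⟩ := replacement (.inl hp) (.inl rfl) S.isPGroup' hBS
      (le_top.trans (normalizer_eq_top (H := B)).ge) hA.1 hA.2.1 hclass (hBA A hA) hBn
    have hA'm : A' ∈ maxIn 0 (S : Subgroup G) := mem_maxIn_of_card_eq hA hA'S hA'e hA'c
    have hA'L : A' ≤ L := by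
      by_contra h
      have hlt' := lt_of_le_of_ne (Subgroup.card_le_of_le hlt.le)
        fun hc => hlt.ne (Subgroup.eq_of_le_of_card_ge hlt.le hc.ge)
      exact absurd (hmax A' ⟨hA'm, h⟩) (not_le.mpr hlt')
    have hA'Q : A' ≤ Q := le_inf hA'S hA'L
    have hBC : B ≤ centralizer (jay 0 Q : Set G) := by
      have hWQ : W ≤ centralizer (jay 0 Q : Set G) :=
        hWJ.trans (centralizer_le (jay_le_jay_of_mem hA'm hA'Q inf_le_left))
      rw [← hgen]
      refine (closure_le _).mpr fun x hx => ?_
      obtain ⟨w, hw, hc⟩ := Group.mem_conjugatesOfSet_iff.mp hx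
      obtain ⟨g, rfl⟩ := isConj_iff.mp hc
      have hgtop : g ∈ ((normalizer (Q : Set G) ⊔ L : Subgroup G) : Set G) := by rw [hfr]; exact mem_top g
      rw [Subgroup.mul_normal] at hgtop
      obtain ⟨n, hn, l, hl, rfl⟩ := hgtop
      have hwl : l * w * l⁻¹ ∈ W := (Subgroup.mem_normalizer_iff.mp (hLW hl) w).mp hw
      have hnJ := normalizer_le_normalizer_jay 0 Q hn
      rw [SetLike.mem_coe, mem_centralizer_iff]
      intro z hz
      have hz' : n⁻¹ * z * n ∈ jay 0 Q := by
        have := (Subgroup.mem_normalizer_iff.mp (inv_mem hnJ) z).mp hz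
        simpa using this
      have h := mem_centralizer_iff.mp (hWQ hwl) _ hz'
      have h' := congrArg (fun y => n * y * n⁻¹) h
      simpa [mul_assoc] using h'
    refine hBn fun x hx => hA'N ?_
    exact mem_of_mem_centralizer hA'm (hBS hx) (centralizer_le (le_jay
      (show A' ∈ maxIn 0 Q from (maxIn_eq_of_mem hA'm hA'Q inf_le_left).symm ▸ ⟨hA'm, hA'Q⟩)) (hBC hx))
      (pow_zero _)
  have hquad : ⁅⁅B, A⁆, A⁆ = ⊥ := by
    refine eq_bot_iff.mpr (le_trans (commutator_mono (K₁ := A) ?_ (le_refl A)) (commutator_eq_bot_iff_le_centralizer.mpr ?_).le)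
    · exact commutator_le.mpr fun x hx a ha => by
        rw [commutatorElement_def]
        exact mul_mem ((Subgroup.mem_normalizer_iff.mp (hBA' hx) a).mp ha) (A.inv_mem ha)
    · have := hA.2.1.1
      exact le_centralizer A
  have h1 : A ≤ stabPre p B := hst B hB (hgen ▸ normalClosure_mono hWZ) A hA hquad
  have h3 : stabPre p B ≤ L := normal_le_normalCore.mpr
    ((stabPre_le S B).trans (sup_le (hCB.trans hLW) hSW))
  exact hAL (h1.trans h3)

theorem zjay_inf_normal (hp : p ≠ 2) (S : Sylow p G) (hst : StableRel p (S : Subgroup G))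
    (B : Subgroup G) [hBn : B.Normal] (hB : IsPGroup p B) : (zjay 0 (S : Subgroup G) ⊓ B).Normal := by
  induction hc : Nat.card B using Nat.strong_induction_on generalizing B hBn with
  | _ m ih =>
  subst hc
  set Z := zjay 0 (S : Subgroup G) with hZdef
  have hSZ : (S : Subgroup G) ≤ normalizer (Z : Set G) := le_normalizer_zjay _ _
  have hJZ : normalizer (jay 0 (S : Subgroup G) : Set G) ≤ normalizer (Z : Set G) :=
    normalizer_jay_le_normalizer_zjay _ _
  set W := Z ⊓ B with hW
  by_cases hgen : normalClosure (W : Set G) = B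
  swap
  · have hle : normalClosure (W : Set G) ≤ B := normalClosure_le_normal inf_le_right
    have hlt := lt_of_le_of_ne (Subgroup.card_le_of_le hle)
      fun hc => hgen (Subgroup.eq_of_le_of_card_ge hle hc.ge)
    have hn := ih _ hlt (normalClosure (W : Set G)) (hB.to_le hle) rfl
    rwa [show Z ⊓ normalClosure (W : Set G) = W from
      le_antisymm (inf_le_inf_left _ hle) (le_inf inf_le_left le_normalClosure)] at hn
  have hBS : B ≤ (S : Subgroup G) := IsPGroup.le_sylow_of_normal hB S
  by_cases hB0 : B = ⊥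
  · rw [hW, hB0, inf_bot_eq]; infer_instance
  have hlt : Nat.card ↥⁅B, B⁆ < Nat.card B := by
    have : Nontrivial B := B.nontrivial_iff_ne_bot.mpr hB0
    have : Group.IsNilpotent B := hB.isNilpotent
    rw [← Subgroup.map_subtype_commutator B, card_map_of_injective B.subtype_injective]
    have hlt' := Group.IsSolvable.commutator_lt_top_of_nontrivial B
    rw [lt_top_iff_ne_top] at hlt'
    exact lt_of_le_of_ne (card_le_card_group _) fun hc => hlt' (eq_top_of_card_eq _ hc)
  have hM : (Z ⊓ ⁅B, B⁆).Normal := ih _ hlt ⁅B, B⁆ (hB.to_le (commutator_le_self B)) rfl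
  have hBB : ⁅B, B⁆ ≤ Z ⊓ ⁅B, B⁆ := by
    set M := Z ⊓ ⁅B, B⁆
    set π := QuotientGroup.mk' M
    have : (B.map π).Normal := hBn.map π (QuotientGroup.mk'_surjective _)
    have hle : B ≤ (centralizer ((B.map π : Subgroup (G ⧸ M)) : Set (G ⧸ M))).comap π := by
      conv_lhs => rw [← hgen]
      refine normalClosure_le_normal fun w hw => mem_centralizer_iff.mpr ?_
      rintro _ ⟨x, hx, rfl⟩
      refine (commutatorElement_eq_one_iff_mul_comm.mp ?_).symm
      rw [← map_commutatorElement]
      refine (QuotientGroup.eq_one_iff _).mpr ⟨?_, commutator_mem_commutator hw.2 hx⟩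
      rw [commutatorElement_def, mul_assoc w, mul_assoc w]
      exact mul_mem hw.1 ((Subgroup.mem_normalizer_iff.mp (hSZ (hBS hx)) _).mp (Z.inv_mem hw.1))
    refine commutator_le.mpr fun x hx y hy => ?_
    refine (QuotientGroup.eq_one_iff (N := M) _).mp ?_
    show π _ = 1
    rw [map_commutatorElement, commutatorElement_eq_one_iff_mul_comm]
    exact (mem_centralizer_iff.mp (hle hx) _ ⟨y, hy, rfl⟩).symm
  have hBZ : ⁅B, B⁆ ≤ Z := hBB.trans inf_le_left
  have hclass : ⁅⁅B, B⁆, B⁆ = ⊥ := by
    rw [commutator_eq_bot_iff_le_centralizer, le_centralizer_iff]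
    conv_lhs => rw [← hgen]
    refine normalClosure_le_normal fun w hw => mem_centralizer_iff.mpr fun x hx => ?_
    exact zjay_comm (hBZ hx) hw.1
  refine zjay_normal_of_generated hp S hst B W hB inf_le_right inf_le_left ?_ ?_ hgen hclass
    fun A hA => hBZ.trans (zjay_zero_le hA)
  · exact fun g hg => mem_normalizer_of_map_conj (by
      rw [hW, map_inf _ _ _ (MulAut.conj g).injective, map_conj_of_mem_normalizer (hSZ hg),
        map_conj_of_mem_normalizer ((normalizer_eq_top (H := B)).ge (mem_top g))])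
  · exact fun g hg => mem_normalizer_of_map_conj (by
      rw [hW, map_inf _ _ _ (MulAut.conj g).injective, map_conj_of_mem_normalizer (hJZ hg),
        map_conj_of_mem_normalizer ((normalizer_eq_top (H := B)).ge (mem_top g))])

end Cfsg.Agent.H61
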