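import Cfsg.Agent.H61.TwoCleanBasic
import Cfsg.Agent.H61.TwoCleanUnstable
import Cfsg.Agent.H61.TwoCleanZJ
import Cfsg.Agent.Cores.Constrained

/-!
For an odd prime `q`, if the `2`-elements of `N(Z(J(T)))` (`T` a Sylow `q`-subgroup) centralise the
`q`-subgroups they normalise, then so do those of `G`.
-/

set_option autoImplicit false
set_option linter.unusedSectionVars false

namespace Cfsg.Agent.H61

open Subgroup Thompson
open H48 (cj IsSylowIn)
open scoped commutatorElement Pointwise

universe u

variable {q : ℕ}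

section Constrained

variable {G : Type u} [Group G] [Finite G] [Fact q.Prime]

theorem centralizer_pCore_le_of_sylow (T : Sylow q G) (hO : Cfsg.pPrimeCore q G = ⊥)
    (hT : (T : Subgroup G) ⊓ centralizer (Cfsg.pCore q G : Set G) ≤ Cfsg.pCore q G) :
    centralizer (Cfsg.pCore q G : Set G) ≤ Cfsg.pCore q G := by
  set R := Cfsg.pCore q G with hR
  set K := centralizer (R : Set G) with hK
  obtain ⟨Q, hQ⟩ := exists_sylow_inf_normal T K
  have hQc : ∀ x ∈ (Q : Subgroup K), ∀ y : K, x * y = y * x := fun x hx y => Subtype.ext (by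
    have hxR : (x : G) ∈ R := hT (hQ.le ⟨x, hx, rfl⟩)
    exact mem_centralizer_iff.mp y.2 x hxR)
  have hP : normalizer ((Q : Subgroup K) : Set K) ≤ centralizer ((Q : Subgroup K) : Set K) :=
    fun g _ => mem_centralizer_iff.mpr fun x hx => hQc x hx g
  set N := (MonoidHom.transferSylow Q hP).ker
  have hNQ := MonoidHom.ker_transferSylow_isComplement' Q hP
  have hcop : (Nat.card N).Coprime q :=
    Nat.Coprime.symm ((Nat.Prime.coprime_iff_not_dvd Fact.out).mpr (MonoidHom.not_dvd_card_ker_transferSylow Q hP))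
  have hsub : (N.map K.subtype).IsSubnormal := by
    refine Subgroup.IsSubnormal.step _ K (map_subtype_le N) (Subgroup.Normal.isSubnormal inferInstance) ?_
    rw [subgroupOf, comap_map_eq_self_of_injective K.subtype_injective]
    infer_instance
  have hN1 : N = ⊥ := by
    have := Cores.le_pPrimeCore_of_isSubnormal (p := q) hsub
      (by rwa [card_map_of_injective K.subtype_injective])
    rw [hO, le_bot_iff, Subgroup.map_eq_bot_iff_of_injective _ K.subtype_injective] at this
    exact this
  intro x hx
  have h1 : ((N : Set K) * ((Q : Subgroup K) : Set K)) = Set.univ := hNQ.mul_eq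
  obtain ⟨n, hn, y, hy, he⟩ : (⟨x, hx⟩ : K) ∈ (N : Set K) * ((Q : Subgroup K) : Set K) := h1 ▸ Set.mem_univ _
  rw [SetLike.mem_coe, hN1, mem_bot] at hn
  have he' : y = (⟨x, hx⟩ : K) := by rw [← he, hn]; exact (one_mul y).symm
  exact hT (hQ.le ⟨_, he' ▸ hy, rfl⟩)

end Constrained

section Descend

variable {G : Type u} [Group G] [Finite G] [Fact q.Prime]

theorem cleanOn_of_full (hq : Odd q) (T : Sylow q G)
    (hN : CleanOn q (normalizer (zjay 0 (T : Subgroup G) : Set G)))
    (hIH : ∀ H : Subgroup G, H ≠ ⊤ → ∀ S, IsSylowIn q S H →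
      CleanOn q (H ⊓ normalizer (zjay 0 S : Set G)) → CleanOn q H)
    {H : Subgroup G} (hH : H ≠ ⊤) {S : Subgroup G} (hS : IsSylowIn q S H)
    (hc : Nat.card T ≤ Nat.card S) : CleanOn q H := by
  obtain ⟨x, -, hx⟩ := (H48.isSylowIn_sylow T).exists_cj_le hS.isPGroup le_top
  have he : cj x S = T := H48.eq_of_le_of_card_le hx (by rw [H48.card_cj]; exact hc)
  have hS' : S = cj x⁻¹ (T : Subgroup G) := by rw [← he, H48.cj_inv_cj]
  refine hIH H hH S hS (CleanOn.mono (K := cj x⁻¹ (normalizer (zjay 0 (T : Subgroup G) : Set G))) (hN.cj hq _) ?_)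
  rw [H48.cj_normalizer, hS', cj, cj, zjay_map _ (MulAut.conj x⁻¹).injective]
  exact inf_le_right

theorem cleanOn_normalizer (hq : Odd q) (T : Sylow q G)
    (hN : CleanOn q (normalizer (zjay 0 (T : Subgroup G) : Set G)))
    (hIH : ∀ H : Subgroup G, H ≠ ⊤ → ∀ S, IsSylowIn q S H →
      CleanOn q (H ⊓ normalizer (zjay 0 S : Set G)) → CleanOn q H)
    (Φ : Subgroup G → Prop) (hup : ∀ S S', S ≤ S' → Φ S → Φ S')
    (hnn : ∀ S : Subgroup G, IsPGroup q S → Φ S → ¬ (zjay 0 S).Normal) :
    ∀ (d : ℕ) (U S : Subgroup G), Nat.card T - Nat.card S = d → ¬ U.Normal →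
      IsSylowIn q S (normalizer (U : Set G)) → Φ S → CleanOn q (normalizer (U : Set G)) := by
  intro d
  induction d using Nat.strong_induction_on with
  | _ d ih =>
    intro U S hd hU hS hΦ
    have hne : normalizer (U : Set G) ≠ ⊤ := fun h => hU (normalizer_eq_top_iff.mp h)
    by_cases hc : Nat.card T ≤ Nat.card S
    · exact cleanOn_of_full hq T hN hIH hne hS hc
    obtain ⟨x, -, hx⟩ := (H48.isSylowIn_sylow T).exists_cj_le hS.isPGroup le_top
    set T' := cj x⁻¹ (T : Subgroup G) with hT'
    have hST : S ≤ T' := by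
      have := H48.cj_mono (g := x⁻¹) hx
      rwa [H48.cj_inv_cj] at this
    have hT'p : IsPGroup q T' := H48.isPGroup_cj T.isPGroup'
    have hlt : Nat.card S < Nat.card ↥(T' ⊓ normalizer (S : Set G)) :=
      H48.card_lt_card_inf_normalizer hT'p hST fun h => hc (by rw [h, hT', H48.card_cj])
    have hle : T' ⊓ normalizer (S : Set G) ≤ normalizer (zjay 0 S : Set G) :=
      inf_le_right.trans ((normalizer_le_normalizer_jay 0 S).trans (normalizer_jay_le_normalizer_zjay 0 S))
    obtain ⟨S2, hS2, hS2le⟩ := H48.exists_isSylowIn_ge (hT'p.to_le inf_le_left) hle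
    have h2 : Nat.card ↥(T' ⊓ normalizer (S : Set G)) ≤ Nat.card S2 := Subgroup.card_le_of_le hS2le
    have h3 : Nat.card S2 ≤ Nat.card T := (H48.isSylowIn_sylow T).card_le hS2.isPGroup le_top
    have hZ : CleanOn q (normalizer (zjay 0 S : Set G)) :=
      ih _ (by omega) (zjay 0 S) S2 rfl (hnn S hS.isPGroup hΦ) hS2
        (hup S S2 ((le_inf hST le_normalizer).trans hS2le) hΦ)
    exact hIH _ hne S hS (hZ.mono inf_le_right)

end Descend

theorem clean_of_zjay_normalizer [Fact q.Prime] (hq2 : q ≠ 2) :
    ∀ (n : ℕ) (G : Type u) [Group G] [Finite G], Nat.card G ≤ n → ∀ T : Sylow q G,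
      CleanOn q (normalizer (zjay 0 (T : Subgroup G) : Set G)) → CleanOn q (⊤ : Subgroup G) := by
  have hq : Odd q := (Fact.out : q.Prime).odd_of_ne_two hq2
  intro n
  induction n with
  | zero => intro G _ _ hc; exact absurd hc (Nat.not_le.mpr Nat.card_pos)
  | succ n ih =>
    intro G _ _ hcard T hN
    have hIH : ∀ H : Subgroup G, H ≠ ⊤ → ∀ S, IsSylowIn q S H →
        CleanOn q (H ⊓ normalizer (zjay 0 S : Set G)) → CleanOn q H := by
      intro H hH S hS h
      have hlt : Nat.card H < Nat.card G := by
        refine lt_of_le_of_ne (card_le_card_group H) fun hc => hH (eq_top_of_card_eq _ hc)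
      refine cleanOn_of_top (ih H (by omega) hS.toSylow (CleanOn.mono (cleanOn_subgroupOf h) ?_))
      intro y hy
      rw [mem_subgroupOf, mem_normalizer_iff]
      have hmap : zjay 0 S = (zjay 0 (hS.toSylow : Subgroup H)).map H.subtype := by
        rw [← zjay_map _ H.subtype_injective, hS.coe_toSylow, subgroupOf_map_subtype, inf_eq_left.mpr hS.le]
      rw [hmap]
      intro z
      constructor
      · rintro ⟨w, hw, rfl⟩
        exact ⟨y * w * y⁻¹, (mem_normalizer_iff.mp hy w).mp hw, by simp⟩
      · rintro ⟨w, hw, hwe⟩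
        refine ⟨y⁻¹ * w * y, (mem_normalizer_iff.mp hy _).mpr (by simpa [mul_assoc] using hw), ?_⟩
        simp only [map_mul, map_inv, hwe]
        simp [mul_assoc]
    have hquot : ∀ (N : Subgroup G) [N.Normal], N ≠ ⊥ →
        (∀ T' : Sylow q (G ⧸ N), (T' : Subgroup (G ⧸ N)) = (T : Subgroup G).map (QuotientGroup.mk' N) →
          CleanOn q (normalizer (zjay 0 (T' : Subgroup (G ⧸ N)) : Set (G ⧸ N)))) →
        CleanOn q (⊤ : Subgroup (G ⧸ N)) := by
      intro N _ hN0 h
      have hlt : Nat.card (G ⧸ N) ≤ n := by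
        have h1 := N.card_mul_index
        rw [index_eq_card] at h1
        have h2 : 2 ≤ Nat.card N := N.one_lt_card_iff_ne_bot.mpr hN0
        have h3 : 0 < Nat.card (G ⧸ N) := Nat.card_pos
        nlinarith
      let T' : Sylow q (G ⧸ N) := T.mapSurjective (QuotientGroup.mk'_surjective N)
      exact ih _ hlt T' (h T' (Sylow.coe_mapSurjective _ _))
    -- `O_{q'}(G) = 1`
    by_cases hM : Cfsg.pPrimeCore q G ≠ ⊥
    · set M := Cfsg.pPrimeCore q G
      have hMc : (Nat.card M).Coprime q := Cores.coprime_card_pPrimeCore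
      refine cleanOn_of_quotient hq M (hquot M hM fun T' hT' => ?_) fun Y hY t _ _ r hrY hrM => ?_
      · have hinj : Function.Injective ((QuotientGroup.mk' M).comp (T : Subgroup G).subtype) :=
          (injective_iff_map_eq_one _).mpr fun x hx => Subtype.ext (mem_bot.mp
            ((Cores.disjoint_of_isPGroup_of_coprime T.isPGroup' hMc).le ⟨x.2, (QuotientGroup.eq_one_iff _).mp hx⟩))
        rw [hT', zjay_map_of_injective_comp _ _ hinj]
        refine (hN.map hq _).mono (normalizer_map_le (QuotientGroup.mk'_surjective M)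
          (T.isPGroup'.to_le zjay_le) ?_)
        rwa [QuotientGroup.ker_mk']
      · rw [show r = 1 from mem_bot.mp ((Cores.disjoint_of_isPGroup_of_coprime hY hMc).le ⟨hrY, hrM⟩)]
        exact Commute.one_right t
    push Not at hM
    set R := Cfsg.pCore q G with hR
    have hRp : IsPGroup q R := Cores.pCore_isPGroup
    by_cases hR0 : R = ⊥
    · intro Y _ hY t _ ht htn
      by_cases hY0 : Y = ⊥
      · subst hY0
        exact mem_centralizer_iff.mpr fun y hy => by rw [mem_bot.mp hy, one_mul, mul_one]
      have hnn : ∀ U : Subgroup G, IsPGroup q U → U ≠ ⊥ → ¬ U.Normal := fun U hU hU0 hn =>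
        hU0 (le_bot_iff.mp (hR0 ▸ Cores.le_pCore hU))
      obtain ⟨S, hS, hYS⟩ := H48.exists_isSylowIn_ge hY (le_normalizer (H := Y))
      exact cleanOn_normalizer hq T hN hIH (fun S => S ≠ ⊥) (fun S S' hle h h' => h (le_bot_iff.mp (h' ▸ hle)))
        (fun S hS h0 => hnn _ (hS.to_le zjay_le) (zjay_ne_bot hS h0 (.inl rfl))) _ Y S rfl (hnn Y hY hY0) hS
        (fun h => hY0 (le_bot_iff.mp (h ▸ hYS))) Y le_normalizer hY t htn ht htn
    by_cases hTR : (T : Subgroup G) = R
    · have : (T : Subgroup G).Normal := hTR ▸ inferInstance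
      have htop : normalizer (zjay 0 (T : Subgroup G) : Set G) = ⊤ := top_le_iff.mp
        ((normalizer_eq_top (H := (T : Subgroup G))).ge.trans
          ((normalizer_le_normalizer_jay 0 _).trans (normalizer_jay_le_normalizer_zjay 0 _)))
      rwa [htop] at hN
    have hRT : R ≤ (T : Subgroup G) := Cores.pCore_le_sylow T
    have hfull : ∀ U : Subgroup G, ¬ U.Normal → (T : Subgroup G) ≤ normalizer (U : Set G) →
        CleanOn q (normalizer (U : Set G)) := fun U hU hle =>
      cleanOn_of_full hq T hN hIH (fun h => hU (normalizer_eq_top_iff.mp h))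
        ⟨hle, T.isPGroup', fun hd => T.not_dvd_index (hd.trans (relIndex_dvd_index_of_le hle))⟩ le_rfl
    -- `G / O_q(G)`
    set π := QuotientGroup.mk' R with hπ
    have hsurj : Function.Surjective π := QuotientGroup.mk'_surjective R
    have hGR : CleanOn q (⊤ : Subgroup (G ⧸ R)) := by
      refine hquot R hR0 fun T' hT' => ?_
      set U := (zjay 0 (T' : Subgroup (G ⧸ R))).comap π with hU
      have hUp : IsPGroup q U := (T'.isPGroup'.to_le zjay_le).comap_of_ker_isPGroup _
        (by rw [hπ, QuotientGroup.ker_mk']; exact hRp)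
      have hT0 : (T' : Subgroup (G ⧸ R)) ≠ ⊥ := by
        rw [hT', Ne, Subgroup.map_eq_bot_iff, QuotientGroup.ker_mk']
        exact fun h => hTR (le_antisymm h hRT)
      have hUn : ¬ U.Normal := by
        intro hn
        have hUR : U ≤ R := Cores.le_pCore hUp
        refine zjay_ne_bot T'.isPGroup' hT0 (.inl rfl) (le_bot_iff.mp ?_)
        rw [← map_comap_eq_self_of_surjective hsurj (zjay 0 (T' : Subgroup (G ⧸ R))), ← hU,
          show (⊥ : Subgroup (G ⧸ R)) = R.map π from ((Subgroup.map_eq_bot_iff R).mpr (QuotientGroup.ker_mk' R).ge).symm]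
        exact map_mono hUR
      have hTU : (T : Subgroup G) ≤ normalizer (U : Set G) := by
        rw [hU, ← comap_normalizer_eq_of_surjective _ hsurj, ← map_le_iff_le_comap, ← hT']
        exact le_normalizer_zjay 0 _
      refine ((hfull U hUn hTU).map hq π).mono ?_
      rw [hU, ← comap_normalizer_eq_of_surjective _ hsurj, map_comap_eq_self_of_surjective hsurj]
    by_cases hcR : ∀ t : G, IsTwoEl t → t ∈ centralizer (R : Set G)
    · exact cleanOn_of_quotient hq R hGR fun Y _ t ht _ r _ hr =>
        (mem_centralizer_iff.mp (hcR t ht) r hr).symm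
    exfalso
    push Not at hcR
    obtain ⟨t, ht, htR⟩ := hcR
    set K := centralizer (R : Set G) with hK
    by_cases hTK : (T : Subgroup G) ⊓ K ≤ R
    swap
    · set Q := (T : Subgroup G) ⊓ K with hQ
      have hfr := frattini_inf T K
      rw [← hQ] at hfr
      have hUn : ¬ (Q ⊔ R).Normal := fun hn => hTK (le_sup_left.trans
        (Cores.le_pCore ((T.isPGroup'.to_le inf_le_left).to_sup_of_normal_right hRp)))
      have hNle : normalizer (Q : Set G) ≤ normalizer ((Q ⊔ R : Subgroup G) : Set G) := fun g hg =>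
        H48.mem_normalizer_of_cj_eq (by
          rw [cj, Subgroup.map_sup, ← cj, ← cj, H48.cj_eq_of_mem_normalizer hg,
            H48.cj_eq_of_mem_normalizer ((normalizer_eq_top (H := R)).ge (mem_top g))])
      have hTU : (T : Subgroup G) ≤ normalizer ((Q ⊔ R : Subgroup G) : Set G) := by
        refine le_trans (fun g hg => ?_) hNle
        exact H48.mem_normalizer_of_cj_eq (by
          rw [hQ, H48.cj_inf, H48.cj_eq_of_mem_normalizer (le_normalizer hg),
            H48.cj_eq_of_mem_normalizer ((normalizer_eq_top (H := K)).ge (mem_top g))])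
      have hclean := hfull _ hUn hTU
      have htmem : t ∈ ((normalizer (Q : Set G) ⊔ K : Subgroup G) : Set G) := by rw [hfr]; exact mem_top t
      rw [Subgroup.mul_normal] at htmem
      obtain ⟨m, hm, k, hk, rfl⟩ := htmem
      obtain ⟨b, hb, hb2⟩ := exists_odd_pow_isTwoEl m
      have h1 : m ^ b ∈ K := centralizer_le (show (R : Set G) ⊆ (Q ⊔ R : Subgroup G) from fun x hx => mem_sup_right hx)
        (hclean (Q ⊔ R) le_normalizer ((T.isPGroup'.to_le inf_le_left).to_sup_of_normal_right hRp) _
          (pow_mem (hNle hm) b) hb2 (pow_mem (hNle hm) b))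
      refine htR (ht.mem_of_pow_mem hb ?_)
      rw [← QuotientGroup.eq_one_iff, QuotientGroup.mk_pow, QuotientGroup.mk_mul,
        (QuotientGroup.eq_one_iff k).mpr hk, mul_one, ← QuotientGroup.mk_pow, QuotientGroup.eq_one_iff]
      exact h1
    have hc : K ≤ R := centralizer_pCore_le_of_sylow T hM hTK
    set Z := zjay 0 (T : Subgroup G) with hZdef
    by_cases hZn : Z.Normal
    · have htop : normalizer (Z : Set G) = ⊤ := normalizer_eq_top_iff.mpr hZn
      rw [htop] at hN
      exact htR (hN R le_top hRp t trivial ht ((normalizer_eq_top (H := R)).ge (mem_top t)))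
    apply hZn
    -- members of `maxIn` moving the normal closure of `Z` act stably
    have key : ∀ A ∈ maxIn 0 (T : Subgroup G), ¬ A ≤ centralizer (normalClosure (Z : Set G) : Set G) →
        ∀ (B : Subgroup G) [B.Normal], IsPGroup q B → ∀ a ∈ A, ⁅⁅B, zpowers a⁆, zpowers a⁆ = ⊥ →
        a ∈ stabPre q B := by
      intro A hA hAnc B _ hB a ha hqd
      by_contra hna
      obtain ⟨U, hUp, hUn, hAU, s, hs, hsN, hsC⟩ := badPair_of_unstable hq2 (Nat.card G) G le_rfl B hB A
        (T.isPGroup'.to_le hA.1) hA.2.1.1 a ha hqd hna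
      obtain ⟨S, hS, hAS⟩ := H48.exists_isSylowIn_ge (T.isPGroup'.to_le hA.1) hAU
      refine hsC (cleanOn_normalizer hq T hN hIH (fun S => A ≤ S) (fun S S' h h' => h'.trans h) ?_ _ U S rfl
        hUn hS hAS U le_normalizer hUp s hsN hs hsN)
      intro S hSp hAS hn
      obtain ⟨x, -, hx⟩ := (H48.isSylowIn_sylow T).exists_cj_le hSp le_top
      have hST : S ≤ cj x⁻¹ (T : Subgroup G) := by
        have := H48.cj_mono (g := x⁻¹) hx
        rwa [H48.cj_inv_cj] at this
      have hcjmax : ∀ C : Subgroup G, C ≤ cj x⁻¹ (T : Subgroup G) → IsAbExp 0 C → Nat.card C ≤ Nat.card A := by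
        intro C hC hC'
        rw [← H48.card_cj x C]
        refine hA.2.2 _ ?_ ((isAbExp_map_iff _ (MulAut.conj x).injective).mpr hC')
        have := H48.cj_mono (g := x) hC
        rwa [H48.cj_cj_inv] at this
      have hAmax' : A ∈ maxIn 0 (cj x⁻¹ (T : Subgroup G)) := ⟨hAS.trans hST, hA.2.1, hcjmax⟩
      have hAmax : A ∈ maxIn 0 S := ⟨hAS, hA.2.1, fun C hC hC' => hcjmax C (hC.trans hST) hC'⟩
      have hle : cj x⁻¹ Z ≤ zjay 0 S := by
        intro z hz
        have hz' : z ∈ zjay 0 (cj x⁻¹ (T : Subgroup G)) := by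
          rw [cj, zjay_map _ (MulAut.conj x⁻¹).injective]
          exact hz
        exact ⟨le_jay hAmax (zjay_zero_le hAmax' hz'),
          centralizer_le (jay_le_jay_of_mem hAmax' hAS hST) hz'.2⟩
      refine hAnc fun a' ha' => ?_
      have hnc : normalClosure (Z : Set G) ≤ zjay 0 S := by
        refine normalClosure_le_normal fun z hz => ?_
        have h1 := hn.conj_mem _ (hle (H48.conj_mem_cj (g := x⁻¹) hz)) x
        simpa [mul_assoc] using h1
      exact mem_centralizer_iff.mpr fun y hy =>
        (mem_centralizer_iff.mp (hnc hy).2 a' (le_jay hAmax ha')).symm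
    have hst : StableRel q (T : Subgroup G) := by
      intro E _ hE hEle A hA hquad a ha
      by_cases hAnc : A ≤ centralizer (normalClosure (Z : Set G) : Set G)
      · exact centralizer_le_stabPre E (centralizer_le hEle (hAnc ha))
      · exact key A hA hAnc E hE a ha (eq_bot_iff.mpr (le_trans
          (commutator_mono (commutator_mono le_rfl (zpowers_le.mpr ha)) (zpowers_le.mpr ha)) hquad.le))
    have hZR : Z ≤ R := by
      by_cases hall : ∀ A ∈ maxIn 0 (T : Subgroup G), A ≤ centralizer (normalClosure (Z : Set G) : Set G)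
      · have hJ : jay 0 (T : Subgroup G) ≤ centralizer (normalClosure (Z : Set G) : Set G) := sSup_le hall
        have hncc : normalClosure (Z : Set G) ≤ centralizer (normalClosure (Z : Set G) : Set G) :=
          normalClosure_le_normal fun z hz => hJ hz.1
        have hp : IsPGroup q (normalClosure (Z : Set G)) := by
          have hle : normalClosure (Z : Set G) ≤ (T : Subgroup G) := by
            obtain ⟨Q, hQ⟩ := exists_sylow_inf_normal T (normalClosure (Z : Set G))
            have hcomm : ∀ (u v : normalClosure (Z : Set G)), u * v = v * u := fun u v => Subtype.ext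
              (mem_centralizer_iff.mp (hncc v.2) u u.2)
            have hQn : (Q : Subgroup (normalClosure (Z : Set G))).Normal :=
              ⟨fun u hu v => by rw [hcomm v u, mul_inv_cancel_right]; exact hu⟩
            haveI := Q.characteristic_of_normal hQn
            have hQchar : ((Q : Subgroup (normalClosure (Z : Set G))).map
                (normalClosure (Z : Set G)).subtype).Normal := inferInstance
            rw [hQ] at hQchar
            exact (normalClosure_le_normal (N := (T : Subgroup G) ⊓ normalClosure (Z : Set G))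
              fun z hz => ⟨zjay_le hz, le_normalClosure hz⟩).trans inf_le_left
          exact T.isPGroup'.to_le hle
        exact le_normalClosure.trans (Cores.le_pCore hp)
      · push Not at hall
        obtain ⟨A, hA, hAnc⟩ := hall
        intro z hz
        have h1 := key A hA hAnc R hRp z (zjay_zero_le hA hz) (by
          have hRN : R ≤ normalizer (Z : Set G) := hRT.trans (le_normalizer_zjay 0 _)
          have hab := isMulCommutative_zjay 0 (T : Subgroup G)
          refine eq_bot_iff.mpr (le_trans (commutator_mono (commutator_mono le_rfl (zpowers_le.mpr hz))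
            (zpowers_le.mpr hz)) (le_trans (commutator_mono (K₁ := Z) ?_ le_rfl)
              (commutator_eq_bot_iff_le_centralizer.mpr (le_centralizer Z)).le))
          exact commutator_le.mpr fun r hr w hw => by
            rw [commutatorElement_def]
            exact mul_mem ((mem_normalizer_iff.mp (hRN hr) w).mp hw) (Z.inv_mem hw))
        refine (Cores.le_pCore (N := stabPre q R) (hN := inferInstance)
          (Cores.pCore_isPGroup.comap_of_ker_isPGroup _ ?_)) h1
        rw [QuotientGroup.ker_mk']
        exact hRp.to_le hc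
    have hfin := zjay_inf_normal hq2 T hst R hRp
    rwa [inf_eq_left.mpr hZR] at hfin

end Cfsg.Agent.H61
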