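import Cfsg.Agent.H48.SylowIn
import Cfsg.Agent.Thompson.Jay
import Cfsg.Agent.Thompson.NormalPComplement
import Cfsg.Agent.Cores.PCore

/-!
`2`-elements centralising the `q`-subgroups they normalise: transport and quotient lemmas.
-/

set_option autoImplicit false
set_option linter.unusedSectionVars false

namespace Cfsg.Agent.H61

open Subgroup
open H48 (cj IsSylowIn)

variable {G G' : Type*} [Group G] [Group G'] {q : ℕ}

/-- The order of `t` is a power of two. -/
def IsTwoEl (t : G) : Prop := ∃ k : ℕ, t ^ 2 ^ k = 1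

/-- Every `2`-element of `H` normalising a `q`-subgroup of `H` centralises it. -/
def CleanOn (q : ℕ) (H : Subgroup G) : Prop :=
  ∀ Y : Subgroup G, Y ≤ H → IsPGroup q Y → ∀ t ∈ H, IsTwoEl t →
    t ∈ normalizer (Y : Set G) → t ∈ centralizer (Y : Set G)

theorem IsTwoEl.map (f : G →* G') {t : G} (h : IsTwoEl t) : IsTwoEl (f t) := by
  obtain ⟨k, hk⟩ := h
  exact ⟨k, by rw [← map_pow, hk, map_one]⟩

theorem exists_odd_pow_isTwoEl [Finite G] (g : G) : ∃ b : ℕ, Odd b ∧ IsTwoEl (g ^ b) := by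
  obtain ⟨k, b, hb, hord⟩ := Nat.exists_eq_pow_mul_and_not_dvd (orderOf_pos g).ne' 2 (by norm_num)
  refine ⟨b, Nat.not_even_iff_odd.mp fun he => hb he.two_dvd, k, ?_⟩
  rw [← pow_mul, mul_comm, ← hord, pow_orderOf_eq_one]

theorem IsTwoEl.pow {t : G} (h : IsTwoEl t) (n : ℕ) : IsTwoEl (t ^ n) := by
  obtain ⟨k, hk⟩ := h
  exact ⟨k, by rw [← pow_mul, mul_comm, pow_mul, hk, one_pow]⟩

/-- A power prime to the order generates. -/
theorem mem_of_pow_mem {H : Subgroup G} {x : G} {a n : ℕ} (hn : x ^ n = 1) (hc : a.Coprime n)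
    (h : x ^ a ∈ H) : x ∈ H := by
  obtain ⟨m, hm⟩ := exists_pow_eq_self_of_coprime
    (Nat.Coprime.coprime_dvd_right (orderOf_dvd_of_pow_eq_one hn) hc)
  rw [← hm]
  exact H.pow_mem h m

theorem IsTwoEl.mem_of_pow_mem {H : Subgroup G} {t : G} (h : IsTwoEl t) {b : ℕ} (hb : Odd b)
    (hm : t ^ b ∈ H) : t ∈ H := by
  obtain ⟨k, hk⟩ := h
  exact H61.mem_of_pow_mem hk ((Nat.coprime_two_right.mpr hb).pow_right k) hm

theorem eq_one_of_qEl_of_pow_two {w : G} {i k : ℕ} (hq : Odd q) (hw : w ^ q ^ i = 1)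
    (h2 : w ^ 2 ^ k = 1) : w = 1 := by
  have h := mem_of_pow_mem (H := (⊥ : Subgroup G)) (a := 2 ^ k) hw
    (Nat.Coprime.pow _ _ (Nat.coprime_two_left.mpr hq)) (by rw [h2]; exact one_mem _)
  exact mem_bot.mp h

theorem exists_qPow {Y : Subgroup G} (hY : IsPGroup q Y) {y : G} (hy : y ∈ Y) : ∃ i : ℕ, y ^ q ^ i = 1 := by
  obtain ⟨i, hi⟩ := hY ⟨y, hy⟩
  exact ⟨i, congrArg Subtype.val hi⟩

/-- A `2`-element inducing on a `q`-group an inner automorphism centralises it. -/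
theorem mem_centralizer_of_inner {Y : Subgroup G} (hY : IsPGroup q Y) (hq : Odd q) {c w : G}
    (hc : IsTwoEl c) (hw : w ∈ Y) (h : w⁻¹ * c ∈ centralizer (Y : Set G)) :
    c ∈ centralizer (Y : Set G) := by
  have hcw : Commute w (w⁻¹ * c) := mem_centralizer_iff.mp h w hw
  obtain ⟨k, hk⟩ := hc
  obtain ⟨i, hi⟩ := exists_qPow hY hw
  have h1 : (w⁻¹ * c) ^ 2 ^ k = (w ^ 2 ^ k)⁻¹ := by
    have h2 : c = w * (w⁻¹ * c) := by group
    have h3 : (w * (w⁻¹ * c)) ^ 2 ^ k = w ^ 2 ^ k * (w⁻¹ * c) ^ 2 ^ k := hcw.mul_pow _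
    rw [← h2, hk] at h3
    exact eq_inv_of_mul_eq_one_right h3.symm
  have h4 : w ^ 2 ^ k ∈ centralizer (Y : Set G) := by
    have := (centralizer (Y : Set G)).pow_mem h (2 ^ k)
    rw [h1] at this
    exact (Subgroup.inv_mem_iff _).mp this
  have h5 : w ∈ centralizer (Y : Set G) :=
    mem_of_pow_mem hi (Nat.Coprime.pow _ _ (Nat.coprime_two_left.mpr hq)) h4
  have h6 := (centralizer (Y : Set G)).mul_mem h5 h
  rwa [mul_inv_cancel_left] at h6

theorem CleanOn.mono {H K : Subgroup G} (h : CleanOn q K) (hle : H ≤ K) : CleanOn q H :=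
  fun Y hY hp t ht h2 hn => h Y (hY.trans hle) hp t (hle ht) h2 hn

theorem cleanOn_of_top {H : Subgroup G} (h : CleanOn q (⊤ : Subgroup H)) : CleanOn q H := by
  intro Y hY hp t ht h2 hn
  have h1 := h (Y.subgroupOf H) le_top (hp.comap_of_injective H.subtype H.subtype_injective) ⟨t, ht⟩
    trivial (by obtain ⟨k, hk⟩ := h2; exact ⟨k, Subtype.ext hk⟩) (by
      rw [mem_normalizer_iff]
      intro x
      rw [mem_subgroupOf, mem_subgroupOf]
      exact mem_normalizer_iff.mp hn x)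
  refine mem_centralizer_iff.mpr fun y hy => ?_
  exact congrArg Subtype.val (mem_centralizer_iff.mp h1 ⟨y, hY hy⟩ hy)

theorem cleanOn_subgroupOf {H K : Subgroup G} (h : CleanOn q (H ⊓ K)) : CleanOn q (K.subgroupOf H) := by
  intro Y hY hp t ht h2 hn
  have h1 := h (Y.map H.subtype) (by
      rintro _ ⟨y, hy, rfl⟩
      exact ⟨y.2, hY hy⟩) (hp.map _) t ⟨t.2, ht⟩ (h2.map H.subtype) (by
      refine Thompson.mem_normalizer_of_map_conj ?_
      ext x
      constructor
      · rintro ⟨_, ⟨y, hy, rfl⟩, rfl⟩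
        exact ⟨t * y * t⁻¹, (mem_normalizer_iff.mp hn y).mp hy, by simp⟩
      · rintro ⟨y, hy, rfl⟩
        refine ⟨(t⁻¹ * y * t : H), ⟨t⁻¹ * y * t, ?_, rfl⟩, by simp [mul_assoc]⟩
        rw [SetLike.mem_coe, mem_normalizer_iff.mp hn]
        simpa [mul_assoc] using hy)
  refine mem_centralizer_iff.mpr fun y hy => Subtype.ext ?_
  exact mem_centralizer_iff.mp h1 y ⟨y, hy, rfl⟩

variable [Finite G] [Fact q.Prime]

/-- Frattini argument, element form. -/
theorem exists_mul_mem_normalizer {U M : Subgroup G} (hU : IsSylowIn q U M) {g : G}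
    (hg : g ∈ normalizer (M : Set G)) : ∃ m ∈ M, m * g ∈ normalizer (U : Set G) := by
  have h := hU.cj g
  rw [H48.cj_eq_of_mem_normalizer hg] at h
  obtain ⟨x, hx, hxe⟩ := h.exists_conj hU
  exact ⟨x, hx, H48.mem_normalizer_of_cj_eq (by rw [← H48.cj_cj]; exact hxe)⟩

/-- Images of clean subgroups are clean. -/
theorem CleanOn.map {H : Subgroup G} (h : CleanOn q H) (hq : Odd q) (π : G →* G') :
    CleanOn q (H.map π) := by
  intro Y hY hp t ht h2 hn
  obtain ⟨t, htH, rfl⟩ := ht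
  set M : Subgroup G := H ⊓ Y.comap π with hM
  obtain ⟨Q⟩ := (inferInstance : Nonempty (Sylow q M))
  set Y0 : Subgroup G := (Q : Subgroup M).map M.subtype with hY0
  have hsyl : IsSylowIn q Y0 M := H48.isSylowIn_map M _
  have htM : t ∈ normalizer (M : Set G) := by
    rw [mem_normalizer_iff]
    intro x
    show x ∈ H ∧ π x ∈ Y ↔ t * x * t⁻¹ ∈ H ∧ π (t * x * t⁻¹) ∈ Y
    rw [map_mul, map_mul, map_inv, ← mem_normalizer_iff.mp hn (π x),
      mem_normalizer_iff.mp (le_normalizer htH : t ∈ normalizer (H : Set G)) x]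
  obtain ⟨m, hm, hmn⟩ := exists_mul_mem_normalizer hsyl htM
  obtain ⟨b, hb, hb2⟩ := exists_odd_pow_isTwoEl (m * t)
  have hc := h Y0 (hsyl.le.trans inf_le_left) hsyl.isPGroup _
    (H.pow_mem (H.mul_mem hm.1 htH) b) hb2 (pow_mem hmn b)
  -- every element of `Y` lifts to `Y0`
  have hlift : ∀ y ∈ Y, ∃ x ∈ Y0, π x = y := by
    intro y hy
    let f : M →* Y := (π.comp M.subtype).codRestrict Y fun x => x.2.2
    have hf : Function.Surjective f := by
      rintro ⟨z, hz⟩
      obtain ⟨x, hx, rfl⟩ := hY hz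
      exact ⟨⟨x, hx, hz⟩, rfl⟩
    haveI : Finite Y := Finite.of_surjective f hf
    let R : Sylow q Y := Q.mapSurjective hf
    have hR : (R : Subgroup Y) = ⊤ := by
      have := R.is_maximal' (hp.to_subgroup ⊤) le_top
      exact this.symm
    have hy' : (⟨y, hy⟩ : Y) ∈ (R : Subgroup Y) := hR ▸ mem_top _
    rw [Sylow.coe_mapSurjective] at hy'
    obtain ⟨x, hx, hxy⟩ := hy'
    exact ⟨x, ⟨x, hx, rfl⟩, congrArg Subtype.val hxy⟩
  have hcY : π (m * t) ^ b ∈ centralizer (Y : Set G') := by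
    refine mem_centralizer_iff.mpr fun y hy => ?_
    obtain ⟨x, hx, rfl⟩ := hlift y hy
    rw [← map_pow, ← map_mul, ← map_mul, mem_centralizer_iff.mp hc x hx]
  -- modulo `Y` this is `π t ^ b`
  have hmod : ∀ n : ℕ, ∃ w ∈ Y, π (m * t) ^ n = w * π t ^ n := by
    intro n
    induction n with
    | zero => exact ⟨1, one_mem _, by simp⟩
    | succ n ih =>
      obtain ⟨w, hw, he⟩ := ih
      refine ⟨w * (π t ^ n * π m * (π t ^ n)⁻¹),
        Y.mul_mem hw ((mem_normalizer_iff.mp (pow_mem hn n) _).mp hm.2), ?_⟩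
      rw [pow_succ, he, map_mul, pow_succ]
      group
  obtain ⟨w, hw, he⟩ := hmod b
  have h3 : π t ^ b ∈ centralizer (Y : Set G') :=
    mem_centralizer_of_inner hp hq (h2.pow b) (Y.inv_mem hw) (by rw [inv_inv, ← he]; exact hcY)
  exact h2.mem_of_pow_mem hb h3

theorem CleanOn.cj {H : Subgroup G} (h : CleanOn q H) (hq : Odd q) (g : G) : CleanOn q (cj g H) :=
  h.map hq _

/-- Cleanness lifts along a quotient whose kernel contains only elements centralised by `2`-elements. -/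
theorem cleanOn_of_quotient (hq : Odd q) (N : Subgroup G) [N.Normal]
    (hN : CleanOn q (⊤ : Subgroup (G ⧸ N)))
    (h : ∀ Y : Subgroup G, IsPGroup q Y → ∀ t : G, IsTwoEl t → t ∈ normalizer (Y : Set G) →
      ∀ r ∈ Y, r ∈ N → Commute t r) : CleanOn q (⊤ : Subgroup G) := by
  intro Y _ hp t _ h2 hn
  refine mem_centralizer_iff.mpr fun y hy => ?_
  have hc := hN (Y.map (QuotientGroup.mk' N)) le_top (hp.map _) (QuotientGroup.mk' N t) trivial (h2.map _)
    (le_normalizer_map _ ⟨t, hn, rfl⟩)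
  have h1 : y⁻¹ * (t * y * t⁻¹) ∈ N := by
    rw [← QuotientGroup.eq_one_iff]
    show (QuotientGroup.mk' N) _ = 1
    rw [map_mul, map_inv, map_mul, map_mul, map_inv, ← mem_centralizer_iff.mp hc _ ⟨y, hy, rfl⟩,
      mul_inv_cancel_right, inv_mul_cancel]
  set r := y⁻¹ * (t * y * t⁻¹) with hr
  have hrY : r ∈ Y := Y.mul_mem (Y.inv_mem hy) ((mem_normalizer_iff.mp hn y).mp hy)
  have htr : Commute t r := h Y hp t h2 hn r hrY h1
  have hiter : ∀ n : ℕ, t ^ n * y = y * (r ^ n * t ^ n) := by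
    intro n
    induction n with
    | zero => simp
    | succ n ih =>
      calc t ^ (n + 1) * y = t * (t ^ n * y) := by rw [pow_succ', mul_assoc]
        _ = (t * y) * (r ^ n * t ^ n) := by rw [ih, mul_assoc]
        _ = (y * (r * t)) * (r ^ n * t ^ n) := by rw [show t * y = y * (r * t) by rw [hr]; group]
        _ = y * (r * ((t * r ^ n) * t ^ n)) := by simp only [mul_assoc]
        _ = _ := by rw [(htr.pow_right n).eq, pow_succ' r, pow_succ' t]; simp only [mul_assoc]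
  obtain ⟨k, hk⟩ := h2
  have h3 := hiter (2 ^ k)
  rw [hk, one_mul, mul_one] at h3
  obtain ⟨i, hi⟩ := exists_qPow hp hrY
  have hr1 : r = 1 := eq_one_of_qEl_of_pow_two hq hi (left_eq_mul.mp h3)
  have h4 : t * y * t⁻¹ = y := by
    rw [show t * y * t⁻¹ = y * r by rw [hr]; group, hr1, mul_one]
  exact (mul_inv_eq_iff_eq_mul.mp h4).symm

/-- The normalizer of the image of a `q`-group modulo a normal `q'`-subgroup. -/
theorem normalizer_map_le {π : G →* G'} (hπ : Function.Surjective π) {Z : Subgroup G}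
    (hZ : IsPGroup q Z) (hker : (Nat.card π.ker).Coprime q) :
    normalizer ((Z.map π : Subgroup G') : Set G') ≤ (normalizer (Z : Set G)).map π := by
  intro x hx
  obtain ⟨g, rfl⟩ := hπ x
  set M : Subgroup G := (Z.map π).comap π with hM
  have hgM : g ∈ normalizer (M : Set G) := by
    rw [← comap_normalizer_eq_of_surjective _ hπ]
    exact hx
  have hsyl : IsSylowIn q Z M := by
    refine ⟨le_comap_map _ _, hZ, fun hd => ?_⟩
    have hMc : M = Z ⊔ π.ker := comap_map_eq _ _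
    rw [hMc] at hd
    have h1 := Cores.card_sup_mul_card_inf Z π.ker
    have h2 : Z ⊓ π.ker = ⊥ := Cores.disjoint_of_isPGroup_of_coprime hZ hker
    rw [h2, Subgroup.card_bot, mul_one] at h1
    have h3 : Nat.card Z * Z.relIndex (Z ⊔ π.ker) = Nat.card ↥(Z ⊔ π.ker) := by
      rw [← relIndex_bot_left, ← relIndex_bot_left, relIndex_mul_relIndex _ _ _ bot_le le_sup_left]
    rw [h1] at h3
    rw [Nat.eq_of_mul_eq_mul_left Nat.card_pos h3] at hd
    exact (Fact.out : q.Prime).ne_one (Nat.dvd_one.mp (hker ▸ Nat.dvd_gcd hd dvd_rfl))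
  obtain ⟨m, hm, hmn⟩ := exists_mul_mem_normalizer hsyl hgM
  obtain ⟨z, hz, hzm⟩ : π m ∈ Z.map π := hm
  refine ⟨z⁻¹ * (m * g), (normalizer (Z : Set G)).mul_mem (inv_mem (le_normalizer hz)) hmn, ?_⟩
  rw [map_mul, map_mul, map_inv, hzm, inv_mul_cancel_left]

end Cfsg.Agent.H61
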