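import Cfsg.Agent.H61.TwoClean
import Cfsg.Agent.Thompson.BaerSuzuki

/-!
Groups with a normal Sylow 2-subgroup, in terms of `2`-elements normalising subgroups of odd prime power order.
-/

set_option autoImplicit false
set_option linter.unusedSectionVars false

namespace Cfsg.Agent.H61

open Subgroup
open H48 (cj IsSylowIn)

variable {G : Type*} [Group G] [Finite G] {q : ℕ} [Fact q.Prime]

theorem cleanOn_of_two_closed (hq : q ≠ 2) {H : Subgroup G}
    (h : ∀ P : Sylow 2 H, (P : Subgroup H).Normal) : CleanOn q H := by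
  haveI : Fact (Nat.Prime 2) := ⟨Nat.prime_two⟩
  have hqo : Odd q := (Fact.out : q.Prime).odd_of_ne_two hq
  intro Y hY hp t ht h2 hn
  obtain ⟨k, hk⟩ := h2
  have hT : IsPGroup 2 (zpowers (⟨t, ht⟩ : H)) := by
    rintro ⟨x, i, rfl⟩
    refine ⟨k, Subtype.ext ?_⟩
    show ((⟨t, ht⟩ : H) ^ i) ^ 2 ^ k = 1
    rw [← zpow_natCast, ← zpow_mul, mul_comm, zpow_mul, zpow_natCast,
      show (⟨t, ht⟩ : H) ^ 2 ^ k = 1 from Subtype.ext hk, one_zpow]
  obtain ⟨P, hP⟩ := hT.exists_le_sylow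
  have htP : (⟨t, ht⟩ : H) ∈ (P : Subgroup H) := hP (mem_zpowers _)
  refine mem_centralizer_iff.mpr fun y hy => ?_
  have h1 : (⟨t, ht⟩ : H) * (⟨y, hY hy⟩ * (⟨t, ht⟩ : H)⁻¹ * (⟨y, hY hy⟩ : H)⁻¹) ∈ (P : Subgroup H) :=
    mul_mem htP ((h P).conj_mem _ (inv_mem htP) _)
  obtain ⟨j, hj⟩ := P.isPGroup' ⟨_, h1⟩
  have hj' : (t * (y * t⁻¹ * y⁻¹)) ^ 2 ^ j = 1 := congrArg Subtype.val (congrArg Subtype.val hj)
  have hwY : t * (y * t⁻¹ * y⁻¹) ∈ Y := by
    have := Y.mul_mem ((mem_normalizer_iff.mp hn y).mp hy) (Y.inv_mem hy)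
    simpa [mul_assoc] using this
  obtain ⟨i, hi⟩ := exists_qPow hp hwY
  have h3 := eq_one_of_qEl_of_pow_two hqo hi hj'
  have h4 : t * y * t⁻¹ * y⁻¹ = 1 := by simpa [mul_assoc] using h3
  exact (mul_inv_eq_iff_eq_mul.mp (mul_inv_eq_one.mp h4)).symm

theorem cleanOn_of_not_dvd (hdvd : ¬ q ∣ Nat.card G) (H : Subgroup G) : CleanOn q H := by
  intro Y _ hp t _ _ _
  have : Y = ⊥ := by
    by_contra hne
    have : Nontrivial Y := Y.nontrivial_iff_ne_bot.mpr hne
    obtain ⟨n, hn0, hn⟩ := hp.nontrivial_iff_card.mp this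
    exact hdvd ((dvd_pow_self q hn0.ne').trans (hn ▸ card_subgroup_dvd_card Y))
  subst this
  exact mem_centralizer_iff.mpr fun y hy => by rw [mem_bot.mp hy, one_mul, mul_one]

theorem cleanOn_of_no_inversion (hq : q ≠ 2) {H : Subgroup G} (T : Sylow q G) (hTH : (T : Subgroup G) ≤ H)
    (h : ∀ x ∈ (T : Subgroup G), x ≠ 1 → ∀ g ∈ H, g * x * g⁻¹ ≠ x⁻¹) : CleanOn q H := by
  classical
  intro Y hY hp t ht h2 hn
  by_contra htc
  have hex : ∃ k : ℕ, t ^ 2 ^ k ∈ centralizer (Y : Set G) := by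
    obtain ⟨k, hk⟩ := h2
    exact ⟨k, by rw [hk]; exact one_mem _⟩
  set j := Nat.find hex with hj
  have hj0 : j ≠ 0 := fun h0 => htc (by
    have := Nat.find_spec hex
    rwa [← hj, h0, pow_zero, pow_one] at this)
  set s := t ^ 2 ^ (j - 1) with hs
  have hsc : s ∉ centralizer (Y : Set G) := Nat.find_min hex (by omega)
  have hss : s * s ∈ centralizer (Y : Set G) := by
    rw [hs, ← pow_add, ← two_mul, ← pow_succ', show j - 1 + 1 = j by omega]
    exact Nat.find_spec hex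
  rw [mem_centralizer_iff] at hsc
  push Not at hsc
  obtain ⟨y, hy, hsy⟩ := hsc
  set w := y⁻¹ * (s * y * s⁻¹) with hw
  have hwY : w ∈ Y := Y.mul_mem (Y.inv_mem hy) ((mem_normalizer_iff.mp (pow_mem hn _) y).mp hy)
  have hw1 : w ≠ 1 := fun he => hsy (mul_inv_eq_iff_eq_mul.mp (inv_mul_eq_one.mp he).symm).symm
  have hinv : s * w * s⁻¹ = w⁻¹ := by
    have h1 : s * (s * y * s⁻¹) * s⁻¹ = y := by
      rw [show s * (s * y * s⁻¹) * s⁻¹ = (s * s) * y * (s * s)⁻¹ by group,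
        ← mem_centralizer_iff.mp hss y hy, mul_inv_cancel_right]
    calc s * w * s⁻¹ = (s * y * s⁻¹)⁻¹ * (s * (s * y * s⁻¹) * s⁻¹) := by rw [hw]; group
      _ = w⁻¹ := by rw [h1, hw]; group
  obtain ⟨n, hn', hnle⟩ := (IsSylowIn.mk hTH T.isPGroup'
    (fun hd => T.not_dvd_index (hd.trans (relIndex_dvd_index_of_le hTH)))).exists_cj_le hp hY
  refine h _ (hnle (H48.conj_mem_cj hwY)) (fun he => hw1 ?_) (n * s * n⁻¹)
    (H.mul_mem (H.mul_mem hn' (H.pow_mem ht _)) (H.inv_mem hn')) ?_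
  · have : w = n⁻¹ * (n * w * n⁻¹) * n := by group
    rw [this, he]; group
  · calc n * s * n⁻¹ * (n * w * n⁻¹) * (n * s * n⁻¹)⁻¹ = n * (s * w * s⁻¹) * n⁻¹ := by group
      _ = (n * w * n⁻¹)⁻¹ := by rw [hinv]; group

theorem two_closed_of_clean (h : ∀ (q : ℕ) [Fact q.Prime], q ≠ 2 → CleanOn q (⊤ : Subgroup G))
    (P : Sylow 2 G) : (P : Subgroup G).Normal := by
  haveI : Fact (Nat.Prime 2) := ⟨Nat.prime_two⟩
  set R := Cfsg.pCore 2 G with hR
  suffices hPR : (P : Subgroup G) = R by rw [hPR]; infer_instance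
  refine le_antisymm ?_ (Cores.pCore_le_sylow P)
  by_contra hne
  set π := QuotientGroup.mk' R with hπ
  have hsurj : Function.Surjective π := QuotientGroup.mk'_surjective R
  set Q := (P : Subgroup G).map π with hQ
  have hQ0 : Q ≠ ⊥ := by
    rw [hQ, Ne, Subgroup.map_eq_bot_iff, QuotientGroup.ker_mk']
    exact hne
  have : Nontrivial Q := Q.nontrivial_iff_ne_bot.mpr hQ0
  obtain ⟨m, hm0, hm⟩ := (P.isPGroup'.map π).nontrivial_iff_card.mp this
  obtain ⟨y, hy⟩ := exists_prime_orderOf_dvd_card' 2 (G := Q) (hm ▸ dvd_pow_self 2 hm0.ne')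
  set s : G ⧸ R := (y : G ⧸ R) with hs
  have hs2 : s * s = 1 := by
    have h1 : y ^ 2 = 1 := orderOf_dvd_iff_pow_eq_one.mp (dvd_of_eq hy)
    rw [← pow_two, hs, ← SubgroupClass.coe_pow, h1]; rfl
  have hs1 : s ≠ 1 := fun he => by
    rw [show y = 1 from Subtype.ext he, orderOf_one] at hy
    exact absurd hy (by norm_num)
  by_cases hall : ∀ g : G ⧸ R, IsPGroup 2 (closure ({s, g * s * g⁻¹} : Set (G ⧸ R)))
  · obtain ⟨N, hN1, hN2, hsN⟩ := Thompson.baer_suzuki hall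
    have hle : N.comap π ≤ R := Cores.le_pCore (hN2.comap_of_ker_isPGroup _
      (by rw [hπ, QuotientGroup.ker_mk']; exact Cores.pCore_isPGroup))
    obtain ⟨z, hz⟩ := hsurj s
    exact hs1 (by rw [← hz]; exact (QuotientGroup.eq_one_iff z).mpr (hle (show π z ∈ N by rwa [hz])))
  push Not at hall
  obtain ⟨g, hg⟩ := hall
  set u := s * (g * s * g⁻¹) with hu
  have hsinv : s⁻¹ = s := inv_eq_of_mul_eq_one_right hs2
  have hsu : s * u * s⁻¹ = u⁻¹ := by
    rw [hu, mul_inv_rev, mul_inv_rev, mul_inv_rev, inv_inv, hsinv, ← mul_assoc s s, hs2, one_mul]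
    simp only [mul_assoc]
  by_cases hall : ∀ r : ℕ, r.Prime → r ∣ orderOf u → r = 2
  · refine hg ?_
    obtain ⟨a, ha⟩ : ∃ a, orderOf u = 2 ^ a :=
      ⟨_, Nat.eq_prime_pow_of_unique_prime_dvd (orderOf_pos u).ne' fun {r} hr hrd => hall r hr hrd⟩
    have hU : IsPGroup 2 (zpowers u) := IsPGroup.of_card (n := a) (by rw [Nat.card_zpowers, ha])
    have hS : IsPGroup 2 (zpowers s) := IsPGroup.of_card (n := 1) (by
      rw [Nat.card_zpowers, pow_one]
      exact orderOf_eq_prime (by rw [pow_two]; exact hs2) hs1)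
    have hSn : zpowers s ≤ normalizer ((zpowers u : Subgroup (G ⧸ R)) : Set (G ⧸ R)) := by
      rw [zpowers_le]
      refine H48.mem_normalizer_of_cj_eq ?_
      rw [H48.cj, MonoidHom.map_zpowers]
      show zpowers (s * u * s⁻¹) = zpowers u
      rw [hsu, zpowers_inv]
    refine (hS.to_sup_of_normal_right' hU hSn).to_le ((closure_le _).mpr ?_)
    rintro x (rfl | rfl)
    · exact mem_sup_left (mem_zpowers _)
    · have h1 : g * s * g⁻¹ = s⁻¹ * u := by rw [hu, ← mul_assoc s⁻¹, inv_mul_cancel, one_mul]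
      rw [h1]
      exact mul_mem (mem_sup_left (inv_mem (mem_zpowers _))) (mem_sup_right (mem_zpowers _))
  push Not at hall
  obtain ⟨r, hr, hrd, hr2⟩ := hall
  haveI : Fact r.Prime := ⟨hr⟩
  have hro : Odd r := hr.odd_of_ne_two hr2
  set w := u ^ (orderOf u / r) with hw
  have hwo : orderOf w = r := by
    rw [hw, orderOf_pow_of_dvd (Nat.div_pos (Nat.le_of_dvd (orderOf_pos u) hrd) hr.pos).ne' (Nat.div_dvd_of_dvd hrd),
      Nat.div_div_self hrd (orderOf_pos u).ne']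
  have hinv : s * w * s⁻¹ = w⁻¹ := by rw [hw, ← conj_pow, hsu, inv_pow]
  have hclean := (h r hr2).map hro π
  rw [Subgroup.map_top_of_surjective π hsurj] at hclean
  have hc := hclean (zpowers w) le_top (IsPGroup.of_card (n := 1) (by rw [Nat.card_zpowers, hwo, pow_one]))
    s trivial ⟨1, by rw [pow_one, pow_two, hs2]⟩ (by
      refine H48.mem_normalizer_of_cj_eq ?_
      rw [H48.cj, MonoidHom.map_zpowers]
      show zpowers (s * w * s⁻¹) = zpowers w
      rw [hinv, zpowers_inv])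
  rw [← mem_centralizer_iff.mp hc w (mem_zpowers w), mul_inv_cancel_right] at hinv
  have hw2 : w ^ 2 ^ 1 = 1 := by rw [pow_one, pow_two]; exact mul_eq_one_iff_eq_inv.mpr hinv
  have := eq_one_of_qEl_of_pow_two (i := 1) hro (by rw [pow_one, ← hwo, pow_orderOf_eq_one]) hw2
  rw [this, orderOf_one] at hwo
  exact hr.one_lt.ne hwo

end Cfsg.Agent.H61
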