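import Cfsg.Agent.H61.ZStarCor2
import Cfsg.Agent.H61.CharP
import Cfsg.Agent.Coprime.Action

/-!
Sylow subgroups invariant under an isolated involution, from the Z*-theorem (a hypothesis here).
-/

set_option autoImplicit false

namespace Cfsg.Agent.H61

universe u

theorem odd_card_sup_oddCore {G : Type*} [Group G] [Finite G] {p : ℕ} [hp : Fact p.Prime] (hp2 : p ≠ 2)
    {P : Subgroup G} (hP : IsPGroup p P) : Odd (Nat.card (Cfsg.oddCore G ⊔ P : Subgroup G)) := by
  haveI : (Cfsg.oddCore G).Normal := Cfsg.pPrimeCore_normal 2 G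
  obtain ⟨n, hn⟩ := IsPGroup.iff_card.mp hP
  refine ((Cfsg.Agent.Cores.odd_card_oddCore (G := G)).mul (show Odd (p ^ n) from
    (hp.out.odd_of_ne_two hp2).pow)).of_dvd_nat ?_
  have := Cfsg.Agent.Cores.card_sup_dvd P (Cfsg.oddCore G)
  rw [sup_comm, hn, mul_comm] at this
  exact this

theorem mem_normalizer_sup_oddCore {G : Type*} [Group G] [Finite G] {z : G}
    (hz : ∀ g : G, z * g * z⁻¹ * g⁻¹ ∈ Cfsg.oddCore G) (P : Subgroup G) :
    z ∈ Subgroup.normalizer ((Cfsg.oddCore G ⊔ P : Subgroup G) : Set G) := by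
  haveI : (Cfsg.oddCore G).Normal := Cfsg.pPrimeCore_normal 2 G
  refine mem_normalizer_of_conj_mem fun x hx => ?_
  have h : z * x * z⁻¹ = (z * x * z⁻¹ * x⁻¹) * x := by group
  rw [h]
  exact Subgroup.mul_mem _ (Subgroup.mem_sup_left (hz x)) hx

theorem zStar_cor_invariant_sylow (hZS : ZStarTheorem.{u}) {G : Type u} [Group G] [Finite G] (z : G)
    (hz : Cfsg.IsIsolatedInvolution z) {p : ℕ} [Fact p.Prime] (Q : Subgroup G) (hQ : IsPGroup p Q)
    (hzQ : z ∈ Subgroup.normalizer (Q : Set G))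
    (hmax : ∀ R : Subgroup G, IsPGroup p R → z ∈ Subgroup.normalizer (R : Set G) → Q ≤ R → R = Q) :
    ∃ P : Sylow p G, (P : Subgroup G) = Q := by
  haveI : Fact (Nat.Prime 2) := ⟨Nat.prime_two⟩
  by_cases hp2 : p = 2
  · subst hp2
    have h1 : IsPGroup 2 (Q ⊔ Subgroup.zpowers z : Subgroup G) :=
      hQ.to_sup_of_normal_left' (isPGroup_zpowers ⟨1, by rw [hz.1, pow_one]⟩) (Subgroup.zpowers_le.mpr hzQ)
    obtain ⟨P, hP⟩ := h1.exists_le_sylow
    exact ⟨P, hmax P P.isPGroup' (Subgroup.le_normalizer (hP (Subgroup.mem_sup_right (Subgroup.mem_zpowers z))))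
      (le_sup_left.trans hP)⟩
  obtain ⟨P, hP⟩ := hQ.exists_le_sylow
  set U := Cfsg.oddCore G ⊔ (P : Subgroup G)
  have hAU : Subgroup.zpowers z ≤ Subgroup.normalizer (U : Set G) :=
    Subgroup.zpowers_le.mpr (mem_normalizer_sup_oddCore (zStar_cor_soluble hZS z hz) _)
  obtain ⟨T, hQT, hzT⟩ := Cfsg.Agent.Coprime.exists_invariant_sylow_ge hAU
    (by rw [Nat.card_zpowers, hz.1]; exact Nat.coprime_two_left.mpr (odd_card_sup_oddCore hp2 P.isPGroup'))
    (Or.inl (Group.isSolvable_of_comm fun a b => Subtype.ext (setLike_mul_comm a.2 b.2))) p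
    (hP.trans le_sup_right) hQ (Subgroup.zpowers_le.mpr hzQ)
  have hT := hmax _ (T.isPGroup'.map U.subtype) (hzT (Subgroup.mem_zpowers z)) hQT
  refine ⟨P, (Subgroup.eq_of_le_of_card_ge hP ?_).symm⟩
  rw [← hT, Subgroup.card_map_of_injective U.subtype_injective]
  calc Nat.card (P : Subgroup G) = Nat.card ((P.subtype (le_sup_right : (P : Subgroup G) ≤ U) : Subgroup U)) :=
        (Nat.card_congr (Subgroup.subgroupOfEquivOfLe (le_sup_right : (P : Subgroup G) ≤ U)).toEquiv).symm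
    _ ≤ Nat.card (T : Subgroup U) := by rw [Sylow.card_eq_multiplicity, Sylow.card_eq_multiplicity]

theorem zStar_cor_invariant_sylow_centralizer (hZS : ZStarTheorem.{u}) {G : Type u} [Group G] [Finite G]
    (z : G) (hz : Cfsg.IsIsolatedInvolution z) {p : ℕ} [Fact p.Prime] (hp : p ≠ 2) (P : Sylow p G)
    (hzP : z ∈ Subgroup.normalizer ((P : Subgroup G) : Set G)) :
    ¬ p ∣ ((P : Subgroup G) ⊓ Subgroup.centralizer ({z} : Set G)).relIndex (Subgroup.centralizer ({z} : Set G)) ∧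
      ((P : Subgroup G) ⊓ Subgroup.centralizer ({z} : Set G)).relIndex (P : Subgroup G) =
        Nat.card {x : G // x ∈ P ∧ z * x * z⁻¹ = x⁻¹} := by
  haveI : Fact (Nat.Prime 2) := ⟨Nat.prime_two⟩
  set C := Subgroup.centralizer ({z} : Set G) with hC
  constructor
  · set R := Cfsg.oddCore G with hR
    haveI : R.Normal := Cfsg.pPrimeCore_normal 2 G
    set U := R ⊔ (P : Subgroup G) with hU
    have hAU : Subgroup.zpowers z ≤ Subgroup.normalizer (U : Set G) :=
      Subgroup.zpowers_le.mpr (mem_normalizer_sup_oddCore (zStar_cor_soluble hZS z hz) _)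
    have hcop : (Nat.card (Subgroup.zpowers z)).Coprime (Nat.card U) := by
      rw [Nat.card_zpowers, hz.1]; exact Nat.coprime_two_left.mpr (odd_card_sup_oddCore hp P.isPGroup')
    have hsolv : Group.IsSolvable (Subgroup.zpowers z) ∨ Group.IsSolvable U :=
      Or.inl (Group.isSolvable_of_comm fun a b => Subtype.ext (setLike_mul_comm a.2 b.2))
    obtain ⟨W⟩ := (Sylow.nonempty : Nonempty (Sylow p C))
    set W' := (W : Subgroup C).map C.subtype
    have hW'p : IsPGroup p W' := W.isPGroup'.map _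
    obtain ⟨T, hT⟩ := hW'p.exists_le_sylow
    obtain ⟨g, hg⟩ := MulAction.exists_smul_eq G T P
    have hgW : ∀ w ∈ W', g * w * g⁻¹ ∈ (P : Subgroup G) := fun w hw => by
      rw [← hg]
      exact ⟨w, hT hw, rfl⟩
    set H := R ⊔ Subgroup.zpowers z with hH
    have hzH : z ∈ H := Subgroup.mem_sup_right (Subgroup.mem_zpowers z)
    have hgH : g⁻¹ * z * g⁻¹⁻¹ ∈ H := by
      have h1 := zStar_cor_soluble hZS z hz g⁻¹
      have h2 := H.mul_mem (Subgroup.mem_sup_left (R.inv_mem h1)) hzH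
      simpa [mul_assoc] using h2
    obtain ⟨h, hh, hhg⟩ := exists_mem_conj (p := 2) (x := z) ⟨1, by rw [hz.1, pow_one]⟩ hz.2 hzH hgH
    obtain ⟨r, hr, a, ha, rfl⟩ := Subgroup.mem_sup_of_normal_left.mp hh
    set c := g * a⁻¹ * r⁻¹ with hc
    have hcC : c ∈ C := by
      have e : c = (r * a * g⁻¹)⁻¹ := by rw [hc]; group
      rw [e]; exact C.inv_mem hhg
    have haC : ∀ w ∈ W', a * w = w * a := fun w hw => by
      obtain ⟨w', hw', rfl⟩ := hw
      obtain ⟨i, rfl⟩ := Subgroup.mem_zpowers_iff.mp ha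
      exact (show Commute z (w' : G) from (Subgroup.mem_centralizer_singleton_iff.mp w'.2).symm).zpow_left i
    set V := W'.map (MulAut.conj c).toMonoidHom with hV
    have hVU : V ≤ U := by
      rintro _ ⟨w, hw, rfl⟩
      have hrw : r⁻¹ * w * r * w⁻¹ ∈ R := by
        have := R.mul_mem (R.inv_mem hr) ((inferInstance : R.Normal).conj_mem r hr w)
        simpa [mul_assoc] using this
      have h2 := (inferInstance : R.Normal).conj_mem _ hrw (g * a⁻¹)
      have e : c * w * c⁻¹ = ((g * a⁻¹) * (r⁻¹ * w * r * w⁻¹) * (g * a⁻¹)⁻¹) * (g * w * g⁻¹) := by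
        have e1 : (g * a⁻¹) * w * (g * a⁻¹)⁻¹ = g * w * g⁻¹ := by
          calc (g * a⁻¹) * w * (g * a⁻¹)⁻¹ = g * (a⁻¹ * (w * a)) * g⁻¹ := by group
            _ = g * w * g⁻¹ := by rw [← haC w hw, inv_mul_cancel_left]
        rw [← e1, hc]; group
      show c * w * c⁻¹ ∈ U
      rw [e]
      exact U.mul_mem (Subgroup.mem_sup_left h2) (Subgroup.mem_sup_right (hgW w hw))
    have hVC : V ≤ C := by
      rintro _ ⟨w, hw, rfl⟩
      exact C.mul_mem (C.mul_mem hcC (Subgroup.map_subtype_le _ hw)) (C.inv_mem hcC)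
    have hVn : Subgroup.zpowers z ≤ Subgroup.normalizer (V : Set G) := by
      rw [Subgroup.zpowers_le]
      refine mem_normalizer_of_conj_mem fun v hv => ?_
      rw [(Subgroup.mem_centralizer_singleton_iff.mp (hVC hv)).symm, mul_inv_cancel_right]
      exact hv
    obtain ⟨T', hVT', hzT'⟩ := Cfsg.Agent.Coprime.exists_invariant_sylow_ge hAU hcop hsolv p hVU
      (hW'p.map _) hVn
    have hPU : (P : Subgroup G) ≤ U := le_sup_right
    have hPn : Subgroup.zpowers z ≤
        Subgroup.normalizer ((((P.subtype hPU : Sylow p U) : Subgroup U).map U.subtype : Subgroup G) : Set G) := by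
      rw [Sylow.coe_subtype, Subgroup.map_subgroupOf_eq_of_le hPU]
      exact Subgroup.zpowers_le.mpr hzP
    obtain ⟨d, hd, hdT⟩ :=
      Cfsg.Agent.Coprime.exists_conj_invariant_sylow hAU hcop hsolv p T' (P.subtype hPU) hzT' hPn
    have hfin : V.map (MulAut.conj (d : G)).toMonoidHom ≤ (P : Subgroup G) ⊓ C := by
      rintro _ ⟨v, hv, rfl⟩
      refine ⟨?_, ?_⟩
      · obtain ⟨t, ht, htv⟩ := hVT' hv
        have h3 : d * t * d⁻¹ ∈ ((P.subtype hPU : Sylow p U) : Subgroup U) := by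
          rw [← hdT]; exact ⟨t, ht, rfl⟩
        have e : (d : G) * v * (d : G)⁻¹ = ((d * t * d⁻¹ : U) : G) := by rw [← htv]; rfl
        show (d : G) * v * (d : G)⁻¹ ∈ (P : Subgroup G)
        rw [e]; exact h3
      · have hdC : (d : G) ∈ C := Subgroup.centralizer_le (Set.singleton_subset_iff.mpr (Subgroup.mem_zpowers z)) hd
        exact C.mul_mem (C.mul_mem hdC (hVC hv)) (C.inv_mem hdC)
    intro hdvd
    have hcard := Subgroup.card_dvd_of_le hfin
    rw [Subgroup.card_map_of_injective (MulAut.conj (d : G)).injective, hV,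
      Subgroup.card_map_of_injective (MulAut.conj c).injective,
      Subgroup.card_map_of_injective C.subtype_injective] at hcard
    have h4 : Nat.card ↥((P : Subgroup G) ⊓ C) * p ∣ Nat.card C := by
      rw [← Subgroup.relIndex_bot_left C,
        ← Subgroup.relIndex_mul_relIndex ⊥ ((P : Subgroup G) ⊓ C) C bot_le inf_le_right,
        Subgroup.relIndex_bot_left]
      exact Nat.mul_dvd_mul_left _ hdvd
    have h5 := (Nat.mul_dvd_mul_right hcard p).trans h4
    rw [← Subgroup.card_mul_index (W : Subgroup C)] at h5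
    exact W.not_dvd_index ((Nat.mul_dvd_mul_iff_left Nat.card_pos).mp h5)
  · have hz2 : z * z = 1 := by rw [← pow_two, ← hz.1, pow_orderOf_eq_one]
    have hzi : z⁻¹ = z := inv_eq_of_mul_eq_one_right hz2
    set PC := ((P : Subgroup G) ⊓ C).subgroupOf (P : Subgroup G)
    have hconj : ∀ x ∈ (P : Subgroup G), z * x * z⁻¹ ∈ (P : Subgroup G) := fun x hx =>
      (Subgroup.mem_normalizer_iff.mp hzP x).mp hx
    let φ : ↥(P : Subgroup G) → {x : G // x ∈ P ∧ z * x * z⁻¹ = x⁻¹} := fun x =>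
      ⟨(x : G) * (z * (x : G)⁻¹ * z⁻¹), (P : Subgroup G).mul_mem x.2 (hconj _ ((P : Subgroup G).inv_mem x.2)), by
        simp only [mul_inv_rev, inv_inv, hzi, mul_assoc, hz2, mul_one]⟩
    have hiff : ∀ x y : (P : Subgroup G), φ x = φ y ↔ x⁻¹ * y ∈ PC := by
      intro x y
      have e : (x⁻¹ * y ∈ PC) ↔ ((x : G)⁻¹ * y) * z = z * ((x : G)⁻¹ * y) := by
        rw [Subgroup.mem_subgroupOf, Subgroup.mem_inf, Subgroup.mem_centralizer_singleton_iff]
        simp [(P : Subgroup G).mul_mem ((P : Subgroup G).inv_mem x.2) y.2]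
      rw [e, Subtype.ext_iff]
      constructor
      · intro h
        have h' : (x : G) * (z * (x : G)⁻¹ * z⁻¹) = (y : G) * (z * (y : G)⁻¹ * z⁻¹) := h
        calc (x : G)⁻¹ * y * z = (x : G)⁻¹ * ((y : G) * (z * (y : G)⁻¹ * z⁻¹)) * (z * y) := by group
          _ = z * ((x : G)⁻¹ * y) := by rw [← h']; group
      · intro h
        show (x : G) * (z * (x : G)⁻¹ * z⁻¹) = (y : G) * (z * (y : G)⁻¹ * z⁻¹)
        calc (x : G) * (z * (x : G)⁻¹ * z⁻¹) = (x : G) * (z * ((x : G)⁻¹ * y)) * (y : G)⁻¹ * z⁻¹ := by group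
          _ = (y : G) * (z * (y : G)⁻¹ * z⁻¹) := by rw [← h]; group
    let ψ : ↥(P : Subgroup G) ⧸ PC → {x : G // x ∈ P ∧ z * x * z⁻¹ = x⁻¹} :=
      Quotient.lift φ fun x y h => (hiff x y).mpr (QuotientGroup.leftRel_apply.mp h)
    have hinj : Function.Injective ψ := by
      intro a b h
      induction a using QuotientGroup.induction_on with
      | H x =>
        induction b using QuotientGroup.induction_on with
        | H y => exact QuotientGroup.eq.mpr ((hiff x y).mp h)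
    have hsurj : Function.Surjective ψ := by
      rintro ⟨u, huP, hu⟩
      obtain ⟨n, hn⟩ := exists_orderOf_eq_pow P.isPGroup' huP
      obtain ⟨m, hm⟩ : Odd (orderOf u) := hn ▸ ((Fact.out : p.Prime).odd_of_ne_two hp).pow
      set w := u ^ (m + 1) with hw
      refine ⟨QuotientGroup.mk (⟨w, (P : Subgroup G).pow_mem huP _⟩ : (P : Subgroup G)), Subtype.ext ?_⟩
      show w * (z * w⁻¹ * z⁻¹) = u
      have h1 : z * w⁻¹ * z⁻¹ = w := by
        rw [hw, ← inv_pow, ← conj_pow]
        congr 1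
        rw [show z * u⁻¹ * z⁻¹ = (z * u * z⁻¹)⁻¹ by group, hu, inv_inv]
      rw [h1, hw, ← pow_add, show m + 1 + (m + 1) = orderOf u + 1 by omega, pow_succ, pow_orderOf_eq_one,
        one_mul]
    exact Nat.card_eq_of_bijective ψ ⟨hinj, hsurj⟩

end Cfsg.Agent.H61
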