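import Cfsg.Agent.Cores.GlaubermanZStar
import Cfsg.Agent.FusionSys.StronglyEmbedded

/-!
S2962: `G = QN` with `Q` a 2-group, `Q ∩ N = 1`, `t ∈ Z(Q) ∩ Q'`, `C_N(t) = C_N(Q)`. A Sylow 2-subgroup of `N`
centralises `Q`, every element of `Z(Q) ∩ Q'` is isolated, and Glauberman's Z*-theorem gives `|[N, Q]|` odd.
-/

set_option autoImplicit false

namespace Cfsg.Agent.H61.QN

universe u

open scoped commutatorElement

variable {G : Type u} [Group G]

/-- Semidirect decomposition `G = QN`. -/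
structure Split (N Q : Subgroup G) : Prop where
  normal : N.Normal
  top : Q ⊔ N = ⊤
  disj : ∀ x ∈ Q, x ∈ N → x = 1
  two : IsPGroup 2 Q

theorem Split.decomp {N Q : Subgroup G} (h : Split N Q) (x : G) : ∃ q ∈ Q, ∃ n ∈ N, x = q * n := by
  haveI := h.normal
  have hx : x ∈ Q ⊔ N := by rw [h.top]; trivial
  rw [← SetLike.mem_coe, Subgroup.mul_normal] at hx
  obtain ⟨q, hq, n, hn, rfl⟩ := hx
  exact ⟨q, hq, n, hn, rfl⟩

theorem mem_sup_of_commute {Q D : Subgroup G} (hQD : ∀ q ∈ Q, ∀ d ∈ D, q * d = d * q) {x : G}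
    (hx : x ∈ Q ⊔ D) : ∃ q ∈ Q, ∃ d ∈ D, x = q * d := by
  have hn : Q ≤ Subgroup.normalizer (D : Set G) :=
    le_trans (fun q hq => Subgroup.mem_centralizer_iff.mpr fun d hd => (hQD q hq d hd).symm)
      (Subgroup.centralizer_le_normalizer _)
  rw [← SetLike.mem_coe, Subgroup.coe_mul_of_left_le_normalizer_right _ _ hn] at hx
  obtain ⟨q, hq, d, hd, rfl⟩ := hx
  exact ⟨q, hq, d, hd, rfl⟩

/-- An element inducing a central crossed map `Q → D` commutes with `[Q, Q]`. -/
theorem conj_fix [Finite G] {Q D : Subgroup G} {x : G} (hQD : ∀ q ∈ Q, ∀ d ∈ D, q * d = d * q)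
    (hD : ∀ d ∈ D, x * d * x⁻¹ ∈ D) (hq : ∀ q ∈ Q, q⁻¹ * (x * q * x⁻¹) ∈ D) {c : G} (hc : c ∈ ⁅Q, Q⁆) :
    x * c = c * x := by
  have hsurj : ∀ d ∈ D, ∃ d0 ∈ D, x * d0 * x⁻¹ = d := by
    have hmap : D.map (MulAut.conj x).toMonoidHom = D := by
      refine Subgroup.eq_of_le_of_card_ge ?_ (le_of_eq ?_)
      · rintro _ ⟨d, hd, rfl⟩
        exact hD d hd
      · exact (Subgroup.card_map_of_injective (MulAut.conj x).injective).symm
    intro d hd
    rw [← hmap] at hd
    exact hd
  have key : ⁅Q, Q⁆ ≤ Subgroup.centralizer ({x} : Set G) := by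
    rw [Subgroup.commutator_le]
    intro a ha b hb
    rw [Subgroup.mem_centralizer_singleton_iff]
    set ea := a⁻¹ * (x * a * x⁻¹) with hea
    set eb := b⁻¹ * (x * b * x⁻¹) with heb
    have hcen : ∀ r ∈ Q, ∀ d ∈ D, Commute (r⁻¹ * (x * r * x⁻¹)) d := by
      intro r hr d hd
      obtain ⟨d0, hd0, rfl⟩ := hsurj d hd
      refine Commute.mul_left (Commute.inv_left (hQD r hr _ hd)) ?_
      show x * r * x⁻¹ * (x * d0 * x⁻¹) = x * d0 * x⁻¹ * (x * r * x⁻¹)
      calc x * r * x⁻¹ * (x * d0 * x⁻¹) = x * (r * d0) * x⁻¹ := by group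
        _ = x * (d0 * r) * x⁻¹ := by rw [hQD r hr d0 hd0]
        _ = _ := by group
    have hA : x * a * x⁻¹ = a * ea := by rw [hea]; group
    have hB : x * b * x⁻¹ = b * eb := by rw [heb]; group
    have c1 : Commute ea b := (hQD b hb ea (hq a ha)).symm
    have c2 : Commute eb a := (hQD a ha eb (hq b hb)).symm
    have c3 : Commute ea a := (hQD a ha ea (hq a ha)).symm
    have c5 : Commute eb b := (hQD b hb eb (hq b hb)).symm
    have c4 : Commute ea eb := hcen a ha eb (hq b hb)
    have e : x * ⁅a, b⁆ * x⁻¹ = ⁅a, b⁆ := by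
      calc x * ⁅a, b⁆ * x⁻¹ = ⁅x * a * x⁻¹, x * b * x⁻¹⁆ := by
            simp only [commutatorElement_def]; group
        _ = (a * ea) * (b * eb) * (a * ea)⁻¹ * (b * eb)⁻¹ := by rw [hA, hB, commutatorElement_def]
        _ = a * (ea * b) * eb * ea⁻¹ * a⁻¹ * eb⁻¹ * b⁻¹ := by group
        _ = a * b * (ea * eb) * ea⁻¹ * a⁻¹ * eb⁻¹ * b⁻¹ := by rw [c1.eq]; group
        _ = a * b * (eb * a⁻¹) * eb⁻¹ * b⁻¹ := by rw [c4.eq]; group
        _ = a * b * (a⁻¹ * eb) * eb⁻¹ * b⁻¹ := by rw [c2.inv_right.eq]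
        _ = ⁅a, b⁆ := by rw [commutatorElement_def]; group
    calc ⁅a, b⁆ * x = x * ⁅a, b⁆ * x⁻¹ * x := by rw [e]
      _ = _ := by group
  exact (Subgroup.mem_centralizer_singleton_iff.mp (key hc)).symm

variable [Finite G] {N Q : Subgroup G}

theorem Split.sylow_decomp (h : Split N Q) {S : Sylow 2 G} (hQS : Q ≤ (S : Subgroup G)) {x : G}
    (hx : x ∈ (S : Subgroup G)) : ∃ q ∈ Q, ∃ n ∈ (S : Subgroup G) ⊓ N, x = q * n := by
  obtain ⟨q, hq, n, hn, rfl⟩ := h.decomp x
  refine ⟨q, hq, n, ⟨?_, hn⟩, rfl⟩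
  have := (S : Subgroup G).mul_mem ((S : Subgroup G).inv_mem (hQS hq)) hx
  rwa [inv_mul_cancel_left] at this

/-- The Sylow subgroup of `N` inside a Sylow subgroup over `Q` centralises `Q`. -/
theorem Split.sylow_le_centralizer (h : Split N Q) {S : Sylow 2 G} (hQS : Q ≤ (S : Subgroup G)) {t : G}
    (ht : t ∈ ⁅Q, Q⁆) (hC : ∀ n ∈ N, n * t = t * n → ∀ q ∈ Q, q * n = n * q) :
    ∀ q ∈ Q, ∀ d ∈ (S : Subgroup G) ⊓ N, q * d = d * q := by
  haveI : Fact (Nat.Prime 2) := ⟨Nat.prime_two⟩
  haveI := h.normal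
  set C := (S : Subgroup G) ⊓ N ⊓ Subgroup.centralizer (Q : Set G) with hCdef
  have hQC : ∀ q ∈ Q, ∀ d ∈ C, q * d = d * q := fun q hq d hd => Subgroup.mem_centralizer_iff.mp hd.2 q hq
  have hle : Q ⊔ C ≤ (S : Subgroup G) := sup_le hQS fun d hd => hd.1.1
  intro q hq d hd
  rcases hle.eq_or_lt with he | hlt
  · have : d ∈ Q ⊔ C := he ▸ hd.1
    obtain ⟨q', hq', c, hc, rfl⟩ := mem_sup_of_commute hQC this
    have hq1 : q' = 1 := h.disj q' hq' (by
      have := N.mul_mem hd.2 (N.inv_mem hc.1.2)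
      rwa [mul_inv_cancel_right] at this)
    rw [hq1, one_mul]
    exact hQC q hq c hc
  · exfalso
    obtain ⟨y, ⟨hyS, hyN⟩, hy⟩ := SetLike.exists_of_lt (FusionSys.lt_inf_normalizer_of_lt S.isPGroup' hlt)
    obtain ⟨q0, hq0, x, hx, rfl⟩ := h.sylow_decomp hQS hyS
    have hxN : x ∈ Subgroup.normalizer ((Q ⊔ C : Subgroup G) : Set G) := by
      have := mul_mem (inv_mem (Subgroup.le_normalizer (Subgroup.mem_sup_left hq0))) hyN
      rwa [inv_mul_cancel_left] at this
    have hin : ∀ v ∈ Q ⊔ C, v ∈ N → v ∈ C := by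
      intro v hv hvN
      obtain ⟨q', hq', c, hc, rfl⟩ := mem_sup_of_commute hQC hv
      rw [h.disj q' hq' (by
        have := N.mul_mem hvN (N.inv_mem hc.1.2)
        rwa [mul_inv_cancel_right] at this), one_mul]
      exact hc
    have hD : ∀ c ∈ C, x * c * x⁻¹ ∈ C := fun c hc =>
      hin _ ((Subgroup.mem_normalizer_iff.mp hxN c).mp (Subgroup.mem_sup_right hc))
        (N.mul_mem (N.mul_mem hx.2 hc.1.2) (N.inv_mem hx.2))
    have hqc : ∀ r ∈ Q, r⁻¹ * (x * r * x⁻¹) ∈ C := fun r hr => by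
      refine hin _ (Subgroup.mul_mem _ (Subgroup.inv_mem _ (Subgroup.mem_sup_left hr))
        ((Subgroup.mem_normalizer_iff.mp hxN r).mp (Subgroup.mem_sup_left hr))) ?_
      rw [show r⁻¹ * (x * r * x⁻¹) = (r⁻¹ * x * r) * x⁻¹ by group]
      refine N.mul_mem ?_ (N.inv_mem hx.2)
      simpa using (inferInstance : N.Normal).conj_mem x hx.2 r⁻¹
    have hxt : x * t = t * x := conj_fix hQC hD hqc ht
    have hxC : x ∈ C := ⟨hx, Subgroup.mem_centralizer_iff.mpr fun r hr => hC x hx.2 hxt r hr⟩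
    exact hy (Subgroup.mul_mem _ (Subgroup.mem_sup_left hq0) (Subgroup.mem_sup_right hxC))

theorem Split.relIndex_odd (h : Split N Q) {S : Sylow 2 G} (hQS : Q ≤ (S : Subgroup G)) :
    ¬ 2 ∣ ((S : Subgroup G) ⊓ N).relIndex N := by
  haveI : Fact (Nat.Prime 2) := ⟨Nat.prime_two⟩
  haveI := h.normal
  rw [Subgroup.inf_relIndex_right]
  intro h2
  apply S.not_dvd_index
  refine h2.trans (dvd_of_eq ?_)
  have htop : (S : Subgroup G) ⊔ N = ⊤ := top_le_iff.mp (h.top ▸ sup_le_sup_right hQS N)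
  -- `[N : S ∩ N] = [G : S]`
  have h1 := Subgroup.card_mul_index (S : Subgroup G)
  have h3 := Subgroup.relIndex_mul_relIndex ((S : Subgroup G) ⊓ N) N ⊤ inf_le_right le_top
  have h4 := Subgroup.relIndex_mul_relIndex ((S : Subgroup G) ⊓ N) (S : Subgroup G) ⊤ inf_le_left le_top
  rw [Subgroup.relIndex_top_right, Subgroup.relIndex_top_right] at h3 h4
  rw [Subgroup.inf_relIndex_right] at h3
  rw [Subgroup.inf_relIndex_left, ← Subgroup.relIndex_sup_right (K := N) (H := (S : Subgroup G)), htop,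
    Subgroup.relIndex_top_right] at h4
  rw [← h4, mul_comm N.index] at h3
  exact Nat.eq_of_mul_eq_mul_right (Nat.pos_of_ne_zero N.index_ne_zero_of_finite) h3

/-- The elements of `Z(Q) ∩ Q'` are isolated. -/
theorem Split.isolated (h : Split N Q) {S : Sylow 2 G} (hQS : Q ≤ (S : Subgroup G))
    (hT : ∀ q ∈ Q, ∀ d ∈ (S : Subgroup G) ⊓ N, q * d = d * q) {s : G} (hs : s ∈ ⁅Q, Q⁆) (hsQ : s ∈ Q)
    (hsc : ∀ q ∈ Q, q * s = s * q) : ∀ g : G, g * s * g⁻¹ ∈ (S : Subgroup G) → g * s * g⁻¹ = s := by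
  haveI : Fact (Nat.Prime 2) := ⟨Nat.prime_two⟩
  haveI := h.normal
  set T := (S : Subgroup G) ⊓ N with hTdef
  have hTp : IsPGroup 2 T := S.isPGroup'.to_le inf_le_left
  have main : ∀ k : ℕ, ∀ c ∈ T, ∀ n ∈ N, n * s * n⁻¹ = s * c →
      Nat.card T - Nat.card ↥(T ⊓ Subgroup.centralizer ({c} : Set G)) ≤ k → c = 1 := by
    intro k
    induction k using Nat.strong_induction_on with
    | _ k ih =>
    intro c hcT n hn hnc hk
    set R := T ⊓ Subgroup.centralizer ({c} : Set G) with hR
    set U := Q ⊔ R with hU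
    have hQR : ∀ q ∈ Q, ∀ d ∈ R, q * d = d * q := fun q hq d hd => hT q hq d hd.1
    set C1 := Subgroup.centralizer ({s * c} : Set G) with hC1
    have hUC : U ≤ C1 := by
      refine sup_le ?_ ?_
      · intro q hq
        rw [hC1, Subgroup.mem_centralizer_singleton_iff, ← mul_assoc, hsc q hq, mul_assoc, hT q hq c hcT,
          ← mul_assoc]
      · intro r hr
        rw [hC1, Subgroup.mem_centralizer_singleton_iff, ← mul_assoc, ← hT s hsQ r hr.1, mul_assoc,
          Subgroup.mem_centralizer_singleton_iff.mp hr.2, ← mul_assoc]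
    have hSs : ∀ v ∈ (S : Subgroup G), v * s = s * v := by
      intro v hv
      obtain ⟨q, hq, d, hd, rfl⟩ := h.sylow_decomp hQS hv
      rw [mul_assoc, ← hT s hsQ d hd, ← mul_assoc, hsc q hq, mul_assoc]
    set S' := (S : Subgroup G).map (MulAut.conj n).toMonoidHom with hS'
    have hS'C : S' ≤ C1 := by
      rintro _ ⟨v, hv, rfl⟩
      rw [hC1, Subgroup.mem_centralizer_singleton_iff, ← hnc]
      show n * v * n⁻¹ * (n * s * n⁻¹) = n * s * n⁻¹ * (n * v * n⁻¹)
      calc n * v * n⁻¹ * (n * s * n⁻¹) = n * (v * s) * n⁻¹ := by group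
        _ = n * (s * v) * n⁻¹ := by rw [hSs v hv]
        _ = _ := by group
    by_cases hRT : R = T
    · -- `s` and `s c` are both central in `S`
      have hSC : (S : Subgroup G) ≤ C1 := by
        intro v hv
        obtain ⟨q, hq, d, hd, rfl⟩ := h.sylow_decomp hQS hv
        exact C1.mul_mem (hUC (Subgroup.mem_sup_left hq)) (hUC (Subgroup.mem_sup_right (hRT.symm ▸ hd)))
      let S1 : Sylow 2 C1 := S.subtype hSC
      let S2 : Sylow 2 C1 := (n • S : Sylow 2 G).subtype (by
        rw [Sylow.coe_subgroup_smul]; exact hS'C)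
      obtain ⟨e, he⟩ := MulAction.exists_smul_eq C1 S2 S1
      have hconj : ∀ v ∈ (S : Subgroup G), ((e : G) * n) * v * ((e : G) * n)⁻¹ ∈ (S : Subgroup G) := by
        intro v hv
        have hnv : n * v * n⁻¹ ∈ S' := ⟨v, hv, rfl⟩
        have : e * ⟨_, hS'C hnv⟩ * e⁻¹ ∈ (S1 : Subgroup C1) := by
          rw [← he, Sylow.coe_subgroup_smul]
          refine ⟨⟨_, hS'C hnv⟩, ?_, rfl⟩
          show n * v * n⁻¹ ∈ ((n • S : Sylow 2 G) : Subgroup G)
          rw [Sylow.coe_subgroup_smul]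
          exact ⟨v, hv, rfl⟩
        have h2 : (e : G) * (n * v * n⁻¹) * (e : G)⁻¹ ∈ (S : Subgroup G) := this
        rwa [show ((e : G) * n) * v * ((e : G) * n)⁻¹ = (e : G) * (n * v * n⁻¹) * (e : G)⁻¹ by group]
      obtain ⟨q0, hq0, n0, hn0, hw⟩ := h.decomp ((e : G) * n)
      have hn0S : ∀ v ∈ (S : Subgroup G), n0 * v * n0⁻¹ ∈ (S : Subgroup G) := by
        intro v hv
        rw [show n0 * v * n0⁻¹ = q0⁻¹ * ((q0 * n0) * v * (q0 * n0)⁻¹) * q0 by group, ← hw]
        exact (S : Subgroup G).mul_mem ((S : Subgroup G).mul_mem ((S : Subgroup G).inv_mem (hQS hq0))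
          (hconj v hv)) (hQS hq0)
      have hes : ((e : G) * n) * s * ((e : G) * n)⁻¹ = s * c := by
        calc ((e : G) * n) * s * ((e : G) * n)⁻¹ = (e : G) * (n * s * n⁻¹) * (e : G)⁻¹ := by group
          _ = (e : G) * (s * c) * (e : G)⁻¹ := by rw [hnc]
          _ = s * c := by rw [Subgroup.mem_centralizer_singleton_iff.mp e.2, mul_inv_cancel_right]
      have hn0s : n0 * s * n0⁻¹ = s * c := by
        have hq0c : q0⁻¹ * (s * c) = (s * c) * q0⁻¹ :=
          Subgroup.mem_centralizer_singleton_iff.mp (hUC (Subgroup.mem_sup_left (Q.inv_mem hq0)))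
        rw [show n0 * s * n0⁻¹ = q0⁻¹ * ((q0 * n0) * s * (q0 * n0)⁻¹) * q0 by group, ← hw, hes, hq0c,
          inv_mul_cancel_right]
      have hfix : n0 * s = s * n0 := by
        refine conj_fix hT (fun d hd => ⟨hn0S d hd.1, N.mul_mem (N.mul_mem hn0 hd.2) (N.inv_mem hn0)⟩)
          (fun r hr => ⟨?_, ?_⟩) hs
        · exact (S : Subgroup G).mul_mem ((S : Subgroup G).inv_mem (hQS hr)) (hn0S r (hQS hr))
        · rw [show r⁻¹ * (n0 * r * n0⁻¹) = (r⁻¹ * n0 * r) * n0⁻¹ by group]
          refine N.mul_mem ?_ (N.inv_mem hn0)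
          simpa using (inferInstance : N.Normal).conj_mem n0 hn0 r⁻¹
      rw [hfix, mul_inv_cancel_right] at hn0s
      exact mul_left_cancel (a := s) (by rw [← hn0s, mul_one])
    · have hRlt : R < T := lt_of_le_of_ne inf_le_left hRT
      have hU2 : IsPGroup 2 U := S.isPGroup'.to_le (sup_le hQS fun r hr => hr.1.1)
      obtain ⟨P, hP⟩ := (hU2.of_equiv (Subgroup.subgroupOfEquivOfLe hUC).symm).exists_le_sylow
      set P2 := (P : Subgroup C1).map C1.subtype with hP2
      have hP2p : IsPGroup 2 P2 := P.isPGroup'.map _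
      have hUP : U ≤ P2 := fun v hv => ⟨⟨v, hUC hv⟩, hP hv, rfl⟩
      have hne : U ≠ P2 := by
        intro he
        have hc2 : Nat.card P2 = Nat.card (S : Subgroup G) := by
          let S2 : Sylow 2 C1 := (n • S : Sylow 2 G).subtype (by
            rw [Sylow.coe_subgroup_smul]; exact hS'C)
          rw [hP2, Subgroup.card_map_of_injective C1.subtype_injective, Sylow.card_eq_multiplicity P,
            ← Sylow.card_eq_multiplicity S2, Sylow.coe_subtype,
            Nat.card_congr (Subgroup.subgroupOfEquivOfLe (by rw [Sylow.coe_subgroup_smul]; exact hS'C)).toEquiv,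
            Sylow.card_eq_multiplicity, ← Sylow.card_eq_multiplicity S]
        have hUS : U = (S : Subgroup G) := Subgroup.eq_of_le_of_card_ge (sup_le hQS fun r hr => hr.1.1)
          (le_of_eq (by rw [← hc2, ← he]))
        refine hRlt.not_ge fun d hd => ?_
        have : d ∈ U := hUS ▸ hd.1
        obtain ⟨q, hq, r, hr, rfl⟩ := mem_sup_of_commute hQR this
        rw [h.disj q hq (by
          have := N.mul_mem hd.2 (N.inv_mem hr.1.2)
          rwa [mul_inv_cancel_right] at this), one_mul]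
        exact hr
      obtain ⟨y, ⟨hyP, hyN⟩, hyU⟩ :=
        SetLike.exists_of_lt (FusionSys.lt_inf_normalizer_of_lt hP2p (lt_of_le_of_ne hUP hne))
      set P3 := P2 ⊓ Subgroup.normalizer (U : Set G) with hP3
      set R2 := P3 ⊓ N with hR2
      have hinU : ∀ v ∈ U, v ∈ N → v ∈ R := by
        intro v hv hvN
        obtain ⟨q, hq, r, hr, rfl⟩ := mem_sup_of_commute hQR hv
        rw [h.disj q hq (by
          have := N.mul_mem hvN (N.inv_mem hr.1.2)
          rwa [mul_inv_cancel_right] at this), one_mul]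
        exact hr
      have hR2fix : ∀ x ∈ R2, x * s = s * x ∧ x * c = c * x := by
        intro x hx
        have h1 : x * s = s * x := by
          refine conj_fix hQR (fun d hd => ?_) (fun r hr => ?_) hs
          · exact hinU _ ((Subgroup.mem_normalizer_iff.mp hx.1.2 d).mp (Subgroup.mem_sup_right hd))
              (N.mul_mem (N.mul_mem hx.2 hd.1.2) (N.inv_mem hx.2))
          · refine hinU _ (U.mul_mem (U.inv_mem (Subgroup.mem_sup_left hr))
              ((Subgroup.mem_normalizer_iff.mp hx.1.2 r).mp (Subgroup.mem_sup_left hr))) ?_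
            rw [show r⁻¹ * (x * r * x⁻¹) = (r⁻¹ * x * r) * x⁻¹ by group]
            refine N.mul_mem ?_ (N.inv_mem hx.2)
            simpa using (inferInstance : N.Normal).conj_mem x hx.2 r⁻¹
        refine ⟨h1, ?_⟩
        have hxC : x ∈ C1 := Subgroup.map_subtype_le _ hx.1.1
        have h2 := Subgroup.mem_centralizer_singleton_iff.mp hxC
        rw [← mul_assoc, h1, mul_assoc, mul_assoc] at h2
        exact mul_left_cancel h2
      have hRR2 : R ≤ R2 := fun r hr =>
        ⟨⟨hUP (Subgroup.mem_sup_right hr), Subgroup.le_normalizer (Subgroup.mem_sup_right hr)⟩, hr.1.2⟩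
      obtain ⟨q, hq, x, hx, rfl⟩ := h.decomp y
      have hxR2 : x ∈ R2 := by
        have h1 := P3.mul_mem (P3.inv_mem (show q ∈ P3 from
          ⟨hUP (Subgroup.mem_sup_left hq), Subgroup.le_normalizer (Subgroup.mem_sup_left hq)⟩))
          (show q * x ∈ P3 from ⟨hyP, hyN⟩)
        rw [inv_mul_cancel_left] at h1
        exact ⟨h1, hx⟩
      have hxR : x ∉ R := fun hxR => hyU (U.mul_mem (Subgroup.mem_sup_left hq) (Subgroup.mem_sup_right hxR))
      -- move `⟨c⟩ R2` into `T` inside `C_N(s)`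
      set M := N ⊓ Subgroup.centralizer ({s} : Set G) with hM
      have hTM : T ≤ M := fun d hd =>
        ⟨hd.2, Subgroup.mem_centralizer_singleton_iff.mpr (hT s hsQ d hd).symm⟩
      have hR2M : R2 ≤ M := fun v hv => ⟨hv.2, Subgroup.mem_centralizer_singleton_iff.mpr (hR2fix v hv).1⟩
      have hidx : ¬ 2 ∣ (T.subgroupOf M).index := fun h2 => by
        apply h.relIndex_odd hQS
        rw [← Subgroup.relIndex_mul_relIndex T M N hTM inf_le_left]
        exact h2.trans (dvd_mul_right _ _)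
      let TM : Sylow 2 M := IsPGroup.toSylow (P := T.subgroupOf M)
        (hTp.of_equiv (Subgroup.subgroupOfEquivOfLe hTM).symm) hidx
      have hzc : Subgroup.zpowers c ≤ T := Subgroup.zpowers_le.mpr hcT
      set W := R2 ⊔ Subgroup.zpowers c with hW
      have hWp : IsPGroup 2 W := by
        refine (hP2p.to_le (inf_le_left.trans inf_le_left) : IsPGroup 2 R2).to_sup_of_normal_right'
          (hTp.to_le hzc) ?_
        refine le_trans ?_ (Subgroup.centralizer_le_normalizer _)
        intro v hv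
        refine Subgroup.mem_centralizer_iff.mpr fun z hz => ?_
        obtain ⟨i, rfl⟩ := Subgroup.mem_zpowers_iff.mp hz
        exact ((show Commute c v from (hR2fix v hv).2.symm).zpow_left i)
      have hWM : W ≤ M := sup_le hR2M (hzc.trans hTM)
      obtain ⟨P4, hP4⟩ := (hWp.of_equiv (Subgroup.subgroupOfEquivOfLe hWM).symm).exists_le_sylow
      obtain ⟨m, hm⟩ := MulAction.exists_smul_eq M P4 TM
      have hmW : ∀ v ∈ W, (m : G) * v * (m : G)⁻¹ ∈ T := by
        intro v hv
        have : m * ⟨v, hWM hv⟩ * m⁻¹ ∈ (TM : Subgroup M) := by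
          rw [← hm, Sylow.coe_subgroup_smul]
          exact ⟨_, hP4 hv, rfl⟩
        exact this
      set c2 := (m : G) * c * (m : G)⁻¹ with hc2
      have hms : (m : G) * s = s * (m : G) := Subgroup.mem_centralizer_singleton_iff.mp m.2.2
      have hnc2 : ((m : G) * n) * s * ((m : G) * n)⁻¹ = s * c2 := by
        calc ((m : G) * n) * s * ((m : G) * n)⁻¹ = (m : G) * (n * s * n⁻¹) * (m : G)⁻¹ := by group
          _ = ((m : G) * s) * c * (m : G)⁻¹ := by rw [hnc]; group
          _ = s * c2 := by rw [hms, hc2]; group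
      have hle : R2.map (MulAut.conj (m : G)).toMonoidHom ≤ T ⊓ Subgroup.centralizer ({c2} : Set G) := by
        rintro _ ⟨v, hv, rfl⟩
        refine ⟨hmW v (Subgroup.mem_sup_left hv), Subgroup.mem_centralizer_singleton_iff.mpr ?_⟩
        show (m : G) * v * (m : G)⁻¹ * ((m : G) * c * (m : G)⁻¹)
          = (m : G) * c * (m : G)⁻¹ * ((m : G) * v * (m : G)⁻¹)
        calc (m : G) * v * (m : G)⁻¹ * ((m : G) * c * (m : G)⁻¹) = (m : G) * (v * c) * (m : G)⁻¹ := by group
          _ = (m : G) * (c * v) * (m : G)⁻¹ := by rw [(hR2fix v hv).2]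
          _ = _ := by group
      have h1 : Nat.card R < Nat.card R2 := by
        by_contra hh
        exact hxR (Subgroup.eq_of_le_of_card_ge hRR2 (not_lt.mp hh) ▸ hxR2)
      have h2 := Subgroup.card_le_of_le hle
      rw [Subgroup.card_map_of_injective (MulAut.conj (m : G)).injective] at h2
      have h3 : Nat.card R2 ≤ Nat.card T := h2.trans (Subgroup.card_le_of_le inf_le_left)
      have hc21 : c2 = 1 :=
        ih (Nat.card T - Nat.card ↥(T ⊓ Subgroup.centralizer ({c2} : Set G))) (by omega) c2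
          (hmW c (Subgroup.mem_sup_right (Subgroup.mem_zpowers c))) ((m : G) * n) (N.mul_mem m.2.1 hn) hnc2
          le_rfl
      calc c = (m : G)⁻¹ * c2 * (m : G) := by rw [hc2]; group
        _ = 1 := by rw [hc21, mul_one, inv_mul_cancel]
  intro g hg
  obtain ⟨q, hq, n, hn, rfl⟩ := h.decomp g
  have hns : n * s * n⁻¹ ∈ (S : Subgroup G) := by
    rw [show n * s * n⁻¹ = q⁻¹ * (q * n * s * (q * n)⁻¹) * q by group]
    exact (S : Subgroup G).mul_mem ((S : Subgroup G).mul_mem ((S : Subgroup G).inv_mem (hQS hq)) hg) (hQS hq)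
  have hcT : s⁻¹ * (n * s * n⁻¹) ∈ T := by
    refine ⟨(S : Subgroup G).mul_mem ((S : Subgroup G).inv_mem (hQS hsQ)) hns, ?_⟩
    rw [show s⁻¹ * (n * s * n⁻¹) = (s⁻¹ * n * s) * n⁻¹ by group]
    refine N.mul_mem ?_ (N.inv_mem hn)
    simpa using (inferInstance : N.Normal).conj_mem n hn s⁻¹
  have hc1 := main _ _ hcT n hn (by group) le_rfl
  rw [inv_mul_eq_one] at hc1
  rw [show q * n * s * (q * n)⁻¹ = q * (n * s * n⁻¹) * q⁻¹ by group, ← hc1, hsc q hq, mul_inv_cancel_right]

/-- `|[N, Q]|` is odd. -/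
theorem odd_commutator : ∀ (m : ℕ) (G : Type u) [Group G] [Finite G] (N Q : Subgroup G) (t : G),
    Nat.card G ≤ m → Split N Q → t ≠ 1 → t ∈ Q → t ∈ ⁅Q, Q⁆ → (∀ q ∈ Q, q * t = t * q) →
    (∀ n ∈ N, n * t = t * n → ∀ q ∈ Q, q * n = n * q) → Odd (Nat.card ↥⁅N, Q⁆) := by
  intro m
  induction m using Nat.strong_induction_on with
  | _ m ih =>
  intro G _ _ N Q t hm h ht1 htQ ht htc hC
  haveI : Fact (Nat.Prime 2) := ⟨Nat.prime_two⟩
  haveI := h.normal
  obtain ⟨S, hQS⟩ := h.two.exists_le_sylow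
  have hT := h.sylow_le_centralizer hQS ht hC
  obtain ⟨a, ha⟩ := IsPGroup.iff_orderOf.mp h.two ⟨t, htQ⟩
  rw [Subgroup.orderOf_mk] at ha
  obtain ⟨b, rfl⟩ : ∃ b, a = b + 1 := by
    refine ⟨a - 1, ?_⟩
    rcases a with _ | a
    · rw [pow_zero, orderOf_eq_one_iff] at ha
      exact absurd ha ht1
    · simp
  set s := t ^ 2 ^ b with hsdef
  have hs2 : orderOf s = 2 := by
    rw [hsdef, orderOf_pow' _ (pow_ne_zero _ two_ne_zero), ha, Nat.gcd_eq_right (pow_dvd_pow 2 (Nat.le_succ b)),
      pow_succ, Nat.mul_div_cancel_left _ (pow_pos two_pos _)]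
  have hsQ : s ∈ Q := Q.pow_mem htQ _
  have hs : s ∈ ⁅Q, Q⁆ := Subgroup.pow_mem _ ht _
  have hsc : ∀ q ∈ Q, q * s = s * q := fun q hq => (show Commute q t from htc q hq).pow_right _
  have hiso := h.isolated hQS hT hs hsQ hsc
  have hZ := Cores.glaubermanZStar S hs2 (hQS hsQ) hiso
  haveI : (Cfsg.oddCore G).Characteristic := Cores.pPrimeCore_characteristic
  set O := Cfsg.oddCore G with hOdef
  have hOodd : Odd (Nat.card O) := Cores.odd_card_oddCore
  have hON : O ≤ N := by
    intro x hx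
    have hodd : Odd (orderOf x) := hOodd.of_dvd_nat (O.orderOf_dvd_natCard hx)
    obtain ⟨q, hq, n, hn, rfl⟩ := h.decomp x
    obtain ⟨i, hi⟩ := h.two ⟨q, hq⟩
    have hqi : q ^ 2 ^ i = 1 := congrArg Subtype.val hi
    have h1 : (QuotientGroup.mk' N (q * n)) ^ 2 ^ i = 1 := by
      rw [map_mul, show QuotientGroup.mk' N n = 1 from (QuotientGroup.eq_one_iff n).mpr hn, mul_one,
        ← map_pow, hqi, map_one]
    have h2 : orderOf (QuotientGroup.mk' N (q * n)) = 1 :=
      Nat.eq_one_of_dvd_coprimes ((Nat.coprime_two_left.mpr hodd).pow_left i)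
        (orderOf_dvd_of_pow_eq_one h1) (orderOf_map_dvd _ _)
    exact (QuotientGroup.eq_one_iff _).mp (orderOf_eq_one_iff.mp h2)
  set M := N ⊓ Subgroup.centralizer ({s} : Set G) with hMdef
  have hss : s * s = 1 := by rw [← pow_two, ← hs2, pow_orderOf_eq_one]
  have hsi : s⁻¹ = s := inv_eq_of_mul_eq_one_right hss
  have hdec : ∀ n ∈ N, ∃ o ∈ O, ∃ k ∈ M, n = o * k := by
    intro n hn
    set a' := n * s * n⁻¹ * s with ha'
    have ha'O : a' ∈ O := by
      have := O.inv_mem (hZ n)
      rw [ha']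
      have e : (s * n * s⁻¹ * n⁻¹)⁻¹ = n * s * n⁻¹ * s⁻¹ := by group
      rw [e] at this
      nth_rw 2 [← hsi]
      exact this
    have hinv : s * a' * s = a'⁻¹ := by
      rw [ha', mul_inv_rev, mul_inv_rev, mul_inv_rev, inv_inv, hsi]
      calc s * (n * s * n⁻¹ * s) * s = s * n * s * n⁻¹ * (s * s) := by group
        _ = s * (n * (s * n⁻¹)) := by rw [hss, mul_one]; group
    obtain ⟨j, hj⟩ : Odd (orderOf a') := hOodd.of_dvd_nat (O.orderOf_dvd_natCard ha'O)
    set o := a' ^ (j + 1) with ho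
    have hoO : o ∈ O := O.pow_mem ha'O _
    refine ⟨o, hoO, o⁻¹ * n, ⟨N.mul_mem (N.inv_mem (hON hoO)) hn, ?_⟩, (mul_inv_cancel_left o n).symm⟩
    refine Subgroup.mem_centralizer_singleton_iff.mpr ?_
    have hso : s * o * s = o⁻¹ := by
      nth_rw 2 [← hsi]
      rw [ho, ← conj_pow, hsi, hinv, inv_pow]
    have ho2 : o * o = a' := by
      rw [ho, ← pow_add, show j + 1 + (j + 1) = (2 * j + 1) + 1 by omega, ← hj, pow_succ, pow_orderOf_eq_one,
        one_mul]
    have hns : n * s * n⁻¹ = a' * s := by rw [ha', mul_assoc (n * s * n⁻¹) s s, hss, mul_one]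
    calc o⁻¹ * n * s = o⁻¹ * (n * s * n⁻¹) * n := by group
      _ = o⁻¹ * (o * o * s) * n := by rw [hns, ho2]
      _ = o * s * n := by group
      _ = s * (s * o * s) * n := by
          calc o * s * n = (s * s) * (o * s) * n := by rw [hss, one_mul]
            _ = _ := by group
      _ = s * (o⁻¹ * n) := by rw [hso]; group
  have hQM : ∀ q ∈ Q, ∀ k ∈ M, q * k * q⁻¹ ∈ M := by
    intro q hq k hk
    refine ⟨(inferInstance : N.Normal).conj_mem k hk.1 q, Subgroup.mem_centralizer_singleton_iff.mpr ?_⟩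
    have h1 : Commute k s := Subgroup.mem_centralizer_singleton_iff.mp hk.2
    have h2 : Commute q s := hsc q hq
    exact (h2.mul_left h1).mul_left h2.inv_left
  have hMQ : Odd (Nat.card ↥⁅M, Q⁆) := by
    by_cases hMN : M = N
    · have hcen : s ∈ Subgroup.center G := by
        refine Subgroup.mem_center_iff.mpr fun g => ?_
        obtain ⟨q, hq, n, hn, rfl⟩ := h.decomp g
        have h1 : Commute n s := Subgroup.mem_centralizer_singleton_iff.mp (hMN.symm ▸ hn : n ∈ M).2
        exact (show Commute q s from hsc q hq).mul_left h1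
      rw [hMN]
      set Z := Subgroup.zpowers s with hZdef
      by_cases htZ : t ∈ Z
      · have hbot : ⁅N, Q⁆ = ⊥ := by
          rw [Subgroup.commutator_eq_bot_iff_le_centralizer]
          intro n hn
          refine Subgroup.mem_centralizer_iff.mpr fun q hq => hC n hn ?_ q hq
          obtain ⟨i, hi⟩ := Subgroup.mem_zpowers_iff.mp htZ
          rw [← hi]
          exact (show Commute n s from Subgroup.mem_center_iff.mp hcen n).zpow_right i
        rw [hbot, Subgroup.card_bot]
        exact odd_one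
      · haveI hZn : Z.Normal := ⟨fun z hz g => by
          obtain ⟨i, rfl⟩ := Subgroup.mem_zpowers_iff.mp hz
          rw [((show Commute g s from Subgroup.mem_center_iff.mp hcen g).zpow_right i).eq, mul_inv_cancel_right]
          exact Subgroup.zpow_mem _ (Subgroup.mem_zpowers s) i⟩
        have hZQ : Z ≤ Q := Subgroup.zpowers_le.mpr hsQ
        let π := QuotientGroup.mk' Z
        have hπ : Function.Surjective π := QuotientGroup.mk'_surjective _
        have hcard : Nat.card (G ⧸ Z) < m := by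
          refine lt_of_lt_of_le ?_ hm
          have h1 := Subgroup.card_mul_index Z
          rw [Nat.card_zpowers, hs2, Subgroup.index] at h1
          have : 0 < Nat.card (G ⧸ Z) := Nat.card_pos
          omega
        haveI hNn : (N.map π).Normal := Subgroup.Normal.map inferInstance π hπ
        have hsplit : Split (N.map π) (Q.map π) := by
          refine ⟨hNn, ?_, ?_, h.two.map π⟩
          · rw [← Subgroup.map_sup, h.top, Subgroup.map_top_of_surjective _ hπ]
          · rintro _ ⟨q, hq, rfl⟩ ⟨n, hn, hqn⟩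
            have h1 : q⁻¹ * n ∈ Z := QuotientGroup.eq.mp hqn.symm
            have h2 : n = 1 := h.disj n (by
              have := Q.mul_mem hq (hZQ h1)
              rwa [mul_inv_cancel_left] at this) hn
            rw [← hqn, h2, map_one]
        have hmap : ⁅N.map π, Q.map π⁆ = ⁅N, Q⁆.map π := (Subgroup.map_commutator N Q π).symm
        have := ih _ hcard (G ⧸ Z) (N.map π) (Q.map π) (π t) le_rfl hsplit
          (fun he => htZ ((QuotientGroup.eq_one_iff t).mp he)) ⟨t, htQ, rfl⟩
          (by rw [← Subgroup.map_commutator]; exact ⟨t, ht, rfl⟩)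
          (by
            rintro _ ⟨q, hq, rfl⟩
            rw [← map_mul, htc q hq, map_mul])
          (by
            rintro _ ⟨n, hn, rfl⟩ hnt _ ⟨q, hq, rfl⟩
            have h0 : (n * t * n⁻¹ * t⁻¹) ∈ Z := by
              rw [← QuotientGroup.eq_one_iff (N := Z)]
              show π (n * t * n⁻¹ * t⁻¹) = 1
              rw [map_mul, map_mul, map_mul, hnt, map_inv, map_inv]
              group
            have h1 : n * t * n⁻¹ * t⁻¹ = 1 := h.disj _ (hZQ h0) (by
              rw [show n * t * n⁻¹ * t⁻¹ = n * (t * n⁻¹ * t⁻¹) by group]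
              exact N.mul_mem hn ((inferInstance : N.Normal).conj_mem _ (N.inv_mem hn) t))
            have h2 : n * t = t * n := by
              calc n * t = (n * t * n⁻¹ * t⁻¹) * t * n := by group
                _ = t * n := by rw [h1, one_mul]
            rw [← map_mul, hC n hn h2 q hq, map_mul])
        rw [hmap] at this
        have hinj : Function.Injective (π.comp (⁅N, Q⁆).subtype) := by
          rw [injective_iff_map_eq_one]
          intro x hx
          have h1 : (x : G) ∈ Z := (QuotientGroup.eq_one_iff _).mp hx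
          exact Subtype.ext (h.disj _ (hZQ h1) (Subgroup.commutator_le_left N Q x.2))
        rw [Nat.card_congr (MonoidHom.ofInjective hinj).toEquiv, MonoidHom.range_comp, Subgroup.range_subtype]
        exact this
    · set G' := Q ⊔ M with hG'
      have hQG : Q ≤ G' := le_sup_left
      have hMG : M ≤ G' := le_sup_right
      have hQn : Q ≤ Subgroup.normalizer (M : Set G) := by
        intro q hq
        refine Subgroup.mem_normalizer_iff.mpr fun k => ⟨hQM q hq k, fun hk => ?_⟩
        have := hQM q⁻¹ (Q.inv_mem hq) _ hk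
        rw [show q⁻¹ * (q * k * q⁻¹) * q⁻¹⁻¹ = k by group] at this
        exact this
      haveI hMn : (M.subgroupOf G').Normal := by
        rw [Subgroup.normal_subgroupOf_iff_le_normalizer hMG]
        exact sup_le hQn Subgroup.le_normalizer
      have hlt : Nat.card G' < m := by
        refine lt_of_lt_of_le ?_ hm
        refine lt_of_le_of_ne (Subgroup.card_le_card_group G') fun he => hMN ?_
        have htop : G' = ⊤ := Subgroup.eq_top_of_card_eq G' he
        refine le_antisymm inf_le_left fun n hn => ?_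
        have hn' : n ∈ Q ⊔ M := by rw [← hG', htop]; trivial
        rw [← SetLike.mem_coe, Subgroup.coe_mul_of_left_le_normalizer_right _ _ hQn] at hn'
        obtain ⟨q, hq, k, hk, rfl⟩ := hn'
        dsimp only
        rw [h.disj q hq (by
          have := N.mul_mem hn (N.inv_mem hk.1)
          rwa [mul_inv_cancel_right] at this), one_mul]
        exact hk
      have hsplit : Split (M.subgroupOf G') (Q.subgroupOf G') := by
        refine ⟨hMn, ?_, ?_, h.two.of_equiv (Subgroup.subgroupOfEquivOfLe hQG).symm⟩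
        · rw [← Subgroup.subgroupOf_sup hQG hMG, ← hG', Subgroup.subgroupOf_self]
        · rintro x hxq hxm
          exact Subtype.ext (h.disj _ hxq hxm.1)
      have hmap : ∀ A B : Subgroup G, A ≤ G' → B ≤ G' →
          ⁅A.subgroupOf G', B.subgroupOf G'⁆.map G'.subtype = ⁅A, B⁆ := fun A B hA hB => by
        rw [Subgroup.map_commutator, Subgroup.map_subgroupOf_eq_of_le hA, Subgroup.map_subgroupOf_eq_of_le hB]
      have := ih _ hlt G' (M.subgroupOf G') (Q.subgroupOf G') ⟨t, hQG htQ⟩ le_rfl hsplit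
        (fun he => ht1 (congrArg Subtype.val he)) htQ
        (by
          rw [← hmap Q Q hQG hQG] at ht
          obtain ⟨v, hv, hvt⟩ := ht
          rwa [show (⟨t, hQG htQ⟩ : G') = v from Subtype.ext hvt.symm])
        (fun q hq => Subtype.ext (htc q hq))
        (fun n hn hnt q hq => Subtype.ext (hC n hn.1 (congrArg Subtype.val hnt) q hq))
      rw [← hmap M Q hMG hQG, Subgroup.card_map_of_injective G'.subtype_injective]
      exact this
  set L := ⁅M, Q⁆ with hL
  set K := O ⊔ L with hK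
  have hKodd : Odd (Nat.card K) := by
    have h1 : Nat.card O * O.relIndex K = Nat.card K := by
      rw [← Subgroup.relIndex_bot_left, ← Subgroup.relIndex_bot_left,
        Subgroup.relIndex_mul_relIndex ⊥ O K bot_le le_sup_left]
    rw [← h1]
    refine hOodd.mul (hMQ.of_dvd_nat ?_)
    rw [hK, sup_comm, Subgroup.relIndex_sup_right, Subgroup.relIndex]
    exact Subgroup.index_dvd_card _
  refine hKodd.of_dvd_nat (Subgroup.card_dvd_of_le ?_)
  rw [Subgroup.commutator_le]
  intro n hn q hq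
  obtain ⟨o, ho, k, hk, rfl⟩ := hdec n hn
  have e : ⁅o * k, q⁆ = o * ⁅k, q⁆ * o⁻¹ * (o * (q * o⁻¹ * q⁻¹)) := by
    simp only [commutatorElement_def]; group
  rw [e]
  refine K.mul_mem (K.mul_mem (K.mul_mem (Subgroup.mem_sup_left ho) ?_) (K.inv_mem (Subgroup.mem_sup_left ho))) ?_
  · exact Subgroup.mem_sup_right (Subgroup.commutator_mem_commutator hk hq)
  · exact Subgroup.mem_sup_left (O.mul_mem ho ((inferInstance : O.Normal).conj_mem _ (O.inv_mem ho) q))

/-- S2962, given solvability of groups of odd order. -/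
theorem s2962 (hFT : ∀ (H : Type u) [Group H] [Finite H], Odd (Nat.card H) → Group.IsSolvable H)
    {G : Type u} [Group G] [Finite G] (N Q : Subgroup G) [hNn : N.Normal] (hG : Q ⊔ N = ⊤)
    (hQ : IsPGroup 2 ↥Q) (hdisj : Q ⊓ N = ⊥) (t : G) (ht1 : t ≠ 1)
    (htZ : t ∈ Q ⊓ Subgroup.centralizer (Q : Set G)) (htQ : t ∈ ⁅Q, Q⁆)
    (hC : N ⊓ Subgroup.centralizer (Q : Set G) = N ⊓ Subgroup.centralizer ({t} : Set G)) :
    Group.IsSolvable ↥⁅N, Q⁆ ∧ Odd (Nat.card ↥⁅N, Q⁆) := by
  have hsplit : Split N Q :=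
    ⟨hNn, hG, fun x hx hxN => Subgroup.mem_bot.mp (hdisj ▸ ⟨hx, hxN⟩), hQ⟩
  have hodd := odd_commutator _ G N Q t le_rfl hsplit ht1 htZ.1 htQ
    (fun q hq => Subgroup.mem_centralizer_iff.mp htZ.2 q hq) (fun n hn hnt q hq => by
      have h1 : n ∈ N ⊓ Subgroup.centralizer (Q : Set G) := by
        rw [hC]; exact ⟨hn, Subgroup.mem_centralizer_singleton_iff.mpr hnt⟩
      exact Subgroup.mem_centralizer_iff.mp h1.2 q hq)
  exact ⟨hFT _ hodd, hodd⟩

end Cfsg.Agent.H61.QN
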